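import Groth.Agent.Lib.Helper76.PSDim
import Mathlib.RingTheory.RegularLocalRing.Defs
import Mathlib.RingTheory.Ideal.Cotangent

/-!
# Power series rings over a field are regular; maps onto complete local rings (helper76)
-/

set_option autoImplicit false

namespace Groth.Agent.Lib.Helper76.PSComplete

open MvPowerSeries IsLocalRing
open Groth.Agent.Lib.Helper76.LT Groth.Agent.Lib.Helper76.PSInv

section dim

variable (k : Type*) [Field k]

lemma card_le_ringKrullDim (d : ℕ) :
    (d : WithBot ℕ∞) ≤ ringKrullDim (MvPowerSeries (Fin d) k) := by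
  induction d with
  | zero => simpa using ringKrullDim_nonneg_of_nontrivial
  | succ n ih =>
    rw [ringKrullDim_eq_of_ringEquiv (MvPowerSeries.finSuccEquiv k n).toRingEquiv]
    refine le_trans ?_ ringKrullDim_succ_le_ringKrullDim_powerseries
    push_cast
    exact add_le_add_left ih 1

lemma ringKrullDim_eq_card (d : ℕ) : ringKrullDim (MvPowerSeries (Fin d) k) = d :=
  le_antisymm (ringKrullDim_le_card k d) (card_le_ringKrullDim k d)

instance isRegularLocalRing_mvPowerSeries (d : ℕ) :
    IsRegularLocalRing (MvPowerSeries (Fin d) k) := by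
  apply IsRegularLocalRing.of_spanFinrank_maximalIdeal_le
  rw [ringKrullDim_eq_card, maximalIdeal_eq_varIdeal]
  have h1 : (varIdeal (Fin d) k).spanFinrank ≤
      (Set.range (X : Fin d → MvPowerSeries (Fin d) k)).ncard :=
    Submodule.spanFinrank_span_le_ncard_of_finite (Set.finite_range _)
  have h2 : (Set.range (X : Fin d → MvPowerSeries (Fin d) k)).ncard ≤ d := by
    rw [← Set.image_univ]
    refine (Set.ncard_image_le (Set.finite_univ)).trans ?_
    simp
  exact_mod_cast h1.trans h2

end dim

section onto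

variable {k : Type*} [Field k] {R : Type*} [CommRing R] [IsLocalRing R] [IsNoetherianRing R]
  [Algebra k R]

/-- if the classes of `b i ∈ 𝔪` span the cotangent space then the `b i` generate `𝔪` -/
lemma span_range_eq_maximalIdeal {d : ℕ} (b : Fin d → R) (hb : ∀ i, b i ∈ maximalIdeal R)
    (hsp : Submodule.span (ResidueField R)
      (Set.range (fun i : Fin d => (maximalIdeal R).toCotangent ⟨b i, hb i⟩)) = ⊤) :
    Ideal.span (Set.range b) = maximalIdeal R := by
  have h1 : Set.range (fun i : Fin d => (maximalIdeal R).toCotangent ⟨b i, hb i⟩) =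
      (maximalIdeal R).toCotangent '' Set.range (fun i : Fin d => (⟨b i, hb i⟩ : maximalIdeal R)) := by
    rw [← Set.range_comp]; rfl
  rw [h1, CotangentSpace.span_image_eq_top_iff] at hsp
  have h2 := congrArg (Submodule.map (maximalIdeal R).subtype) hsp
  rw [Submodule.map_span, Submodule.map_top, Submodule.range_subtype, ← Set.range_comp] at h2
  exact h2

variable [IsAdicComplete (maximalIdeal R) R]

theorem surjective_of_cotangent_span
    (hR : Function.Surjective ((residue R).comp (algebraMap k R)))
    {d : ℕ} (ψ : MvPowerSeries (Fin d) k →ₐ[k] R)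
    (hψ : ∀ i : Fin d, ψ (X i) ∈ maximalIdeal R)
    (hsp : Submodule.span (ResidueField R)
      (Set.range (fun i : Fin d => (maximalIdeal R).toCotangent ⟨ψ (X i), hψ i⟩)) = ⊤) :
    Function.Surjective ψ := by
  rw [evC_unique (maximalIdeal R) ψ hψ]
  exact evC_surjective (maximalIdeal R) _ hψ (span_range_eq_maximalIdeal _ hψ hsp) hR

omit [IsNoetherianRing R] [IsAdicComplete (maximalIdeal R) R] in
/-- elements of the kernel have order `≥ 2` when the classes of the `ψ (X i)` are linearly
independent in the cotangent space -/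
theorem ord_two_of_mem_ker
    {d : ℕ} (ψ : MvPowerSeries (Fin d) k →ₐ[k] R)
    (hψ : ∀ i : Fin d, ψ (X i) ∈ maximalIdeal R)
    (hb : LinearIndependent (ResidueField R)
      (fun i : Fin d => (maximalIdeal R).toCotangent ⟨ψ (X i), hψ i⟩))
    {F : MvPowerSeries (Fin d) k} (hF : ψ F = 0) : Ord 2 F := by
  classical
  -- `ψ` maps `varIdeal ^ n` into `𝔪 ^ n`
  have hmap : ∀ {n : ℕ} {G : MvPowerSeries (Fin d) k}, Ord n G → ψ G ∈ maximalIdeal R ^ n := by
    intro n G hG
    have h1 : (varIdeal (Fin d) k).map (ψ : MvPowerSeries (Fin d) k →+* R) ≤ maximalIdeal R := by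
      unfold varIdeal
      rw [Ideal.map_span, Ideal.span_le]
      rintro _ ⟨_, ⟨s, rfl⟩, rfl⟩
      exact hψ s
    have h2 := Ideal.mem_map_of_mem (ψ : MvPowerSeries (Fin d) k →+* R)
      (mem_varIdeal_pow_of_ord hG)
    rw [Ideal.map_pow] at h2
    exact Ideal.pow_right_mono h1 n h2
  have hC : ∀ c : k, ψ (C c) = algebraMap k R c := fun c => by
    have := ψ.commutes c
    rwa [MvPowerSeries.algebraMap_apply, Algebra.algebraMap_self, RingHom.id_apply] at this
  have hunit : ∀ c : k, algebraMap k R c ∈ maximalIdeal R → c = 0 := by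
    intro c hc
    by_contra hne
    exact (mem_maximalIdeal _).mp hc ((isUnit_iff_ne_zero.mpr hne).map (algebraMap k R))
  -- constant coefficient
  have h0 : constantCoeff F = 0 := by
    apply hunit
    have h1 : Ord 1 (F - C (constantCoeff F)) := ord_one_iff.mpr (by simp)
    have h2 := hmap h1
    rw [map_sub, hF, zero_sub, pow_one, hC] at h2
    have := (maximalIdeal R).neg_mem h2
    rwa [neg_neg] at this
  rw [ord_two_iff]
  refine ⟨h0, ?_⟩
  -- linear coefficients
  set c : Fin d → k := fun i => coeff (Finsupp.single i 1) F with hc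
  have hG : Ord 2 (F - ∑ i, C (c i) * X i) := by
    rw [ord_two_iff]
    refine ⟨by simp [h0], fun t => ?_⟩
    rw [map_sub, map_sum]
    simp only [coeff_C_mul, coeff_index_single_X]
    simp [hc]
  have h3 := hmap hG
  rw [map_sub, hF, zero_sub, map_sum] at h3
  simp only [map_mul, hC] at h3
  have h4 : ∑ i, algebraMap k R (c i) * ψ (X i) ∈ maximalIdeal R ^ 2 := by
    have := (maximalIdeal R ^ 2).neg_mem h3
    rwa [neg_neg] at this
  have hmem : ∑ i, algebraMap k R (c i) * ψ (X i) ∈ maximalIdeal R :=
    Ideal.sum_mem _ fun i _ => Ideal.mul_mem_left _ _ (hψ i)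
  have h5 : (maximalIdeal R).toCotangent ⟨_, hmem⟩ = 0 :=
    (Ideal.toCotangent_eq_zero _ _).mpr h4
  have h6 : ∑ i, residue R (algebraMap k R (c i)) •
      (maximalIdeal R).toCotangent ⟨ψ (X i), hψ i⟩ = 0 := by
    rw [← h5]
    have : (⟨_, hmem⟩ : maximalIdeal R) =
        ∑ i, algebraMap k R (c i) • (⟨ψ (X i), hψ i⟩ : maximalIdeal R) := by
      ext
      simp [Algebra.smul_def]
    rw [this, map_sum]
    refine Finset.sum_congr rfl fun i _ => ?_
    rw [map_smul]
    rfl
  have h7 := Fintype.linearIndependent_iff.mp hb _ h6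
  intro t
  apply hunit
  have := h7 t
  rwa [residue_eq_zero_iff] at this

end onto

end Groth.Agent.Lib.Helper76.PSComplete
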