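import Groth.Agent.Lib.Helper76.PSCont
import Mathlib.RingTheory.MvPowerSeries.Equiv
import Mathlib.RingTheory.AdicCompletion.RingHom
import Mathlib.RingTheory.AdicCompletion.Functoriality

/-!
# Power series rings and adically complete algebras (helper76)

* `varIdeal σ A`: the ideal of `A⟦σ⟧` generated by the variables; `mem_varIdeal_pow_iff`:
  its `n`-th power is the set of series of order `≥ n` (`σ` finite);
  `A⟦σ⟧` is `varIdeal`-adically complete.
* `evC I b hb : A⟦σ⟧ →ₐ[A] B`: evaluation at a finite family `b` of elements of `I`, for an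
  `I`-adically complete `A`-algebra `B`; `mk_evC`, `evC_X`, `evC_coe`, `evC_unique`
  (automatic continuity), `evC_surjective`.
-/

set_option autoImplicit false

namespace Groth.Agent.Lib.Helper76.PSComplete

open MvPowerSeries
open Groth.Agent.Lib.Helper76.LT Groth.Agent.Lib.Helper76.PSInv

variable {A : Type*} [CommRing A] {σ : Type*}

/-- the ideal generated by the variables -/
noncomputable def varIdeal (σ A : Type*) [CommRing A] : Ideal (MvPowerSeries σ A) :=
  Ideal.span (Set.range X)

lemma X_mem_varIdeal (s : σ) : (X s : MvPowerSeries σ A) ∈ varIdeal σ A :=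
  Ideal.subset_span ⟨s, rfl⟩

lemma mem_varIdeal_pow_of_ord [Fintype σ] {n : ℕ} {G : MvPowerSeries σ A} (h : Ord n G) :
    G ∈ varIdeal σ A ^ n := by
  induction n generalizing G with
  | zero => simp
  | succ n ih =>
    obtain ⟨gs, hgs, rfl⟩ := exists_eq_sum_X_mul h
    refine Ideal.sum_mem _ fun s _ => ?_
    rw [pow_succ']
    exact Ideal.mul_mem_mul (X_mem_varIdeal s) (ih (hgs s))

/-- series of order `≥ n` form an ideal -/
def ordIdeal (σ A : Type*) [CommRing A] (n : ℕ) : Ideal (MvPowerSeries σ A) where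
  carrier := {G | Ord n G}
  add_mem' := fun h h' => Ord.add h h'
  zero_mem' := ord_zero n
  smul_mem' := fun c G h => by
    have := (ord_zero_all c).mul h
    simpa using this

lemma varIdeal_pow_le_ordIdeal (n : ℕ) : varIdeal σ A ^ n ≤ ordIdeal σ A n := by
  induction n with
  | zero => intro G _; exact ord_zero_all G
  | succ n ih =>
    rw [pow_succ]
    refine Ideal.mul_le.mpr fun G hG H hH => ?_
    have h1 : Ord n G := ih hG
    have h2 : Ord 1 H := by
      have : varIdeal σ A ≤ ordIdeal σ A 1 := by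
        unfold varIdeal
        rw [Ideal.span_le]
        rintro _ ⟨s, rfl⟩
        exact ord_one_iff.mpr (constantCoeff_X s)
      exact this hH
    exact h1.mul h2

lemma ord_of_mem_varIdeal_pow {n : ℕ} {G : MvPowerSeries σ A} (h : G ∈ varIdeal σ A ^ n) :
    Ord n G := varIdeal_pow_le_ordIdeal n h

lemma mem_varIdeal_pow_iff [Fintype σ] {n : ℕ} {G : MvPowerSeries σ A} :
    G ∈ varIdeal σ A ^ n ↔ Ord n G :=
  ⟨ord_of_mem_varIdeal_pow, mem_varIdeal_pow_of_ord⟩

instance [Finite σ] : IsAdicComplete (varIdeal σ A) (MvPowerSeries σ A) := by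
  cases nonempty_fintype σ
  refine { toIsHausdorff := ⟨fun x hx => ?_⟩, toIsPrecomplete := ⟨fun {f} hf => ?_⟩ }
  · refine eq_zero_of_forall_ord fun n => ?_
    have := hx n
    rw [SModEq.zero, smul_eq_mul, Ideal.mul_top] at this
    exact ord_of_mem_varIdeal_pow this
  · have hf' : ∀ {m n}, m ≤ n → Ord m (f m - f n) := by
      intro m n hmn
      have := hf hmn
      rw [SModEq.sub_mem, smul_eq_mul, Ideal.mul_top] at this
      exact ord_of_mem_varIdeal_pow this
    let L : MvPowerSeries σ A := fun e => coeff e (f (e.degree + 1))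
    have hL : ∀ e, coeff e L = coeff e (f (e.degree + 1)) := fun e => rfl
    refine ⟨L, fun n => ?_⟩
    rw [SModEq.sub_mem, smul_eq_mul, Ideal.mul_top]
    refine mem_varIdeal_pow_of_ord fun e he => ?_
    have h1 := hf' (show e.degree + 1 ≤ n by omega) e (by omega)
    rw [map_sub, sub_eq_zero] at h1
    rw [map_sub, sub_eq_zero, hL]
    exact h1.symm

section evC

variable {B : Type*} [CommRing B] [Algebra A B] (I : Ideal B)

omit [CommRing A] in
lemma aeval_mem_pow [CommRing A] [Algebra A B] {b : σ → B} (hb : ∀ s, b s ∈ I) {n : ℕ}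
    {p : MvPolynomial σ A} (hp : p ∈ MvPolynomial.idealOfVars σ A ^ n) :
    MvPolynomial.aeval b p ∈ I ^ n := by
  have h1 : (MvPolynomial.idealOfVars σ A).map
      ((MvPolynomial.aeval b : MvPolynomial σ A →ₐ[A] B) : MvPolynomial σ A →+* B) ≤ I := by
    rw [Ideal.map_span, Ideal.span_le]
    rintro _ ⟨_, ⟨s, rfl⟩, rfl⟩
    simpa using hb s
  have h2 := Ideal.mem_map_of_mem
    ((MvPolynomial.aeval b : MvPolynomial σ A →ₐ[A] B) : MvPolynomial σ A →+* B) hp
  rw [Ideal.map_pow] at h2
  exact Ideal.pow_right_mono h1 n h2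

variable [Finite σ]

/-- evaluation modulo `I ^ n` -/
noncomputable def evCn (b : σ → B) (hb : ∀ s, b s ∈ I) (n : ℕ) :
    MvPowerSeries σ A →ₐ[A] B ⧸ I ^ n where
  toRingHom := (Ideal.Quotient.lift (MvPolynomial.idealOfVars σ A ^ n)
      ((Ideal.Quotient.mk (I ^ n)).comp
        ((MvPolynomial.aeval b : MvPolynomial σ A →ₐ[A] B) : MvPolynomial σ A →+* B))
      (fun p hp => by
        rw [RingHom.comp_apply, Ideal.Quotient.eq_zero_iff_mem]
        exact aeval_mem_pow I hb hp)).comp
      (truncTotalAlgHom σ A n : MvPowerSeries σ A →+* _)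
  commutes' := fun a => by
    have h1 : algebraMap A (MvPowerSeries σ A) a =
        algebraMap (MvPolynomial σ A) (MvPowerSeries σ A) (MvPolynomial.C a) := by
      rw [MvPowerSeries.algebraMap_apply', MvPowerSeries.algebraMap_apply]
      simp
    simp only [RingHom.toMonoidHom_eq_coe, OneHom.toFun_eq_coe, MonoidHom.toOneHom_coe,
      MonoidHom.coe_coe, RingHom.coe_comp, RingHom.coe_coe, Function.comp_apply]
    rw [h1, AlgHom.commutes]
    simp [Ideal.Quotient.algebraMap_eq]

lemma evCn_apply (b : σ → B) (hb : ∀ s, b s ∈ I) (n : ℕ) (F : MvPowerSeries σ A) :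
    evCn I b hb n F = Ideal.Quotient.mk (I ^ n) (MvPolynomial.aeval b (truncTotal n F)) := rfl

lemma evCn_compat (b : σ → B) (hb : ∀ s, b s ∈ I) {m n : ℕ} (hmn : m ≤ n) :
    (Ideal.Quotient.factorₐ A (Ideal.pow_le_pow_right hmn)).comp (evCn I b hb n) =
      (evCn I b hb m : MvPowerSeries σ A →ₐ[A] B ⧸ I ^ m) := by
  refine AlgHom.ext fun F => ?_
  rw [AlgHom.comp_apply, evCn_apply, evCn_apply]
  rw [Ideal.Quotient.factorₐ_apply_mk, Ideal.Quotient.eq, ← map_sub]
  exact aeval_mem_pow I hb (truncTotal_sub_truncTotal_mem_pow_idealOfVars hmn le_rfl F)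

variable [IsAdicComplete I B]

/-- **Evaluation** of power series over `A` in finitely many variables at elements of `I`, in an
`I`-adically complete `A`-algebra. -/
noncomputable def evC (b : σ → B) (hb : ∀ s, b s ∈ I) : MvPowerSeries σ A →ₐ[A] B :=
  IsAdicComplete.liftAlgHom I (evCn I b hb) (evCn_compat I b hb)

lemma mk_evC (b : σ → B) (hb : ∀ s, b s ∈ I) (n : ℕ) (F : MvPowerSeries σ A) :
    Ideal.Quotient.mk (I ^ n) (evC I b hb F) =
      Ideal.Quotient.mk (I ^ n) (MvPolynomial.aeval b (truncTotal n F)) := by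
  have := IsAdicComplete.mk_liftAlgHom I (evCn I b hb) (evCn_compat I b hb) n F
  rw [evCn_apply] at this
  exact this

lemma evC_sub_mem (b : σ → B) (hb : ∀ s, b s ∈ I) (n : ℕ) (F : MvPowerSeries σ A) :
    evC I b hb F - MvPolynomial.aeval b (truncTotal n F) ∈ I ^ n :=
  Ideal.Quotient.eq.mp (mk_evC I b hb n F)

lemma eq_of_forall_sub_mem {x y : B} (h : ∀ n, x - y ∈ I ^ n) : x = y := by
  rw [← sub_eq_zero]
  apply IsHausdorff.haus (IsAdicComplete.toIsHausdorff (I := I) (M := B))
  intro n
  rw [SModEq.zero, smul_eq_mul, Ideal.mul_top]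
  exact h n

lemma evC_coe (b : σ → B) (hb : ∀ s, b s ∈ I) (p : MvPolynomial σ A) :
    evC I b hb (p : MvPowerSeries σ A) = MvPolynomial.aeval b p := by
  refine eq_of_forall_sub_mem I fun n => ?_
  have h1 := evC_sub_mem I b hb n (p : MvPowerSeries σ A)
  have h2 : MvPolynomial.aeval b (truncTotal n (p : MvPowerSeries σ A)) - MvPolynomial.aeval b p ∈
      I ^ n := by
    rw [← map_sub]
    refine aeval_mem_pow I hb ((MvPolynomial.mem_pow_idealOfVars_iff' _ _).mpr fun x hx => ?_)
    rw [MvPolynomial.coeff_sub, coeff_truncTotal _ hx, MvPolynomial.coeff_coe, sub_self]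
  have := (I ^ n).add_mem h1 h2
  rwa [sub_add_sub_cancel] at this

lemma evC_X (b : σ → B) (hb : ∀ s, b s ∈ I) (s : σ) :
    evC I b hb (X s : MvPowerSeries σ A) = b s := by
  rw [← MvPolynomial.coe_X, evC_coe, MvPolynomial.aeval_X]

/-- automatic continuity: an algebra map out of `A⟦σ⟧` sending the variables into `I` is the
evaluation map -/
theorem evC_unique (ψ : MvPowerSeries σ A →ₐ[A] B) (hψ : ∀ s, ψ (X s) ∈ I) :
    ψ = evC I (fun s => ψ (X s)) hψ := by
  cases nonempty_fintype σ
  refine AlgHom.ext fun F => eq_of_forall_sub_mem I fun n => ?_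
  -- `ψ` maps `varIdeal ^ n` into `I ^ n`
  have hmap : ∀ {G : MvPowerSeries σ A}, G ∈ varIdeal σ A ^ n → ψ G ∈ I ^ n := by
    intro G hG
    have h1 : (varIdeal σ A).map (ψ : MvPowerSeries σ A →+* B) ≤ I := by
      unfold varIdeal
      rw [Ideal.map_span, Ideal.span_le]
      rintro _ ⟨_, ⟨s, rfl⟩, rfl⟩
      exact hψ s
    have h2 := Ideal.mem_map_of_mem (ψ : MvPowerSeries σ A →+* B) hG
    rw [Ideal.map_pow] at h2
    exact Ideal.pow_right_mono h1 n h2
  have h1 : ψ F - ψ ((truncTotal n F : MvPolynomial σ A) : MvPowerSeries σ A) ∈ I ^ n := by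
    rw [← map_sub]
    refine hmap (mem_varIdeal_pow_of_ord fun e he => ?_)
    rw [map_sub, MvPolynomial.coeff_coe, coeff_truncTotal _ he, sub_self]
  have h2 : ψ ((truncTotal n F : MvPolynomial σ A) : MvPowerSeries σ A) =
      MvPolynomial.aeval (fun s => ψ (X s)) (truncTotal n F) := by
    have : (ψ.comp (MvPolynomial.coeToMvPowerSeries.algHom A)) =
        MvPolynomial.aeval (fun s => ψ (X s)) := by
      refine MvPolynomial.algHom_ext fun s => ?_
      simp [MvPolynomial.coeToMvPowerSeries.algHom_apply]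
    have := DFunLike.congr_fun this (truncTotal n F)
    simpa [MvPolynomial.coeToMvPowerSeries.algHom_apply] using this
  have h3 := evC_sub_mem I (fun s => ψ (X s)) hψ n F
  rw [h2] at h1
  have := (I ^ n).sub_mem h1 h3
  rwa [sub_sub_sub_cancel_right] at this

/-- surjectivity of evaluation: if the `b s` generate `I` and `A → B ⧸ I` is onto. -/
theorem evC_surjective (b : σ → B) (hb : ∀ s, b s ∈ I) (hgen : Ideal.span (Set.range b) = I)
    (hres : Function.Surjective ((Ideal.Quotient.mk I).comp (algebraMap A B))) :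
    Function.Surjective (evC I b hb : MvPowerSeries σ A →ₐ[A] B) := by
  have hmap : (varIdeal σ A).map ((evC I b hb : MvPowerSeries σ A →ₐ[A] B) :
      MvPowerSeries σ A →+* B) = I := by
    unfold varIdeal
    rw [Ideal.map_span]
    refine Eq.trans ?_ hgen
    congr 1
    ext y
    constructor
    · rintro ⟨_, ⟨s, rfl⟩, rfl⟩
      exact ⟨s, (evC_X I b hb s).symm⟩
    · rintro ⟨s, rfl⟩
      exact ⟨X s, ⟨s, rfl⟩, evC_X I b hb s⟩
  have : IsHausdorff ((varIdeal σ A).map ((evC I b hb : MvPowerSeries σ A →ₐ[A] B) :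
      MvPowerSeries σ A →+* B)) B := by
    rw [hmap]; infer_instance
  refine surjective_of_mk_map_comp_surjective (I := varIdeal σ A)
    ((evC I b hb : MvPowerSeries σ A →ₐ[A] B) : MvPowerSeries σ A →+* B) ?_
  intro y
  obtain ⟨y', rfl⟩ := Ideal.Quotient.mk_surjective y
  have hy : ∃ a : A, y' - algebraMap A B a ∈ I := by
    obtain ⟨a, ha⟩ := hres (Ideal.Quotient.mk I y')
    refine ⟨a, ?_⟩
    rw [RingHom.comp_apply] at ha
    exact Ideal.Quotient.eq.mp ha.symm
  obtain ⟨a, ha⟩ := hy
  refine ⟨C a, ?_⟩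
  rw [RingHom.comp_apply, Ideal.Quotient.eq, hmap]
  have : (evC I b hb : MvPowerSeries σ A →ₐ[A] B) (C a) = algebraMap A B a := by
    have := (evC I b hb : MvPowerSeries σ A →ₐ[A] B).commutes a
    rwa [MvPowerSeries.algebraMap_apply, Algebra.algebraMap_self, RingHom.id_apply] at this
  show (evC I b hb : MvPowerSeries σ A →ₐ[A] B) (C a) - y' ∈ I
  rw [this]
  have := I.neg_mem ha
  rwa [neg_sub] at this

end evC

end Groth.Agent.Lib.Helper76.PSComplete
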