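import Groth.Agent.Lib.Helper76.PSComplete
import Mathlib.RingTheory.MvPowerSeries.Inverse
import Mathlib.RingTheory.MvPowerSeries.Trunc

/-!
# Power series over a complete local ring are complete for the maximal ideal (helper76)

For a local ring `R`, `P = R⟦σ⟧` (`σ` finite):
* `mem_maximalIdeal_iff`: `f ∈ 𝔪_P ↔ f(0) ∈ 𝔪_R`;
* `coefIdeal σ R n`: series whose coefficient at `e` lies in `𝔪_R ^ (n - |e|)`;
  `maximalIdeal_pow_eq_coefIdeal`: this is `𝔪_P ^ n`;
* instance: if `R` is `𝔪_R`-adically complete then `P` is `𝔪_P`-adically complete.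
-/

set_option autoImplicit false

namespace Groth.Agent.Lib.Helper76.PSCRing

open MvPowerSeries IsLocalRing
open Groth.Agent.Lib.Helper76.LT Groth.Agent.Lib.Helper76.PSInv
open Groth.Agent.Lib.Helper76.PSComplete

variable {R : Type*} [CommRing R] [IsLocalRing R] {σ : Type*}

lemma mem_maximalIdeal_iff {f : MvPowerSeries σ R} :
    f ∈ maximalIdeal (MvPowerSeries σ R) ↔ constantCoeff f ∈ maximalIdeal R := by
  rw [mem_maximalIdeal, mem_maximalIdeal, mem_nonunits_iff, mem_nonunits_iff,
    MvPowerSeries.isUnit_iff_constantCoeff]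

lemma X_mem_maximalIdeal (s : σ) :
    (X s : MvPowerSeries σ R) ∈ maximalIdeal (MvPowerSeries σ R) := by
  rw [mem_maximalIdeal_iff, constantCoeff_X]
  exact zero_mem _

lemma varIdeal_le_maximalIdeal : varIdeal σ R ≤ maximalIdeal (MvPowerSeries σ R) := by
  unfold varIdeal
  rw [Ideal.span_le]
  rintro _ ⟨s, rfl⟩
  exact X_mem_maximalIdeal s

lemma map_C_maximalIdeal_le :
    (maximalIdeal R).map (C : R →+* MvPowerSeries σ R) ≤ maximalIdeal (MvPowerSeries σ R) := by
  rw [Ideal.map_le_iff_le_comap]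
  intro x hx
  rw [Ideal.mem_comap, mem_maximalIdeal_iff, constantCoeff_C]
  exact hx

lemma C_mem_maximalIdeal_pow {c : R} {j : ℕ} (hc : c ∈ maximalIdeal R ^ j) :
    (C c : MvPowerSeries σ R) ∈ maximalIdeal (MvPowerSeries σ R) ^ j := by
  have h2 := Ideal.mem_map_of_mem (C : R →+* MvPowerSeries σ R) hc
  rw [Ideal.map_pow] at h2
  exact Ideal.pow_right_mono map_C_maximalIdeal_le j h2

/-- series whose coefficient at `e` lies in `𝔪_R ^ (n - |e|)` -/
def coefIdeal (σ R : Type*) [CommRing R] [IsLocalRing R] (n : ℕ) : Ideal (MvPowerSeries σ R) where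
  carrier := {f | ∀ e : σ →₀ ℕ, coeff e f ∈ maximalIdeal R ^ (n - e.degree)}
  add_mem' := fun h h' e => by
    rw [map_add]
    exact Ideal.add_mem _ (h e) (h' e)
  zero_mem' := fun e => by
    rw [map_zero]
    exact zero_mem _
  smul_mem' := fun c f h e => by
    classical
    rw [smul_eq_mul, coeff_mul]
    refine Ideal.sum_mem _ fun p hp => ?_
    have hp' := Finset.mem_antidiagonal.mp hp
    have hdeg : p.2.degree ≤ e.degree := by
      rw [← hp', map_add]
      omega
    exact Ideal.mul_mem_left _ _ (Ideal.pow_le_pow_right (by omega) (h p.2))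

lemma mem_coefIdeal {n : ℕ} {f : MvPowerSeries σ R} :
    f ∈ coefIdeal σ R n ↔ ∀ e : σ →₀ ℕ, coeff e f ∈ maximalIdeal R ^ (n - e.degree) := Iff.rfl

lemma maximalIdeal_mul_coefIdeal_le (n : ℕ) :
    maximalIdeal (MvPowerSeries σ R) * coefIdeal σ R n ≤ coefIdeal σ R (n + 1) := by
  classical
  refine Ideal.mul_le.mpr fun g hg h hh e => ?_
  rw [coeff_mul]
  refine Ideal.sum_mem _ fun p hp => ?_
  have hp' := Finset.mem_antidiagonal.mp hp
  by_cases h0 : p.1 = 0
  · have h2 : p.2 = e := by rw [← hp', h0, zero_add]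
    rw [h0, h2, coeff_zero_eq_constantCoeff_apply]
    have hg0 : constantCoeff g ∈ maximalIdeal R := mem_maximalIdeal_iff.mp hg
    by_cases hle : e.degree ≤ n
    · have h3 : n + 1 - e.degree = (n - e.degree) + 1 := by omega
      rw [h3, pow_succ']
      exact Ideal.mul_mem_mul hg0 (hh e)
    · have h3 : n + 1 - e.degree = 0 := by omega
      rw [h3, pow_zero, Ideal.one_eq_top]
      exact Submodule.mem_top
  · have hpos : 0 < p.1.degree := by
      rcases Nat.eq_zero_or_pos p.1.degree with h | h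
      · exact absurd ((Finsupp.degree_eq_zero_iff _).mp h) h0
      · exact h
    have hdeg : p.2.degree + 1 ≤ e.degree := by
      rw [← hp', map_add]
      omega
    exact Ideal.mul_mem_left _ _ (Ideal.pow_le_pow_right (by omega) (hh p.2))

lemma maximalIdeal_pow_le_coefIdeal (n : ℕ) :
    maximalIdeal (MvPowerSeries σ R) ^ n ≤ coefIdeal σ R n := by
  induction n with
  | zero =>
    intro f _ e
    rw [Nat.zero_sub, pow_zero, Ideal.one_eq_top]
    exact Submodule.mem_top
  | succ n ih =>
    rw [pow_succ']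
    exact (Ideal.mul_mono_right ih).trans (maximalIdeal_mul_coefIdeal_le n)

lemma monomial_mem_maximalIdeal_pow (v : σ →₀ ℕ) {c : R} {j : ℕ} (hc : c ∈ maximalIdeal R ^ j) :
    (monomial v c : MvPowerSeries σ R) ∈ maximalIdeal (MvPowerSeries σ R) ^ (j + v.degree) := by
  classical
  have h1 : (monomial v c : MvPowerSeries σ R) = C c * monomial v 1 := by
    rw [← MvPowerSeries.monomial_zero_eq_C_apply, monomial_mul_monomial, zero_add, mul_one]
  have h2 : (monomial v (1 : R) : MvPowerSeries σ R) ∈ maximalIdeal (MvPowerSeries σ R) ^ v.degree := by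
    rw [MvPowerSeries.monomial_one_eq, Finsupp.degree_apply, Finsupp.prod]
    rw [← Finset.prod_pow_eq_pow_sum]
    exact Ideal.prod_mem_prod fun s _ => Ideal.pow_mem_pow (X_mem_maximalIdeal s) _
  rw [h1, pow_add]
  exact Ideal.mul_mem_mul (C_mem_maximalIdeal_pow hc) h2

lemma coefIdeal_le_maximalIdeal_pow [Fintype σ] (n : ℕ) :
    coefIdeal σ R n ≤ maximalIdeal (MvPowerSeries σ R) ^ n := by
  classical
  intro f hf
  have h1 : f - ((truncTotal n f : MvPolynomial σ R) : MvPowerSeries σ R) ∈
      maximalIdeal (MvPowerSeries σ R) ^ n := by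
    refine Ideal.pow_right_mono varIdeal_le_maximalIdeal n
      (mem_varIdeal_pow_of_ord fun e he => ?_)
    rw [map_sub, MvPolynomial.coeff_coe, coeff_truncTotal _ he, sub_self]
  have h2 : ((truncTotal n f : MvPolynomial σ R) : MvPowerSeries σ R) ∈
      maximalIdeal (MvPowerSeries σ R) ^ n := by
    have h3 := congrArg (MvPolynomial.coeToMvPowerSeries.ringHom :
      MvPolynomial σ R →+* MvPowerSeries σ R) (truncTotal n f).as_sum
    rw [map_sum] at h3
    rw [← MvPolynomial.coeToMvPowerSeries.ringHom_apply, h3]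
    refine Ideal.sum_mem _ fun v hv => ?_
    rw [MvPolynomial.coeToMvPowerSeries.ringHom_apply, MvPolynomial.coe_monomial]
    have hvn : v.degree < n := by
      by_contra hcon
      rw [MvPolynomial.mem_support_iff] at hv
      exact hv (coeff_truncTotal_eq_zero _ (not_lt.mp hcon))
    have h4 : MvPolynomial.coeff v (truncTotal n f) ∈ maximalIdeal R ^ (n - v.degree) := by
      rw [coeff_truncTotal _ hvn]
      exact hf v
    have h5 := monomial_mem_maximalIdeal_pow v h4
    have h6 : n - v.degree + v.degree = n := by omega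
    rwa [h6] at h5
  have := Ideal.add_mem _ h1 h2
  rwa [sub_add_cancel] at this

lemma maximalIdeal_pow_eq_coefIdeal [Fintype σ] (n : ℕ) :
    maximalIdeal (MvPowerSeries σ R) ^ n = coefIdeal σ R n :=
  le_antisymm (maximalIdeal_pow_le_coefIdeal n) (coefIdeal_le_maximalIdeal_pow n)

instance [Finite σ] [IsAdicComplete (maximalIdeal R) R] :
    IsAdicComplete (maximalIdeal (MvPowerSeries σ R)) (MvPowerSeries σ R) := by
  cases nonempty_fintype σ
  refine { toIsHausdorff := ⟨fun x hx => ?_⟩, toIsPrecomplete := ⟨fun {f} hf => ?_⟩ }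
  · ext e
    rw [map_zero]
    refine IsHausdorff.haus (IsAdicComplete.toIsHausdorff (I := maximalIdeal R) (M := R)) _
      fun n => ?_
    rw [SModEq.zero, smul_eq_mul, Ideal.mul_top]
    have h1 := hx (n + e.degree)
    rw [SModEq.zero, smul_eq_mul, Ideal.mul_top] at h1
    have h2 := maximalIdeal_pow_le_coefIdeal _ h1 e
    rwa [Nat.add_sub_cancel] at h2
  · have hf' : ∀ {m n}, m ≤ n → f m - f n ∈ coefIdeal σ R m := by
      intro m n hmn
      have := hf hmn
      rw [SModEq.sub_mem, smul_eq_mul, Ideal.mul_top] at this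
      exact maximalIdeal_pow_le_coefIdeal _ this
    have hc : ∀ e : σ →₀ ℕ, ∃ L : R, ∀ n,
        coeff e (f (n + e.degree)) - L ∈ maximalIdeal R ^ n := by
      intro e
      obtain ⟨L, hL⟩ := IsPrecomplete.prec
        (IsAdicComplete.toIsPrecomplete (I := maximalIdeal R) (M := R))
        (f := fun n => coeff e (f (n + e.degree))) (by
          intro m n hmn
          rw [SModEq.sub_mem, smul_eq_mul, Ideal.mul_top, ← map_sub]
          have := hf' (show m + e.degree ≤ n + e.degree by omega) e
          rwa [Nat.add_sub_cancel] at this)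
      refine ⟨L, fun n => ?_⟩
      have := hL n
      rwa [SModEq.sub_mem, smul_eq_mul, Ideal.mul_top] at this
    choose L hL using hc
    let Lps : MvPowerSeries σ R := fun e => L e
    have hLps : ∀ e, coeff e Lps = L e := fun e => rfl
    refine ⟨Lps, fun n => ?_⟩
    rw [SModEq.sub_mem, smul_eq_mul, Ideal.mul_top]
    refine coefIdeal_le_maximalIdeal_pow n fun e => ?_
    rw [map_sub, hLps]
    by_cases hle : e.degree ≤ n
    · obtain ⟨j, rfl⟩ := Nat.exists_eq_add_of_le' hle
      rw [Nat.add_sub_cancel]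
      exact hL e j
    · have h3 : n - e.degree = 0 := by omega
      rw [h3, pow_zero, Ideal.one_eq_top]
      exact Submodule.mem_top

lemma maximalIdeal_eq_sup [Fintype σ] :
    maximalIdeal (MvPowerSeries σ R) = (maximalIdeal R).map (C : R →+* MvPowerSeries σ R) ⊔
      varIdeal σ R := by
  refine le_antisymm (fun f hf => ?_) (sup_le map_C_maximalIdeal_le varIdeal_le_maximalIdeal)
  have h1 : f = C (constantCoeff f) + (f - C (constantCoeff f)) := by ring
  rw [h1]
  refine Ideal.add_mem _ (Ideal.mem_sup_left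
    (Ideal.mem_map_of_mem _ (mem_maximalIdeal_iff.mp hf))) (Ideal.mem_sup_right ?_)
  have h2 : Ord 1 (f - C (constantCoeff f)) := ord_one_iff.mpr (by simp)
  have h3 := mem_varIdeal_pow_of_ord h2
  rwa [pow_one] at h3

lemma sub_linear_mem_sq [Fintype σ] (p : MvPowerSeries σ R) :
    p - C (constantCoeff p) - ∑ i, C (coeff (Finsupp.single i 1) p) * X i ∈
      maximalIdeal (MvPowerSeries σ R) ^ 2 := by
  classical
  refine Ideal.pow_right_mono varIdeal_le_maximalIdeal 2
    (mem_varIdeal_pow_of_ord (ord_two_iff.mpr ⟨?_, fun s => ?_⟩))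
  · simp
  · rw [map_sub, map_sub, map_sum, coeff_C, if_neg (by simp), sub_zero]
    have h1 : ∀ i ∈ (Finset.univ : Finset σ),
        coeff (Finsupp.single s 1) (C (coeff (Finsupp.single i 1) p) * X i) =
          if i = s then coeff (Finsupp.single s 1) p else 0 := by
      intro i _
      rw [coeff_C_mul, coeff_X]
      by_cases his : i = s
      · subst his
        simp
      · rw [if_neg his, if_neg, mul_zero]
        intro h
        exact his ((Finsupp.single_left_inj one_ne_zero).mp h).symm
    rw [Finset.sum_congr rfl h1, Finset.sum_ite_eq' Finset.univ s, if_pos (Finset.mem_univ s),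
      sub_self]

end Groth.Agent.Lib.Helper76.PSCRing

namespace Groth.Agent.Lib.Helper76.PSCRing

open MvPowerSeries IsLocalRing
open Groth.Agent.Lib.Helper76.PSComplete

section ringlevel

variable {R B : Type*} [CommRing R] [CommRing B] {σ : Type*} [Finite σ]

lemma evC_congr [Algebra R B] (I : Ideal B) [IsAdicComplete I B] {b b' : σ → B} (h : b = b')
    (hb : ∀ s, b s ∈ I) :
    (evC I b hb : MvPowerSeries σ R →ₐ[R] B) = evC I b' (h ▸ hb) := by
  subst h
  rfl

/-- a ring map `R → B` and a finite family in `I` (with `B` `I`-adically complete) extend to a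
ring map out of `R⟦σ⟧` -/
theorem exists_ringHom (I : Ideal B) [IsAdicComplete I B] (y : R →+* B) (b : σ → B)
    (hb : ∀ s, b s ∈ I) :
    ∃ ψ : MvPowerSeries σ R →+* B, (∀ s, ψ (X s) = b s) ∧ ∀ r, ψ (C r) = y r := by
  letI : Algebra R B := y.toAlgebra
  refine ⟨((evC I b hb : MvPowerSeries σ R →ₐ[R] B) : MvPowerSeries σ R →+* B),
    fun s => evC_X I b hb s, fun r => ?_⟩
  have := (evC I b hb : MvPowerSeries σ R →ₐ[R] B).commutes r
  rw [MvPowerSeries.algebraMap_apply, Algebra.algebraMap_self, RingHom.id_apply] at this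
  exact this

/-- ring maps out of `R⟦σ⟧` into an `I`-adically complete ring, sending the variables into `I`,
are determined by their values on constants and variables -/
theorem ringHom_ext (I : Ideal B) [IsAdicComplete I B] (ψ₁ ψ₂ : MvPowerSeries σ R →+* B)
    (hI : ∀ s, ψ₁ (X s) ∈ I) (hX : ∀ s, ψ₁ (X s) = ψ₂ (X s)) (hC : ∀ r, ψ₁ (C r) = ψ₂ (C r)) :
    ψ₁ = ψ₂ := by
  letI : Algebra R B := (ψ₁.comp (C : R →+* MvPowerSeries σ R)).toAlgebra
  let φ₁ : MvPowerSeries σ R →ₐ[R] B := { ψ₁ with
    commutes' := fun r => by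
      show ψ₁ (algebraMap R (MvPowerSeries σ R) r) = ψ₁ (C r)
      rw [MvPowerSeries.algebraMap_apply, Algebra.algebraMap_self, RingHom.id_apply] }
  let φ₂ : MvPowerSeries σ R →ₐ[R] B := { ψ₂ with
    commutes' := fun r => by
      show ψ₂ (algebraMap R (MvPowerSeries σ R) r) = ψ₁ (C r)
      rw [MvPowerSeries.algebraMap_apply, Algebra.algebraMap_self, RingHom.id_apply, hC] }
  have hI2 : ∀ s, φ₂ (X s) ∈ I := fun s => by
    show ψ₂ (X s) ∈ I
    rw [← hX s]
    exact hI s
  have e1 : φ₁ = evC I (fun s => φ₁ (X s)) hI := evC_unique I φ₁ hI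
  have e2 : φ₂ = evC I (fun s => φ₂ (X s)) hI2 := evC_unique I φ₂ hI2
  have h12 : φ₁ = φ₂ :=
    e1.trans ((evC_congr I (funext fun s => hX s) hI).trans e2.symm)
  exact RingHom.ext fun f => DFunLike.congr_fun h12 f

end ringlevel

section local_

variable {P S : Type*} [CommRing P] [CommRing S] [IsLocalRing P] [IsLocalRing S]

/-- a local map of local rings, complete source and separated target, which is onto modulo the
maximal ideals and maps the maximal ideal onto generators of the maximal ideal, is onto -/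
theorem surjective_of_map_maximalIdeal [IsPrecomplete (maximalIdeal P) P]
    [IsHausdorff (maximalIdeal S) S] (f : P →+* S)
    (hmap : (maximalIdeal P).map f = maximalIdeal S)
    (hres : ∀ s : S, ∃ p : P, s - f p ∈ maximalIdeal S) : Function.Surjective f := by
  haveI : IsHausdorff ((maximalIdeal P).map f) S := by rw [hmap]; infer_instance
  refine surjective_of_mk_map_comp_surjective (I := maximalIdeal P) f fun x => ?_
  obtain ⟨s, rfl⟩ := Ideal.Quotient.mk_surjective x
  obtain ⟨p, hp⟩ := hres s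
  refine ⟨p, ?_⟩
  rw [RingHom.comp_apply, Ideal.Quotient.eq, hmap]
  have := (maximalIdeal S).neg_mem hp
  rwa [neg_sub] at this

/-- Nakayama: generators of the maximal ideal modulo its square generate -/
theorem eq_maximalIdeal_of_le_sup_sq [IsNoetherianRing S] (M : Ideal S) (hM : M ≤ maximalIdeal S)
    (h : maximalIdeal S ≤ M ⊔ maximalIdeal S ^ 2) : M = maximalIdeal S := by
  refine le_antisymm hM ?_
  refine Submodule.le_of_le_smul_of_le_jacobson_bot (IsNoetherian.noetherian _)
    (maximalIdeal_le_jacobson ⊥) ?_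
  rwa [smul_eq_mul, ← pow_two]

end local_

/-- a surjective endomorphism of a Noetherian ring is injective -/
theorem injective_of_surjective_endo {P : Type*} [CommRing P] [IsNoetherianRing P] (θ : P →+* P)
    (hθ : Function.Surjective θ) : Function.Injective θ := by
  have hmono : Monotone (fun n : ℕ => RingHom.ker (θ ^ n)) := by
    refine monotone_nat_of_le_succ fun n x hx => ?_
    rw [RingHom.mem_ker] at hx ⊢
    rw [RingHom.coe_pow, Function.iterate_succ_apply', ← RingHom.coe_pow, hx, map_zero]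
  obtain ⟨N, hN⟩ := monotone_stabilizes_iff_noetherian.mpr
    (inferInstance : IsNoetherian P P) ⟨_, hmono⟩
  rw [injective_iff_map_eq_zero]
  intro x hx
  have hsurj : Function.Surjective (θ ^ N) := by
    rw [RingHom.coe_pow]
    exact hθ.iterate N
  obtain ⟨y, rfl⟩ := hsurj x
  have h1 : y ∈ RingHom.ker (θ ^ (N + 1)) := by
    rw [RingHom.mem_ker, RingHom.coe_pow, Function.iterate_succ_apply', ← RingHom.coe_pow]
    exact hx
  have h2 : y ∈ RingHom.ker (θ ^ N) := by
    have := hN (N + 1) (Nat.le_succ N)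
    simp only [OrderHom.coe_mk] at this
    rw [this]
    exact h1
  exact h2

section mingen

variable {R S : Type*} [CommRing R] [CommRing S] [IsLocalRing R] [IsLocalRing S]

/-- a minimal finite family generating the maximal ideal modulo a given ideal -/
theorem exists_min_gen [IsNoetherianRing S] (𝔞 : Ideal S) (h𝔞 : 𝔞 ≤ maximalIdeal S) :
    ∃ (n : ℕ) (x : Fin n → S), maximalIdeal S = 𝔞 ⊔ Ideal.span (Set.range x) ∧
      ∀ j : Fin n, ¬ (maximalIdeal S ≤ 𝔞 ⊔ Ideal.span (x '' {i | i ≠ j})) := by
  classical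
  have key : ∀ n : ℕ, ∀ x : Fin n → S, maximalIdeal S = 𝔞 ⊔ Ideal.span (Set.range x) →
      ∃ (n' : ℕ) (x' : Fin n' → S), maximalIdeal S = 𝔞 ⊔ Ideal.span (Set.range x') ∧
        ∀ j : Fin n', ¬ (maximalIdeal S ≤ 𝔞 ⊔ Ideal.span (x' '' {i | i ≠ j})) := by
    intro n
    induction n with
    | zero => intro x hx; exact ⟨0, x, hx, fun j => j.elim0⟩
    | succ m ih =>
      intro x hx
      by_cases hmin : ∀ j : Fin (m + 1),
          ¬ (maximalIdeal S ≤ 𝔞 ⊔ Ideal.span (x '' {i | i ≠ j}))
      · exact ⟨m + 1, x, hx, hmin⟩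
      · simp only [not_forall, not_not] at hmin
        obtain ⟨j, hj⟩ := hmin
        refine ih (x ∘ j.succAbove) (le_antisymm ?_ ?_)
        · refine hj.trans (sup_le_sup_left (Ideal.span_mono ?_) _)
          rintro _ ⟨i, hi, rfl⟩
          obtain ⟨i', rfl⟩ := Fin.exists_succAbove_eq hi
          exact ⟨i', rfl⟩
        · exact (sup_le_sup_left (Ideal.span_mono (Set.range_comp_subset_range _ _)) _).trans
            hx.ge
  obtain ⟨n, s, hs⟩ := Submodule.fg_iff_exists_fin_generating_family.mp
    (IsNoetherian.noetherian (maximalIdeal S))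
  refine key n s ?_
  have : Ideal.span (Set.range s) = maximalIdeal S := hs
  rw [this]
  exact (sup_eq_right.mpr h𝔞).symm

variable [Algebra R S] {n : ℕ} (x : Fin n → S)
  (ψ : MvPowerSeries (Fin n) R →+* S) (hψC : ∀ r, ψ (C r) = algebraMap R S r)
  (hψX : ∀ i, ψ (X i) = x i)

omit [IsLocalRing S] in
include hψC hψX in
lemma map_maximalIdeal_eq :
    (maximalIdeal (MvPowerSeries (Fin n) R)).map ψ =
      (maximalIdeal R).map (algebraMap R S) ⊔ Ideal.span (Set.range x) := by
  have h1 : ψ.comp (C : R →+* MvPowerSeries (Fin n) R) = algebraMap R S := RingHom.ext hψC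
  have h2 : (ψ : MvPowerSeries (Fin n) R → S) '' Set.range (X : Fin n → MvPowerSeries (Fin n) R) =
      Set.range x := by
    rw [← Set.range_comp]
    congr 1
    exact funext hψX
  rw [maximalIdeal_eq_sup, Ideal.map_sup, Ideal.map_map, h1]
  unfold varIdeal
  rw [Ideal.map_span, h2]

include hψC hψX in
/-- for a minimal family of generators, the kernel of the evaluation map is small -/
theorem ker_le_of_min_gen [IsNoetherianRing S]
    (hloc : ∀ r : R, algebraMap R S r ∈ maximalIdeal S → r ∈ maximalIdeal R)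
    (hgen : maximalIdeal S = (maximalIdeal R).map (algebraMap R S) ⊔ Ideal.span (Set.range x))
    (hmin : ∀ j : Fin n, ¬ (maximalIdeal S ≤
      (maximalIdeal R).map (algebraMap R S) ⊔ Ideal.span (x '' {i | i ≠ j})))
    (p : MvPowerSeries (Fin n) R) (hp : ψ p = 0) :
    p ∈ (maximalIdeal R).map (C : R →+* MvPowerSeries (Fin n) R) ⊔
      maximalIdeal (MvPowerSeries (Fin n) R) ^ 2 := by
  classical
  set 𝔞 : Ideal S := (maximalIdeal R).map (algebraMap R S) with h𝔞def
  have h𝔞 : 𝔞 ≤ maximalIdeal S := by rw [hgen]; exact le_sup_left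
  have hxm : ∀ i, x i ∈ maximalIdeal S := fun i => by
    rw [hgen]; exact Ideal.mem_sup_right (Ideal.subset_span ⟨i, rfl⟩)
  have hmapψ : (maximalIdeal (MvPowerSeries (Fin n) R)).map ψ = maximalIdeal S := by
    rw [map_maximalIdeal_eq x ψ hψC hψX, ← hgen]
  set c := constantCoeff p with hc
  set a : Fin n → R := fun i => coeff (Finsupp.single i 1) p with ha
  set q := p - C c - ∑ i, C (a i) * X i with hq
  have hqm : q ∈ maximalIdeal (MvPowerSeries (Fin n) R) ^ 2 := sub_linear_mem_sq p
  have hψq : ψ q ∈ maximalIdeal S ^ 2 := by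
    have := Ideal.mem_map_of_mem ψ hqm
    rwa [Ideal.map_pow, hmapψ] at this
  have hpq : p = C c + ∑ i, C (a i) * X i + q := by rw [hq]; ring
  have heq : algebraMap R S c + ∑ i, algebraMap R S (a i) * x i + ψ q = 0 := by
    rw [← hp]
    conv_rhs => rw [hpq]
    rw [map_add, map_add, map_sum, hψC]
    congr 2
    refine Finset.sum_congr rfl fun i _ => ?_
    rw [map_mul, hψC, hψX]
  have hsq_le : maximalIdeal S ^ 2 ≤ maximalIdeal S := Ideal.pow_le_self two_ne_zero
  -- the constant term
  have hcm : c ∈ maximalIdeal R := by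
    refine hloc c ?_
    have h1 : algebraMap R S c = -(∑ i, algebraMap R S (a i) * x i + ψ q) := by
      rw [eq_neg_iff_add_eq_zero, ← add_assoc]; exact heq
    rw [h1]
    refine Submodule.neg_mem _ (Ideal.add_mem _ (Ideal.sum_mem _ fun i _ => ?_) (hsq_le hψq))
    exact Ideal.mul_mem_left _ _ (hxm i)
  -- the linear coefficients
  have ham : ∀ j, a j ∈ maximalIdeal R := by
    intro j
    by_contra hj
    have hu : IsUnit (a j) := by
      by_contra h
      exact hj ((mem_maximalIdeal _).mpr h)
    have hu' : IsUnit (algebraMap R S (a j)) := hu.map _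
    set N : Ideal S := 𝔞 ⊔ Ideal.span (x '' {i | i ≠ j}) with hN
    have hNle : N ≤ maximalIdeal S := by
      refine sup_le h𝔞 (Ideal.span_le.mpr ?_)
      rintro _ ⟨i, _, rfl⟩
      exact hxm i
    have hxi : ∀ i, i ≠ j → x i ∈ N := fun i hi =>
      Ideal.mem_sup_right (Ideal.subset_span ⟨i, hi, rfl⟩)
    have hxj : x j ∈ N ⊔ maximalIdeal S ^ 2 := by
      rw [← Ideal.unit_mul_mem_iff_mem _ hu']
      have h1 : algebraMap R S (a j) * x j =
          -(algebraMap R S c + ∑ i ∈ Finset.univ.erase j, algebraMap R S (a i) * x i + ψ q) := by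
        rw [eq_neg_iff_add_eq_zero]
        rw [← heq, ← Finset.add_sum_erase Finset.univ (fun i => algebraMap R S (a i) * x i)
          (Finset.mem_univ j)]
        ring
      rw [h1]
      refine Submodule.neg_mem _ (Ideal.add_mem _ (Ideal.add_mem _ ?_ ?_) (Ideal.mem_sup_right hψq))
      · exact Ideal.mem_sup_left (Ideal.mem_sup_left (Ideal.mem_map_of_mem _ hcm))
      · refine Ideal.mem_sup_left (Ideal.sum_mem _ fun i hi => ?_)
        exact Ideal.mul_mem_left _ _ (hxi i (Finset.ne_of_mem_erase hi))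
    have hle : maximalIdeal S ≤ N ⊔ maximalIdeal S ^ 2 := by
      refine hgen.le.trans (sup_le (le_sup_of_le_left le_sup_left) (Ideal.span_le.mpr ?_))
      rintro _ ⟨i, rfl⟩
      by_cases hi : i = j
      · rw [hi]; exact hxj
      · exact Ideal.mem_sup_left (hxi i hi)
    have := eq_maximalIdeal_of_le_sup_sq N hNle hle
    exact hmin j this.ge
  rw [hpq]
  refine Ideal.add_mem _ (Ideal.add_mem _ ?_ (Ideal.sum_mem _ fun i _ => ?_))
    (Ideal.mem_sup_right hqm)
  · exact Ideal.mem_sup_left (Ideal.mem_map_of_mem _ hcm)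
  · exact Ideal.mem_sup_left (Ideal.mul_mem_right _ _ (Ideal.mem_map_of_mem _ (ham i)))

end mingen

/-- an endomorphism of `R⟦X⟧` over `R` which is the identity on the relative cotangent space
is onto -/
theorem surjective_endo {R : Type*} [CommRing R] [IsLocalRing R] [IsNoetherianRing R]
    [IsAdicComplete (maximalIdeal R) R] {n : ℕ}
    (θ : MvPowerSeries (Fin n) R →+* MvPowerSeries (Fin n) R) (hθC : ∀ r, θ (C r) = C r)
    (hθX : ∀ i, θ (X i) - X i ∈ (maximalIdeal R).map (C : R →+* MvPowerSeries (Fin n) R) ⊔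
      maximalIdeal (MvPowerSeries (Fin n) R) ^ 2) : Function.Surjective θ := by
  set mP := maximalIdeal (MvPowerSeries (Fin n) R) with hmP
  set J : Ideal (MvPowerSeries (Fin n) R) :=
    (maximalIdeal R).map (C : R →+* MvPowerSeries (Fin n) R) ⊔ mP ^ 2 with hJ
  have hJle : J ≤ mP := sup_le map_C_maximalIdeal_le (Ideal.pow_le_self two_ne_zero)
  have hmap := map_maximalIdeal_eq (R := R) (S := MvPowerSeries (Fin n) R)
    (fun i => θ (X i)) θ (fun r => by rw [hθC, MvPowerSeries.algebraMap_apply,
      Algebra.algebraMap_self, RingHom.id_apply]) (fun i => rfl)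
  have hθXm : ∀ i, θ (X i) ∈ mP := fun i => by
    have := Ideal.add_mem _ (hJle (hθX i)) (X_mem_maximalIdeal (R := R) i)
    rwa [sub_add_cancel] at this
  have hCeq : (maximalIdeal R).map (algebraMap R (MvPowerSeries (Fin n) R)) =
      (maximalIdeal R).map (C : R →+* MvPowerSeries (Fin n) R) := by
    congr 1
  have hMle : mP.map θ ≤ mP := by
    rw [hmap, hCeq]
    refine sup_le map_C_maximalIdeal_le (Ideal.span_le.mpr ?_)
    rintro _ ⟨i, rfl⟩
    exact hθXm i
  have hle : mP ≤ mP.map θ ⊔ mP ^ 2 := by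
    have hCM : (maximalIdeal R).map (C : R →+* MvPowerSeries (Fin n) R) ≤ mP.map θ := by
      rw [hmap, hCeq]; exact le_sup_left
    conv_lhs => rw [hmP, maximalIdeal_eq_sup]
    refine sup_le (le_sup_of_le_left hCM) ?_
    unfold varIdeal
    rw [Ideal.span_le]
    rintro _ ⟨i, rfl⟩
    have h1 : θ (X i) ∈ mP.map θ := Ideal.mem_map_of_mem θ (X_mem_maximalIdeal (R := R) i)
    have h2 : θ (X i) - X i ∈ mP.map θ ⊔ mP ^ 2 :=
      (sup_le (le_sup_of_le_left hCM) le_sup_right) (hθX i)
    have := Ideal.sub_mem _ (Ideal.mem_sup_left h1) h2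
    rwa [sub_sub_cancel] at this
  have hMeq : mP.map θ = mP := eq_maximalIdeal_of_le_sup_sq _ hMle hle
  refine surjective_of_map_maximalIdeal θ hMeq fun p => ⟨C (constantCoeff p), ?_⟩
  rw [hθC, mem_maximalIdeal_iff, map_sub, constantCoeff_C, sub_self]
  exact zero_mem _

end Groth.Agent.Lib.Helper76.PSCRing
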