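import Groth.Agent.Lib.Helper76.PSComplete
import Mathlib.RingTheory.Ideal.KrullsHeightTheorem
import Mathlib.RingTheory.KrullDimension.NonZeroDivisors
import Mathlib.RingTheory.MvPowerSeries.Inverse
import Mathlib.RingTheory.MvPowerSeries.NoZeroDivisors

/-!
# Dimension of power series rings over a field: the upper bound (helper76)
-/

set_option autoImplicit false

namespace Groth.Agent.Lib.Helper76.PSComplete

open MvPowerSeries
open Groth.Agent.Lib.Helper76.LT Groth.Agent.Lib.Helper76.PSInv

variable (k : Type*) [Field k]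

lemma maximalIdeal_eq_varIdeal (σ : Type*) [Finite σ] :
    IsLocalRing.maximalIdeal (MvPowerSeries σ k) = varIdeal σ k := by
  cases nonempty_fintype σ
  apply le_antisymm
  · intro x hx
    have h0 : constantCoeff x = 0 := by
      by_contra h
      exact (IsLocalRing.mem_maximalIdeal _).mp hx
        (MvPowerSeries.isUnit_iff_constantCoeff.mpr (isUnit_iff_ne_zero.mpr h))
    have := mem_varIdeal_pow_of_ord (ord_one_iff.mpr h0)
    rwa [pow_one] at this
  · refine IsLocalRing.le_maximalIdeal fun htop => ?_
    have h1 : (1 : MvPowerSeries σ k) ∈ varIdeal σ k ^ 1 := by rw [pow_one, htop]; trivial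
    have := ord_one_iff.mp (ord_of_mem_varIdeal_pow h1)
    simp at this

lemma ringKrullDim_le_card (d : ℕ) : ringKrullDim (MvPowerSeries (Fin d) k) ≤ d := by
  refine (ringKrullDim_le_spanFinrank_maximalIdeal _).trans ?_
  rw [maximalIdeal_eq_varIdeal]
  have h1 : (varIdeal (Fin d) k).spanFinrank ≤ (Set.range (X : Fin d → MvPowerSeries (Fin d) k)).ncard :=
    Submodule.spanFinrank_span_le_ncard_of_finite (Set.finite_range _)
  have h2 : (Set.range (X : Fin d → MvPowerSeries (Fin d) k)).ncard ≤ d := by
    rw [← Set.image_univ]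
    refine (Set.ncard_image_le (Set.finite_univ)).trans ?_
    simp
  exact_mod_cast h1.trans h2

/-- a surjective ring map from `k⟦x₁,…,x_d⟧` onto a ring of dimension `≥ d` is injective -/
theorem injective_of_surjective_of_dim {R : Type*} [CommRing R] (d : ℕ)
    (ψ : MvPowerSeries (Fin d) k →+* R) (hs : Function.Surjective ψ)
    (hdim : (d : WithBot ℕ∞) ≤ ringKrullDim R) : Function.Injective ψ := by
  rw [injective_iff_map_eq_zero]
  intro x hx
  by_contra hne
  have h1 := ringKrullDim_succ_le_of_surjective ψ hs (mem_nonZeroDivisors_of_ne_zero hne) hx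
  have h2 := ringKrullDim_le_card k d
  have h3 : (d : WithBot ℕ∞) + 1 ≤ d := (add_le_add_left hdim 1).trans (h1.trans h2)
  have h4 : ((d + 1 : ℕ) : WithBot ℕ∞) ≤ ((d : ℕ) : WithBot ℕ∞) := by exact_mod_cast h3
  have h5 : d + 1 ≤ d := by exact_mod_cast h4
  omega

end Groth.Agent.Lib.Helper76.PSComplete
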