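import Groth.Agent.Lib.Helper76.PSComplete
import Mathlib.RingTheory.Nilpotent.Lemmas
import Mathlib.RingTheory.Noetherian.Nilpotent

/-!
# Evaluation of power series at nilpotent elements (helper76)
-/

set_option autoImplicit false

namespace Groth.Agent.Lib.Helper76.PSComplete

open MvPowerSeries
open Groth.Agent.Lib.Helper76.LT Groth.Agent.Lib.Helper76.PSInv

/-- a ring is adically complete for any nilpotent ideal -/
theorem isAdicComplete_of_pow_eq_bot {E : Type*} [CommRing E] {I : Ideal E} {M : ℕ}
    (h : I ^ M = ⊥) : IsAdicComplete I E := by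
  refine { toIsHausdorff := ⟨fun x hx => ?_⟩, toIsPrecomplete := ⟨fun {f} hf => ?_⟩ }
  · have := hx M
    rwa [SModEq.zero, smul_eq_mul, Ideal.mul_top, h, Ideal.mem_bot] at this
  · refine ⟨f M, fun n => ?_⟩
    rcases le_total n M with hn | hn
    · exact hf hn
    · have := hf hn
      rw [SModEq.sub_mem, smul_eq_mul, Ideal.mul_top, h, Ideal.mem_bot, sub_eq_zero] at this
      rw [this]

lemma ker_constantCoeff_eq_varIdeal {A : Type*} [CommRing A] {σ : Type*} [Finite σ] :
    RingHom.ker (constantCoeff : MvPowerSeries σ A →+* A) = varIdeal σ A := by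
  cases nonempty_fintype σ
  ext x
  rw [RingHom.mem_ker, ← ord_one_iff, ← mem_varIdeal_pow_iff, pow_one]

/-- a finitely generated ideal generated by nilpotents is nilpotent -/
lemma exists_pow_span_range_eq_bot {E : Type*} [CommRing E] {ι : Type*} [Finite ι] (z : ι → E)
    (hz : ∀ i, IsNilpotent (z i)) : ∃ M : ℕ, Ideal.span (Set.range z) ^ M = ⊥ := by
  have hfg : (Ideal.span (Set.range z)).FG := ⟨(Set.finite_range z).toFinset, by simp⟩
  have := (Ideal.FG.isNilpotent_iff_le_nilradical hfg).mpr (by
    rw [Ideal.span_le]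
    rintro _ ⟨i, rfl⟩
    exact (mem_nilradical).mpr (hz i))
  obtain ⟨M, hM⟩ := this
  exact ⟨M, hM⟩

end Groth.Agent.Lib.Helper76.PSComplete
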