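import Mathlib.LinearAlgebra.QuadraticForm.Basic
import Mathlib.Algebra.Polynomial.Splits
import Mathlib.LinearAlgebra.FiniteDimensional.Defs
import Mathlib.LinearAlgebra.Eigenspace.Minpoly
import Mathlib.Tactic

set_option autoImplicit false
universe u v
open Polynomial

namespace Groth.Agent.Lib.Helper76

variable {K : Type u} [Field K] {V : Type v} [AddCommGroup V] [Module K V]

/-- an eigenvalue of an isometry of an anisotropic form squares to one -/
theorem eigen_sq_eq_one (q : QuadraticForm K V) (hq : q.Anisotropic)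
    (G : Module.End K V) (hG : ∀ x : V, q (G x) = q x) (r : K) (v : V) (hv : v ≠ 0)
    (hGv : G v = r • v) : r * r = 1 := by
  have h1 : q v = (r * r) * q v := by
    conv_lhs => rw [← hG v, hGv, QuadraticMap.map_smul, smul_eq_mul]
  have hqv : q v ≠ 0 := fun h => hv (hq v h)
  have : (r * r - 1) * q v = 0 := by linear_combination -h1
  rcases mul_eq_zero.mp this with h | h
  · exact sub_eq_zero.mp h
  · exact absurd h hqv

/-- generalised eigenvectors of rank two for an isometry of an anisotropic form are eigenvectors -/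
theorem ker_sq_le (h2 : (2 : K) ≠ 0) (q : QuadraticForm K V) (hq : q.Anisotropic)
    (G : Module.End K V) (hG : ∀ x : V, q (G x) = q x) (r : K) (hr : r * r = 1) (u : V)
    (hu : G (G u - r • u) = r • (G u - r • u)) : G u - r • u = 0 := by
  set w := G u - r • u with hw
  have hGu : G u = r • u + w := by rw [hw]; abel
  have hGGu : G (G u) = u + (2 * r) • w := by
    rw [hGu, map_add, map_smul, hGu, hu, smul_add, smul_smul, hr, one_smul, two_mul, add_smul]
    abel
  have e1 : q (r • u + w) = q u := by rw [← hGu, hG]
  have e2 : q (u + (2 * r) • w) = q u := by rw [← hGGu, hG, hG]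
  rw [QuadraticMap.map_add (⇑q), QuadraticMap.polar_smul_left, QuadraticMap.map_smul, hr] at e1
  rw [QuadraticMap.map_add (⇑q), QuadraticMap.polar_smul_right, QuadraticMap.map_smul] at e2
  simp only [smul_eq_mul, one_mul] at e1 e2
  have hqw : q w = 0 := by
    have e1' : q w + r * QuadraticMap.polar q u w = 0 := by linear_combination e1
    have e2' : (2 * r) * (2 * r) * q w + (2 * r) * QuadraticMap.polar q u w = 0 := by
      linear_combination e2
    have : (2 : K) * q w = 0 := by linear_combination e2' - 2 * e1' - 4 * q w * hr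
    rcases mul_eq_zero.mp this with h | h
    · exact absurd h h2
    · exact h
  exact hq w hqw

/-- an isometry of finite order of an anisotropic form over a field containing all roots of unity
is an involution -/
theorem isometry_sq_eq_one [FiniteDimensional K V]
    (hK : ∀ n : ℕ, 0 < n → (X ^ n - 1 : K[X]).Splits) (h2 : (2 : K) ≠ 0)
    (q : QuadraticForm K V) (hq : q.Anisotropic)
    (G : Module.End K V) (hG : ∀ x : V, q (G x) = q x) (d : ℕ) (hd : 0 < d) (hGd : G ^ d = 1) :
    G ^ 2 = 1 := by
  classical
  have hint : IsIntegral K G := Algebra.IsIntegral.isIntegral G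
  set μ := minpoly K G with hμ
  have hμ0 : μ ≠ 0 := minpoly.ne_zero hint
  have hXd : (X ^ d - 1 : K[X]) ≠ 0 := by
    have := Polynomial.X_pow_sub_C_ne_zero hd (1 : K)
    rwa [map_one] at this
  have hdvd : μ ∣ (X ^ d - 1 : K[X]) := by
    apply minpoly.dvd
    simp [hGd]
  have hsplit : μ.Splits := (hK d hd).of_dvd hXd hdvd
  -- every root of μ squares to one
  have hroot : ∀ r : K, μ.IsRoot r → r * r = 1 := by
    intro r hr
    have hev : G.HasEigenvalue r := Module.End.hasEigenvalue_of_isRoot hr
    obtain ⟨v, hv⟩ := hev.exists_hasEigenvector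
    exact eigen_sq_eq_one q hq G hG r v hv.2 hv.apply_eq_smul
  -- roots are simple
  have hsimple : ∀ r : K, ¬ (X - C r) ^ 2 ∣ μ := by
    intro r hdiv
    obtain ⟨ν, hν⟩ := hdiv
    have hν0 : ν ≠ 0 := by
      rintro rfl
      rw [mul_zero] at hν
      exact hμ0 hν
    have hrr : r * r = 1 := by
      apply hroot
      rw [hν, Polynomial.IsRoot.def]
      simp
    have hkill : Polynomial.aeval G ((X - C r) * ν) = 0 := by
      ext x
      have h0 : Polynomial.aeval G μ = 0 := minpoly.aeval K G
      have h1 := LinearMap.congr_fun h0 x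
      rw [hν, pow_two] at h1
      simp only [map_mul, map_sub, Polynomial.aeval_X, Polynomial.aeval_C, Module.End.mul_apply,
        LinearMap.sub_apply, Module.algebraMap_end_apply, LinearMap.zero_apply] at h1 ⊢
      set y := (Polynomial.aeval G ν) x
      have := ker_sq_le h2 q hq G hG r hrr y ?_
      · exact this
      · rw [map_smul] at h1
        rw [map_sub, map_smul, smul_sub]
        exact sub_eq_zero.mp h1
    have hdvd' : μ ∣ (X - C r) * ν := minpoly.dvd K G hkill
    have hne : (X - C r) * ν ≠ 0 := mul_ne_zero (Polynomial.X_sub_C_ne_zero r) hν0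
    have hdeg := Polynomial.natDegree_le_of_dvd hdvd' hne
    rw [hν, Polynomial.natDegree_mul (pow_ne_zero 2 (Polynomial.X_sub_C_ne_zero r)) hν0,
      Polynomial.natDegree_mul (Polynomial.X_sub_C_ne_zero r) hν0, Polynomial.natDegree_pow,
      Polynomial.natDegree_X_sub_C] at hdeg
    omega
  have hnodup : μ.roots.Nodup := by
    rw [Multiset.nodup_iff_count_le_one]
    intro r
    rw [Polynomial.count_roots]
    by_contra hc
    push Not at hc
    have : 2 ≤ Polynomial.rootMultiplicity r μ := hc
    rw [Polynomial.le_rootMultiplicity_iff hμ0] at this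
    exact hsimple r this
  have hX2 : (X ^ 2 - 1 : K[X]) ≠ 0 := by
    have := Polynomial.X_pow_sub_C_ne_zero (show 0 < 2 by norm_num) (1 : K)
    rwa [map_one] at this
  have hle : μ.roots ≤ (X ^ 2 - 1 : K[X]).roots := by
    rw [Multiset.le_iff_subset hnodup]
    intro r hr
    rw [Polynomial.mem_roots hμ0] at hr
    rw [Polynomial.mem_roots hX2, Polynomial.IsRoot.def]
    have := hroot r hr
    simp only [Polynomial.eval_sub, Polynomial.eval_pow, Polynomial.eval_X, Polynomial.eval_one]
    rw [pow_two, this, sub_self]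
  have hdvd2 : μ ∣ (X ^ 2 - 1 : K[X]) := hsplit.dvd_of_roots_le_roots hμ0 hle
  obtain ⟨c, hc⟩ := hdvd2
  have h0 : Polynomial.aeval G (X ^ 2 - 1 : K[X]) = 0 := by
    rw [hc, map_mul, minpoly.aeval, zero_mul]
  simp only [map_sub, map_pow, Polynomial.aeval_X, map_one] at h0
  exact sub_eq_zero.mp h0

end Groth.Agent.Lib.Helper76
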