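import Groth.Agent.Lib.Helper76.Aniso
import Mathlib.LinearAlgebra.Dimension.Finrank
import Mathlib.LinearAlgebra.FiniteDimensional.Lemmas
import Mathlib.SetTheory.Cardinal.Finite
import Mathlib.Data.Set.Card

set_option autoImplicit false
universe u v
open Polynomial

namespace Groth.Agent.Lib.Helper76

variable {K : Type u} [Field K] {V : Type v} [AddCommGroup V] [Module K V]

/-- restriction of a linear automorphism to a submodule, as a linear map into `V` -/
def res (W : Submodule K V) (g : V ≃ₗ[K] V) : W →ₗ[K] V := g.toLinearMap.domRestrict W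

theorem res_apply (W : Submodule K V) (g : V ≃ₗ[K] V) (w : W) : res W g w = g w := rfl

theorem ncard_res_le [FiniteDimensional K V] (G : Subgroup (V ≃ₗ[K] V)) [Finite G] (h2 : (2 : K) ≠ 0)
    (hinv : ∀ g ∈ G, ∀ x : V, g (g x) = x)
    (hcomm : ∀ g ∈ G, ∀ h ∈ G, ∀ x : V, g (h x) = h (g x)) :
    ∀ (n : ℕ) (W : Submodule K V), (∀ g ∈ G, ∀ w ∈ W, g w ∈ W) → Module.finrank K W = n →
      (Set.range (fun g : G => res W g.1)).ncard ≤ 2 ^ n := by
  intro n
  induction n using Nat.strong_induction_on with
  | _ n ih =>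
    intro W hW hn
    have hfin : (Set.range (fun g : G => res W g.1)).Finite := Set.finite_range _
    by_cases hcase : ∀ g ∈ G, (∀ w ∈ W, g w = w) ∨ (∀ w ∈ W, g w = -w)
    · rcases Nat.eq_zero_or_pos n with hn0 | hnpos
      · -- W is trivial
        subst hn0
        have hWbot : W = ⊥ := Submodule.finrank_eq_zero.mp hn
        rw [pow_zero, Set.ncard_le_one hfin]
        rintro _ ⟨g, rfl⟩ _ ⟨h, rfl⟩
        ext w
        have : (w : V) = 0 := by
          have h0 : (w : V) ∈ (⊥ : Submodule K V) := hWbot ▸ w.2
          exact (Submodule.mem_bot K).mp h0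
        simp [res_apply, this]
      · have hsub : Set.range (fun g : G => res W g.1) ⊆ {W.subtype, -W.subtype} := by
          rintro _ ⟨g, rfl⟩
          rcases hcase g.1 g.2 with h | h
          · left
            ext w
            simp [res_apply, h w.1 w.2]
          · right
            rw [Set.mem_singleton_iff]
            ext w
            simp [res_apply, h w.1 w.2]
        calc (Set.range (fun g : G => res W g.1)).ncard
            ≤ ({W.subtype, -W.subtype} : Set (W →ₗ[K] V)).ncard :=
              Set.ncard_le_ncard hsub (Set.toFinite _)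
          _ ≤ 2 := by
              refine (Set.ncard_insert_le _ _).trans ?_
              rw [Set.ncard_singleton]
          _ = 2 ^ 1 := (pow_one 2).symm
          _ ≤ 2 ^ n := Nat.pow_le_pow_right (by norm_num) hnpos
    · push Not at hcase
      obtain ⟨g₀, hg₀G, ⟨w₁, hw₁W, hw₁⟩, ⟨w₂, hw₂W, hw₂⟩⟩ := hcase
      set Wp : Submodule K V := W ⊓ LinearMap.ker (g₀.toLinearMap - LinearMap.id) with hWp
      set Wm : Submodule K V := W ⊓ LinearMap.ker (g₀.toLinearMap + LinearMap.id) with hWm
      have memWp : ∀ w, w ∈ Wp ↔ w ∈ W ∧ g₀ w = w := by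
        intro w
        simp [hWp, LinearMap.mem_ker, sub_eq_zero]
      have memWm : ∀ w, w ∈ Wm ↔ w ∈ W ∧ g₀ w = -w := by
        intro w
        simp [hWm, LinearMap.mem_ker, add_eq_zero_iff_eq_neg]
      have hWpW : Wp ≤ W := inf_le_left
      have hWmW : Wm ≤ W := inf_le_left
      have hWp_st : ∀ g ∈ G, ∀ w ∈ Wp, g w ∈ Wp := by
        intro g hg w hw
        rw [memWp] at hw ⊢
        refine ⟨hW g hg w hw.1, ?_⟩
        rw [hcomm g₀ hg₀G g hg, hw.2]
      have hWm_st : ∀ g ∈ G, ∀ w ∈ Wm, g w ∈ Wm := by
        intro g hg w hw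
        rw [memWm] at hw ⊢
        refine ⟨hW g hg w hw.1, ?_⟩
        rw [hcomm g₀ hg₀G g hg, hw.2, map_neg]
      have hsup : Wp ⊔ Wm = W := by
        apply le_antisymm (sup_le hWpW hWmW)
        intro w hw
        rw [Submodule.mem_sup]
        refine ⟨(2 : K)⁻¹ • (w + g₀ w), ?_, (2 : K)⁻¹ • (w - g₀ w), ?_, ?_⟩
        · apply Submodule.smul_mem
          rw [memWp]
          refine ⟨W.add_mem hw (hW g₀ hg₀G w hw), ?_⟩
          rw [map_add, hinv g₀ hg₀G, add_comm]
        · apply Submodule.smul_mem
          rw [memWm]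
          refine ⟨W.sub_mem hw (hW g₀ hg₀G w hw), ?_⟩
          rw [map_sub, hinv g₀ hg₀G, neg_sub]
        · rw [← smul_add]
          have : w + g₀ w + (w - g₀ w) = (2 : K) • w := by rw [two_smul]; abel
          rw [this, smul_smul, inv_mul_cancel₀ h2, one_smul]
      have hinf : Wp ⊓ Wm = ⊥ := by
        rw [eq_bot_iff]
        intro w hw
        rw [Submodule.mem_inf, memWp, memWm] at hw
        rw [Submodule.mem_bot]
        have h1 : w = -w := hw.1.2.symm.trans hw.2.2
        have h3 : (2 : K) • w = 0 := by
          rw [two_smul]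
          nth_rw 1 [h1]
          exact neg_add_cancel w
        rcases smul_eq_zero.mp h3 with h | h
        · exact absurd h h2
        · exact h
      have hdim : Module.finrank K Wp + Module.finrank K Wm = n := by
        have := Submodule.finrank_sup_add_finrank_inf_eq Wp Wm
        rw [hsup, hinf, finrank_bot, add_zero, hn] at this
        exact this.symm
      have hWp_lt : Module.finrank K Wp < n := by
        rw [← hn]
        apply Submodule.finrank_lt_finrank_of_lt
        refine lt_of_le_of_ne hWpW ?_
        intro h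
        have : w₁ ∈ Wp := h ▸ hw₁W
        exact hw₁ ((memWp w₁).mp this).2
      have hWm_lt : Module.finrank K Wm < n := by
        rw [← hn]
        apply Submodule.finrank_lt_finrank_of_lt
        refine lt_of_le_of_ne hWmW ?_
        intro h
        have : w₂ ∈ Wm := h ▸ hw₂W
        exact hw₂ ((memWm w₂).mp this).2
      have ihp := ih _ hWp_lt Wp hWp_st rfl
      have ihm := ih _ hWm_lt Wm hWm_st rfl
      let F : (W →ₗ[K] V) → (Wp →ₗ[K] V) × (Wm →ₗ[K] V) := fun f =>
        (f ∘ₗ Submodule.inclusion hWpW, f ∘ₗ Submodule.inclusion hWmW)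
      have hFinj : Function.Injective F := by
        intro f f' hff'
        have h1 : f ∘ₗ Submodule.inclusion hWpW = f' ∘ₗ Submodule.inclusion hWpW :=
          congrArg Prod.fst hff'
        have h2' : f ∘ₗ Submodule.inclusion hWmW = f' ∘ₗ Submodule.inclusion hWmW :=
          congrArg Prod.snd hff'
        ext ⟨w, hw⟩
        have hw' := hw
        rw [← hsup, Submodule.mem_sup] at hw'
        obtain ⟨a, ha, b, hb, hab⟩ := hw'
        have e1 : (⟨w, hw⟩ : W) = Submodule.inclusion hWpW ⟨a, ha⟩ + Submodule.inclusion hWmW ⟨b, hb⟩ := by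
          apply Subtype.ext
          simp [hab]
        rw [e1, map_add, map_add]
        have e2 := LinearMap.congr_fun h1 ⟨a, ha⟩
        have e3 := LinearMap.congr_fun h2' ⟨b, hb⟩
        simp only [LinearMap.comp_apply] at e2 e3
        rw [e2, e3]
      have hFmaps : ∀ f ∈ Set.range (fun g : G => res W g.1),
          F f ∈ (Set.range (fun g : G => res Wp g.1)) ×ˢ (Set.range (fun g : G => res Wm g.1)) := by
        rintro _ ⟨g, rfl⟩
        refine ⟨⟨g, ?_⟩, ⟨g, ?_⟩⟩
        · ext w
          rfl
        · ext w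
          rfl
      calc (Set.range (fun g : G => res W g.1)).ncard
          ≤ ((Set.range (fun g : G => res Wp g.1)) ×ˢ (Set.range (fun g : G => res Wm g.1))).ncard :=
            Set.ncard_le_ncard_of_injOn F hFmaps (hFinj.injOn)
              ((Set.finite_range _).prod (Set.finite_range _))
        _ = (Set.range (fun g : G => res Wp g.1)).ncard * (Set.range (fun g : G => res Wm g.1)).ncard :=
            Set.ncard_prod
        _ ≤ 2 ^ Module.finrank K Wp * 2 ^ Module.finrank K Wm := Nat.mul_le_mul ihp ihm
        _ = 2 ^ n := by rw [← pow_add, hdim]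

theorem card_le_two_pow [FiniteDimensional K V] (G : Subgroup (V ≃ₗ[K] V)) [Finite G] (h2 : (2 : K) ≠ 0)
    (hinv : ∀ g ∈ G, ∀ x : V, g (g x) = x)
    (hcomm : ∀ g ∈ G, ∀ h ∈ G, ∀ x : V, g (h x) = h (g x)) :
    Nat.card G ≤ 2 ^ Module.finrank K V := by
  have h := ncard_res_le G h2 hinv hcomm (Module.finrank K V) ⊤ (fun _ _ _ _ => Submodule.mem_top)
    (finrank_top K V)
  have hinj : Function.Injective (fun g : G => res (⊤ : Submodule K V) g.1) := by
    intro g h hgh
    apply Subtype.ext
    ext x
    have := LinearMap.congr_fun hgh ⟨x, Submodule.mem_top⟩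
    exact this
  rw [Set.ncard_range_of_injective hinj] at h
  exact h

end Groth.Agent.Lib.Helper76
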