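import Groth.Agent.Lib.Helper76.ArNF3
import Groth.Agent.Lib.Helper76.PSComplete
import Mathlib.LinearAlgebra.Dimension.Constructions
import Mathlib.LinearAlgebra.Dimension.StrongRankCondition
import Mathlib.LinearAlgebra.Dimension.Free

/-!
# An invariant separating plane curve germs of order `≥ 3` from the `A_n` germs (helper76)

* `c2` toolkit: `ord_iff_c2`, `c2_mon`, `quad`, `c2_quad`, `ord_three_sub_quad`;
* `nu Q`: the ideal generated by the non-units; `HasIndepSq k Q`: there are `u v ∈ nu Q` with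
  `u², uv, v²` linearly independent over `k` modulo `nu Q ^ 3`; invariant under `k`-isomorphism;
* `hasIndepSq_of_ord_three`: `k⟦x,y⟧/J` has it when `J` consists of series of order `≥ 3`;
* `not_hasIndepSq`: `k⟦x,y⟧/J` does not have it when `J` contains a series of order exactly `2`.
-/

set_option autoImplicit false
universe u

namespace Groth.Agent.Lib.Helper76.ArCls

open MvPowerSeries
open Groth.Agent.Lib.Helper76.LT Groth.Agent.Lib.Helper76.PSInv
open Groth.Agent.Lib.Helper76.PSComplete Groth.Agent.Lib.Helper76.ArNF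

section c2tools

variable {k : Type u} [CommRing k]

lemma degree_pr (i j : ℕ) : (pr i j).degree = i + j := by
  unfold pr
  rw [map_add, Finsupp.degree_single, Finsupp.degree_single]

lemma ord_iff_c2 {m : ℕ} {F : MvPowerSeries (Fin 2) k} :
    Ord m F ↔ ∀ i j, i + j < m → c2 F i j = 0 := by
  constructor
  · intro h i j hij
    exact h (pr i j) (by rw [degree_pr]; exact hij)
  · intro h d hd
    have h1 : (pr (d 0) (d 1)).degree = d 0 + d 1 := degree_pr _ _
    rw [← eq_pr d] at h1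
    have h2 := h (d 0) (d 1) (by omega)
    unfold c2 at h2
    rwa [← eq_pr d] at h2

lemma c2_C_mul (c : k) (G : MvPowerSeries (Fin 2) k) (i j : ℕ) :
    c2 (C c * G) i j = c * c2 G i j := by
  unfold c2
  rw [coeff_C_mul]

lemma c2_smul (c : k) (G : MvPowerSeries (Fin 2) k) (i j : ℕ) :
    c2 (c • G) i j = c * c2 G i j := by
  unfold c2
  rw [map_smul, smul_eq_mul]

lemma c2_neg (G : MvPowerSeries (Fin 2) k) (i j : ℕ) : c2 (-G) i j = - c2 G i j := by
  unfold c2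
  rw [map_neg]

lemma c2_one (i j : ℕ) :
    c2 (1 : MvPowerSeries (Fin 2) k) i j = if i = 0 ∧ j = 0 then 1 else 0 := by
  classical
  unfold c2
  rw [coeff_one]
  by_cases h : i = 0 ∧ j = 0
  · obtain ⟨rfl, rfl⟩ := h
    have h00 : pr 0 0 = 0 := by simp [pr]
    rw [if_pos h00, if_pos (And.intro rfl rfl)]
  · rw [if_neg h, if_neg]
    intro h0
    apply h
    have h1 := DFunLike.congr_fun h0 0
    have h2 := DFunLike.congr_fun h0 1
    simp only [pr_apply_zero, pr_apply_one, Finsupp.coe_zero, Pi.zero_apply] at h1 h2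
    exact ⟨h1, h2⟩

lemma c2_X0_pow (p i j : ℕ) :
    c2 ((X 0 : MvPowerSeries (Fin 2) k) ^ p) i j = if i = p ∧ j = 0 then 1 else 0 := by
  have := c2_mul_X0_pow (1 : MvPowerSeries (Fin 2) k) p i j
  rw [one_mul] at this
  rw [this, c2_one]
  by_cases h : i = p ∧ j = 0
  · obtain ⟨rfl, rfl⟩ := h
    simp
  · rw [if_neg h]
    by_cases h1 : p ≤ i
    · rw [if_pos h1, if_neg]
      rintro ⟨h2, h3⟩
      exact h ⟨by omega, h3⟩
    · rw [if_neg h1]

lemma c2_mon (p q i j : ℕ) :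
    c2 ((X 0 : MvPowerSeries (Fin 2) k) ^ p * X 1 ^ q) i j = if i = p ∧ j = q then 1 else 0 := by
  rw [c2_mul_X1_pow]
  by_cases h : i = p ∧ j = q
  · obtain ⟨rfl, rfl⟩ := h
    rw [if_pos le_rfl, c2_X0_pow, if_pos ⟨rfl, Nat.sub_self _⟩, if_pos ⟨rfl, rfl⟩]
  · rw [if_neg h]
    by_cases h1 : q ≤ j
    · rw [if_pos h1, c2_X0_pow, if_neg]
      rintro ⟨h2, h3⟩
      exact h ⟨h2, by omega⟩
    · rw [if_neg h1]

/-- the quadratic form `a x² + b xy + c y²` -/
noncomputable def quad (a b c : k) : MvPowerSeries (Fin 2) k :=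
  C a * (X 0 ^ 2 * X 1 ^ 0) + C b * (X 0 ^ 1 * X 1 ^ 1) + C c * (X 0 ^ 0 * X 1 ^ 2)

lemma quad_eq (a b c : k) :
    quad a b c = C a * X 0 ^ 2 + C b * (X 0 * X 1) + C c * X 1 ^ 2 := by
  unfold quad
  ring

lemma c2_quad (a b c : k) (i j : ℕ) : c2 (quad a b c) i j =
    (if i = 2 ∧ j = 0 then a else 0) + (if i = 1 ∧ j = 1 then b else 0) +
      (if i = 0 ∧ j = 2 then c else 0) := by
  unfold quad
  rw [c2_add, c2_add, c2_C_mul, c2_C_mul, c2_C_mul, c2_mon, c2_mon, c2_mon]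
  simp only [mul_ite, mul_one, mul_zero]

lemma ord_two_quad (a b c : k) : Ord 2 (quad a b c) := by
  rw [ord_iff_c2]
  intro i j hij
  have h1 : ¬(i = 2 ∧ j = 0) := by omega
  have h2 : ¬(i = 1 ∧ j = 1) := by omega
  have h3 : ¬(i = 0 ∧ j = 2) := by omega
  rw [c2_quad, if_neg h1, if_neg h2, if_neg h3]
  simp

lemma quad_zero : quad (0 : k) 0 0 = 0 := by
  unfold quad
  simp

lemma ord_three_sub_quad {F : MvPowerSeries (Fin 2) k} (hF : Ord 2 F) :
    Ord 3 (F - quad (c2 F 2 0) (c2 F 1 1) (c2 F 0 2)) := by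
  rw [ord_iff_c2]
  intro i j hij
  rw [c2_sub, c2_quad]
  have hc : (i = 0 ∧ j = 0) ∨ (i = 1 ∧ j = 0) ∨ (i = 0 ∧ j = 1) ∨ (i = 2 ∧ j = 0) ∨
      (i = 1 ∧ j = 1) ∨ (i = 0 ∧ j = 2) := by omega
  have hF' := ord_iff_c2.mp hF
  rcases hc with ⟨rfl, rfl⟩ | ⟨rfl, rfl⟩ | ⟨rfl, rfl⟩ | ⟨rfl, rfl⟩ | ⟨rfl, rfl⟩ | ⟨rfl, rfl⟩
  · simp [hF' 0 0 (by norm_num)]
  · simp [hF' 1 0 (by norm_num)]
  · simp [hF' 0 1 (by norm_num)]
  · simp
  · simp
  · simp

/-- a series of order `≥ 2` whose three quadratic coefficients vanish has order `≥ 3` -/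
lemma ord_three_of_ord_two {F : MvPowerSeries (Fin 2) k} (hF : Ord 2 F)
    (h20 : c2 F 2 0 = 0) (h11 : c2 F 1 1 = 0) (h02 : c2 F 0 2 = 0) : Ord 3 F := by
  have := ord_three_sub_quad hF
  rwa [h20, h11, h02, quad_zero, sub_zero] at this

lemma constantCoeff_of_mem_span {σ : Type*} {g : MvPowerSeries σ k} (hg : constantCoeff g = 0) :
    ∀ G ∈ Ideal.span {g}, constantCoeff G = 0 := by
  intro G hG
  obtain ⟨a, rfl⟩ := Ideal.mem_span_singleton'.mp hG
  rw [map_mul, hg, mul_zero]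

lemma ord_of_mem_span {σ : Type*} {g : MvPowerSeries σ k} {n : ℕ} (hg : Ord n g) :
    ∀ G ∈ Ideal.span {g}, Ord n G := by
  intro G hG
  obtain ⟨a, rfl⟩ := Ideal.mem_span_singleton'.mp hG
  have := (ord_zero_all a).mul hg
  rwa [zero_add] at this

end c2tools

section nu

/-- the ideal generated by the non-units -/
def nu (Q : Type*) [CommRing Q] : Ideal Q := Ideal.span {a : Q | ¬ IsUnit a}

lemma mem_nu_pow_of_equiv {k Q Q' : Type*} [CommRing k] [CommRing Q] [CommRing Q']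
    [Algebra k Q] [Algebra k Q'] (e : Q ≃ₐ[k] Q') {z : Q} {n : ℕ} (hz : z ∈ nu Q ^ n) :
    e z ∈ nu Q' ^ n := by
  have hle : (nu Q).map e ≤ nu Q' := by
    unfold nu
    rw [Ideal.map_span, Ideal.span_le]
    rintro _ ⟨a, ha, rfl⟩
    refine Ideal.subset_span ?_
    intro hu
    apply ha
    have := hu.map e.symm
    simpa using this
  have h1 : e z ∈ (nu Q ^ n).map e := Ideal.mem_map_of_mem _ hz
  rw [Ideal.map_pow] at h1
  exact Ideal.pow_right_mono hle n h1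

/-- two elements of the radical whose quadratic monomials are independent modulo its cube -/
def HasIndepSq (k : Type*) (Q : Type*) [CommRing k] [CommRing Q] [Algebra k Q] : Prop :=
  ∃ u v : Q, u ∈ nu Q ∧ v ∈ nu Q ∧ ∀ c₀ c₁ c₂ : k,
    algebraMap k Q c₀ * u ^ 2 + algebraMap k Q c₁ * (u * v) + algebraMap k Q c₂ * v ^ 2
      ∈ nu Q ^ 3 → c₀ = 0 ∧ c₁ = 0 ∧ c₂ = 0

lemma HasIndepSq.of_equiv {k Q Q' : Type*} [CommRing k] [CommRing Q] [CommRing Q']
    [Algebra k Q] [Algebra k Q'] (e : Q ≃ₐ[k] Q') (h : HasIndepSq k Q) : HasIndepSq k Q' := by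
  obtain ⟨u, v, hu, hv, h⟩ := h
  refine ⟨e u, e v, ?_, ?_, fun c₀ c₁ c₂ hc => h c₀ c₁ c₂ ?_⟩
  · have := mem_nu_pow_of_equiv e (z := u) (n := 1) (by rwa [pow_one])
    rwa [pow_one] at this
  · have := mem_nu_pow_of_equiv e (z := v) (n := 1) (by rwa [pow_one])
    rwa [pow_one] at this
  · have := mem_nu_pow_of_equiv e.symm hc
    simpa only [map_add, map_mul, map_pow, AlgEquiv.commutes, AlgEquiv.symm_apply_apply]
      using this

end nu

section quot

variable {k : Type u} [Field k]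

local notation "P" => MvPowerSeries (Fin 2) k

lemma mk_C (J : Ideal P) (c : k) :
    Ideal.Quotient.mk J (C c : P) = algebraMap k (P ⧸ J) c := rfl

lemma not_isUnit_mk {J : Ideal P} (hJ : ∀ G ∈ J, constantCoeff G = 0) {Z : P}
    (hZ : constantCoeff Z = 0) : ¬ IsUnit (Ideal.Quotient.mk J Z) := by
  intro hu
  obtain ⟨w, hw⟩ := hu.exists_right_inv
  obtain ⟨W, rfl⟩ := Ideal.Quotient.mk_surjective w
  rw [← map_mul, ← map_one (Ideal.Quotient.mk J), Ideal.Quotient.eq] at hw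
  have := hJ _ hw
  rw [map_sub, map_mul, hZ, zero_mul, map_one, zero_sub] at this
  exact one_ne_zero (neg_eq_zero.mp this)

lemma nu_eq {J : Ideal P} (hJ : ∀ G ∈ J, constantCoeff G = 0) :
    nu (P ⧸ J) = (varIdeal (Fin 2) k).map (Ideal.Quotient.mk J) := by
  apply le_antisymm
  · unfold nu
    rw [Ideal.span_le]
    intro a ha
    obtain ⟨A, rfl⟩ := Ideal.Quotient.mk_surjective a
    have hA : constantCoeff A = 0 := by
      by_contra h0
      apply ha
      have : IsUnit A := by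
        rw [MvPowerSeries.isUnit_iff_constantCoeff]
        exact IsUnit.mk0 _ h0
      exact this.map (Ideal.Quotient.mk J)
    refine Ideal.mem_map_of_mem _ ?_
    have : A ∈ varIdeal (Fin 2) k ^ 1 := mem_varIdeal_pow_iff.mpr (ord_one_iff.mpr hA)
    rwa [pow_one] at this
  · rw [Ideal.map_le_iff_le_comap]
    intro Z hZ
    rw [Ideal.mem_comap]
    refine Ideal.subset_span ?_
    have hZ1 : Z ∈ varIdeal (Fin 2) k ^ 1 := by rwa [pow_one]
    exact not_isUnit_mk hJ (ord_one_iff.mp (mem_varIdeal_pow_iff.mp hZ1))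

lemma mem_nu_pow_iff {J : Ideal P} (hJ : ∀ G ∈ J, constantCoeff G = 0) {n : ℕ} {z : P ⧸ J} :
    z ∈ nu (P ⧸ J) ^ n ↔ ∃ Z : P, Ord n Z ∧ Ideal.Quotient.mk J Z = z := by
  rw [nu_eq hJ, ← Ideal.map_pow,
    Ideal.mem_map_iff_of_surjective _ Ideal.Quotient.mk_surjective]
  constructor
  · rintro ⟨Z, hZ, rfl⟩
    exact ⟨Z, mem_varIdeal_pow_iff.mp hZ, rfl⟩
  · rintro ⟨Z, hZ, rfl⟩
    exact ⟨Z, mem_varIdeal_pow_iff.mpr hZ, rfl⟩

theorem hasIndepSq_of_ord_three {J : Ideal P} (hJ3 : ∀ G ∈ J, Ord 3 G) :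
    HasIndepSq k (P ⧸ J) := by
  have hJ : ∀ G ∈ J, constantCoeff G = 0 :=
    fun G hG => (hJ3 G hG).constantCoeff_eq_zero (by norm_num)
  refine ⟨Ideal.Quotient.mk J (X 0), Ideal.Quotient.mk J (X 1), ?_, ?_, ?_⟩
  · have : Ideal.Quotient.mk J (X 0) ∈ nu (P ⧸ J) ^ 1 :=
      (mem_nu_pow_iff hJ).mpr ⟨X 0, ord_one_iff.mpr (constantCoeff_X 0), rfl⟩
    rwa [pow_one] at this
  · have : Ideal.Quotient.mk J (X 1) ∈ nu (P ⧸ J) ^ 1 :=
      (mem_nu_pow_iff hJ).mpr ⟨X 1, ord_one_iff.mpr (constantCoeff_X 1), rfl⟩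
    rwa [pow_one] at this
  · intro c₀ c₁ c₂ hc
    obtain ⟨Z, hZ, hZe⟩ := (mem_nu_pow_iff hJ).mp hc
    have hq : Ideal.Quotient.mk J (quad c₀ c₁ c₂) =
        algebraMap k (P ⧸ J) c₀ * Ideal.Quotient.mk J (X 0) ^ 2 +
          algebraMap k (P ⧸ J) c₁ * (Ideal.Quotient.mk J (X 0) * Ideal.Quotient.mk J (X 1)) +
          algebraMap k (P ⧸ J) c₂ * Ideal.Quotient.mk J (X 1) ^ 2 := by
      rw [quad_eq, map_add, map_add, map_mul, map_mul, map_mul, map_mul, map_pow, map_pow,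
        mk_C, mk_C, mk_C]
    rw [← hq, Ideal.Quotient.eq] at hZe
    have h3 : Ord 3 (quad c₀ c₁ c₂) := by
      have := hZ.sub (hJ3 _ hZe)
      rwa [sub_sub_cancel] at this
    have h := ord_iff_c2.mp h3
    refine ⟨?_, ?_, ?_⟩
    · have := h 2 0 (by norm_num)
      rw [c2_quad] at this
      simpa using this
    · have := h 1 1 (by norm_num)
      rw [c2_quad] at this
      simpa using this
    · have := h 0 2 (by norm_num)
      rw [c2_quad] at this
      simpa using this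

theorem not_hasIndepSq {J : Ideal P} (hJ : ∀ G ∈ J, constantCoeff G = 0) {R : P}
    (hRJ : R ∈ J) (hR2 : Ord 2 R) (hR3 : ¬ Ord 3 R) : ¬ HasIndepSq k (P ⧸ J) := by
  rintro ⟨u, v, hu, hv, h⟩
  obtain ⟨U, hU, rfl⟩ : ∃ U : P, Ord 1 U ∧ Ideal.Quotient.mk J U = u := by
    have : u ∈ nu (P ⧸ J) ^ 1 := by rwa [pow_one]
    exact (mem_nu_pow_iff hJ).mp this
  obtain ⟨V, hV, rfl⟩ : ∃ V : P, Ord 1 V ∧ Ideal.Quotient.mk J V = v := by
    have : v ∈ nu (P ⧸ J) ^ 1 := by rwa [pow_one]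
    exact (mem_nu_pow_iff hJ).mp this
  have hUU : Ord 2 (U ^ 2) := by rw [pow_two]; exact hU.mul hU
  have hUV : Ord 2 (U * V) := hU.mul hV
  have hVV : Ord 2 (V ^ 2) := by rw [pow_two]; exact hV.mul hV
  let Gs : Fin 4 → P := ![U ^ 2, U * V, V ^ 2, R]
  let ψ : (Fin 4 → k) →ₗ[k] P := Fintype.linearCombination k Gs
  let π : P →ₗ[k] (Fin 3 → k) :=
    LinearMap.pi (fun t : Fin 3 => (coeff (![pr 2 0, pr 1 1, pr 0 2] t) : P →ₗ[k] k))
  have hni : ¬ Function.Injective (π ∘ₗ ψ) := by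
    intro hinj
    have := LinearMap.finrank_le_finrank_of_injective hinj
    rw [Module.finrank_fin_fun, Module.finrank_fin_fun] at this
    omega
  have hex : ∃ c ∈ LinearMap.ker (π ∘ₗ ψ), c ≠ 0 := by
    by_contra hcon
    apply hni
    rw [← LinearMap.ker_eq_bot, Submodule.eq_bot_iff]
    intro x hx
    by_contra hx0
    exact hcon ⟨x, hx, hx0⟩
  obtain ⟨c, hc, hc0⟩ := hex
  have hG : ψ c = c 0 • U ^ 2 + c 1 • (U * V) + c 2 • V ^ 2 + c 3 • R := by
    show ∑ i, c i • Gs i = _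
    rw [Fin.sum_univ_four]
    rfl
  have hc' : (π ∘ₗ ψ) c = 0 := LinearMap.mem_ker.mp hc
  have e20 : c2 (ψ c) 2 0 = 0 := congrFun hc' 0
  have e11 : c2 (ψ c) 1 1 = 0 := congrFun hc' 1
  have e02 : c2 (ψ c) 0 2 = 0 := congrFun hc' 2
  have hO2 : Ord 2 (ψ c) := by
    rw [hG]
    exact (((hUU.smul _).add (hUV.smul _)).add (hVV.smul _)).add (hR2.smul _)
  have hO3 : Ord 3 (ψ c) := ord_three_of_ord_two hO2 e20 e11 e02
  have hmk : Ideal.Quotient.mk J (ψ c) =
      algebraMap k (P ⧸ J) (c 0) * Ideal.Quotient.mk J U ^ 2 +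
        algebraMap k (P ⧸ J) (c 1) * (Ideal.Quotient.mk J U * Ideal.Quotient.mk J V) +
        algebraMap k (P ⧸ J) (c 2) * Ideal.Quotient.mk J V ^ 2 := by
    rw [hG]
    simp only [smul_eq_C_mul, map_add, map_mul, map_pow, mk_C]
    rw [Ideal.Quotient.eq_zero_iff_mem.mpr hRJ, mul_zero, add_zero]
  obtain ⟨h0, h1, h2⟩ := h (c 0) (c 1) (c 2) (by
    rw [← hmk]
    exact (mem_nu_pow_iff hJ).mpr ⟨ψ c, hO3, rfl⟩)
  have h3 : c 3 ≠ 0 := by
    intro h3
    apply hc0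
    funext i
    fin_cases i
    · exact h0
    · exact h1
    · exact h2
    · exact h3
  apply hR3
  rw [hG, h0, h1, h2, zero_smul, zero_smul, zero_smul, zero_add, zero_add, zero_add] at hO3
  have := hO3.smul (c 3)⁻¹
  rwa [smul_smul, inv_mul_cancel₀ h3, one_smul] at this

end quot

section examples

variable {k : Type u} [Field k]

local notation "P" => MvPowerSeries (Fin 2) k

lemma c2_eqn (n i j : ℕ) : c2 (ArSing.eqn k n) i j =
    (if i = 0 ∧ j = 2 then 1 else 0) - (if i = n + 1 ∧ j = 0 then 1 else 0) := by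
  have : ArSing.eqn k n = X 0 ^ 0 * X 1 ^ 2 - X 0 ^ (n + 1) * X 1 ^ 0 := by
    unfold ArSing.eqn
    ring
  rw [this, c2_sub, c2_mon, c2_mon]

lemma constantCoeff_eqn (n : ℕ) : constantCoeff (ArSing.eqn k n) = 0 := by
  simp [ArSing.eqn]

theorem not_hasIndepSq_ring (n : ℕ) : ¬ HasIndepSq k (ArSing.ring k n) := by
  have hJ := constantCoeff_of_mem_span (constantCoeff_eqn (k := k) n)
  rcases Nat.eq_zero_or_pos n with rfl | hn
  · -- the smooth germ: use `x · (y² - x)`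
    refine not_hasIndepSq hJ (R := X 0 * ArSing.eqn k 0)
      (Ideal.mul_mem_left _ _ (Ideal.mem_span_singleton_self _)) ?_ ?_
    · exact (ord_one_iff.mpr (constantCoeff_X 0)).mul (ord_one_iff.mpr (constantCoeff_eqn 0))
    · intro h3
      have := ord_iff_c2.mp h3 2 0 (by norm_num)
      have hR : (X 0 * ArSing.eqn k 0 : P) = X 0 ^ 1 * X 1 ^ 2 - X 0 ^ 2 * X 1 ^ 0 := by
        unfold ArSing.eqn
        ring
      rw [hR, c2_sub, c2_mon, c2_mon] at this
      simp at this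
  · refine not_hasIndepSq hJ (R := ArSing.eqn k n) (Ideal.mem_span_singleton_self _) ?_ ?_
    · rw [ord_iff_c2]
      intro i j hij
      have h1 : ¬(i = 0 ∧ j = 2) := by omega
      have h2 : ¬(i = n + 1 ∧ j = 0) := by omega
      rw [c2_eqn, if_neg h1, if_neg h2, sub_zero]
    · intro h3
      have := ord_iff_c2.mp h3 0 2 (by norm_num)
      rw [c2_eqn] at this
      simp at this

theorem not_hasIndepSq_dbl :
    ¬ HasIndepSq k (P ⧸ Ideal.span {(X 1 : P) ^ 2}) := by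
  have h0 : constantCoeff ((X 1 : P) ^ 2) = 0 := by simp
  have hR : ((X 1 : P) ^ 2) = X 0 ^ 0 * X 1 ^ 2 := by ring
  refine not_hasIndepSq (constantCoeff_of_mem_span h0) (R := (X 1 : P) ^ 2)
    (Ideal.mem_span_singleton_self _) ?_ ?_
  · exact Ord.pow_of_constantCoeff (constantCoeff_X 1) 2
  · intro h3
    have := ord_iff_c2.mp h3 0 2 (by norm_num)
    rw [hR, c2_mon] at this
    simp at this

end examples

end Groth.Agent.Lib.Helper76.ArCls
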