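import Groth.Agent.Lib.Helper76.PSJac

/-!
# Calculus of linear coefficients, and n-th roots of power series
-/

set_option autoImplicit false
universe u v

namespace Groth.Agent.Lib.Helper76.PSInv

open MvPowerSeries
open Groth.Agent.Lib.Helper76.LT

variable {σ : Type*} {R : Type*} [CommRing R]

lemma coeff_single_C (t : σ) (a : R) :
    coeff (Finsupp.single t 1) (C a : MvPowerSeries σ R) = 0 := by
  classical
  rw [coeff_C, if_neg]
  simp

lemma coeff_single_one (t : σ) :
    coeff (Finsupp.single t 1) (1 : MvPowerSeries σ R) = 0 := by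
  rw [← map_one (C (σ := σ) (R := R))]
  exact coeff_single_C t 1

/-- Leibniz rule at the origin -/
lemma coeff_single_mul (A B : MvPowerSeries σ R) (t : σ) :
    coeff (Finsupp.single t 1) (A * B) =
      constantCoeff A * coeff (Finsupp.single t 1) B +
        coeff (Finsupp.single t 1) A * constantCoeff B := by
  have e : A * B = A * (B - C (constantCoeff B)) + A * C (constantCoeff B) := by ring
  rw [e, map_add, coeff_single_mul_of_constantCoeff A (by simp), coeff_mul_C, map_sub,
    coeff_single_C, sub_zero]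

lemma coeff_single_pow (A : MvPowerSeries σ R) (t : σ) (n : ℕ) :
    coeff (Finsupp.single t 1) (A ^ n) =
      n * constantCoeff A ^ (n - 1) * coeff (Finsupp.single t 1) A := by
  induction n with
  | zero => simp [coeff_single_one]
  | succ n ih =>
    rw [pow_succ, coeff_single_mul, ih, map_pow]
    rcases n with _ | n
    · simp
    · simp only [Nat.add_sub_cancel, Nat.cast_add, Nat.cast_one]
      rw [pow_succ (constantCoeff A) n]
      ring

/-- n-th roots of `1 + W` when `n` is invertible. -/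
theorem exists_pow_eq_one_add {n : ℕ} (hn : IsUnit (n : R))
    {W : MvPowerSeries σ R} (hW : constantCoeff W = 0) :
    ∃ w : MvPowerSeries σ R, constantCoeff w = 0 ∧ (1 + w) ^ n = 1 + W := by
  obtain ⟨ν, hν⟩ := hn
  -- geometric sum
  let S : MvPowerSeries σ R → MvPowerSeries σ R → MvPowerSeries σ R :=
    fun a b => ∑ i ∈ Finset.range n, a ^ i * b ^ (n - 1 - i)
  have hS : ∀ a b : MvPowerSeries σ R, a ^ n - b ^ n = (a - b) * S a b := by
    intro a b
    have := Commute.geom_sum₂_mul (Commute.all a b) n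
    rw [← this]; ring
  have hS0 : ∀ a b : MvPowerSeries σ R, constantCoeff a = 1 → constantCoeff b = 1 →
      constantCoeff (S a b - C (n : R)) = 0 := by
    intro a b ha hb
    simp only [S, map_sub, map_sum, map_mul, map_pow, ha, hb, one_pow, mul_one,
      Finset.sum_const, Finset.card_range, constantCoeff_C]
    simp
  let T : MvPowerSeries σ R → MvPowerSeries σ R := fun w => (1 + w) ^ n - (1 + W)
  have hTdiff : ∀ w Δ : MvPowerSeries σ R, T (w + Δ) - T w = Δ * S (1 + (w + Δ)) (1 + w) := by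
    intro w Δ
    have h := hS (1 + (w + Δ)) (1 + w)
    have e : (1 + (w + Δ)) - (1 + w) = Δ := by ring
    rw [e] at h
    simp only [T]
    rw [← h]; ring
  have hcont : ∀ (m : ℕ) (H Δ : MvPowerSeries σ R), constantCoeff H = 0 → 1 ≤ m → Ord m Δ →
      Ord m (T (H + Δ) - T H) := by
    intro m H Δ _ _ hΔ
    rw [hTdiff]
    simpa using hΔ.mul (ord_zero_all (S (1 + (H + Δ)) (1 + H)))
  have hstep : ∀ (r : ℕ) (H : MvPowerSeries σ R), 1 ≤ r → constantCoeff H = 0 →
      Ord (r + 1) (T H) → ∃ Δ, Ord (r + 1) Δ ∧ Ord (r + 2) (T (H + Δ)) := by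
    intro r H _ hH hTH
    have hΔ : Ord (r + 1) (-(C (↑ν⁻¹ : R) * T H)) := by
      have := (ord_zero_all (C (↑ν⁻¹ : R) : MvPowerSeries σ R)).mul hTH
      simpa using this.neg
    refine ⟨_, hΔ, ?_⟩
    set Δ := -(C (↑ν⁻¹ : R) * T H) with hΔdef
    have hΔ0 : constantCoeff Δ = 0 := hΔ.constantCoeff_eq_zero (by omega)
    have h1 : Ord (r + 1 + 1) (Δ * (S (1 + (H + Δ)) (1 + H) - C (n : R))) :=
      hΔ.mul (ord_one_iff.mpr (hS0 _ _ (by simp [hH, hΔ0]) (by simp [hH])))
    have hCn : C (n : R) * C (↑ν⁻¹ : R) = (1 : MvPowerSeries σ R) := by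
      rw [← map_mul, ← hν, Units.mul_inv, map_one]
    have e : T (H + Δ) = Δ * (S (1 + (H + Δ)) (1 + H) - C (n : R)) := by
      have h2 := hTdiff H Δ
      have h3 : T (H + Δ) = T H + Δ * S (1 + (H + Δ)) (1 + H) := by rw [← h2]; ring
      rw [h3, mul_sub]
      have : Δ * C (n : R) = -T H := by
        rw [hΔdef]
        calc -(C (↑ν⁻¹ : R) * T H) * C (n : R) = -((C (n : R) * C (↑ν⁻¹ : R)) * T H) := by ring
          _ = -T H := by rw [hCn, one_mul]
      rw [this]; ring
    rw [e]
    exact h1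
  let H₀ : MvPowerSeries σ R := C (↑ν⁻¹ : R) * W
  have hH₀ : constantCoeff H₀ = 0 := by simp [H₀, hW]
  have h0 : Ord 2 (T H₀) := by
    have h1 := hS (1 + H₀) 1
    have hCn : C (n : R) * C (↑ν⁻¹ : R) = (1 : MvPowerSeries σ R) := by
      rw [← map_mul, ← hν, Units.mul_inv, map_one]
    have e : T H₀ = H₀ * (S (1 + H₀) 1 - C (n : R)) := by
      have h2 : (1 + H₀) ^ n - 1 = H₀ * S (1 + H₀) 1 := by
        have e' : (1 + H₀) - 1 = H₀ := by ring
        rw [e', one_pow] at h1
        exact h1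
      have h3 : H₀ * C (n : R) = W := by
        show C (↑ν⁻¹ : R) * W * C (n : R) = W
        calc C (↑ν⁻¹ : R) * W * C (n : R) = (C (n : R) * C (↑ν⁻¹ : R)) * W := by ring
          _ = W := by rw [hCn, one_mul]
      simp only [T]
      rw [mul_sub, h3, ← h2]; ring
    rw [e]
    exact (ord_one_iff.mpr hH₀).mul (ord_one_iff.mpr (hS0 _ _ (by simp [hH₀]) (by simp)))
  obtain ⟨w, hw0, _, hTw⟩ := exists_limit T hcont hstep H₀ hH₀ h0
  exact ⟨w, hw0, sub_eq_zero.mp hTw⟩

end Groth.Agent.Lib.Helper76.PSInv
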