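import Groth.Agent.Lib.Helper76.ArCls
import Groth.Agent.Lib.Helper76.PSCRing
import Groth.Agent.Lib.Helper76.PSDeriv
import Mathlib.RingTheory.PowerSeries.WeierstrassPreparation
import Mathlib.RingTheory.MvPowerSeries.Equiv
import Mathlib.FieldTheory.IsAlgClosed.Basic

/-!
# Classification of plane curve germs of order `≤ 2` (helper76)

For `k` algebraically closed with `2 ≠ 0` and `F ∈ k⟦x,y⟧` without constant term and not of
order `≥ 3`, the algebra `k⟦x,y⟧/(F)` is isomorphic to `k⟦x,y⟧/(y² - x^(n+1))` for some `n`, or to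
`k⟦x,y⟧/(y²)` (`classify`).  Together with the invariant of `ArCls` this gives `main`.

Route: shear so that the `x²`-coefficient is non-zero, Weierstrass preparation in `x` over
`k⟦y⟧` (Mathlib), completion of the square and extraction of a square root of a unit.
-/

set_option autoImplicit false
universe u

namespace Groth.Agent.Lib.Helper76.ArCls

open MvPowerSeries
open Groth.Agent.Lib.Helper76.LT Groth.Agent.Lib.Helper76.PSInv
open Groth.Agent.Lib.Helper76.PSComplete Groth.Agent.Lib.Helper76.ArNF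

section general

/-- an isomorphism carrying a generator to a unit multiple of a generator induces an isomorphism
of the quotients -/
theorem quot_equiv {k A B : Type*} [CommRing k] [CommRing A] [CommRing B] [Algebra k A]
    [Algebra k B] (Φ : A ≃ₐ[k] B) (g : A) (g' u : B) (hu : IsUnit u) (h : Φ g = u * g') :
    Nonempty ((A ⧸ Ideal.span {g}) ≃ₐ[k] (B ⧸ Ideal.span {g'})) := by
  refine ⟨Ideal.quotientEquivAlg _ _ Φ ?_⟩
  rw [Ideal.map_span, Set.image_singleton]
  have : ((Φ : A →+* B) g) = u * g' := h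
  rw [this, Ideal.span_singleton_mul_left_unit hu]

end general

section twoVar

variable {k : Type u} [Field k]

local notation "P" => MvPowerSeries (Fin 2) k

/-- order `1` exactly: the smooth germ -/
theorem caseA {F L : P} (hF : constantCoeff F = 0) (hL : constantCoeff L = 0)
    (hdet : IsUnit (jac ![L ^ 2 - F, L]).det) :
    Nonempty ((P ⧸ Ideal.span {F}) ≃ₐ[k] ArSing.ring k 0) := by
  have hy : ∀ s, constantCoeff ((![L ^ 2 - F, L] : Fin 2 → P) s) = 0 := by
    intro s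
    fin_cases s <;> simp [hF, hL]
  have hsy : HasSubst (![L ^ 2 - F, L] : Fin 2 → P) := hasSubst_of_constantCoeff_zero hy
  obtain ⟨e⟩ := quot_equiv (substEquiv hy hdet) (ArSing.eqn k 0) F 1 isUnit_one (by
    rw [substEquiv_apply, ArSing.eqn, subst_sub hsy, subst_pow hsy, subst_pow hsy, subst_X hsy,
      subst_X hsy]
    simp)
  exact ⟨e.symm⟩

theorem caseA_of_not_ord {F : P} (hF : constantCoeff F = 0) (hF2 : ¬ Ord 2 F) :
    Nonempty ((P ⧸ Ideal.span {F}) ≃ₐ[k] ArSing.ring k 0) := by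
  classical
  have hex : ∃ s : Fin 2, coeff (Finsupp.single s 1) F ≠ 0 := by
    by_contra hcon
    apply hF2
    rw [ord_two_iff]
    refine ⟨hF, fun s => ?_⟩
    by_contra hs
    exact hcon ⟨s, hs⟩
  obtain ⟨s, hs⟩ := hex
  fin_cases s
  · refine caseA hF (L := X 1) (constantCoeff_X 1) ?_
    have hdet : (jac ![X 1 ^ 2 - F, X 1]).det = - coeff (Finsupp.single 0 1) F := by
      rw [Matrix.det_fin_two]
      simp [jac, coeff_single_pow, coeff_index_single_X]
    rw [hdet]
    exact IsUnit.mk0 _ (neg_ne_zero.mpr hs)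
  · refine caseA hF (L := X 0) (constantCoeff_X 0) ?_
    have hdet : (jac ![X 0 ^ 2 - F, X 0]).det = coeff (Finsupp.single 1 1) F := by
      rw [Matrix.det_fin_two]
      simp [jac, coeff_single_pow, coeff_index_single_X]
    rw [hdet]
    exact IsUnit.mk0 _ hs

/-- a shear making the `x²`-coefficient non-zero -/
theorem exists_shear (h2 : (2 : k) ≠ 0) {F : P} (hF2 : Ord 2 F) (hF3 : ¬ Ord 3 F) :
    ∃ Φ : P ≃ₐ[k] P, Ord 2 (Φ F) ∧ c2 (Φ F) 2 0 ≠ 0 := by
  classical
  have habc : ¬ (c2 F 2 0 = 0 ∧ c2 F 1 1 = 0 ∧ c2 F 0 2 = 0) := by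
    rintro ⟨ha, hb, hc⟩
    exact hF3 (ord_three_of_ord_two hF2 ha hb hc)
  obtain ⟨t, ht⟩ : ∃ t : k, c2 F 2 0 + c2 F 1 1 * t + c2 F 0 2 * t ^ 2 ≠ 0 := by
    by_contra hcon
    have hall : ∀ t : k, c2 F 2 0 + c2 F 1 1 * t + c2 F 0 2 * t ^ 2 = 0 := by
      intro t
      by_contra ht
      exact hcon ⟨t, ht⟩
    have e0 := hall 0
    have e1 := hall 1
    have e2 := hall (-1)
    apply habc
    have ha : c2 F 2 0 = 0 := by simpa using e0
    have hc : c2 F 0 2 = 0 := by
      have : 2 * c2 F 0 2 = 0 := by linear_combination e1 + e2 - 2 * e0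
      rcases mul_eq_zero.mp this with h | h
      · exact absurd h h2
      · exact h
    have hb : c2 F 1 1 = 0 := by linear_combination e1 - ha - hc
    exact ⟨ha, hb, hc⟩
  have hy : ∀ s, constantCoeff ((![X 0, C t * X 0 + X 1] : Fin 2 → P) s) = 0 := by
    intro s
    fin_cases s <;> simp
  have hJ : IsUnit (jac (![X 0, C t * X 0 + X 1] : Fin 2 → P)).det := by
    have : (jac (![X 0, C t * X 0 + X 1] : Fin 2 → P)).det = 1 := by
      rw [Matrix.det_fin_two]
      simp [jac, coeff_index_single_X]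
    rw [this]
    exact isUnit_one
  have hsy : HasSubst (![X 0, C t * X 0 + X 1] : Fin 2 → P) := hasSubst_of_constantCoeff_zero hy
  refine ⟨substEquiv hy hJ, ?_, ?_⟩
  · rw [substEquiv_apply]
    exact ord_subst hy hF2
  · rw [substEquiv_apply]
    have hF3o : Ord 3 (F - quad (c2 F 2 0) (c2 F 1 1) (c2 F 0 2)) := ord_three_sub_quad hF2
    have hFd : F = quad (c2 F 2 0) (c2 F 1 1) (c2 F 0 2) +
        (F - quad (c2 F 2 0) (c2 F 1 1) (c2 F 0 2)) := by ring
    have h1 : c2 (subst (![X 0, C t * X 0 + X 1] : Fin 2 → P)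
        (F - quad (c2 F 2 0) (c2 F 1 1) (c2 F 0 2))) 2 0 = 0 :=
      ord_iff_c2.mp (ord_subst hy hF3o) 2 0 (by norm_num)
    have h2' : ∀ a b c : k, subst (![X 0, C t * X 0 + X 1] : Fin 2 → P) (quad a b c) =
        quad (a + b * t + c * t ^ 2) (b + 2 * c * t) c := by
      intro a b c
      rw [quad_eq, quad_eq, subst_add hsy, subst_add hsy, subst_mul hsy, subst_mul hsy,
        subst_mul hsy, subst_mul hsy, subst_pow hsy, subst_pow hsy, subst_X hsy, subst_X hsy,
        subst_C, subst_C, subst_C]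
      simp only [Matrix.cons_val_zero, Matrix.cons_val_one, Matrix.head_cons, map_add, map_mul,
        map_pow, map_ofNat]
      ring
    rw [hFd, subst_add hsy, c2_add, h1, h2', c2_quad]
    simpa using ht

/-- the swap of the two variables -/
theorem exists_swap : ∃ σ : P ≃ₐ[k] P, σ (X 0) = X 1 ∧ σ (X 1) = X 0 := by
  classical
  have hy : ∀ s, constantCoeff ((![X 1, X 0] : Fin 2 → P) s) = 0 := by
    intro s
    fin_cases s <;> simp
  have hJ : IsUnit (jac (![X 1, X 0] : Fin 2 → P)).det := by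
    have : (jac (![X 1, X 0] : Fin 2 → P)).det = -1 := by
      rw [Matrix.det_fin_two]
      simp [jac, coeff_index_single_X]
    rw [this]
    exact isUnit_one.neg
  have hsy : HasSubst (![X 1, X 0] : Fin 2 → P) := hasSubst_of_constantCoeff_zero hy
  refine ⟨substEquiv hy hJ, ?_, ?_⟩
  · rw [substEquiv_apply, subst_X hsy]
    rfl
  · rw [substEquiv_apply, subst_X hsy]
    rfl

theorem swap_ring (n : ℕ) :
    Nonempty (ArSing.ring k n ≃ₐ[k] (P ⧸ Ideal.span {(X 0 : P) ^ 2 - X 1 ^ (n + 1)})) := by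
  obtain ⟨σ, h0, h1⟩ := exists_swap (k := k)
  exact quot_equiv σ (ArSing.eqn k n) _ 1 isUnit_one (by
    rw [one_mul, ArSing.eqn, map_sub, map_pow, map_pow, h0, h1])

theorem swap_dbl :
    Nonempty ((P ⧸ Ideal.span {(X 1 : P) ^ 2}) ≃ₐ[k] (P ⧸ Ideal.span {(X 0 : P) ^ 2})) := by
  obtain ⟨σ, h0, h1⟩ := exists_swap (k := k)
  exact quot_equiv σ _ _ 1 isUnit_one (by rw [one_mul, map_pow, h1])

end twoVar

section oneVar

variable {k : Type u} [Field k]

local notation "A" => MvPowerSeries (Fin 1) k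

lemma eq_single (x : Fin 1 →₀ ℕ) : x = Finsupp.single 0 (x 0) := by
  refine Finsupp.ext fun a => ?_
  obtain rfl : a = 0 := Subsingleton.elim _ _
  simp

lemma exists_X_pow_mul {h : A} (hh : h ≠ 0) :
    ∃ (m : ℕ) (ε : A), h = X 0 ^ m * ε ∧ constantCoeff ε ≠ 0 := by
  classical
  have hex : ∃ n, coeff (Finsupp.single 0 n) h ≠ 0 := by
    by_contra hcon
    apply hh
    ext x
    rw [(coeff x).map_zero, eq_single x]
    by_contra hx
    exact hcon ⟨_, hx⟩
  have hm := Nat.find_spec hex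
  have hmin : ∀ n < Nat.find hex, coeff (Finsupp.single 0 n) h = 0 :=
    fun n hn => not_not.mp (Nat.find_min hex hn)
  have hdvd : (X 0 : A) ^ Nat.find hex ∣ h := by
    rw [X_pow_dvd_iff]
    intro x hx
    rw [eq_single x]
    exact hmin _ hx
  obtain ⟨ε, hε⟩ := hdvd
  refine ⟨Nat.find hex, ε, hε, fun h0 => ?_⟩
  have h1 : (X 0 : A) ∣ ε := by
    rw [X_dvd_iff]
    intro x hx
    have : x = 0 := by
      rw [eq_single x, hx]
      simp
    subst this
    simpa using h0
  obtain ⟨ε', rfl⟩ := h1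
  have h2 : (X 0 : A) ^ (Nat.find hex + 1) ∣ h := ⟨ε', by rw [pow_succ, mul_assoc]; exact hε⟩
  rw [X_pow_dvd_iff] at h2
  exact hm (h2 (Finsupp.single 0 (Nat.find hex)) (by simp))

lemma exists_sq_eq [IsAlgClosed k] (h2 : (2 : k) ≠ 0) {σ : Type*} {ε : MvPowerSeries σ k}
    (hε : constantCoeff ε ≠ 0) : ∃ ρ : MvPowerSeries σ k, ρ ^ 2 = ε ∧ IsUnit ρ := by
  obtain ⟨r, hr⟩ := IsAlgClosed.exists_pow_nat_eq (constantCoeff ε) (n := 2) (by norm_num)
  have hr0 : r ≠ 0 := by
    rintro rfl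
    apply hε
    rw [← hr]
    simp
  have hW : constantCoeff (C (constantCoeff ε)⁻¹ * ε - 1) = 0 := by
    rw [map_sub, map_mul, constantCoeff_C, map_one, inv_mul_cancel₀ hε, sub_self]
  have h2u : IsUnit ((2 : ℕ) : k) := by
    rw [Nat.cast_ofNat]
    exact IsUnit.mk0 _ h2
  obtain ⟨w, hw0, hw⟩ := exists_pow_eq_one_add h2u hW
  refine ⟨C r * (1 + w), ?_, ?_⟩
  · rw [mul_pow, hw, ← map_pow, hr]
    have : (C (constantCoeff ε) : MvPowerSeries σ k) * C (constantCoeff ε)⁻¹ = 1 := by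
      rw [← map_mul, mul_inv_cancel₀ hε, map_one]
    linear_combination ε * this
  · rw [MvPowerSeries.isUnit_iff_constantCoeff, map_mul, constantCoeff_C, map_add, map_one, hw0,
      add_zero, mul_one]
    exact IsUnit.mk0 _ hr0

/-- normal form of a monic quadratic polynomial over `k⟦y⟧` with non-unit lower coefficients -/
theorem poly_nf [IsAlgClosed k] (h2 : (2 : k) ≠ 0) (f : Polynomial A) (hmonic : f.Monic)
    (hdeg : f.natDegree = 2) (h1 : constantCoeff (f.coeff 1) = 0)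
    (h0 : constantCoeff (f.coeff 0) = 0) :
    ∃ c : A, (c = 0 ∨ ∃ m : ℕ, 1 ≤ m ∧ c = X 0 ^ m) ∧
      Nonempty ((Polynomial A ⧸ Ideal.span {f}) ≃ₐ[A]
        (Polynomial A ⧸ Ideal.span {(Polynomial.X ^ 2 - Polynomial.C c : Polynomial A)})) := by
  have hf_eq : f = Polynomial.X ^ 2 + Polynomial.C (f.coeff 1) * Polynomial.X +
      Polynomial.C (f.coeff 0) := by
    ext n
    rcases n with _ | _ | _ | n
    · simp
    · simp
    · have : f.coeff 2 = 1 := by
        rw [← hdeg]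
        exact hmonic.coeff_natDegree
      simp [this]
    · have : f.coeff (n + 3) = 0 := Polynomial.coeff_eq_zero_of_natDegree_lt (by omega)
      simp [this, Polynomial.coeff_X_pow, Polynomial.coeff_X, Polynomial.coeff_C]
  obtain ⟨half, hhalf⟩ : ∃ half : A, (2 : A) * half = 1 := by
    refine ⟨C (2⁻¹ : k), ?_⟩
    have : (2 : A) = C (2 : k) := by rw [map_ofNat]
    rw [this, ← map_mul, mul_inv_cancel₀ h2, map_one]
  obtain ⟨t, ht⟩ : ∃ t : A, t = -(half * f.coeff 1) := ⟨_, rfl⟩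
  have ht2 : 2 * t + f.coeff 1 = 0 := by
    rw [ht]
    linear_combination (-(f.coeff 1)) * hhalf
  have ht0 : constantCoeff t = 0 := by
    rw [ht, map_neg, map_mul, h1, mul_zero, neg_zero]
  obtain ⟨h', hh'⟩ : ∃ h' : A, h' = -(t ^ 2 + f.coeff 1 * t + f.coeff 0) := ⟨_, rfl⟩
  have hh'0 : constantCoeff h' = 0 := by
    rw [hh', map_neg, map_add, map_add, map_pow, map_mul, ht0, h1, h0]
    simp
  have hΨ₁ : Polynomial.algEquivAevalXAddC t f = Polynomial.X ^ 2 - Polynomial.C h' := by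
    rw [Polynomial.algEquivAevalXAddC_apply]
    conv_lhs => rw [hf_eq]
    simp only [map_add, map_mul, map_pow, Polynomial.aeval_X, Polynomial.aeval_C,
      ← Polynomial.C_eq_algebraMap]
    have hC : (2 : Polynomial A) * Polynomial.C t + Polynomial.C (f.coeff 1) = 0 := by
      have := congrArg (Polynomial.C : A → Polynomial A) ht2
      rw [map_add, map_mul, map_ofNat, map_zero] at this
      exact this
    have hh : (Polynomial.C h' : Polynomial A) = -(Polynomial.C t ^ 2 +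
        Polynomial.C (f.coeff 1) * Polynomial.C t + Polynomial.C (f.coeff 0)) := by
      rw [hh']
      simp only [map_neg, map_add, map_mul, map_pow]
    rw [hh]
    linear_combination Polynomial.X * hC
  obtain ⟨E₁⟩ := quot_equiv (Polynomial.algEquivAevalXAddC t) f
    (Polynomial.X ^ 2 - Polynomial.C h') 1 isUnit_one (by rw [one_mul, hΨ₁])
  by_cases hz : h' = 0
  · refine ⟨0, Or.inl rfl, ?_⟩
    rw [hz] at E₁
    exact ⟨E₁⟩
  · obtain ⟨m, ε, hmε, hε0⟩ := exists_X_pow_mul hz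
    have hm1 : 1 ≤ m := by
      rcases Nat.eq_zero_or_pos m with rfl | hm
      · exfalso
        rw [pow_zero, one_mul] at hmε
        rw [hmε] at hh'0
        exact hε0 hh'0
      · exact hm
    obtain ⟨ρ, hρ2, hρu⟩ := exists_sq_eq h2 hε0
    obtain ⟨ρ', hρρ'⟩ := hρu.exists_right_inv
    have hρ'ρ : ρ' * ρ = 1 := by rw [mul_comm]; exact hρρ'
    obtain ⟨Ψ₂, hΨ₂⟩ : ∃ Ψ₂ : Polynomial A ≃ₐ[A] Polynomial A,
        ∀ p, Ψ₂ p = Polynomial.aeval (Polynomial.C ρ * Polynomial.X) p :=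
      ⟨Polynomial.algEquivOfCompEqX (Polynomial.C ρ * Polynomial.X)
        (Polynomial.C ρ' * Polynomial.X)
        (by simp [Polynomial.mul_comp, ← mul_assoc, ← Polynomial.C_mul, hρρ'])
        (by simp [Polynomial.mul_comp, ← mul_assoc, ← Polynomial.C_mul, hρ'ρ]),
        fun _ => rfl⟩
    have hΨ₂' : Ψ₂ (Polynomial.X ^ 2 - Polynomial.C h') =
        Polynomial.C (ρ ^ 2) * (Polynomial.X ^ 2 - Polynomial.C ((X 0 : A) ^ m)) := by
      rw [hΨ₂]
      simp only [map_sub, map_pow, Polynomial.aeval_X, Polynomial.aeval_C,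
        ← Polynomial.C_eq_algebraMap]
      rw [hmε, ← hρ2]
      simp only [map_mul, map_pow]
      ring
    obtain ⟨E₂⟩ := quot_equiv Ψ₂ (Polynomial.X ^ 2 - Polynomial.C h')
      (Polynomial.X ^ 2 - Polynomial.C ((X 0 : A) ^ m)) (Polynomial.C (ρ ^ 2))
      ((hρu.pow 2).map Polynomial.C) hΨ₂'
    exact ⟨X 0 ^ m, Or.inr ⟨m, hm1, rfl⟩, ⟨E₁.trans E₂⟩⟩

theorem distinguished_iso (c : A) (hc : constantCoeff c = 0) :
    Nonempty ((Polynomial A ⧸ Ideal.span {(Polynomial.X ^ 2 - Polynomial.C c : Polynomial A)})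
      ≃ₐ[A] (PowerSeries A ⧸
        Ideal.span {(PowerSeries.X ^ 2 - PowerSeries.C c : PowerSeries A)})) := by
  haveI : IsAdicComplete (IsLocalRing.maximalIdeal k) k := by
    rw [IsLocalRing.maximalIdeal_eq_bot]
    infer_instance
  have hcm : c ∈ IsLocalRing.maximalIdeal A := by
    rw [PSCRing.mem_maximalIdeal_iff, hc]
    exact zero_mem _
  have hd : (Polynomial.X ^ 2 - Polynomial.C c : Polynomial A).IsDistinguishedAt
      (IsLocalRing.maximalIdeal A) :=
    { mem := fun {n} hn => by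
        rw [Polynomial.natDegree_X_pow_sub_C] at hn
        interval_cases n
        · simpa using hcm
        · simp [Polynomial.coeff_X_pow, Polynomial.coeff_C]
      monic := Polynomial.monic_X_pow_sub_C c (by norm_num) }
  have e := hd.algEquivQuotient
  have hcoe : ((Polynomial.X ^ 2 - Polynomial.C c : Polynomial A) : PowerSeries A) =
      PowerSeries.X ^ 2 - PowerSeries.C c := by
    have := (Polynomial.coeToPowerSeries.ringHom (R := A)).map_sub (Polynomial.X ^ 2)
      (Polynomial.C c)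
    simpa using this
  rw [hcoe] at e
  exact ⟨e⟩

end oneVar

section weier

variable {k : Type u} [Field k]

local notation "P" => MvPowerSeries (Fin 2) k
local notation "A" => MvPowerSeries (Fin 1) k

lemma cons_eq_pr (n : ℕ) (x : Fin 1 →₀ ℕ) : Finsupp.cons n x = pr n (x 0) := by
  ext a
  refine Fin.cases ?_ (fun i => ?_) a
  · rw [Finsupp.cons_zero, pr_apply_zero]
  · rw [Finsupp.cons_succ]
    obtain rfl : i = 0 := Subsingleton.elim _ _
    show x 0 = pr n (x 0) 1
    rw [pr_apply_one]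

lemma constantCoeff_coeff_finSuccEquiv (G : P) (n : ℕ) :
    constantCoeff (PowerSeries.coeff n (MvPowerSeries.finSuccEquiv k 1 G)) = c2 G n 0 := by
  rw [← coeff_zero_eq_constantCoeff_apply, coeff_coeff_finSuccEquiv, cons_eq_pr]
  rfl

theorem caseB_weier [IsAlgClosed k] (h2 : (2 : k) ≠ 0) {G : P} (hG2 : Ord 2 G)
    (hG20 : c2 G 2 0 ≠ 0) :
    (∃ n : ℕ, Nonempty ((P ⧸ Ideal.span {G}) ≃ₐ[k] ArSing.ring k n)) ∨
      Nonempty ((P ⧸ Ideal.span {G}) ≃ₐ[k] (P ⧸ Ideal.span {(X 1 : P) ^ 2})) := by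
  haveI : IsAdicComplete (IsLocalRing.maximalIdeal k) k := by
    rw [IsLocalRing.maximalIdeal_eq_bot]
    infer_instance
  have hres : ∀ n, PowerSeries.coeff n (PowerSeries.map (IsLocalRing.residue A)
      (MvPowerSeries.finSuccEquiv k 1 G)) = 0 ↔ c2 G n 0 = 0 := by
    intro n
    rw [PowerSeries.coeff_map, IsLocalRing.residue_eq_zero_iff, PSCRing.mem_maximalIdeal_iff,
      IsLocalRing.maximalIdeal_eq_bot, Ideal.mem_bot, constantCoeff_coeff_finSuccEquiv]
  have hne : PowerSeries.map (IsLocalRing.residue A) (MvPowerSeries.finSuccEquiv k 1 G) ≠ 0 := by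
    intro h0
    apply hG20
    rw [← hres 2, h0, map_zero]
  have hord : (PowerSeries.map (IsLocalRing.residue A)
      (MvPowerSeries.finSuccEquiv k 1 G)).order = (2 : ℕ) := by
    rw [PowerSeries.order_eq_nat]
    exact ⟨fun h => hG20 ((hres 2).mp h),
      fun i hi => (hres i).mpr (ord_iff_c2.mp hG2 i 0 (by omega))⟩
  obtain ⟨f, h, H⟩ := PowerSeries.exists_isWeierstrassFactorization hne
  have hdeg : f.natDegree = 2 := by
    rw [H.natDegree_eq_toNat_order_map, hord]
    simp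
  have hmem : ∀ n, n < 2 → constantCoeff (f.coeff n) = 0 := by
    intro n hn
    have := H.isDistinguishedAt.mem (n := n) (by rw [hdeg]; exact hn)
    rw [PSCRing.mem_maximalIdeal_iff, IsLocalRing.maximalIdeal_eq_bot, Ideal.mem_bot] at this
    exact this
  obtain ⟨c, hc, ⟨E3⟩⟩ := poly_nf h2 f H.isDistinguishedAt.monic hdeg (hmem 1 (by norm_num))
    (hmem 0 (by norm_num))
  have hc0 : constantCoeff c = 0 := by
    rcases hc with rfl | ⟨m, hm, rfl⟩
    · simp
    · rw [map_pow, constantCoeff_X, zero_pow (by omega)]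
  obtain ⟨E4⟩ := distinguished_iso c hc0
  obtain ⟨E1⟩ := quot_equiv (MvPowerSeries.finSuccEquiv k 1) G
    (MvPowerSeries.finSuccEquiv k 1 G) 1 isUnit_one (by rw [one_mul])
  have E2 := H.algEquivQuotient
  have E : (P ⧸ Ideal.span {G}) ≃ₐ[k] (PowerSeries A ⧸
      Ideal.span {(PowerSeries.X ^ 2 - PowerSeries.C c : PowerSeries A)}) :=
    E1.trans (((E2.symm.trans E3).trans E4).restrictScalars k)
  rcases hc with rfl | ⟨m, hm, rfl⟩
  · right
    obtain ⟨E5⟩ := quot_equiv (MvPowerSeries.finSuccEquiv k 1) ((X 0 : P) ^ 2)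
      (PowerSeries.X ^ 2 - PowerSeries.C (0 : A)) 1 isUnit_one (by
        rw [one_mul, map_pow, finSuccEquiv_X_zero, map_zero, sub_zero])
    obtain ⟨E6⟩ := swap_dbl (k := k)
    exact ⟨(E.trans E5.symm).trans E6.symm⟩
  · left
    obtain ⟨n, rfl⟩ : ∃ n, m = n + 1 := ⟨m - 1, by omega⟩
    obtain ⟨E5⟩ := quot_equiv (MvPowerSeries.finSuccEquiv k 1)
      ((X 0 : P) ^ 2 - X 1 ^ (n + 1))
      (PowerSeries.X ^ 2 - PowerSeries.C ((X 0 : A) ^ (n + 1))) 1 isUnit_one (by
        rw [one_mul, map_sub, map_pow, map_pow, finSuccEquiv_X_zero,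
          show (X 1 : P) = X (Fin.succ 0) from rfl, finSuccEquiv_X_succ, map_pow])
    obtain ⟨E6⟩ := swap_ring (k := k) n
    exact ⟨n, ⟨(E.trans E5.symm).trans E6.symm⟩⟩

/-- **Classification**: a germ without constant term which is not of order `≥ 3` is an `A_n`
germ or the double line. -/
theorem classify [IsAlgClosed k] (h2 : (2 : k) ≠ 0) {F : P} (hF0 : constantCoeff F = 0)
    (hF3 : ¬ Ord 3 F) :
    (∃ n : ℕ, Nonempty ((P ⧸ Ideal.span {F}) ≃ₐ[k] ArSing.ring k n)) ∨
      Nonempty ((P ⧸ Ideal.span {F}) ≃ₐ[k] (P ⧸ Ideal.span {(X 1 : P) ^ 2})) := by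
  by_cases hF2 : Ord 2 F
  · obtain ⟨Φ, hΦ2, hΦ20⟩ := exists_shear h2 hF2 hF3
    obtain ⟨E0⟩ := quot_equiv Φ F (Φ F) 1 isUnit_one (by rw [one_mul])
    rcases caseB_weier h2 hΦ2 hΦ20 with ⟨n, ⟨E⟩⟩ | ⟨⟨E⟩⟩
    · exact Or.inl ⟨n, ⟨E0.trans E⟩⟩
    · exact Or.inr ⟨E0.trans E⟩
  · exact Or.inl ⟨0, caseA_of_not_ord hF0 hF2⟩

/-- order `≥ 3` is equivalent to being neither an `A_n` germ nor the double line -/
theorem main [IsAlgClosed k] (h2 : (2 : k) ≠ 0) (F : P) (hF0 : constantCoeff F = 0) :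
    Ord 3 F ↔
    ¬ ((∃ n : ℕ, Nonempty ((P ⧸ Ideal.span {F}) ≃ₐ[k] ArSing.ring k n)) ∨
      Nonempty ((P ⧸ Ideal.span {F}) ≃ₐ[k] (P ⧸ Ideal.span {(X 1 : P) ^ 2}))) := by
  constructor
  · intro h3 hcon
    have hI : HasIndepSq k (P ⧸ Ideal.span {F}) := hasIndepSq_of_ord_three (ord_of_mem_span h3)
    rcases hcon with ⟨n, ⟨E⟩⟩ | ⟨⟨E⟩⟩
    · exact not_hasIndepSq_ring n (hI.of_equiv E)
    · exact not_hasIndepSq_dbl (hI.of_equiv E)
  · intro hcon
    by_contra h3
    exact hcon (classify h2 hF0 h3)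

end weier

end Groth.Agent.Lib.Helper76.ArCls
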