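import Groth.Agent.Lib.Helper76.ArInvGen

/-!
# The normalisation of the cusp `k⟦x,y⟧/(y² - x^(r+1))`, `r` even (helper76)

* `nu r : x ↦ t², y ↦ t^(r+1)` as an algebra map to `k⟦t⟧`;
* for `r` even it is injective (`nu_injective`) with image the series `f` with
  `t^(r+1) ∣ f - f(-t)` (`dvd_nu_sub_N`, `exists_nu_eq`);
* `coeff_two_nu`, `coeff_succ_nu`: reading off the linear part of the normal form.
-/

set_option autoImplicit false
universe u

namespace Groth.Agent.Lib.Helper76.ArInvEven

open ArSing Groth.Agent.Lib.Helper76.ArNF Groth.Agent.Lib.Helper76.ArInvNode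
open Groth.Agent.Lib.Helper76.ArInvGen

variable {k : Type u} [Field k]

/-- the normalisation map `x ↦ t²`, `y ↦ t^(r+1)` -/
noncomputable def nu (r : ℕ) : ring k r →ₐ[k] PowerSeries k where
  toFun a := E (cA k r a) + PowerSeries.X ^ (r + 1) * E (cB k r a)
  map_one' := by rw [cA_one, cB_one, map_one, map_zero, mul_zero, add_zero]
  map_mul' a b := by
    rw [cA_mul, cB_mul]
    simp only [map_add, map_mul, map_pow, PowerSeries.expand_X]
    ring
  map_zero' := by rw [cA_zero, cB_zero, map_zero, mul_zero, add_zero]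
  map_add' a b := by
    rw [cA_add, cB_add, map_add, map_add]
    ring
  commutes' c := by
    rw [cA_algebraMap, cB_algebraMap, map_zero, mul_zero, add_zero]
    exact PowerSeries.expand_C 2 two_ne_zero c

variable {r : ℕ}

lemma nu_apply (a : ring k r) :
    nu r a = E (cA k r a) + PowerSeries.X ^ (r + 1) * E (cB k r a) := rfl

@[simp] lemma nu_x : nu r (x k r) = (PowerSeries.X : PowerSeries k) ^ 2 := by
  rw [nu_apply, cA_x, cB_x, map_zero, mul_zero, add_zero, PowerSeries.expand_X]

@[simp] lemma nu_y : nu r (y k r) = (PowerSeries.X : PowerSeries k) ^ (r + 1) := by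
  rw [nu_apply, cA_y, cB_y, map_zero, map_one, mul_one, zero_add]

lemma N_X_pow {n : ℕ} (hn : Odd n) :
    N ((PowerSeries.X : PowerSeries k) ^ n) = -PowerSeries.X ^ n := by
  rw [map_pow, N_X, hn.neg_pow]

lemma N_nu (hev : Even r) (a : ring k r) :
    N (nu r a) = E (cA k r a) - PowerSeries.X ^ (r + 1) * E (cB k r a) := by
  rw [nu_apply, map_add, map_mul, N_E, N_E, N_X_pow hev.add_one]
  ring

lemma dvd_nu_sub_N (hev : Even r) (a : ring k r) :
    (PowerSeries.X : PowerSeries k) ^ (r + 1) ∣ nu r a - N (nu r a) := by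
  rw [N_nu hev, nu_apply]
  exact ⟨2 * E (cB k r a), by ring⟩

lemma nu_injective (h2 : (2 : k) ≠ 0) (hev : Even r) :
    Function.Injective (nu r : ring k r → PowerSeries k) := by
  intro a b h
  rw [← sub_eq_zero]
  have h0 : nu r (a - b) = 0 := by rw [map_sub, h, sub_self]
  have h1 : N (nu r (a - b)) = 0 := by rw [h0, map_zero]
  rw [N_nu hev] at h1
  rw [nu_apply] at h0
  have h2' := two_ne_zero_ps h2
  have hA : E (cA k r (a - b)) = 0 := by
    apply mul_left_cancel₀ h2'
    linear_combination h0 + h1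
  have hB : E (cB k r (a - b)) = 0 := by
    apply mul_left_cancel₀ h2'
    apply mul_left_cancel₀ (pow_ne_zero (r + 1) (PowerSeries.X_ne_zero (R := k)))
    linear_combination h0 - h1
  apply eq_zero_of_coords
  · apply E_injective
    rw [hA, map_zero]
  · apply E_injective
    rw [hB, map_zero]

/-- the image of the normalisation map -/
lemma exists_nu_eq (h2 : (2 : k) ≠ 0) (hev : Even r) (f : PowerSeries k)
    (h : (PowerSeries.X : PowerSeries k) ^ (r + 1) ∣ f - N f) : ∃ a : ring k r, nu r a = f := by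
  obtain ⟨m, hm⟩ := hev
  have hdec := eo_decomp f
  have hN : N f = E (ev f) - PowerSeries.X * E (od f) := by
    conv_lhs => rw [hdec]
    rw [map_add, N_E, N_X_mul_E]
    ring
  obtain ⟨g, hg⟩ := h
  have h2' := two_ne_zero_ps h2
  have hC2 : PowerSeries.C (2⁻¹ : k) * 2 = 1 := by
    rw [← map_ofNat (PowerSeries.C (R := k)) 2, ← map_mul, inv_mul_cancel₀ h2, map_one]
  have h3 : E (od f) = PowerSeries.X ^ r * (PowerSeries.C (2⁻¹ : k) * g) := by
    apply mul_left_cancel₀ h2'
    apply mul_left_cancel₀ (PowerSeries.X_ne_zero (R := k))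
    have h4 : PowerSeries.X * (2 * E (od f)) = PowerSeries.X ^ (r + 1) * g := by
      rw [← hg]
      linear_combination hN - hdec
    rw [pow_succ] at h4
    linear_combination h4 - (PowerSeries.X ^ r * PowerSeries.X * g) * hC2
  have h5 : (PowerSeries.X : PowerSeries k) ^ m ∣ od f := by
    rw [PowerSeries.X_pow_dvd_iff]
    intro j hj
    rw [← coeff_E_even]
    exact PowerSeries.X_pow_dvd_iff.mp ⟨_, h3⟩ (2 * j) (by omega)
  obtain ⟨β, hβ⟩ := h5
  refine ⟨xMap k r (ev f) + xMap k r β * y k r, ?_⟩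
  rw [nu_apply, cA_mk, cB_mk]
  conv_rhs => rw [hdec, hβ, map_mul, map_pow, PowerSeries.expand_X]
  have hX : (PowerSeries.X : PowerSeries k) ^ (r + 1) = PowerSeries.X * (PowerSeries.X ^ 2) ^ m := by
    rw [hm]
    ring
  rw [hX]
  ring

lemma cc_nu (a : ring k r) :
    PowerSeries.constantCoeff (nu r a) = PowerSeries.constantCoeff (cA k r a) :=
  cc_algHom (nu r) a

lemma coeff_two_nu (hev : Even r) (a : ring k r) :
    PowerSeries.coeff 2 (nu r a) = PowerSeries.coeff 1 (cA k r a) := by
  obtain ⟨m, hm⟩ := hev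
  have hX : (PowerSeries.X : PowerSeries k) ^ (r + 1) = PowerSeries.X * (PowerSeries.X ^ 2) ^ m := by
    rw [hm]
    ring
  have e : nu r a = E (cA k r a) + PowerSeries.X * E (PowerSeries.X ^ m * cB k r a) := by
    rw [nu_apply, map_mul, map_pow, PowerSeries.expand_X, hX]
    ring
  rw [e, map_add]
  have h1 := coeff_E_even (cA k r a) 1
  have h2 := coeff_X_mul_E_even (PowerSeries.X ^ m * cB k r a) 1
  rw [mul_one] at h1 h2
  rw [h1, h2, add_zero]

lemma coeff_succ_nu (hev : Even r) (a : ring k r) :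
    PowerSeries.coeff (r + 1) (nu r a) = PowerSeries.constantCoeff (cB k r a) := by
  obtain ⟨m, hm⟩ := hev
  have h1 : PowerSeries.coeff (r + 1) (E (cA k r a)) = 0 := by
    have := coeff_E_odd (cA k r a) m
    rwa [show 2 * m + 1 = r + 1 by omega] at this
  have h2 : PowerSeries.coeff 0 (E (cB k r a)) = PowerSeries.constantCoeff (cB k r a) := by
    have := coeff_E_even (cB k r a) 0
    rw [mul_zero] at this
    rw [this, PowerSeries.coeff_zero_eq_constantCoeff_apply]
  rw [nu_apply, map_add, h1, zero_add, PowerSeries.coeff_X_pow_mul', if_pos le_rfl, Nat.sub_self,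
    h2]

end Groth.Agent.Lib.Helper76.ArInvEven
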