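import Groth.Agent.Lib.Helper76.ArInvNode
import Groth.Agent.Lib.Helper76.ArCls2

/-!
# Automorphisms of `k⟦x,y⟧/(y² - x^(r+1))` with prescribed images of `x`, `y` (helper76)

* `exists_aut`: a pair `x', y'` with `y'² = x'^(r+1)` whose normal-form coordinates have an
  invertible Jacobian at the origin is the image of `(x, y)` under an automorphism;
* small facts about power series in one variable (`coeff_pow_self`, `X_pow_mul_inj`, ...).
-/

set_option autoImplicit false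
universe u

namespace Groth.Agent.Lib.Helper76.ArInvGen

open ArSing Groth.Agent.Lib.Helper76.ArNF Groth.Agent.Lib.Helper76.ArInvNode
open Groth.Agent.Lib.Helper76.PSInv

variable {k : Type u} [Field k]

section coeffs

lemma pr_zero_zero : pr 0 0 = (0 : Fin 2 →₀ ℕ) := by
  unfold pr; simp

lemma pr_one_zero : pr 1 0 = (Finsupp.single 0 1 : Fin 2 →₀ ℕ) := by
  unfold pr; simp

lemma pr_zero_one : pr 0 1 = (Finsupp.single 1 1 : Fin 2 →₀ ℕ) := by
  unfold pr; simp

lemma constantCoeff_eq_c2 (F : MvPowerSeries (Fin 2) k) :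
    MvPowerSeries.constantCoeff F = c2 F 0 0 := by
  unfold c2
  rw [pr_zero_zero, MvPowerSeries.coeff_zero_eq_constantCoeff_apply]

lemma c2_nf (α β : PowerSeries k) (i : ℕ) :
    c2 (xs α + xs β * MvPowerSeries.X 1) i 0 = PowerSeries.coeff i α := by
  rw [c2_add, c2_xs, c2_mul_X1]; simp

lemma c2_nf_one (α β : PowerSeries k) (i : ℕ) :
    c2 (xs α + xs β * MvPowerSeries.X 1) i 1 = PowerSeries.coeff i β := by
  rw [c2_add, c2_xs, c2_mul_X1, c2_xs]; simp

end coeffs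

/-- a pair `(x', y')` satisfying the equation, with invertible linear part, is the image of
`(x, y)` under an automorphism -/
theorem exists_aut {r : ℕ} (x' y' : ring k r) (hrel : y' ^ 2 = x' ^ (r + 1))
    (hx0 : PowerSeries.constantCoeff (cA k r x') = 0)
    (hy0 : PowerSeries.constantCoeff (cA k r y') = 0)
    (hdet : PowerSeries.coeff 1 (cA k r x') * PowerSeries.constantCoeff (cB k r y') -
      PowerSeries.constantCoeff (cB k r x') * PowerSeries.coeff 1 (cA k r y') ≠ 0) :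
    ∃ φ : ring k r ≃ₐ[k] ring k r, φ (x k r) = x' ∧ φ (y k r) = y' := by
  classical
  obtain ⟨X', hX'⟩ : ∃ X' : MvPowerSeries (Fin 2) k,
      X' = xs (cA k r x') + xs (cB k r x') * MvPowerSeries.X 1 := ⟨_, rfl⟩
  obtain ⟨Y', hY'⟩ : ∃ Y' : MvPowerSeries (Fin 2) k,
      Y' = xs (cA k r y') + xs (cB k r y') * MvPowerSeries.X 1 := ⟨_, rfl⟩
  have hmkX : Ideal.Quotient.mk (Ideal.span {eqn k r}) X' = x' := by
    rw [hX', map_add, map_mul, ← xMap_apply, ← xMap_apply]
    exact (eq_coords k r x').symm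
  have hmkY : Ideal.Quotient.mk (Ideal.span {eqn k r}) Y' = y' := by
    rw [hY', map_add, map_mul, ← xMap_apply, ← xMap_apply]
    exact (eq_coords k r y').symm
  have hcX : MvPowerSeries.constantCoeff X' = 0 := by
    rw [constantCoeff_eq_c2, hX', c2_nf, PowerSeries.coeff_zero_eq_constantCoeff_apply, hx0]
  have hcY : MvPowerSeries.constantCoeff Y' = 0 := by
    rw [constantCoeff_eq_c2, hY', c2_nf, PowerSeries.coeff_zero_eq_constantCoeff_apply, hy0]
  have hy : ∀ s, MvPowerSeries.constantCoeff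
      ((![X', Y'] : Fin 2 → MvPowerSeries (Fin 2) k) s) = 0 :=
    Fin.forall_fin_two.mpr ⟨hcX, hcY⟩
  have e00 : jac (![X', Y'] : Fin 2 → MvPowerSeries (Fin 2) k) 0 0 =
      PowerSeries.coeff 1 (cA k r x') := by
    show MvPowerSeries.coeff (Finsupp.single 0 1) X' = _
    rw [← pr_one_zero]
    show c2 X' 1 0 = _
    rw [hX', c2_nf]
  have e01 : jac (![X', Y'] : Fin 2 → MvPowerSeries (Fin 2) k) 0 1 =
      PowerSeries.constantCoeff (cB k r x') := by
    show MvPowerSeries.coeff (Finsupp.single 1 1) X' = _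
    rw [← pr_zero_one]
    show c2 X' 0 1 = _
    rw [hX', c2_nf_one, PowerSeries.coeff_zero_eq_constantCoeff_apply]
  have e10 : jac (![X', Y'] : Fin 2 → MvPowerSeries (Fin 2) k) 1 0 =
      PowerSeries.coeff 1 (cA k r y') := by
    show MvPowerSeries.coeff (Finsupp.single 0 1) Y' = _
    rw [← pr_one_zero]
    show c2 Y' 1 0 = _
    rw [hY', c2_nf]
  have e11 : jac (![X', Y'] : Fin 2 → MvPowerSeries (Fin 2) k) 1 1 =
      PowerSeries.constantCoeff (cB k r y') := by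
    show MvPowerSeries.coeff (Finsupp.single 1 1) Y' = _
    rw [← pr_zero_one]
    show c2 Y' 0 1 = _
    rw [hY', c2_nf_one, PowerSeries.coeff_zero_eq_constantCoeff_apply]
  have hJ : IsUnit (jac (![X', Y'] : Fin 2 → MvPowerSeries (Fin 2) k)).det := by
    rw [Matrix.det_fin_two, e00, e01, e10, e11]
    exact IsUnit.mk0 _ hdet
  have hsy : MvPowerSeries.HasSubst (![X', Y'] : Fin 2 → MvPowerSeries (Fin 2) k) :=
    MvPowerSeries.hasSubst_of_constantCoeff_zero hy
  obtain ⟨Φ, hΦ⟩ : ∃ Φ : MvPowerSeries (Fin 2) k ≃ₐ[k] MvPowerSeries (Fin 2) k,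
      ∀ G, Φ G = MvPowerSeries.subst (![X', Y'] : Fin 2 → MvPowerSeries (Fin 2) k) G :=
    ⟨substEquiv hy hJ, substEquiv_apply hy hJ⟩
  have hΦ0 : Φ (MvPowerSeries.X 0) = X' := by
    rw [hΦ, MvPowerSeries.subst_X hsy]; rfl
  have hΦ1 : Φ (MvPowerSeries.X 1) = Y' := by
    rw [hΦ, MvPowerSeries.subst_X hsy]; rfl
  obtain ⟨f, hf⟩ : ∃ f : MvPowerSeries (Fin 2) k →ₐ[k] ring k r,
      ∀ a, f a = Ideal.Quotient.mk (Ideal.span {eqn k r}) (Φ a) :=
    ⟨(Ideal.Quotient.mkₐ k (Ideal.span {eqn k r})).comp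
      (Φ : MvPowerSeries (Fin 2) k →ₐ[k] MvPowerSeries (Fin 2) k), fun a => rfl⟩
  have hfe : f (eqn k r) = 0 := by
    have he : eqn k r = MvPowerSeries.X 1 ^ 2 - MvPowerSeries.X 0 ^ (r + 1) := rfl
    have h3 : Φ (eqn k r) = Y' ^ 2 - X' ^ (r + 1) := by
      rw [he, map_sub, map_pow, map_pow, hΦ0, hΦ1]
    rw [hf, h3, map_sub, map_pow, map_pow, hmkX, hmkY, hrel, sub_self]
  have hker : ∀ a ∈ Ideal.span {eqn k r}, f a = 0 := by
    intro a ha
    obtain ⟨c, rfl⟩ := Ideal.mem_span_singleton'.mp ha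
    rw [map_mul, hfe, mul_zero]
  obtain ⟨φ₀, hφ₀⟩ : ∃ φ₀ : ring k r →ₐ[k] ring k r,
      ∀ a, φ₀ (Ideal.Quotient.mk (Ideal.span {eqn k r}) a) = f a :=
    ⟨Ideal.Quotient.liftₐ _ f hker, fun a => rfl⟩
  have hsurj : Function.Surjective φ₀ := by
    intro b
    obtain ⟨B, rfl⟩ := Ideal.Quotient.mk_surjective b
    refine ⟨Ideal.Quotient.mk _ (Φ.symm B), ?_⟩
    rw [hφ₀, hf, AlgEquiv.apply_symm_apply]
  have hinj : Function.Injective φ₀ :=
    Groth.Agent.Lib.Helper76.PSCRing.injective_of_surjective_endo φ₀.toRingHom hsurj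
  refine ⟨AlgEquiv.ofBijective φ₀ ⟨hinj, hsurj⟩, ?_, ?_⟩
  · show φ₀ (Ideal.Quotient.mk _ (MvPowerSeries.X 0)) = x'
    rw [hφ₀, hf, hΦ0, hmkX]
  · show φ₀ (Ideal.Quotient.mk _ (MvPowerSeries.X 1)) = y'
    rw [hφ₀, hf, hΦ1, hmkY]

section ps

lemma coeff_one_X_mul (w : PowerSeries k) :
    PowerSeries.coeff 1 (PowerSeries.X * w) = PowerSeries.constantCoeff w := by
  rw [← PowerSeries.coeff_zero_eq_constantCoeff_apply]
  exact PowerSeries.coeff_succ_X_mul 0 w

lemma coeff_pow_self {t : PowerSeries k} (ht : PowerSeries.constantCoeff t = 0) (n : ℕ) :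
    PowerSeries.coeff n (t ^ n) = (PowerSeries.coeff 1 t) ^ n := by
  obtain ⟨w, rfl⟩ := PowerSeries.X_dvd_iff.mpr ht
  rw [mul_pow, PowerSeries.coeff_X_pow_mul', if_pos le_rfl, Nat.sub_self,
    PowerSeries.coeff_zero_eq_constantCoeff_apply, map_pow, coeff_one_X_mul]

lemma coeff_pow_of_lt {t : PowerSeries k} (ht : PowerSeries.constantCoeff t = 0) {n j : ℕ}
    (hj : j < n) : PowerSeries.coeff j (t ^ n) = 0 :=
  PowerSeries.X_pow_dvd_iff.mp (pow_dvd_pow_of_dvd (PowerSeries.X_dvd_iff.mpr ht) n) j hj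

lemma exists_X_pow_mul_ps {f : PowerSeries k} (hf : f ≠ 0) :
    ∃ (n : ℕ) (w : PowerSeries k), f = PowerSeries.X ^ n * w ∧
      PowerSeries.constantCoeff w ≠ 0 :=
  ⟨f.order.toNat, f.divXPowOrder, PowerSeries.X_pow_order_mul_divXPowOrder.symm,
    fun h => hf (PowerSeries.constantCoeff_divXPowOrder_eq_zero_iff.mp h)⟩

lemma X_pow_mul_inj_aux {a d : ℕ} {u u' : PowerSeries k}
    (hu : PowerSeries.constantCoeff u ≠ 0)
    (h : PowerSeries.X ^ a * u = PowerSeries.X ^ (a + d + 1) * u') : False := by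
  apply hu
  have h1 : u = PowerSeries.X ^ (d + 1) * u' := by
    apply mul_left_cancel₀ (pow_ne_zero a (PowerSeries.X_ne_zero (R := k)))
    rw [h, add_assoc, pow_add]
    ring
  rw [h1, map_mul, map_pow, PowerSeries.constantCoeff_X, zero_pow (Nat.succ_ne_zero d), zero_mul]

lemma X_pow_mul_inj {a b : ℕ} {u u' : PowerSeries k} (hu : PowerSeries.constantCoeff u ≠ 0)
    (hu' : PowerSeries.constantCoeff u' ≠ 0)
    (h : PowerSeries.X ^ a * u = PowerSeries.X ^ b * u') : a = b ∧ u = u' := by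
  rcases Nat.lt_trichotomy a b with hab | hab | hab
  · exfalso
    obtain ⟨d, rfl⟩ := Nat.exists_eq_add_of_lt hab
    exact X_pow_mul_inj_aux hu h
  · subst hab
    exact ⟨rfl, mul_left_cancel₀ (pow_ne_zero a (PowerSeries.X_ne_zero (R := k))) h⟩
  · exfalso
    obtain ⟨d, rfl⟩ := Nat.exists_eq_add_of_lt hab
    exact X_pow_mul_inj_aux hu' h.symm

end ps

end Groth.Agent.Lib.Helper76.ArInvGen
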