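import Groth.Agent.Lib.Helper76.PSInv
import Mathlib.RingTheory.MvPowerSeries.Trunc

/-!
# Automatic continuity of algebra maps out of a power series ring in finitely many variables
-/

set_option autoImplicit false
universe u v

namespace Groth.Agent.Lib.Helper76.PSInv

open MvPowerSeries
open Groth.Agent.Lib.Helper76.LT

variable {σ τ : Type*} {R : Type*} [CommRing R]

/-- A series of order `≥ N + 1` in finitely many variables is `∑ X_s g_s` with `g_s` of
order `≥ N`. -/
lemma exists_eq_sum_X_mul [Fintype σ] {N : ℕ} {g : MvPowerSeries σ R} (hg : Ord (N + 1) g) :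
    ∃ gs : σ → MvPowerSeries σ R, (∀ s, Ord N (gs s)) ∧ g = ∑ s, X s * gs s := by
  classical
  let P : (σ →₀ ℕ) → σ → Prop := fun e s => ∃ h : e.support.Nonempty, h.choose = s
  have hP1 : ∀ e s, P e s → e s ≠ 0 := by
    rintro e s ⟨h, rfl⟩
    exact Finsupp.mem_support_iff.mp h.choose_spec
  have hP2 : ∀ e : σ →₀ ℕ, e ≠ 0 → ∃ s, P e s ∧ ∀ s', P e s' → s' = s := by
    intro e he
    have h : e.support.Nonempty := Finsupp.support_nonempty_iff.mpr he
    exact ⟨h.choose, ⟨h, rfl⟩, by rintro s ⟨h', rfl⟩; rfl⟩
  let gs : σ → MvPowerSeries σ R := fun s e' =>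
    if P (e' + Finsupp.single s 1) s then coeff (e' + Finsupp.single s 1) g else 0
  have hgs : ∀ s e', coeff e' (gs s) =
      if P (e' + Finsupp.single s 1) s then coeff (e' + Finsupp.single s 1) g else 0 :=
    fun _ _ => rfl
  refine ⟨gs, ?_, ?_⟩
  · intro s e' he'
    rw [hgs]
    split_ifs
    · exact hg _ (by rw [map_add, Finsupp.degree_single]; omega)
    · rfl
  · ext e
    rw [map_sum]
    by_cases he : e = 0
    · subst he
      rw [hg 0 (by simp)]
      symm
      refine Finset.sum_eq_zero fun s _ => ?_
      rw [mul_comm, coeff_zero_mul_X]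
    · obtain ⟨s₀, hs₀, huniq⟩ := hP2 e he
      rw [Finset.sum_eq_single s₀]
      · have hle : Finsupp.single s₀ 1 ≤ e := by
          rw [Finsupp.single_le_iff]
          have := hP1 e s₀ hs₀
          omega
        rw [X, coeff_monomial_mul, if_pos hle, one_mul, hgs, tsub_add_cancel_of_le hle, if_pos hs₀]
      · intro s _ hs
        rw [X, coeff_monomial_mul]
        split_ifs with hle
        · rw [one_mul, hgs, tsub_add_cancel_of_le hle, if_neg (fun h => hs (huniq s h))]
        · rfl
      · intro h; exact absurd (Finset.mem_univ s₀) h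

/-- ring maps sending the variables to series without constant term preserve the order
filtration -/
lemma ord_map_of_constantCoeff_X [Fintype σ] (φ : MvPowerSeries σ R →+* MvPowerSeries τ R)
    (hφ : ∀ s, constantCoeff (φ (X s)) = 0) {N : ℕ} {g : MvPowerSeries σ R} (hg : Ord N g) :
    Ord N (φ g) := by
  induction N generalizing g with
  | zero => exact ord_zero_all _
  | succ N ih =>
    obtain ⟨gs, hgs, rfl⟩ := exists_eq_sum_X_mul hg
    rw [map_sum]
    have : ∀ s ∈ (Finset.univ : Finset σ), Ord (N + 1) (φ (X s * gs s)) := by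
      intro s _
      rw [map_mul, add_comm]
      exact (ord_one_iff.mpr (hφ s)).mul (ih (hgs s))
    refine Finset.sum_induction _ (Ord (N + 1)) (fun _ _ => Ord.add) (ord_zero _) this

/-- **Automatic continuity**: an algebra map out of a power series ring in finitely many variables
which sends the variables to series without constant terms is a substitution. -/
theorem algHom_eq_subst [Finite σ] (φ : MvPowerSeries σ R →ₐ[R] MvPowerSeries τ R)
    (hφ : ∀ s, constantCoeff (φ (X s)) = 0) (f : MvPowerSeries σ R) :
    φ f = subst (fun s => φ (X s)) f := by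
  classical
  have := Fintype.ofFinite σ
  have hy : HasSubst (fun s => φ (X s)) := hasSubst_of_constantCoeff_zero hφ
  ext e
  set N := e.degree + 1 with hN
  set p := truncTotal N f with hp
  have hr : Ord N (f - (p : MvPowerSeries σ R)) := by
    intro d hd
    rw [map_sub, MvPolynomial.coeff_coe, hp, coeff_truncTotal _ hd, sub_self]
  have hpoly : φ (p : MvPowerSeries σ R) = subst (fun s => φ (X s)) (p : MvPowerSeries σ R) := by
    rw [subst_coe]
    have h1 : (φ.comp (MvPolynomial.coeToMvPowerSeries.algHom (R := R) (σ := σ) R)) =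
        MvPolynomial.aeval (fun s => φ (X s)) := by
      apply MvPolynomial.algHom_ext
      intro s
      simp [MvPolynomial.coeToMvPowerSeries.algHom_apply]
    have h2 := DFunLike.congr_fun h1 p
    simpa [MvPolynomial.coeToMvPowerSeries.algHom_apply] using h2
  have e1 : f = (p : MvPowerSeries σ R) + (f - p) := by ring
  have h3 : coeff e (φ (f - (p : MvPowerSeries σ R))) = 0 :=
    ord_map_of_constantCoeff_X (φ : MvPowerSeries σ R →+* MvPowerSeries τ R) hφ hr e (by omega)
  have h4 : coeff e (subst (fun s => φ (X s)) (f - (p : MvPowerSeries σ R))) = 0 :=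
    ord_subst hφ hr e (by omega)
  rw [e1, map_add, subst_add hy, map_add, map_add, hpoly, h3, h4]

end Groth.Agent.Lib.Helper76.PSInv
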