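import Groth.Agent.Lib.Helper76.LTOrd
import Mathlib.LinearAlgebra.Matrix.NonsingularInverse

/-!
# Formal inverse function theorem for multivariate power series (helper76)
-/

set_option autoImplicit false
universe u v

namespace Groth.Agent.Lib.Helper76.PSInv

open MvPowerSeries
open Groth.Agent.Lib.Helper76.LT

variable {σ τ : Type*} {R : Type*} [CommRing R]

/-- `A`, `A'` both have order `≥ n` and agree up to order `n + k`. -/
structure Rel (k n : ℕ) (A A' : MvPowerSeries τ R) : Prop where
  left : Ord n A
  right : Ord n A'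
  diff : Ord (n + k) (A - A')

lemma ord_zero_all (A : MvPowerSeries τ R) : Ord 0 A := fun _ h => absurd h (Nat.not_lt_zero _)

lemma Rel.one (k : ℕ) : Rel k 0 (1 : MvPowerSeries τ R) 1 :=
  ⟨ord_zero_all _, ord_zero_all _, by rw [sub_self]; exact ord_zero _⟩

lemma Rel.mul {k n n' : ℕ} {A A' B B' : MvPowerSeries τ R} (h : Rel k n A A')
    (h' : Rel k n' B B') : Rel k (n + n') (A * B) (A' * B') := by
  refine ⟨h.left.mul h'.left, h.right.mul h'.right, ?_⟩
  have e : A * B - A' * B' = (A - A') * B + A' * (B - B') := by ring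
  rw [e]
  refine ((h.diff.mul h'.left).mono (by omega)).add ((h.right.mul h'.diff).mono (by omega))

lemma Rel.pow {k n : ℕ} {A A' : MvPowerSeries τ R} (h : Rel k n A A') (j : ℕ) :
    Rel k (j * n) (A ^ j) (A' ^ j) := by
  induction j with
  | zero => simpa using Rel.one k
  | succ j ih =>
    rw [pow_succ, pow_succ, Nat.succ_mul]
    exact ih.mul h

lemma Rel.prod {ι : Type*} {k : ℕ} (s : Finset ι) (f : ι → ℕ) (A A' : ι → MvPowerSeries τ R)
    (h : ∀ i ∈ s, Rel k (f i) (A i) (A' i)) :
    Rel k (∑ i ∈ s, f i) (∏ i ∈ s, A i) (∏ i ∈ s, A' i) := by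
  classical
  induction s using Finset.induction_on with
  | empty => simpa using Rel.one k
  | insert a s ha ih =>
    rw [Finset.sum_insert ha, Finset.prod_insert ha, Finset.prod_insert ha]
    exact (h a (Finset.mem_insert_self a s)).mul
      (ih fun i hi => h i (Finset.mem_insert_of_mem hi))

lemma rel_finsupp_prod {k : ℕ} {b b' : σ → MvPowerSeries τ R}
    (hb : ∀ s, constantCoeff (b s) = 0) (hb' : ∀ s, constantCoeff (b' s) = 0)
    (hbb' : ∀ s, Ord (k + 1) (b s - b' s)) (d : σ →₀ ℕ) :
    Rel k d.degree (d.prod fun s n => b s ^ n) (d.prod fun s n => b' s ^ n) := by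
  rw [Finsupp.degree_apply, Finsupp.prod, Finsupp.prod]
  refine Rel.prod d.support (fun s => d s) _ _ fun s _ => ?_
  have h1 : Rel k 1 (b s) (b' s) :=
    ⟨ord_one_iff.mpr (hb s), ord_one_iff.mpr (hb' s), by rw [add_comm]; exact hbb' s⟩
  simpa using h1.pow (d s)

/-- Continuity of substitution in the substituted family. -/
theorem ord_subst_sub_subst [Finite σ] {b b' : σ → MvPowerSeries τ R}
    (hb : ∀ s, constantCoeff (b s) = 0) (hb' : ∀ s, constantCoeff (b' s) = 0) {k : ℕ}
    (hbb' : ∀ s, Ord (k + 1) (b s - b' s)) {m : ℕ} {G : MvPowerSeries σ R} (hG : Ord m G) :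
    Ord (m + k) (subst b G - subst b' G) := by
  intro e he
  rw [map_sub, coeff_subst (hasSubst_of_constantCoeff_zero hb),
    coeff_subst (hasSubst_of_constantCoeff_zero hb'), sub_eq_zero]
  refine finsum_congr fun d => ?_
  by_cases hd : d.degree < m
  · rw [hG d hd, zero_smul, zero_smul]
  · have := (rel_finsupp_prod hb hb' hbb' d).diff e (by omega)
    rw [map_sub, sub_eq_zero] at this
    rw [this]

/-- Substitution of series without constant term preserves the order filtration. -/
theorem ord_subst [Finite σ] {b : σ → MvPowerSeries τ R}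
    (hb : ∀ s, constantCoeff (b s) = 0) {m : ℕ} {G : MvPowerSeries σ R} (hG : Ord m G) :
    Ord m (subst b G) := by
  intro e he
  rw [coeff_subst (hasSubst_of_constantCoeff_zero hb)]
  refine finsum_eq_zero_of_forall_eq_zero fun d => ?_
  by_cases hd : d.degree < m
  · rw [hG d hd, zero_smul]
  · rw [coeff_prod_pow_eq_zero_of_degree_lt hb (by omega), smul_zero]

section Lin

variable [Fintype σ] [DecidableEq σ]

/-- the linear substitution attached to a matrix -/
noncomputable def lin (J : Matrix σ σ R) : σ → MvPowerSeries σ R :=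
  fun s => ∑ t, C (J s t) * X t

lemma constantCoeff_lin (J : Matrix σ σ R) (s : σ) : constantCoeff (lin J s) = 0 := by
  simp only [lin, map_sum, map_mul, constantCoeff_X, mul_zero, Finset.sum_const_zero]

lemma coeff_single_lin (J : Matrix σ σ R) (s t : σ) :
    coeff (Finsupp.single t 1) (lin J s) = J s t := by
  simp only [lin, map_sum, coeff_C_mul, coeff_index_single_X]
  simp

lemma hasSubst_lin (J : Matrix σ σ R) : HasSubst (lin J) :=
  hasSubst_of_constantCoeff_zero (constantCoeff_lin J)

lemma lin_one : lin (1 : Matrix σ σ R) = fun s => (X s : MvPowerSeries σ R) := by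
  funext s
  simp only [lin, Matrix.one_apply]
  rw [Finset.sum_eq_single s]
  · simp
  · intro t _ hts
    rw [if_neg (Ne.symm hts), map_zero, zero_mul]
  · intro h; exact absurd (Finset.mem_univ s) h

lemma subst_lin_lin (J K : Matrix σ σ R) (s : σ) :
    subst (lin J) (lin K s) = lin (K * J) s := by
  have hJ := hasSubst_lin J
  rw [lin, ← coe_substAlgHom hJ, map_sum]
  simp only [map_mul, coe_substAlgHom hJ, subst_X hJ]
  have hC : ∀ r : R, subst (lin J) (C r : MvPowerSeries σ R) = C r := fun r => subst_C r
  simp only [hC]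
  simp only [lin, Finset.mul_sum, Matrix.mul_apply, map_sum, Finset.sum_mul]
  rw [Finset.sum_comm]
  refine Finset.sum_congr rfl fun u _ => Finset.sum_congr rfl fun t _ => ?_
  rw [map_mul]; ring

lemma subst_lin_subst_lin (J K : Matrix σ σ R) (G : MvPowerSeries σ R) :
    subst (lin J) (subst (lin K) G) = subst (lin (K * J)) G := by
  rw [subst_comp_subst_apply (hasSubst_lin K) (hasSubst_lin J)]
  congr 1
  funext s
  exact subst_lin_lin J K s

lemma subst_lin_one (G : MvPowerSeries σ R) : subst (lin (1 : Matrix σ σ R)) G = G := by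
  rw [lin_one]
  exact congrFun subst_self G

/-- the Jacobian matrix at the origin -/
noncomputable def jac (y : σ → MvPowerSeries σ R) : Matrix σ σ R :=
  fun s t => coeff (Finsupp.single t 1) (y s)

lemma ord_sub_lin_jac {y : σ → MvPowerSeries σ R} (hy : ∀ s, constantCoeff (y s) = 0) (s : σ) :
    Ord 2 (y s - lin (jac y) s) := by
  rw [ord_two_iff]
  refine ⟨by rw [map_sub, hy s, constantCoeff_lin, sub_zero], fun t => ?_⟩
  rw [map_sub, coeff_single_lin, jac, sub_self]

/-- `G(y) ≡ G(Jx)` modulo higher order terms -/
lemma ord_subst_sub_subst_lin {y : σ → MvPowerSeries σ R} (hy : ∀ s, constantCoeff (y s) = 0)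
    {m : ℕ} {G : MvPowerSeries σ R} (hG : Ord m G) :
    Ord (m + 1) (subst y G - subst (lin (jac y)) G) :=
  ord_subst_sub_subst hy (constantCoeff_lin _) (k := 1) (ord_sub_lin_jac hy) hG

/-- injectivity part of the inverse function theorem -/
theorem subst_injective {y : σ → MvPowerSeries σ R} (hy : ∀ s, constantCoeff (y s) = 0)
    {K : Matrix σ σ R} (hK : jac y * K = 1) :
    Function.Injective (subst y : MvPowerSeries σ R → MvPowerSeries σ R) := by
  have hsy : HasSubst y := hasSubst_of_constantCoeff_zero hy
  intro G₁ G₂ h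
  have hD : subst y (G₁ - G₂) = 0 := by rw [subst_sub hsy, h, sub_self]
  have key : ∀ m, Ord m (G₁ - G₂) := by
    intro m
    induction m with
    | zero => exact ord_zero_all _
    | succ m ih =>
      have h1 := ord_subst_sub_subst_lin hy ih
      rw [hD, zero_sub] at h1
      have h2 : Ord (m + 1) (subst (lin (jac y)) (G₁ - G₂)) := by simpa using h1.neg
      have h3 := ord_subst (constantCoeff_lin K) h2
      rwa [subst_lin_subst_lin, hK, subst_lin_one] at h3
  exact sub_eq_zero.mp (eq_zero_of_forall_ord key)

/-- surjectivity part of the inverse function theorem -/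
theorem subst_surjective {y : σ → MvPowerSeries σ R} (hy : ∀ s, constantCoeff (y s) = 0)
    {K : Matrix σ σ R} (hK' : K * jac y = 1) :
    Function.Surjective (subst y : MvPowerSeries σ R → MvPowerSeries σ R) := by
  have hsy : HasSubst y := hasSubst_of_constantCoeff_zero hy
  -- the case of zero constant term
  have main : ∀ G' : MvPowerSeries σ R, constantCoeff G' = 0 →
      ∃ H : MvPowerSeries σ R, subst y H = G' := by
    intro G' hG'
    have hcont : ∀ (m : ℕ) (H Δ : MvPowerSeries σ R), constantCoeff H = 0 → 1 ≤ m → Ord m Δ →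
        Ord m ((subst y (H + Δ) - G') - (subst y H - G')) := by
      intro m H Δ _ _ hΔ
      have : (subst y (H + Δ) - G') - (subst y H - G') = subst y Δ := by
        rw [subst_add hsy]; ring
      rw [this]
      exact ord_subst hy hΔ
    have hstep : ∀ (r : ℕ) (H : MvPowerSeries σ R), 1 ≤ r → constantCoeff H = 0 →
        Ord (r + 1) (subst y H - G') →
        ∃ Δ, Ord (r + 1) Δ ∧ Ord (r + 2) (subst y (H + Δ) - G') := by
      intro r H _ _ hTH
      have hΔ : Ord (r + 1) (-subst (lin K) (subst y H - G')) :=
        (ord_subst (constantCoeff_lin K) hTH).neg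
      refine ⟨_, hΔ, ?_⟩
      have h1 := ord_subst_sub_subst_lin hy hΔ
      have hlin : subst (lin (jac y)) (-subst (lin K) (subst y H - G')) = -(subst y H - G') := by
        have hJ := hasSubst_lin (jac y)
        have : subst (lin (jac y)) (-subst (lin K) (subst y H - G')) =
            -subst (lin (jac y)) (subst (lin K) (subst y H - G')) := by
          rw [← coe_substAlgHom hJ, map_neg]
        rw [this, subst_lin_subst_lin, hK', subst_lin_one]
      rw [hlin] at h1
      have e : subst y (H + -subst (lin K) (subst y H - G')) - G' =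
          subst y (-subst (lin K) (subst y H - G')) - -(subst y H - G') := by
        rw [subst_add hsy]; ring
      rw [e]
      exact h1
    let H₀ := subst (lin K) G'
    have hH₀ : constantCoeff H₀ = 0 := constantCoeff_subst_zero (constantCoeff_lin K) hG'
    have h0 : Ord 2 (subst y H₀ - G') := by
      have h1 := ord_subst_sub_subst_lin hy (ord_one_iff.mpr hH₀)
      have : subst (lin (jac y)) H₀ = G' := by
        show subst (lin (jac y)) (subst (lin K) G') = G'
        rw [subst_lin_subst_lin, hK', subst_lin_one]
      rwa [this] at h1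
    obtain ⟨H, _, _, hTH⟩ := exists_limit (fun H => subst y H - G') hcont hstep H₀ hH₀ h0
    exact ⟨H, sub_eq_zero.mp hTH⟩
  intro G
  obtain ⟨H, hH⟩ := main (G - C (constantCoeff G)) (by simp)
  refine ⟨C (constantCoeff G) + H, ?_⟩
  rw [subst_add hsy, hH, subst_C]
  ring

/-- **Formal inverse function theorem**: substitution by a family with zero constant terms and
invertible Jacobian at the origin is bijective. -/
theorem subst_bijective {y : σ → MvPowerSeries σ R} (hy : ∀ s, constantCoeff (y s) = 0)
    (hJ : IsUnit (jac y).det) :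
    Function.Bijective (subst y : MvPowerSeries σ R → MvPowerSeries σ R) := by
  have h1 : jac y * (jac y)⁻¹ = 1 := Matrix.mul_nonsing_inv _ hJ
  have h2 : (jac y)⁻¹ * jac y = 1 := Matrix.nonsing_inv_mul _ hJ
  exact ⟨subst_injective hy h1, subst_surjective hy h2⟩

/-- the automorphism of the power series ring given by an invertible substitution -/
noncomputable def substEquiv {y : σ → MvPowerSeries σ R} (hy : ∀ s, constantCoeff (y s) = 0)
    (hJ : IsUnit (jac y).det) : MvPowerSeries σ R ≃ₐ[R] MvPowerSeries σ R :=
  AlgEquiv.ofBijective (substAlgHom (hasSubst_of_constantCoeff_zero hy)) (by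
    rw [coe_substAlgHom]; exact subst_bijective hy hJ)

lemma substEquiv_apply {y : σ → MvPowerSeries σ R} (hy : ∀ s, constantCoeff (y s) = 0)
    (hJ : IsUnit (jac y).det) (G : MvPowerSeries σ R) : substEquiv hy hJ G = subst y G := by
  simp [substEquiv]

end Lin

end Groth.Agent.Lib.Helper76.PSInv
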