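import Groth.Agent.Lib.Helper76.ArNF3
import Groth.Agent.S14080

/-!
# Automorphisms of the node algebra from its two branches (helper76)

* `constantCoeff_eq_zero_of_not_isUnit`, `cc_algHom`: algebra maps to `k⟦t⟧` respect residues;
* `algHom_ext_Q`: algebra maps `k⟦x,y⟧/(y² - x^(r+1)) → k⟦t⟧` are determined by `x`, `y`;
* `exists_end`, `exists_pairAut`, `exists_swapAut`: endomorphisms/automorphisms of the node
  algebra from their branch components;
* `exists_linearise`: linearisation of an involution of `k⟦t⟧`.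
-/

set_option autoImplicit false
universe u

namespace Groth.Agent.Lib.Helper76.ArInvNode

open ArSing Groth.Agent.Lib.Helper76.ArNF

variable {k : Type u} [Field k]

lemma brP_xMap (f : PowerSeries k) : brP (xMap k 1 f) = f := by
  rw [brP_apply, cA_xMap, cB_xMap, mul_zero, add_zero]

lemma brM_xMap (f : PowerSeries k) : brM (xMap k 1 f) = f := by
  rw [brM_apply, cA_xMap, cB_xMap, mul_zero, sub_zero]

/-- every `k`-algebra map from a local `k`-algebra to `k⟦t⟧` sends non-units to series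
without constant term -/
lemma constantCoeff_eq_zero_of_not_isUnit {A : Type*} [CommRing A] [IsLocalRing A] [Algebra k A]
    (p : A →ₐ[k] PowerSeries k) {z : A} (hz : ¬ IsUnit z) :
    PowerSeries.constantCoeff (p z) = 0 := by
  by_contra hd
  have hdu : IsUnit (algebraMap k A (PowerSeries.constantCoeff (p z))) :=
    (IsUnit.mk0 _ hd).map _
  have hu : IsUnit (z - algebraMap k A (PowerSeries.constantCoeff (p z))) := by
    by_contra hnu
    have h1 := (IsLocalRing.mem_maximalIdeal _).mpr hnu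
    have h2 := (IsLocalRing.mem_maximalIdeal _).mpr hz
    have h3 := Ideal.sub_mem _ h2 h1
    rw [sub_sub_cancel] at h3
    exact (IsLocalRing.mem_maximalIdeal _).mp h3 hdu
  have hu' := hu.map p
  rw [map_sub, AlgHom.commutes] at hu'
  have h4 := PowerSeries.isUnit_iff_constantCoeff.mp hu'
  rw [map_sub] at h4
  have h5 : PowerSeries.constantCoeff
      (algebraMap k (PowerSeries k) (PowerSeries.constantCoeff (p z))) =
      PowerSeries.constantCoeff (p z) := PowerSeries.constantCoeff_C _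
  rw [h5, sub_self] at h4
  exact not_isUnit_zero h4

lemma not_isUnit_x {r : ℕ} : ¬ IsUnit (x k r) := by
  have : x k r ∈ IsLocalRing.maximalIdeal (ring k r) := by
    rw [maximalIdeal_eq]
    exact Ideal.subset_span (Set.mem_insert _ _)
  exact (IsLocalRing.mem_maximalIdeal _).mp this

lemma cc_algHom {r : ℕ} (p : ring k r →ₐ[k] PowerSeries k) (a : ring k r) :
    PowerSeries.constantCoeff (p a) = PowerSeries.constantCoeff (cA k r a) := by
  have hmem : a - algebraMap k (ring k r) (PowerSeries.constantCoeff (cA k r a)) ∈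
      IsLocalRing.maximalIdeal (ring k r) := by
    rw [maximalIdeal_eq, mem_span_xy_iff, cA_sub, cA_algebraMap, PowerSeries.X_dvd_iff, map_sub,
      PowerSeries.constantCoeff_C, sub_self]
  have h1 := constantCoeff_eq_zero_of_not_isUnit p ((IsLocalRing.mem_maximalIdeal _).mp hmem)
  rw [map_sub, AlgHom.commutes, map_sub] at h1
  have h5 : PowerSeries.constantCoeff
      (algebraMap k (PowerSeries k) (PowerSeries.constantCoeff (cA k r a))) =
      PowerSeries.constantCoeff (cA k r a) := PowerSeries.constantCoeff_C _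
  rw [h5] at h1
  exact sub_eq_zero.mp h1

/-- algebra maps from `k⟦x,y⟧/(y² - x^(r+1))` to `k⟦t⟧` are determined by `x` and `y` -/
lemma algHom_ext_Q {r : ℕ} (p q : ring k r →ₐ[k] PowerSeries k) (hx : p (x k r) = q (x k r))
    (hy : p (y k r) = q (y k r)) : p = q := by
  have hX : PowerSeries.X ∣ p (x k r) := by
    rw [PowerSeries.X_dvd_iff]
    exact constantCoeff_eq_zero_of_not_isUnit p not_isUnit_x
  have key := ringHom_ext_Q p.toRingHom q.toRingHom (fun c => by
      show p (algebraMap k _ c) = q (algebraMap k _ c)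
      rw [AlgHom.commutes, AlgHom.commutes]) hx hy hX
  exact AlgHom.ext fun a => RingHom.congr_fun key a

/-- the endomorphism `t ↦ S` of `k⟦t⟧` -/
lemma exists_sub (S : PowerSeries k) (hS : PowerSeries.constantCoeff S = 0) :
    ∃ Θ : PowerSeries k →ₐ[k] PowerSeries k, Θ PowerSeries.X = S :=
  ⟨PowerSeries.substAlgHom (PowerSeries.HasSubst.of_constantCoeff_zero' hS),
    PowerSeries.substAlgHom_X _⟩

/-- an endomorphism of the node algebra from its two branch components -/
theorem exists_end (h2 : (2 : k) ≠ 0) (p₁ p₂ : ring k 1 →ₐ[k] PowerSeries k) :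
    ∃ φ : ring k 1 →ₐ[k] ring k 1, (∀ a, brP (φ a) = p₁ a) ∧ ∀ a, brM (φ a) = p₂ a := by
  have hcc : ∀ a, PowerSeries.constantCoeff (p₁ a) = PowerSeries.constantCoeff (p₂ a) :=
    fun a => by rw [cc_algHom, cc_algHom]
  choose f hfP hfM using fun a => exists_of_br h2 (p₁ a) (p₂ a) (hcc a)
  refine ⟨{ toFun := f, map_one' := ?_, map_mul' := ?_, map_zero' := ?_, map_add' := ?_,
            commutes' := ?_ }, hfP, hfM⟩
  · exact br_ext h2 (by rw [hfP, map_one, map_one]) (by rw [hfM, map_one, map_one])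
  · intro a b
    exact br_ext h2 (by rw [hfP, map_mul, map_mul, hfP, hfP])
      (by rw [hfM, map_mul, map_mul, hfM, hfM])
  · exact br_ext h2 (by rw [hfP, map_zero, map_zero]) (by rw [hfM, map_zero, map_zero])
  · intro a b
    exact br_ext h2 (by rw [hfP, map_add, map_add, hfP, hfP])
      (by rw [hfM, map_add, map_add, hfM, hfM])
  · intro c
    exact br_ext h2 (by rw [hfP, AlgHom.commutes, AlgHom.commutes])
      (by rw [hfM, AlgHom.commutes, AlgHom.commutes])

/-- an automorphism of the node algebra from automorphisms of the two branches -/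
theorem exists_pairAut (h2 : (2 : k) ≠ 0) (τ₁ τ₂ : PowerSeries k ≃ₐ[k] PowerSeries k) :
    ∃ φ : ring k 1 ≃ₐ[k] ring k 1,
      (∀ a, brP (φ a) = τ₁ (brP a)) ∧ ∀ a, brM (φ a) = τ₂ (brM a) := by
  obtain ⟨f, hfP, hfM⟩ := exists_end h2 ((τ₁ : PowerSeries k →ₐ[k] PowerSeries k).comp brP)
    ((τ₂ : PowerSeries k →ₐ[k] PowerSeries k).comp brM)
  obtain ⟨g, hgP, hgM⟩ := exists_end h2
    ((τ₁.symm : PowerSeries k →ₐ[k] PowerSeries k).comp brP)
    ((τ₂.symm : PowerSeries k →ₐ[k] PowerSeries k).comp brM)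
  have hfP' : ∀ a, brP (f a) = τ₁ (brP a) := hfP
  have hfM' : ∀ a, brM (f a) = τ₂ (brM a) := hfM
  have hgP' : ∀ a, brP (g a) = τ₁.symm (brP a) := hgP
  have hgM' : ∀ a, brM (g a) = τ₂.symm (brM a) := hgM
  refine ⟨AlgEquiv.ofAlgHom f g (AlgHom.ext fun a => ?_) (AlgHom.ext fun a => ?_), hfP', hfM'⟩
  · apply br_ext h2
    · show brP (f (g a)) = brP a
      rw [hfP', hgP', AlgEquiv.apply_symm_apply]
    · show brM (f (g a)) = brM a
      rw [hfM', hgM', AlgEquiv.apply_symm_apply]
  · apply br_ext h2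
    · show brP (g (f a)) = brP a
      rw [hgP', hfP', AlgEquiv.symm_apply_apply]
    · show brM (g (f a)) = brM a
      rw [hgM', hfM', AlgEquiv.symm_apply_apply]

/-- the automorphism of the node algebra exchanging the two branches -/
theorem exists_swapAut (h2 : (2 : k) ≠ 0) :
    ∃ η : ring k 1 ≃ₐ[k] ring k 1, (∀ a, brP (η a) = brM a) ∧ ∀ a, brM (η a) = brP a := by
  obtain ⟨f, hfP, hfM⟩ := exists_end h2 (brM : ring k 1 →ₐ[k] PowerSeries k) brP
  refine ⟨AlgEquiv.ofAlgHom f f (AlgHom.ext fun a => ?_) (AlgHom.ext fun a => ?_), hfP, hfM⟩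
  · apply br_ext h2
    · show brP (f (f a)) = brP a
      rw [hfP, hfM]
    · show brM (f (f a)) = brM a
      rw [hfM, hfP]
  · apply br_ext h2
    · show brP (f (f a)) = brP a
      rw [hfP, hfM]
    · show brM (f (f a)) = brM a
      rw [hfM, hfP]

/-- linearisation of an involution of `k⟦t⟧` -/
theorem exists_linearise (h2 : (2 : k) ≠ 0) (Sg : PowerSeries k →ₐ[k] PowerSeries k)
    (hSg : ∀ f, Sg (Sg f) = f) :
    ∃ (ξ : k) (τ : PowerSeries k ≃ₐ[k] PowerSeries k), (ξ = 1 ∨ ξ = -1) ∧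
      ξ = PowerSeries.coeff 1 (Sg PowerSeries.X) ∧
      τ PowerSeries.X =
        PowerSeries.C (2⁻¹ : k) * (PowerSeries.X + PowerSeries.C ξ * Sg PowerSeries.X) ∧
      Sg (τ PowerSeries.X) = PowerSeries.C ξ * τ PowerSeries.X ∧ (ξ = 1 → ∀ f, Sg f = f) := by
  obtain ⟨hξ, τ, hτX, hτ⟩ := Groth.Agent.S14080.result k h2
    (AlgEquiv.ofAlgHom Sg Sg (AlgHom.ext hSg) (AlgHom.ext hSg)) hSg
  have hξ' : (PowerSeries.coeff 1 (Sg PowerSeries.X)) ^ 2 = 1 := hξ
  have hτX' : τ PowerSeries.X = PowerSeries.C (2⁻¹ : k) *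
      (PowerSeries.X + PowerSeries.C (PowerSeries.coeff 1 (Sg PowerSeries.X)) * Sg PowerSeries.X) :=
    hτX
  have hτ' : ∀ g, τ.symm (Sg (τ g)) =
      PowerSeries.rescale (PowerSeries.coeff 1 (Sg PowerSeries.X)) g := hτ
  have hSgC : ∀ c : k, Sg (PowerSeries.C c) = PowerSeries.C c := fun c => Sg.commutes c
  refine ⟨PowerSeries.coeff 1 (Sg PowerSeries.X), τ, ?_, rfl, hτX', ?_, ?_⟩
  · have h3 : (PowerSeries.coeff 1 (Sg PowerSeries.X) - 1) *
        (PowerSeries.coeff 1 (Sg PowerSeries.X) + 1) = 0 := by linear_combination hξ'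
    rcases mul_eq_zero.mp h3 with h | h
    · exact Or.inl (sub_eq_zero.mp h)
    · exact Or.inr (eq_neg_of_add_eq_zero_left h)
  · have hC2 : PowerSeries.C (PowerSeries.coeff 1 (Sg PowerSeries.X)) *
        PowerSeries.C (PowerSeries.coeff 1 (Sg PowerSeries.X)) = (1 : PowerSeries k) := by
      rw [← map_mul, ← pow_two, hξ', map_one]
    rw [hτX', map_mul, map_add, map_mul, hSgC, hSgC, hSg]
    linear_combination (-(PowerSeries.C (2⁻¹ : k) * Sg PowerSeries.X)) * hC2
  · intro h1 f
    obtain ⟨g, rfl⟩ := τ.surjective f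
    have h3 := hτ' g
    rw [h1, PowerSeries.rescale_one, RingHom.id_apply] at h3
    have h4 := congrArg τ h3
    rwa [AlgEquiv.apply_symm_apply] at h4

end Groth.Agent.Lib.Helper76.ArInvNode
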