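import Groth.Agent.Lib.Helper76.ArInvGen

/-!
# The two branches of `k⟦x,y⟧/(y² - x^(2m))` (helper76)

* `bP`, `bM`: restriction to the branches `y = x^m`, `y = -x^m`;
* `b_ext`, `exists_of_b`: the algebra is the fibre product of its branches over `k⟦t⟧/(t^m)`;
* `key`: for an involution `σ` and a sign `ε` with `1 + ε θ ≠ 0` (`θ` the linear coefficient of
  `σ x` on a branch), new coordinates `x' = (x + ε σ x)/2`, `y'` with `σ x' = ε x'`.
-/

set_option autoImplicit false
universe u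

namespace Groth.Agent.Lib.Helper76.ArInvOdd

open ArSing Groth.Agent.Lib.Helper76.ArNF Groth.Agent.Lib.Helper76.ArInvNode
open Groth.Agent.Lib.Helper76.ArInvGen

variable {k : Type u} [Field k] {r m : ℕ}

/-- restriction to the branch `y = x^m` -/
noncomputable def bP (hm : r + 1 = 2 * m) : ring k r →ₐ[k] PowerSeries k where
  toFun a := cA k r a + PowerSeries.X ^ m * cB k r a
  map_one' := by rw [cA_one, cB_one, mul_zero, add_zero]
  map_mul' a b := by
    have hX : (PowerSeries.X : PowerSeries k) ^ (r + 1) = PowerSeries.X ^ m * PowerSeries.X ^ m := by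
      rw [hm, two_mul, pow_add]
    rw [cA_mul, cB_mul, hX]
    ring
  map_zero' := by rw [cA_zero, cB_zero, mul_zero, add_zero]
  map_add' a b := by
    rw [cA_add, cB_add]
    ring
  commutes' c := by
    rw [cA_algebraMap, cB_algebraMap, mul_zero, add_zero]
    rfl

/-- restriction to the branch `y = -x^m` -/
noncomputable def bM (hm : r + 1 = 2 * m) : ring k r →ₐ[k] PowerSeries k where
  toFun a := cA k r a - PowerSeries.X ^ m * cB k r a
  map_one' := by rw [cA_one, cB_one, mul_zero, sub_zero]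
  map_mul' a b := by
    have hX : (PowerSeries.X : PowerSeries k) ^ (r + 1) = PowerSeries.X ^ m * PowerSeries.X ^ m := by
      rw [hm, two_mul, pow_add]
    rw [cA_mul, cB_mul, hX]
    ring
  map_zero' := by rw [cA_zero, cB_zero, mul_zero, sub_zero]
  map_add' a b := by
    rw [cA_add, cB_add]
    ring
  commutes' c := by
    rw [cA_algebraMap, cB_algebraMap, mul_zero, sub_zero]
    rfl

lemma bP_apply (hm : r + 1 = 2 * m) (a : ring k r) :
    bP hm a = cA k r a + PowerSeries.X ^ m * cB k r a := rfl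

lemma bM_apply (hm : r + 1 = 2 * m) (a : ring k r) :
    bM hm a = cA k r a - PowerSeries.X ^ m * cB k r a := rfl

@[simp] lemma bP_x (hm : r + 1 = 2 * m) : bP hm (x k r) = PowerSeries.X := by
  rw [bP_apply, cA_x, cB_x, mul_zero, add_zero]
@[simp] lemma bP_y (hm : r + 1 = 2 * m) : bP hm (y k r) = PowerSeries.X ^ m := by
  rw [bP_apply, cA_y, cB_y, mul_one, zero_add]
@[simp] lemma bM_x (hm : r + 1 = 2 * m) : bM hm (x k r) = PowerSeries.X := by
  rw [bM_apply, cA_x, cB_x, mul_zero, sub_zero]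
@[simp] lemma bM_y (hm : r + 1 = 2 * m) : bM hm (y k r) = -PowerSeries.X ^ m := by
  rw [bM_apply, cA_y, cB_y, mul_one, zero_sub]

lemma bP_xMap (hm : r + 1 = 2 * m) (f : PowerSeries k) : bP hm (xMap k r f) = f := by
  rw [bP_apply, cA_xMap, cB_xMap, mul_zero, add_zero]

lemma bM_xMap (hm : r + 1 = 2 * m) (f : PowerSeries k) : bM hm (xMap k r f) = f := by
  rw [bM_apply, cA_xMap, cB_xMap, mul_zero, sub_zero]

/-- the two branches separate points (`2 ≠ 0`) -/
lemma b_ext (h2 : (2 : k) ≠ 0) (hm : r + 1 = 2 * m) {a b : ring k r}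
    (hP : bP hm a = bP hm b) (hM : bM hm a = bM hm b) : a = b := by
  rw [bP_apply, bP_apply] at hP
  rw [bM_apply, bM_apply] at hM
  have h2' := two_ne_zero_ps h2
  have hA : cA k r a = cA k r b := by
    apply mul_left_cancel₀ h2'
    linear_combination hP + hM
  have hB : cB k r a = cB k r b := by
    apply mul_left_cancel₀ h2'
    apply mul_left_cancel₀ (pow_ne_zero m (PowerSeries.X_ne_zero (R := k)))
    linear_combination hP - hM
  exact coords_ext hA hB

/-- the algebra is the fibre product of its two branches -/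
lemma exists_of_b (h2 : (2 : k) ≠ 0) (hm : r + 1 = 2 * m) (f g : PowerSeries k)
    (h : (PowerSeries.X : PowerSeries k) ^ m ∣ f - g) :
    ∃ a : ring k r, bP hm a = f ∧ bM hm a = g := by
  obtain ⟨δ, hδ⟩ := h
  have h2c : PowerSeries.C (2⁻¹ : k) * 2 = 1 := by
    rw [← map_ofNat (PowerSeries.C (R := k)) 2, ← map_mul, inv_mul_cancel₀ h2, map_one]
  refine ⟨xMap k r (PowerSeries.C (2⁻¹ : k) * (f + g)) +
    xMap k r (PowerSeries.C (2⁻¹ : k) * δ) * y k r, ?_, ?_⟩
  · rw [bP_apply, cA_mk, cB_mk]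
    linear_combination f * h2c - PowerSeries.C (2⁻¹ : k) * hδ
  · rw [bM_apply, cA_mk, cB_mk]
    linear_combination g * h2c + PowerSeries.C (2⁻¹ : k) * hδ

lemma dvd_bP_sub_bM (hm : r + 1 = 2 * m) (a : ring k r) :
    (PowerSeries.X : PowerSeries k) ^ m ∣ bP hm a - bM hm a :=
  ⟨2 * cB k r a, by rw [bP_apply, bM_apply]; ring⟩

lemma coeff_one_bP (hm : r + 1 = 2 * m) (hm2 : 2 ≤ m) (a : ring k r) :
    PowerSeries.coeff 1 (bP hm a) = PowerSeries.coeff 1 (cA k r a) := by
  rw [bP_apply, map_add, PowerSeries.coeff_X_pow_mul', if_neg (by omega), add_zero]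

lemma two_mul_cc_cB (hm : r + 1 = 2 * m) (a : ring k r) :
    2 * PowerSeries.constantCoeff (cB k r a) = PowerSeries.coeff m (bP hm a - bM hm a) := by
  have e : bP hm a - bM hm a =
      PowerSeries.X ^ m * cB k r a + PowerSeries.X ^ m * cB k r a := by
    rw [bP_apply, bM_apply]
    ring
  rw [e, map_add, PowerSeries.coeff_X_pow_mul', if_pos le_rfl, Nat.sub_self,
    PowerSeries.coeff_zero_eq_constantCoeff_apply, two_mul]

/-- new coordinates adapted to an involution -/
theorem key (h2 : (2 : k) ≠ 0) (hm : r + 1 = 2 * m) (hm2 : 2 ≤ m)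
    (σ : ring k r ≃ₐ[k] ring k r) (hσ : ∀ a, σ (σ a) = a) (ε : k) (hε : ε = 1 ∨ ε = -1)
    (hθ : 1 + ε * PowerSeries.coeff 1 (bP hm (σ (x k r))) ≠ 0) :
    ∃ (φ : ring k r ≃ₐ[k] ring k r) (y' : ring k r),
      σ (φ (x k r)) = algebraMap k (ring k r) ε * φ (x k r) ∧ φ (y k r) = y' ∧
      bP hm y' = (bP hm (φ (x k r))) ^ m ∧ bM hm y' = -(bM hm (φ (x k r))) ^ m := by
  have hC : ∀ c : k, algebraMap k (PowerSeries k) c = PowerSeries.C c := fun c => rfl
  have ha0 : PowerSeries.constantCoeff (bP hm (σ (x k r))) = 0 :=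
    constantCoeff_eq_zero_of_not_isUnit ((bP hm).comp (σ : ring k r →ₐ[k] ring k r)) not_isUnit_x
  have hc0 : PowerSeries.constantCoeff (bM hm (σ (x k r))) = 0 :=
    constantCoeff_eq_zero_of_not_isUnit ((bM hm).comp (σ : ring k r →ₐ[k] ring k r)) not_isUnit_x
  have hac1 : PowerSeries.coeff 1 (bM hm (σ (x k r))) =
      PowerSeries.coeff 1 (bP hm (σ (x k r))) := by
    have h := PowerSeries.X_pow_dvd_iff.mp (dvd_bP_sub_bM hm (σ (x k r))) 1 (by omega)
    rw [map_sub] at h
    exact (sub_eq_zero.mp h).symm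
  obtain ⟨x', hx'⟩ : ∃ x' : ring k r, x' = algebraMap k (ring k r) 2⁻¹ *
      (x k r + algebraMap k (ring k r) ε * σ (x k r)) := ⟨_, rfl⟩
  have hε2 : algebraMap k (ring k r) ε * algebraMap k (ring k r) ε = 1 := by
    rw [← map_mul]
    rcases hε with rfl | rfl <;> simp
  have hσx' : σ x' = algebraMap k (ring k r) ε * x' := by
    rw [hx', map_mul, map_add, map_mul, AlgEquiv.commutes, AlgEquiv.commutes, hσ]
    linear_combination (-(algebraMap k (ring k r) 2⁻¹ * σ (x k r))) * hε2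
  have hp : bP hm x' = PowerSeries.C (2⁻¹ : k) *
      (PowerSeries.X + PowerSeries.C ε * bP hm (σ (x k r))) := by
    rw [hx', map_mul, map_add, map_mul, AlgHom.commutes, AlgHom.commutes, bP_x, hC, hC]
  have hq : bM hm x' = PowerSeries.C (2⁻¹ : k) *
      (PowerSeries.X + PowerSeries.C ε * bM hm (σ (x k r))) := by
    rw [hx', map_mul, map_add, map_mul, AlgHom.commutes, AlgHom.commutes, bM_x, hC, hC]
  have hp0 : PowerSeries.constantCoeff (bP hm x') = 0 := by
    rw [hp, map_mul, map_add, map_mul, ha0, PowerSeries.constantCoeff_X, mul_zero, add_zero,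
      mul_zero]
  have hq0 : PowerSeries.constantCoeff (bM hm x') = 0 := by
    rw [hq, map_mul, map_add, map_mul, hc0, PowerSeries.constantCoeff_X, mul_zero, add_zero,
      mul_zero]
  obtain ⟨lam, hlam⟩ : ∃ lam : k,
      lam = 2⁻¹ * (1 + ε * PowerSeries.coeff 1 (bP hm (σ (x k r)))) := ⟨_, rfl⟩
  have hlam0 : lam ≠ 0 := by
    rw [hlam]
    exact mul_ne_zero (inv_ne_zero h2) hθ
  have hp1 : PowerSeries.coeff 1 (bP hm x') = lam := by
    rw [hp, PowerSeries.coeff_C_mul, map_add, PowerSeries.coeff_C_mul, PowerSeries.coeff_one_X,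
      hlam]
  have hq1 : PowerSeries.coeff 1 (bM hm x') = lam := by
    rw [hq, PowerSeries.coeff_C_mul, map_add, PowerSeries.coeff_C_mul, PowerSeries.coeff_one_X,
      hac1, hlam]
  have hdvd : (PowerSeries.X : PowerSeries k) ^ m ∣ (bP hm x') ^ m - -(bM hm x') ^ m := by
    rw [sub_neg_eq_add]
    exact dvd_add (pow_dvd_pow_of_dvd (PowerSeries.X_dvd_iff.mpr hp0) m)
      (pow_dvd_pow_of_dvd (PowerSeries.X_dvd_iff.mpr hq0) m)
  obtain ⟨y', hPy, hMy⟩ := exists_of_b h2 hm _ _ hdvd
  have hpow : ∀ z : PowerSeries k, z ^ (r + 1) = (z ^ m) ^ 2 := fun z => by rw [hm, pow_mul']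
  have hrel : y' ^ 2 = x' ^ (r + 1) := by
    apply b_ext h2 hm
    · rw [map_pow, map_pow, hPy, hpow]
    · rw [map_pow, map_pow, hMy, hpow, neg_sq]
  have hx0 : PowerSeries.constantCoeff (cA k r x') = 0 := by
    rw [← cc_algHom (bP hm), hp0]
  have hy0 : PowerSeries.constantCoeff (cA k r y') = 0 := by
    rw [← cc_algHom (bP hm), hPy, map_pow, hp0, zero_pow (by omega)]
  have c1 : PowerSeries.coeff 1 (cA k r x') = lam := by
    rw [← coeff_one_bP hm hm2, hp1]
  have c3 : PowerSeries.coeff 1 (cA k r y') = 0 := by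
    rw [← coeff_one_bP hm hm2, hPy, coeff_pow_of_lt hp0 (n := m) (j := 1) (by omega)]
  have c2 : PowerSeries.constantCoeff (cB k r y') = lam ^ m := by
    have h := two_mul_cc_cB hm y'
    rw [hPy, hMy, sub_neg_eq_add, map_add, coeff_pow_self hp0, coeff_pow_self hq0, hp1, hq1] at h
    apply mul_left_cancel₀ h2
    linear_combination h
  obtain ⟨φ, hφx, hφy⟩ := exists_aut x' y' hrel hx0 hy0 (by
    rw [c1, c2, c3, mul_zero, sub_zero, ← pow_succ']
    exact pow_ne_zero _ hlam0)
  refine ⟨φ, y', ?_, hφy, ?_, ?_⟩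
  · rw [hφx]; exact hσx'
  · rw [hφx]; exact hPy
  · rw [hφx]; exact hMy

/-- transporting eigen-relations through a conjugation -/
lemma finish {A : Type*} [CommRing A] [Algebra k A] (φ σ : A ≃ₐ[k] A) {x y : A} {ε η : k}
    (hx : σ (φ x) = algebraMap k A ε * φ x) (hy : σ (φ y) = algebraMap k A η * φ y) :
    φ.symm (σ (φ x)) = algebraMap k A ε * x ∧ φ.symm (σ (φ y)) = algebraMap k A η * y := by
  constructor
  · rw [hx, map_mul, AlgEquiv.commutes, AlgEquiv.symm_apply_apply]
  · rw [hy, map_mul, AlgEquiv.commutes, AlgEquiv.symm_apply_apply]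

end Groth.Agent.Lib.Helper76.ArInvOdd
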