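import Groth.Agent.Lib.Helper76.ArNF
import Mathlib.RingTheory.Flat.EquationalCriterion

/-!
# Involutions and even/odd parts for `k⟦x,y⟧/(y² - x^(r+1))` (helper76)

* `N = rescale (-1)`, `E = expand 2`, `ev`, `od`: even and odd parts of a power series;
* `comp_xMap_eq`: an algebra map composed with `xMap` is `xMap ∘ T` when they agree on `t`;
* `exists_of_flat_of_relation`: the equational criterion for a two-term relation;
* `length_quot_of_isMaximal`.
-/

set_option autoImplicit false
universe u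

namespace Groth.Agent.Lib.Helper76.ArNF

open ArSing

section PS

variable {k : Type u} [Field k]

/-- `t ↦ -t` -/
noncomputable abbrev N : PowerSeries k →+* PowerSeries k := PowerSeries.rescale (-1 : k)

/-- `t ↦ t²` -/
noncomputable abbrev E : PowerSeries k →ₐ[k] PowerSeries k := PowerSeries.expand 2 two_ne_zero

lemma coeff_N (α : PowerSeries k) (n : ℕ) :
    PowerSeries.coeff n (N α) = (-1) ^ n * PowerSeries.coeff n α :=
  PowerSeries.coeff_rescale α (-1) n

lemma N_C (c : k) : N (PowerSeries.C c) = PowerSeries.C c := by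
  ext n
  rw [coeff_N, PowerSeries.coeff_C]
  split_ifs with h
  · subst h
    simp
  · simp

lemma N_X : N (PowerSeries.X : PowerSeries k) = -PowerSeries.X := PowerSeries.rescale_neg_one_X

lemma coeff_E_even (a : PowerSeries k) (j : ℕ) :
    PowerSeries.coeff (2 * j) (E a) = PowerSeries.coeff j a :=
  PowerSeries.coeff_expand_mul 2 two_ne_zero a j

lemma coeff_E_odd (a : PowerSeries k) (j : ℕ) :
    PowerSeries.coeff (2 * j + 1) (E a) = 0 :=
  PowerSeries.coeff_expand_of_not_dvd 2 two_ne_zero a (by omega)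

lemma coeff_X_mul_E_even (b : PowerSeries k) (j : ℕ) :
    PowerSeries.coeff (2 * j) (PowerSeries.X * E b) = 0 := by
  rcases j with _ | j
  · exact PowerSeries.coeff_zero_X_mul _
  · have : 2 * (j + 1) = (2 * j + 1) + 1 := by ring
    rw [this, PowerSeries.coeff_succ_X_mul, coeff_E_odd]

lemma coeff_X_mul_E_odd (b : PowerSeries k) (j : ℕ) :
    PowerSeries.coeff (2 * j + 1) (PowerSeries.X * E b) = PowerSeries.coeff j b := by
  rw [PowerSeries.coeff_succ_X_mul, coeff_E_even]

/-- even part -/
noncomputable def ev (α : PowerSeries k) : PowerSeries k :=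
  PowerSeries.mk fun n => PowerSeries.coeff (2 * n) α

/-- odd part -/
noncomputable def od (α : PowerSeries k) : PowerSeries k :=
  PowerSeries.mk fun n => PowerSeries.coeff (2 * n + 1) α

lemma eo_decomp (α : PowerSeries k) : α = E (ev α) + PowerSeries.X * E (od α) := by
  ext n
  obtain ⟨j, rfl | rfl⟩ := Nat.even_or_odd' n
  · rw [map_add, coeff_E_even, coeff_X_mul_E_even, add_zero, ev, PowerSeries.coeff_mk]
  · rw [map_add, coeff_E_odd, coeff_X_mul_E_odd, zero_add, od, PowerSeries.coeff_mk]

@[simp] lemma ev_eo (a b : PowerSeries k) : ev (E a + PowerSeries.X * E b) = a := by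
  ext j
  rw [ev, PowerSeries.coeff_mk, map_add, coeff_E_even, coeff_X_mul_E_even, add_zero]

@[simp] lemma od_eo (a b : PowerSeries k) : od (E a + PowerSeries.X * E b) = b := by
  ext j
  rw [od, PowerSeries.coeff_mk, map_add, coeff_E_odd, coeff_X_mul_E_odd, zero_add]

lemma E_injective : Function.Injective (E : PowerSeries k → PowerSeries k) := by
  intro a b h
  have h1 : ev (E a + PowerSeries.X * E 0) = ev (E b + PowerSeries.X * E 0) := by rw [h]
  rwa [ev_eo, ev_eo] at h1

lemma N_E (a : PowerSeries k) : N (E a) = E a := by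
  ext n
  rw [coeff_N]
  obtain ⟨j, rfl | rfl⟩ := Nat.even_or_odd' n
  · rw [pow_mul, neg_one_sq, one_pow, one_mul]
  · rw [coeff_E_odd, mul_zero]

lemma N_X_mul_E (b : PowerSeries k) : N (PowerSeries.X * E b) = -(PowerSeries.X * E b) := by
  rw [map_mul, N_X, N_E, neg_mul]

lemma N_eq_self (h2 : (2 : k) ≠ 0) {α : PowerSeries k} (h : N α = α) : α = E (ev α) := by
  have h0 : od α = 0 := by
    ext j
    rw [od, PowerSeries.coeff_mk, map_zero]
    have h1 := congrArg (PowerSeries.coeff (2 * j + 1)) h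
    rw [coeff_N, pow_succ, pow_mul, neg_one_sq, one_pow, one_mul, neg_one_mul] at h1
    have h3 : (2 : k) * PowerSeries.coeff (2 * j + 1) α = 0 := by linear_combination -h1
    exact (mul_eq_zero.mp h3).resolve_left h2
  conv_lhs => rw [eo_decomp α, h0, map_zero, mul_zero, add_zero]

lemma N_eq_neg (h2 : (2 : k) ≠ 0) {β : PowerSeries k} (h : N β = -β) :
    β = PowerSeries.X * E (od β) := by
  have h0 : ev β = 0 := by
    ext j
    rw [ev, PowerSeries.coeff_mk, map_zero]
    have h1 := congrArg (PowerSeries.coeff (2 * j)) h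
    rw [coeff_N, pow_mul, neg_one_sq, one_pow, one_mul, map_neg] at h1
    have h3 : (2 : k) * PowerSeries.coeff (2 * j) β = 0 := by linear_combination h1
    exact (mul_eq_zero.mp h3).resolve_left h2
  conv_lhs => rw [eo_decomp β, h0, map_zero, zero_add]

lemma X_dvd_N_sub (α : PowerSeries k) : PowerSeries.X ∣ N α - α := by
  rw [PowerSeries.X_dvd_iff, ← PowerSeries.coeff_zero_eq_constantCoeff_apply, map_sub, coeff_N,
    pow_zero, one_mul, sub_self]

end PS

section general

lemma length_quot_of_isMaximal {Q : Type*} [CommRing Q] (𝔪 : Ideal Q) [h𝔪 : 𝔪.IsMaximal] :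
    Module.length Q (Q ⧸ 𝔪) = 1 :=
  Module.length_eq_one_iff.mpr (isSimpleModule_iff_isCoatom.mpr (Ideal.isMaximal_def.mp h𝔪))

/-- the equational criterion of flatness for a relation with two terms -/
theorem exists_of_flat_of_relation {B Q : Type*} [CommRing B] [CommRing Q] (f : B →+* Q)
    (hf : f.Flat) (b₁ b₂ : B) (q₁ q₂ : Q) (h : f b₁ * q₁ + f b₂ * q₂ = 0) :
    ∃ (n : ℕ) (a₁ a₂ : Fin n → B) (y : Fin n → Q),
      q₁ = ∑ j, f (a₁ j) * y j ∧ q₂ = ∑ j, f (a₂ j) * y j ∧ ∀ j, b₁ * a₁ j + b₂ * a₂ j = 0 := by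
  letI : Algebra B Q := f.toAlgebra
  haveI : Module.Flat B Q := hf
  have h' : ∑ i : Fin 2, (![b₁, b₂] i) • (![q₁, q₂] i) = 0 := by
    rw [Fin.sum_univ_two]
    exact h
  obtain ⟨n, a, y, h1, h2⟩ := Module.Flat.isTrivialRelation_of_sum_smul_eq_zero h'
  refine ⟨n, a 0, a 1, y, h1 0, h1 1, fun j => ?_⟩
  have := h2 j
  rw [Fin.sum_univ_two] at this
  exact this

end general

section comp

variable {k : Type u} [Field k]

/-- an algebra map composed with `xMap` is `xMap ∘ T` as soon as both agree on the variable -/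
theorem comp_xMap_eq {r' r : ℕ} (φ : ring k r' →ₐ[k] ring k r)
    (T : PowerSeries k →+* PowerSeries k)
    (hT : ∀ c, T (PowerSeries.C c) = PowerSeries.C c) (u : ring k r)
    (h : φ (x k r') = xMap k r (T PowerSeries.X)) (hx : φ (x k r') = x k r * u)
    (α : PowerSeries k) : φ (xMap k r' α) = xMap k r (T α) := by
  have key := ringHom_ext_X (k := k) (r := r) ((φ.comp (xMap k r')).toRingHom)
    ((xMap k r).toRingHom.comp T) (fun c => ?_) ?_ ?_
  · exact RingHom.congr_fun key α
  · show φ (xMap k r' (PowerSeries.C c)) = xMap k r (T (PowerSeries.C c))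
    rw [hT]
    have : (PowerSeries.C c : PowerSeries k) = algebraMap k (PowerSeries k) c := rfl
    rw [this, AlgHom.commutes, AlgHom.commutes, AlgHom.commutes]
  · show φ (xMap k r' PowerSeries.X) = xMap k r (T PowerSeries.X)
    rw [xMap_X, h]
  · refine ⟨u, ?_⟩
    show φ (xMap k r' PowerSeries.X) = _
    rw [xMap_X, hx]

/-- an algebra map sending `x ↦ -x` acts as `t ↦ -t` on `xMap` -/
theorem comp_xMap_neg {r : ℕ} (φ : ring k r →ₐ[k] ring k r) (h : φ (x k r) = -x k r)
    (α : PowerSeries k) : φ (xMap k r α) = xMap k r (N α) :=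
  comp_xMap_eq φ N N_C (-1) (by rw [N_X, map_neg, xMap_X, h]) (by rw [h]; ring) α

/-- an algebra map sending `x ↦ x²` acts as `t ↦ t²` on `xMap` -/
theorem comp_xMap_sq {r' r : ℕ} (φ : ring k r' →ₐ[k] ring k r) (h : φ (x k r') = x k r ^ 2)
    (α : PowerSeries k) : φ (xMap k r' α) = xMap k r (E α) :=
  comp_xMap_eq φ (E : PowerSeries k →ₐ[k] PowerSeries k).toRingHom
    (fun c => PowerSeries.expand_C 2 two_ne_zero c) (x k r)
    (by
      show φ (x k r') = xMap k r (E PowerSeries.X)
      rw [PowerSeries.expand_X, xMap_X_pow, h])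
    (by rw [h]; ring) α

end comp

end Groth.Agent.Lib.Helper76.ArNF
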