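import Groth.Agent.Lib.Helper76.ArLefPS
import Groth.Agent.Lib.Helper76.PSComplete
import Groth.Agent.Lib.Helper76.ArNF2
import Mathlib.RingTheory.MvPowerSeries.NoZeroDivisors
import Mathlib.RingTheory.MvPowerSeries.Trunc
import Mathlib.RingTheory.MvPowerSeries.Rename
import Mathlib.RingTheory.MvPowerSeries.Equiv
import Mathlib.RingTheory.PowerSeries.NoZeroDivisors

/-!
# The formal double point `B⟦t,e⟧/(te - π)` over a discrete valuation ring (helper76)

* general: `length_span_pair_pow` (`length Q/(f, p^n) = n · length Q/(f, p)` for a prime `p ∤ f`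
  in a domain), `noZeroDivisors_of_prime` (a noetherian local ring with a regular prime element
  is a domain), `X_prime_two`;
* `mkN_X_dvd_iff`: divisibility by `t`, `e` is read off modulo `π`;
* `prime_mkN_X`, `not_t_dvd_e`, `not_e_dvd_t`, `t_regular`, `isDomain_node`, `isLocalRing_node`,
  `mem_span_t_e_iff`, `isMaximal_span_t_e`;
* `sub_mem_node`: the fixed-point ideal of an automorphism is generated by its values on `B`, `t`
  and `e` (Krull closure).
-/

set_option autoImplicit false
universe u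

namespace Groth.Agent.Lib.Helper76.ArLefNode

open MvPowerSeries
open Groth.Agent.Lib.Helper76.LT Groth.Agent.Lib.Helper76.PSInv
open Groth.Agent.Lib.Helper76.PSComplete Groth.Agent.Lib.Helper76.ArNF

section general

variable {Q : Type*} [CommRing Q]

theorem dvd_of_dvd_mul_prime [IsDomain Q] {p f : Q} (hp : Prime p) (hf : ¬ p ∣ f) {a : Q}
    (h : f ∣ a * p) : f ∣ a := by
  obtain ⟨c, hc⟩ := h
  have h1 : p ∣ f * c := ⟨a, by rw [← hc]; ring⟩
  rcases hp.dvd_or_dvd h1 with h2 | h2
  · exact absurd h2 hf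
  · obtain ⟨c', rfl⟩ := h2
    refine ⟨c', ?_⟩
    apply mul_right_cancel₀ hp.ne_zero
    rw [hc]
    ring

theorem dvd_of_dvd_mul_prime_pow [IsDomain Q] {p f : Q} (hp : Prime p) (hf : ¬ p ∣ f) (n : ℕ)
    {a : Q} (h : f ∣ a * p ^ n) : f ∣ a := by
  induction n generalizing a with
  | zero => simpa using h
  | succ n ih =>
    apply ih
    apply dvd_of_dvd_mul_prime hp hf
    rw [mul_assoc, ← pow_succ]
    exact h

theorem length_span_pair_pow [IsDomain Q] {p f : Q} (hp : Prime p) (hf : ¬ p ∣ f) (n : ℕ) :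
    Module.length Q (Q ⧸ Ideal.span {f, p ^ n}) =
      (n : ℕ∞) * Module.length Q (Q ⧸ Ideal.span {f, p}) := by
  induction n with
  | zero =>
    have : Ideal.span {f, p ^ 0} = ⊤ := by
      rw [Ideal.eq_top_iff_one, pow_zero]
      exact Ideal.subset_span (by simp)
    rw [this, Nat.cast_zero, zero_mul]
    exact Module.length_eq_zero_iff.mpr (Ideal.Quotient.subsingleton_iff.mpr rfl)
  | succ n ih =>
    have hstep := ArLefPS.length_exact_mul (Ideal.span {f, p}) (Ideal.span {f, p ^ (n + 1)})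
      (p ^ n) (by
        intro a
        rw [Ideal.mem_span_pair, Ideal.mem_span_pair]
        constructor
        · rintro ⟨u, v, huv⟩
          have h1 : f ∣ (a - v * p) * p ^ n := ⟨u, by linear_combination -huv⟩
          obtain ⟨w, hw⟩ := dvd_of_dvd_mul_prime_pow hp hf n h1
          exact ⟨w, v, by linear_combination -hw⟩
        · rintro ⟨u, v, huv⟩
          exact ⟨u * p ^ n, v, by rw [← huv]; ring⟩)
    have hsup : Ideal.span {f, p ^ (n + 1)} ⊔ Ideal.span {p ^ n} = Ideal.span {f, p ^ n} := by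
      apply le_antisymm
      · refine sup_le ?_ ?_
        · rw [Ideal.span_le]
          intro z hz
          simp only [Set.mem_insert_iff, Set.mem_singleton_iff] at hz
          rcases hz with rfl | rfl
          · exact Ideal.subset_span (by simp)
          · rw [pow_succ]
            exact Ideal.mul_mem_right _ _ (Ideal.subset_span (by simp))
        · rw [Ideal.span_le]
          intro z hz
          simp only [Set.mem_singleton_iff] at hz
          subst hz
          exact Ideal.subset_span (by simp)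
      · rw [Ideal.span_le]
        intro z hz
        simp only [Set.mem_insert_iff, Set.mem_singleton_iff] at hz
        rcases hz with rfl | rfl
        · exact Ideal.mem_sup_left (Ideal.subset_span (by simp))
        · exact Ideal.mem_sup_right (Ideal.subset_span (by simp))
    rw [hsup] at hstep
    rw [hstep, ih]
    push_cast
    ring

/-- additivity of colength in the first generator: if `x` is regular modulo `w` then
`length Q/(xy, w) = length Q/(y, w) + length Q/(x, w)` -/
theorem length_mul_pair (x y w : Q) (hreg : ∀ v, w ∣ x * v → w ∣ v) :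
    Module.length Q (Q ⧸ Ideal.span {x * y, w}) =
      Module.length Q (Q ⧸ Ideal.span {y, w}) + Module.length Q (Q ⧸ Ideal.span {x, w}) := by
  have hstep := ArLefPS.length_exact_mul (Ideal.span {y, w}) (Ideal.span {x * y, w}) x (by
    intro u
    rw [Ideal.mem_span_pair, Ideal.mem_span_pair]
    constructor
    · rintro ⟨c, d, hcd⟩
      have h1 : w ∣ x * (u - c * y) := ⟨d, by linear_combination -hcd⟩
      obtain ⟨d', hd'⟩ := hreg _ h1
      exact ⟨c, d', by linear_combination -hd'⟩
    · rintro ⟨c, d, hcd⟩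
      exact ⟨c, d * x, by rw [← hcd]; ring⟩)
  have hsup : Ideal.span {x * y, w} ⊔ Ideal.span {x} = Ideal.span {x, w} := by
    apply le_antisymm
    · refine sup_le ?_ ?_
      · rw [Ideal.span_le]
        intro z hz
        simp only [Set.mem_insert_iff, Set.mem_singleton_iff] at hz
        rcases hz with rfl | rfl
        · exact Ideal.mul_mem_right _ _ (Ideal.subset_span (by simp))
        · exact Ideal.subset_span (by simp)
      · rw [Ideal.span_le]
        intro z hz
        simp only [Set.mem_singleton_iff] at hz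
        subst hz
        exact Ideal.subset_span (by simp)
    · rw [Ideal.span_le]
      intro z hz
      simp only [Set.mem_insert_iff, Set.mem_singleton_iff] at hz
      rcases hz with rfl | rfl
      · exact Ideal.mem_sup_right (Ideal.subset_span (by simp))
      · exact Ideal.mem_sup_left (Ideal.subset_span (by simp))
  rw [hsup] at hstep
  exact hstep

theorem noZeroDivisors_of_prime [IsNoetherianRing Q] [IsLocalRing Q] {t : Q} (ht : Prime t)
    (hreg : ∀ x, t * x = 0 → x = 0) : NoZeroDivisors Q := by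
  have hpow : ∀ (n : ℕ) (x : Q), t ^ n * x = 0 → x = 0 := by
    intro n
    induction n with
    | zero =>
      intro x hx
      simpa using hx
    | succ n ih =>
      intro x hx
      apply ih
      apply hreg
      rw [← mul_assoc, ← pow_succ']
      exact hx
  have hsep : ∀ x : Q, x ≠ 0 → ∃ (n : ℕ) (x' : Q), x = t ^ n * x' ∧ ¬ t ∣ x' := by
    intro x hx
    classical
    have hex : ∃ n : ℕ, ¬ t ^ n ∣ x := by
      by_contra hcon
      apply hx
      have hall : ∀ n : ℕ, t ^ n ∣ x := fun n => by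
        by_contra h
        exact hcon ⟨n, h⟩
      have htop : Ideal.span {t} ≠ (⊤ : Ideal Q) := by
        rw [Ne, Ideal.span_singleton_eq_top]
        exact ht.not_unit
      have hbot := Ideal.iInf_pow_eq_bot_of_isLocalRing (Ideal.span {t}) htop
      have hx' : x ∈ ⨅ i : ℕ, Ideal.span {t} ^ i := by
        rw [Ideal.mem_iInf]
        intro n
        rw [Ideal.span_singleton_pow, Ideal.mem_span_singleton]
        exact hall n
      rw [hbot] at hx'
      exact Ideal.mem_bot.mp hx'
    have hm := Nat.find_spec hex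
    have hmin : ∀ n < Nat.find hex, t ^ n ∣ x := fun n hn => not_not.mp (Nat.find_min hex hn)
    have hm0 : Nat.find hex ≠ 0 := by
      intro h0
      rw [h0, pow_zero] at hm
      exact hm (one_dvd x)
    obtain ⟨m, hm'⟩ := Nat.exists_eq_succ_of_ne_zero hm0
    obtain ⟨x', hx'⟩ := hmin m (by omega)
    refine ⟨m, x', hx', fun hd => ?_⟩
    obtain ⟨x'', rfl⟩ := hd
    apply hm
    rw [hm']
    exact ⟨x'', hx'.trans (by rw [Nat.succ_eq_add_one, pow_succ]; ring)⟩
  refine ⟨fun {a b} hab => ?_⟩
  by_contra hcon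
  rw [not_or] at hcon
  obtain ⟨m, a', rfl, ha'⟩ := hsep a hcon.1
  obtain ⟨n, b', rfl, hb'⟩ := hsep b hcon.2
  have h0 : a' * b' = 0 := by
    apply hpow (m + n)
    rw [← hab, pow_add]
    ring
  have hd : t ∣ a' * b' := by
    rw [h0]
    exact dvd_zero t
  rcases ht.dvd_or_dvd hd with h | h
  · exact ha' h
  · exact hb' h

theorem X_prime_two {D : Type*} [CommRing D] [IsDomain D] (s : Fin 2) :
    Prime (X s : MvPowerSeries (Fin 2) D) := by
  haveI : IsDomain (MvPowerSeries (Fin 1) D) := NoZeroDivisors.to_isDomain _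
  have h0 : Prime (X 0 : MvPowerSeries (Fin 2) D) := by
    rw [← MulEquiv.prime_iff (MvPowerSeries.finSuccEquiv D 1), finSuccEquiv_X_zero]
    exact PowerSeries.X_prime
  fin_cases s
  · exact h0
  · have h1 : MvPowerSeries.renameEquiv D (Equiv.swap (0 : Fin 2) 1) (X 1) = X 0 := by
      show MvPowerSeries.rename (⇑(Equiv.swap (0 : Fin 2) 1)) (X 1) = X 0
      rw [MvPowerSeries.rename_X]
      simp
    show Prime (X 1 : MvPowerSeries (Fin 2) D)
    rw [← MulEquiv.prime_iff (MvPowerSeries.renameEquiv D (Equiv.swap (0 : Fin 2) 1)), h1]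
    exact h0

lemma X_not_dvd_X {D : Type*} [CommRing D] [Nontrivial D] {s s' : Fin 2} (h : s ≠ s') :
    ¬ (X s : MvPowerSeries (Fin 2) D) ∣ X s' := by
  classical
  rw [X_dvd_iff]
  intro hall
  have := hall (Finsupp.single s' 1) (by simp [Finsupp.single_apply, h.symm])
  rw [coeff_index_single_self_X] at this
  exact one_ne_zero this

lemma sigma_mem_pow [IsLocalRing Q] (σ : Q ≃+* Q) {z : Q} {n : ℕ}
    (hz : z ∈ IsLocalRing.maximalIdeal Q ^ n) : σ z ∈ IsLocalRing.maximalIdeal Q ^ n := by
  have hle : (IsLocalRing.maximalIdeal Q).map σ ≤ IsLocalRing.maximalIdeal Q := by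
    rw [Ideal.map_le_iff_le_comap]
    intro x hx
    exact ArLefPS.sigma_mem_maximalIdeal σ hx
  have h1 : σ z ∈ (IsLocalRing.maximalIdeal Q ^ n).map σ := Ideal.mem_map_of_mem _ hz
  rw [Ideal.map_pow] at h1
  exact Ideal.pow_right_mono hle n h1

end general

section node

variable {B : Type u} [CommRing B] [IsDomain B] [IsDiscreteValuationRing B] {π : B}

local notation "P" => MvPowerSeries (Fin 2) B
local notation "Pk" => MvPowerSeries (Fin 2) (IsLocalRing.ResidueField B)

/-- reduction of the coefficients modulo the maximal ideal -/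
noncomputable abbrev red : P →+* Pk := MvPowerSeries.map (IsLocalRing.residue B)

variable (π) in
/-- the quotient map onto the double point -/
noncomputable abbrev mkN : P →+* ArLef.NodeAlg B π := Ideal.Quotient.mk _

lemma mkN_C (b : B) : mkN π (C b) = algebraMap B (ArLef.NodeAlg B π) b := rfl

lemma mkN_eq_zero_iff {F : P} : mkN π F = 0 ↔ ∃ H : P, F = (X 0 * X 1 - C π) * H := by
  rw [Ideal.Quotient.eq_zero_iff_mem, Ideal.mem_span_singleton]
  rfl

lemma mkN_pi : mkN π (C π) = mkN π (X 0) * mkN π (X 1) := by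
  rw [← map_mul, eq_comm, Ideal.Quotient.eq]
  exact Ideal.mem_span_singleton_self _

lemma t_mul_e : ArLef.NodeAlg.t π * ArLef.NodeAlg.e π =
    algebraMap B (ArLef.NodeAlg B π) π := by
  rw [← mkN_C, mkN_pi]

lemma residue_pi (hπ : Irreducible π) : IsLocalRing.residue B π = 0 := by
  rw [IsLocalRing.residue_eq_zero_iff, hπ.maximalIdeal_eq]
  exact Ideal.mem_span_singleton_self π

lemma red_eq_zero_iff (hπ : Irreducible π) (F : P) : red F = 0 ↔ (C π : P) ∣ F := by
  constructor
  · intro h
    have hc : ∀ m, ∃ c, coeff m F = π * c := by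
      intro m
      have h1 : IsLocalRing.residue B (coeff m F) = 0 := by
        have := congrArg (coeff m) h
        rwa [coeff_map, map_zero] at this
      rw [IsLocalRing.residue_eq_zero_iff, hπ.maximalIdeal_eq, Ideal.mem_span_singleton] at h1
      exact h1
    choose c hc using hc
    obtain ⟨W, hW⟩ : ∃ W : P, ∀ m, coeff m W = c m := ⟨fun m => c m, fun m => rfl⟩
    refine ⟨W, ?_⟩
    ext m
    rw [coeff_C_mul, hc, hW]
  · rintro ⟨W, rfl⟩
    rw [map_mul, MvPowerSeries.map_C, residue_pi hπ, map_zero, zero_mul]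

lemma red_surjective : Function.Surjective (red : P → Pk) := by
  intro G
  obtain ⟨W, hW⟩ : ∃ W : P, ∀ m, coeff m W =
      Function.surjInv IsLocalRing.residue_surjective (coeff m G) :=
    ⟨fun m => Function.surjInv IsLocalRing.residue_surjective (coeff m G), fun m => rfl⟩
  refine ⟨W, ?_⟩
  ext m
  rw [coeff_map, hW]
  exact Function.surjInv_eq IsLocalRing.residue_surjective _

lemma red_rel (hπ : Irreducible π) : red (X 0 * X 1 - C π : P) = X 0 * X 1 := by
  rw [map_sub, map_mul, MvPowerSeries.map_X, MvPowerSeries.map_X, MvPowerSeries.map_C,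
    residue_pi hπ, map_zero, sub_zero]

theorem mkN_X_dvd_iff (hπ : Irreducible π) (s : Fin 2) (F : P) :
    mkN π (X s) ∣ mkN π F ↔ (X s : Pk) ∣ red F := by
  constructor
  · rintro ⟨g, hg⟩
    obtain ⟨G, rfl⟩ := Ideal.Quotient.mk_surjective g
    have h0 : mkN π (F - X s * G) = 0 := by rw [map_sub, map_mul, hg, sub_self]
    obtain ⟨H, hH⟩ := mkN_eq_zero_iff.mp h0
    have hF : F = X s * G + (X 0 * X 1 - C π) * H := by rw [← hH]; ring
    have hd : (X s : Pk) ∣ X 0 * X 1 := by
      fin_cases s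
      · exact dvd_mul_right _ _
      · exact dvd_mul_left _ _
    rw [hF, map_add, map_mul, map_mul, red_rel hπ, MvPowerSeries.map_X]
    exact dvd_add (dvd_mul_right _ _) (hd.mul_right _)
  · rintro ⟨G', hG'⟩
    obtain ⟨G, rfl⟩ := red_surjective G'
    have h0 : red (F - X s * G) = 0 := by
      rw [map_sub, map_mul, MvPowerSeries.map_X, hG', sub_self]
    obtain ⟨H, hH⟩ := (red_eq_zero_iff hπ _).mp h0
    have hF : F = X s * G + C π * H := by rw [← hH]; ring
    have hd : mkN π (X s) ∣ mkN π (X 0) * mkN π (X 1) := by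
      fin_cases s
      · exact dvd_mul_right _ _
      · exact dvd_mul_left _ _
    rw [hF, map_add, map_mul, map_mul, mkN_pi]
    exact dvd_add (dvd_mul_right _ _) (hd.mul_right _)

theorem not_isUnit_mkN (hπ : Irreducible π) {F : P} (hF : constantCoeff F ∈ Ideal.span {π}) :
    ¬ IsUnit (mkN π F) := by
  intro hu
  obtain ⟨w, hw⟩ := hu.exists_right_inv
  obtain ⟨W, rfl⟩ := Ideal.Quotient.mk_surjective w
  have h0 : mkN π (F * W - 1) = 0 := by rw [map_sub, map_mul, hw, map_one, sub_self]
  obtain ⟨H, hH⟩ := mkN_eq_zero_iff.mp h0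
  have hc := congrArg constantCoeff hH
  simp only [map_sub, map_mul, map_one, constantCoeff_X, constantCoeff_C, zero_mul,
    zero_sub] at hc
  obtain ⟨c, hcF⟩ := Ideal.mem_span_singleton.mp hF
  apply hπ.not_isUnit
  refine isUnit_iff_exists_inv.mpr ⟨c * constantCoeff W + constantCoeff H, ?_⟩
  rw [hcF] at hc
  linear_combination hc

theorem nontrivial_node (hπ : Irreducible π) : Nontrivial (ArLef.NodeAlg B π) := by
  refine ⟨⟨0, 1, fun h => ?_⟩⟩
  have := not_isUnit_mkN hπ (F := 0) (by simp)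
  rw [map_zero, h] at this
  exact this isUnit_one

theorem isLocalRing_node (hπ : Irreducible π) : IsLocalRing (ArLef.NodeAlg B π) := by
  haveI := nontrivial_node hπ
  exact IsLocalRing.of_surjective' (mkN π) Ideal.Quotient.mk_surjective

theorem not_t_dvd_e (hπ : Irreducible π) :
    ¬ ArLef.NodeAlg.t π ∣ ArLef.NodeAlg.e π := by
  show ¬ mkN π (X 0) ∣ mkN π (X 1)
  rw [mkN_X_dvd_iff hπ, MvPowerSeries.map_X]
  exact X_not_dvd_X (by decide)

theorem not_e_dvd_t (hπ : Irreducible π) :
    ¬ ArLef.NodeAlg.e π ∣ ArLef.NodeAlg.t π := by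
  show ¬ mkN π (X 1) ∣ mkN π (X 0)
  rw [mkN_X_dvd_iff hπ, MvPowerSeries.map_X]
  exact X_not_dvd_X (by decide)

theorem prime_mkN_X (hπ : Irreducible π) (s : Fin 2) : Prime (mkN π (X s)) := by
  refine ⟨?_, not_isUnit_mkN hπ (by rw [constantCoeff_X]; exact zero_mem _), ?_⟩
  · intro h0
    fin_cases s
    · apply not_e_dvd_t hπ
      have h0' : mkN π (X 0) = 0 := h0
      show mkN π (X 1) ∣ mkN π (X 0)
      rw [h0']
      exact dvd_zero _
    · apply not_t_dvd_e hπ
      have h0' : mkN π (X 1) = 0 := h0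
      show mkN π (X 0) ∣ mkN π (X 1)
      rw [h0']
      exact dvd_zero _
  · intro a b hab
    obtain ⟨F, rfl⟩ := Ideal.Quotient.mk_surjective a
    obtain ⟨G, rfl⟩ := Ideal.Quotient.mk_surjective b
    rw [← map_mul, mkN_X_dvd_iff hπ, map_mul] at hab
    rw [mkN_X_dvd_iff hπ, mkN_X_dvd_iff hπ]
    exact (X_prime_two s).dvd_or_dvd hab

theorem prime_t (hπ : Irreducible π) : Prime (ArLef.NodeAlg.t π) := prime_mkN_X hπ 0

theorem prime_e (hπ : Irreducible π) : Prime (ArLef.NodeAlg.e π) := prime_mkN_X hπ 1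

theorem t_regular (hπ : Irreducible π) {x : ArLef.NodeAlg B π}
    (h : ArLef.NodeAlg.t π * x = 0) : x = 0 := by
  obtain ⟨F, rfl⟩ := Ideal.Quotient.mk_surjective x
  have h0 : mkN π (X 0 * F) = 0 := by
    rw [map_mul]
    exact h
  obtain ⟨H, hH⟩ := mkN_eq_zero_iff.mp h0
  have hX : Prime (X 0 : P) := X_prime_two 0
  have h1 : (X 0 : P) ∣ (X 0 * X 1 - C π) * H := ⟨F, hH.symm⟩
  rcases hX.dvd_or_dvd h1 with h2 | h2
  · exfalso
    have h3 : (X 0 : P) ∣ C π := by
      have := dvd_sub (dvd_mul_right (X 0 : P) (X 1)) h2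
      simpa using this
    rw [X_dvd_iff] at h3
    have := h3 0 (by simp)
    rw [coeff_zero_C] at this
    exact hπ.ne_zero this
  · obtain ⟨H', rfl⟩ := h2
    show mkN π F = 0
    rw [mkN_eq_zero_iff]
    refine ⟨H', ?_⟩
    apply mul_left_cancel₀ hX.ne_zero
    rw [hH]
    ring

theorem isDomain_node (hπ : Irreducible π) : IsDomain (ArLef.NodeAlg B π) := by
  haveI := nontrivial_node hπ
  haveI := isLocalRing_node hπ
  haveI : NoZeroDivisors (ArLef.NodeAlg B π) :=
    noZeroDivisors_of_prime (prime_t hπ) (fun x hx => t_regular hπ hx)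
  exact NoZeroDivisors.to_isDomain _

theorem mem_span_t_e_iff (hπ : Irreducible π) (F : P) :
    mkN π F ∈ Ideal.span {ArLef.NodeAlg.t π, ArLef.NodeAlg.e π} ↔
      constantCoeff F ∈ Ideal.span {π} := by
  constructor
  · intro h
    obtain ⟨u, v, huv⟩ := Ideal.mem_span_pair.mp h
    obtain ⟨U, rfl⟩ := Ideal.Quotient.mk_surjective u
    obtain ⟨V, rfl⟩ := Ideal.Quotient.mk_surjective v
    have h0 : mkN π (F - (U * X 0 + V * X 1)) = 0 := by
      rw [map_sub, map_add, map_mul, map_mul]
      rw [sub_eq_zero]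
      exact huv.symm
    obtain ⟨H, hH⟩ := mkN_eq_zero_iff.mp h0
    have hc := congrArg constantCoeff hH
    simp only [map_sub, map_add, map_mul, constantCoeff_X, constantCoeff_C, mul_zero, zero_mul,
      add_zero, sub_zero, zero_sub] at hc
    rw [Ideal.mem_span_singleton]
    exact ⟨-constantCoeff H, by rw [hc]; ring⟩
  · intro h
    obtain ⟨c, hc⟩ := Ideal.mem_span_singleton.mp h
    have hG : Ord (0 + 1) (F - C (constantCoeff F)) := ord_one_iff.mpr (by simp)
    obtain ⟨gs, _, hgs⟩ := exists_eq_sum_X_mul hG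
    rw [Fin.sum_univ_two] at hgs
    have hF : F = C π * C c + X 0 * gs 0 + X 1 * gs 1 := by
      rw [← map_mul, ← hc]
      linear_combination hgs
    rw [hF, map_add, map_add, map_mul, map_mul, map_mul, mkN_pi]
    refine Ideal.add_mem _ (Ideal.add_mem _ ?_ ?_) ?_
    · rw [mul_assoc]
      exact Ideal.mul_mem_right _ _ (Ideal.subset_span (by simp))
    · exact Ideal.mul_mem_right _ _ (Ideal.subset_span (by simp))
    · exact Ideal.mul_mem_right _ _ (Ideal.subset_span (by simp))

theorem isMaximal_span_t_e (hπ : Irreducible π) :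
    (Ideal.span {ArLef.NodeAlg.t π, ArLef.NodeAlg.e π} : Ideal (ArLef.NodeAlg B π)).IsMaximal := by
  rw [Ideal.isMaximal_iff]
  constructor
  · intro h1
    have : mkN π 1 ∈ Ideal.span {ArLef.NodeAlg.t π, ArLef.NodeAlg.e π} := by
      rw [map_one]
      exact h1
    rw [mem_span_t_e_iff hπ, map_one, Ideal.mem_span_singleton] at this
    exact hπ.not_isUnit (isUnit_of_dvd_one this)
  · intro J x _ hx hxJ
    obtain ⟨F, rfl⟩ := Ideal.Quotient.mk_surjective x
    rw [mem_span_t_e_iff hπ] at hx
    have hu : IsUnit (constantCoeff F) := by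
      rw [← hπ.maximalIdeal_eq, IsLocalRing.mem_maximalIdeal, mem_nonunits_iff, not_not] at hx
      exact hx
    have hF : IsUnit F := MvPowerSeries.isUnit_iff_constantCoeff.mpr hu
    have := hF.map (mkN π)
    rw [Ideal.eq_top_of_isUnit_mem J hxJ this]
    exact Submodule.mem_top

theorem sub_mem_node (hπ : Irreducible π) (σ : ArLef.NodeAlg B π ≃+* ArLef.NodeAlg B π)
    (J : Ideal (ArLef.NodeAlg B π))
    (hB : ∀ b : B, σ (algebraMap B (ArLef.NodeAlg B π) b) - algebraMap B (ArLef.NodeAlg B π) b ∈ J)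
    (ht : σ (ArLef.NodeAlg.t π) - ArLef.NodeAlg.t π ∈ J)
    (he : σ (ArLef.NodeAlg.e π) - ArLef.NodeAlg.e π ∈ J) (r : ArLef.NodeAlg B π) :
    σ r - r ∈ J := by
  haveI := isLocalRing_node hπ
  have hmul : ∀ r s : ArLef.NodeAlg B π, σ r - r ∈ J → σ s - s ∈ J → σ (r * s) - r * s ∈ J := by
    intro r s hr hs
    have : σ (r * s) - r * s = σ r * (σ s - s) + s * (σ r - r) := by
      rw [map_mul]
      ring
    rw [this]
    exact J.add_mem (J.mul_mem_left _ hs) (J.mul_mem_left _ hr)
  have hadd : ∀ r s : ArLef.NodeAlg B π, σ r - r ∈ J → σ s - s ∈ J →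
      σ (r + s) - (r + s) ∈ J := by
    intro r s hr hs
    have : σ (r + s) - (r + s) = (σ r - r) + (σ s - s) := by
      rw [map_add]
      ring
    rw [this]
    exact J.add_mem hr hs
  have hpoly : ∀ p : MvPolynomial (Fin 2) B, σ (mkN π (p : P)) - mkN π (p : P) ∈ J := by
    intro p
    induction p using MvPolynomial.induction_on with
    | C b =>
      rw [MvPolynomial.coe_C]
      exact hB b
    | add p q hp hq =>
      rw [MvPolynomial.coe_add, map_add]
      exact hadd _ _ hp hq
    | mul_X p s hp =>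
      rw [MvPolynomial.coe_mul, MvPolynomial.coe_X, map_mul]
      refine hmul _ _ hp ?_
      fin_cases s
      · exact ht
      · exact he
  have hXm : ∀ s : Fin 2, mkN π (X s) ∈ IsLocalRing.maximalIdeal (ArLef.NodeAlg B π) :=
    fun s => by
      rw [IsLocalRing.mem_maximalIdeal, mem_nonunits_iff]
      exact not_isUnit_mkN hπ (by rw [constantCoeff_X]; exact zero_mem _)
  have hpow : ∀ (n : ℕ) (G : P), Ord n G →
      mkN π G ∈ IsLocalRing.maximalIdeal (ArLef.NodeAlg B π) ^ n := by
    intro n G hG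
    have h1 : G ∈ varIdeal (Fin 2) B ^ n := mem_varIdeal_pow_iff.mpr hG
    have h2 : mkN π G ∈ (varIdeal (Fin 2) B ^ n).map (mkN π) := Ideal.mem_map_of_mem _ h1
    rw [Ideal.map_pow] at h2
    refine Ideal.pow_right_mono ?_ n h2
    unfold varIdeal
    rw [Ideal.map_span, Ideal.span_le]
    rintro _ ⟨_, ⟨s, rfl⟩, rfl⟩
    exact hXm s
  apply ArLefPS.mem_of_forall_mem_sup_pow
  intro n
  obtain ⟨F, rfl⟩ := Ideal.Quotient.mk_surjective r
  have hG : Ord n (F - ((MvPowerSeries.truncTotal n F : MvPolynomial (Fin 2) B) : P)) := by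
    intro d hd
    rw [map_sub, MvPolynomial.coeff_coe, coeff_truncTotal_eq_ite, if_pos hd, sub_self]
  have hdec : mkN π F = mkN π ((MvPowerSeries.truncTotal n F : MvPolynomial (Fin 2) B) : P) +
      mkN π (F - ((MvPowerSeries.truncTotal n F : MvPolynomial (Fin 2) B) : P)) := by
    rw [← map_add]
    congr 1
    ring
  have : σ (mkN π F) - mkN π F =
      (σ (mkN π ((MvPowerSeries.truncTotal n F : MvPolynomial (Fin 2) B) : P)) -
        mkN π ((MvPowerSeries.truncTotal n F : MvPolynomial (Fin 2) B) : P)) +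
      (σ (mkN π (F - ((MvPowerSeries.truncTotal n F : MvPolynomial (Fin 2) B) : P))) -
        mkN π (F - ((MvPowerSeries.truncTotal n F : MvPolynomial (Fin 2) B) : P))) := by
    conv_lhs => rw [hdec, map_add]
    ring
  rw [this]
  exact Submodule.add_mem_sup (hpoly _)
    (Ideal.sub_mem _ (sigma_mem_pow σ (hpow n _ hG)) (hpow n _ hG))

/-- the branch `e = 0` of the closed fibre: `N → k⟦t,e⟧/(e)` -/
noncomputable def brT (hπ : Irreducible π) :
    ArLef.NodeAlg B π →+* Pk ⧸ Ideal.span {(X 1 : Pk)} :=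
  Ideal.Quotient.lift _ ((Ideal.Quotient.mk (Ideal.span {(X 1 : Pk)})).comp red) (by
    intro a ha
    obtain ⟨c, rfl⟩ := Ideal.mem_span_singleton'.mp ha
    rw [RingHom.comp_apply, map_mul, red_rel hπ, Ideal.Quotient.eq_zero_iff_mem]
    exact Ideal.mul_mem_left _ _ (Ideal.mul_mem_left _ _ (Ideal.mem_span_singleton_self _)))

lemma brT_mkN (hπ : Irreducible π) (F : P) :
    brT hπ (mkN π F) = Ideal.Quotient.mk (Ideal.span {(X 1 : Pk)}) (red F) := rfl

lemma brT_t (hπ : Irreducible π) :
    brT hπ (ArLef.NodeAlg.t π) = Ideal.Quotient.mk (Ideal.span {(X 1 : Pk)}) (X 0) := by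
  show brT hπ (mkN π (X 0)) = _
  rw [brT_mkN, MvPowerSeries.map_X]

lemma brT_e (hπ : Irreducible π) : brT hπ (ArLef.NodeAlg.e π) = 0 := by
  show brT hπ (mkN π (X 1)) = _
  rw [brT_mkN, MvPowerSeries.map_X, Ideal.Quotient.eq_zero_iff_mem]
  exact Ideal.mem_span_singleton_self _

theorem not_mem_sq (hπ : Irreducible π) (a : ArLef.NodeAlg B π) :
    ArLef.NodeAlg.e π * a - ArLef.NodeAlg.t π ∉
      (Ideal.span {ArLef.NodeAlg.t π, ArLef.NodeAlg.e π} : Ideal (ArLef.NodeAlg B π)) ^ 2 := by
  classical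
  intro hmem
  have hle : (Ideal.span {ArLef.NodeAlg.t π, ArLef.NodeAlg.e π} : Ideal (ArLef.NodeAlg B π)) ^ 2 ≤
      Ideal.comap (brT hπ)
        (Ideal.span {(Ideal.Quotient.mk (Ideal.span {(X 1 : Pk)}) (X 0)) ^ 2}) := by
    rw [pow_two, Ideal.mul_le]
    intro x hx y hy
    obtain ⟨u, v, rfl⟩ := Ideal.mem_span_pair.mp hx
    obtain ⟨u', v', rfl⟩ := Ideal.mem_span_pair.mp hy
    rw [Ideal.mem_comap, map_mul, map_add, map_add, map_mul, map_mul, map_mul, map_mul, brT_t,
      brT_e, mul_zero, add_zero, mul_zero, add_zero, Ideal.mem_span_singleton]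
    exact ⟨brT hπ u * brT hπ u', by ring⟩
  have h1 := hle hmem
  rw [Ideal.mem_comap, map_sub, map_mul, brT_t, brT_e, zero_mul, zero_sub,
    Ideal.mem_span_singleton] at h1
  obtain ⟨w, hw⟩ := h1
  obtain ⟨W, rfl⟩ := Ideal.Quotient.mk_surjective w
  have h2 : Ideal.Quotient.mk (Ideal.span {(X 1 : Pk)}) (X 0 + X 0 ^ 2 * W) = 0 := by
    rw [map_add, map_mul, map_pow]
    rw [← hw]
    ring
  rw [Ideal.Quotient.eq_zero_iff_mem, Ideal.mem_span_singleton, X_dvd_iff] at h2
  have h3 := h2 (Finsupp.single 0 1) (by simp [Finsupp.single_apply])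
  have h4 : coeff (Finsupp.single (0 : Fin 2) 1) ((X 0 : Pk) ^ 2 * W) = 0 := by
    have hord : Ord 2 ((X 0 : Pk) ^ 2 * W) := by
      have := (Ord.pow_of_constantCoeff (constantCoeff_X (0 : Fin 2)) 2 :
        Ord 2 ((X 0 : Pk) ^ 2)).mul (ord_zero_all W)
      rwa [add_zero] at this
    exact hord _ (by simp)
  rw [map_add, coeff_index_single_self_X, h4, add_zero] at h3
  exact one_ne_zero h3

end node

end Groth.Agent.Lib.Helper76.ArLefNode
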