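import Groth.Prelude.Def_W4c2arithlefschetzNode
import Mathlib.RingTheory.PowerSeries.Trunc
import Mathlib.RingTheory.PowerSeries.Inverse
import Mathlib.RingTheory.MvPowerSeries.Equiv
import Mathlib.RingTheory.Length
import Mathlib.RingTheory.AdicCompletion.Noetherian
import Mathlib.RingTheory.DiscreteValuationRing.Basic
import Mathlib.RingTheory.LocalRing.ResidueField.Basic
import Mathlib.RingTheory.Ideal.Colon
import Mathlib.Tactic

/-!
# Fixed-point ideals of automorphisms of `B⟦t⟧`, `B` a discrete valuation ring (helper76)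

* `mem_of_forall_mem_sup_pow`: ideals of a noetherian local ring are closed (Krull);
* `length_exact_mul`: `length (Q/J₂) = length (Q/J₁) + length (Q/(J₂ + z))` when
  `J₁ = (J₂ : z)`;
* `length_quot_eq_of_ringEquiv`: lengths of isomorphic quotient rings agree;
* `length_pi_pow`, `length_pi_one`: `length B⟦t⟧/(f, π^n) = n · length k⟦t⟧/(f mod π)` when
  `π ∤ f`;
* `fixIdeal_eq`: the fixed-point ideal of `σ` is `(π^j, σ t - t)` when `σ b - b ∈ (π^j)` on `B`
  and `σ π = π + γ π^j`.
-/

set_option autoImplicit false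

namespace Groth.Agent.Lib.Helper76.ArLefPS

section general

variable {Q : Type*} [CommRing Q]

theorem mem_of_forall_mem_sup_pow [IsNoetherianRing Q] [IsLocalRing Q] (J : Ideal Q) (z : Q)
    (h : ∀ n, z ∈ J ⊔ IsLocalRing.maximalIdeal Q ^ n) : z ∈ J := by
  have hH : IsHausdorff (IsLocalRing.maximalIdeal Q) (Q ⧸ J) := inferInstance
  rw [← Ideal.Quotient.eq_zero_iff_mem]
  refine hH.haus' _ fun n => ?_
  rw [SModEq.zero]
  obtain ⟨a, ha, b, hb, rfl⟩ := Submodule.mem_sup.mp (h n)
  rw [map_add, Ideal.Quotient.eq_zero_iff_mem.mpr ha, zero_add]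
  have : Ideal.Quotient.mk J b = b • (1 : Q ⧸ J) := by
    rw [Algebra.smul_def, mul_one]
    rfl
  rw [this]
  exact Submodule.smul_mem_smul hb Submodule.mem_top

theorem length_exact_mul (J₁ J₂ : Ideal Q) (z : Q) (hker : ∀ a, a * z ∈ J₂ ↔ a ∈ J₁) :
    Module.length Q (Q ⧸ J₂) =
      Module.length Q (Q ⧸ J₁) + Module.length Q (Q ⧸ (J₂ ⊔ Ideal.span {z})) := by
  let μ : Q →ₗ[Q] Q ⧸ J₂ := LinearMap.toSpanSingleton Q (Q ⧸ J₂) (Ideal.Quotient.mk J₂ z)
  have hμ : ∀ a, μ a = Ideal.Quotient.mk J₂ (a * z) := fun a => by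
    show a • Ideal.Quotient.mk J₂ z = _
    rw [map_mul]
    rfl
  have hk : J₁ = LinearMap.ker μ := by
    ext a
    rw [LinearMap.mem_ker, hμ, Ideal.Quotient.eq_zero_iff_mem, hker]
  let f : Q ⧸ J₁ →ₗ[Q] Q ⧸ J₂ := Submodule.liftQ J₁ μ hk.le
  have hf : Function.Injective f := by
    rw [← LinearMap.ker_eq_bot]
    exact Submodule.ker_liftQ_eq_bot' J₁ μ hk
  let g : Q ⧸ J₂ →ₗ[Q] Q ⧸ (J₂ ⊔ Ideal.span {z}) := Submodule.factor le_sup_left
  have hg : Function.Surjective g := Submodule.factor_surjective le_sup_left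
  have hfg : Function.Exact f g := by
    intro w
    obtain ⟨a, rfl⟩ := Ideal.Quotient.mk_surjective w
    constructor
    · intro h0
      have h1 : a ∈ J₂ ⊔ Ideal.span {z} := by
        rw [← Ideal.Quotient.eq_zero_iff_mem]
        exact h0
      obtain ⟨j, hj, t, ht, rfl⟩ := Submodule.mem_sup.mp h1
      obtain ⟨c, rfl⟩ := Ideal.mem_span_singleton'.mp ht
      refine ⟨Ideal.Quotient.mk J₁ c, ?_⟩
      show μ c = _
      rw [hμ, map_add, Ideal.Quotient.eq_zero_iff_mem.mpr hj, zero_add]
    · rintro ⟨w', hw'⟩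
      obtain ⟨c, rfl⟩ := Ideal.Quotient.mk_surjective w'
      have h1 : Ideal.Quotient.mk J₂ a = Ideal.Quotient.mk J₂ (c * z) := by
        rw [← hw', ← hμ]
        rfl
      rw [h1]
      show Ideal.Quotient.mk (J₂ ⊔ Ideal.span {z}) (c * z) = 0
      rw [Ideal.Quotient.eq_zero_iff_mem]
      exact Ideal.mem_sup_right (Ideal.mul_mem_left _ _ (Ideal.subset_span rfl))
  rw [Module.length_eq_add_of_exact f g hf hg hfg]

theorem length_eq_of_ringEquiv {A A' : Type*} [CommRing A] [CommRing A'] (e : A ≃+* A') :
    Module.length A A = Module.length A' A' := by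
  letI : Algebra A A' := e.toRingHom.toAlgebra
  have h1 : Module.length A A' = Module.length A' A' :=
    Module.length_eq_of_surjective e.surjective
  rw [← h1]
  let l : A ≃ₗ[A] A' :=
    { e with
      map_smul' := fun a b => by
        show e (a * b) = e a * e b
        exact map_mul e a b }
  exact l.length_eq

theorem length_quot_eq_of_ringEquiv {R R' : Type*} [CommRing R] [CommRing R'] (I : Ideal R)
    (I' : Ideal R') (e : (R ⧸ I) ≃+* (R' ⧸ I')) :
    Module.length R (R ⧸ I) = Module.length R' (R' ⧸ I') := by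
  rw [Module.length_eq_of_surjective (S := R) (R := R ⧸ I) (M := R ⧸ I)
      Ideal.Quotient.mk_surjective,
    Module.length_eq_of_surjective (S := R') (R := R' ⧸ I') (M := R' ⧸ I')
      Ideal.Quotient.mk_surjective]
  exact length_eq_of_ringEquiv e

end general

section dvr

variable {B : Type*} [CommRing B] [IsDomain B] [IsDiscreteValuationRing B] {π : B}

lemma aC (b : B) : algebraMap B (PowerSeries B) b = PowerSeries.C b := rfl

lemma rho_eq_zero_iff (hπ : Irreducible π) (z : PowerSeries B) :
    PowerSeries.map (IsLocalRing.residue B) z = 0 ↔ algebraMap B (PowerSeries B) π ∣ z := by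
  constructor
  · intro h
    have hc : ∀ n, ∃ c, PowerSeries.coeff n z = π * c := by
      intro n
      have h1 : IsLocalRing.residue B (PowerSeries.coeff n z) = 0 := by
        have := congrArg (PowerSeries.coeff n) h
        rwa [PowerSeries.coeff_map, map_zero] at this
      rw [IsLocalRing.residue_eq_zero_iff, hπ.maximalIdeal_eq, Ideal.mem_span_singleton] at h1
      exact h1
    choose c hc using hc
    refine ⟨PowerSeries.mk c, ?_⟩
    ext n
    rw [aC, PowerSeries.coeff_C_mul, PowerSeries.coeff_mk, hc]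
  · rintro ⟨w, rfl⟩
    have : IsLocalRing.residue B π = 0 := by
      rw [IsLocalRing.residue_eq_zero_iff, hπ.maximalIdeal_eq]
      exact Ideal.mem_span_singleton_self π
    rw [map_mul, aC, PowerSeries.map_C, this, map_zero, zero_mul]

lemma pi_dvd_mul (hπ : Irreducible π) {a b : PowerSeries B}
    (h : algebraMap B (PowerSeries B) π ∣ a * b) :
    algebraMap B (PowerSeries B) π ∣ a ∨ algebraMap B (PowerSeries B) π ∣ b := by
  rw [← rho_eq_zero_iff hπ, ← rho_eq_zero_iff hπ]
  rw [← rho_eq_zero_iff hπ, map_mul] at h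
  exact mul_eq_zero.mp h

lemma aC_ne_zero (hπ : Irreducible π) : algebraMap B (PowerSeries B) π ≠ 0 := by
  intro h0
  have := congrArg (PowerSeries.coeff 0) h0
  rw [aC, PowerSeries.coeff_zero_C, map_zero] at this
  exact hπ.ne_zero this

lemma dvd_of_dvd_mul_pi (hπ : Irreducible π) {f a : PowerSeries B}
    (hf : ¬ algebraMap B (PowerSeries B) π ∣ f) (h : f ∣ a * algebraMap B (PowerSeries B) π) :
    f ∣ a := by
  obtain ⟨h', hh'⟩ := h
  have h1 : algebraMap B (PowerSeries B) π ∣ f * h' := ⟨a, by rw [← hh']; ring⟩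
  rcases pi_dvd_mul hπ h1 with h2 | h2
  · exact absurd h2 hf
  · obtain ⟨h'', rfl⟩ := h2
    refine ⟨h'', ?_⟩
    apply mul_right_cancel₀ (aC_ne_zero hπ)
    rw [hh']
    ring

lemma dvd_of_dvd_mul_pi_pow (hπ : Irreducible π) {f : PowerSeries B}
    (hf : ¬ algebraMap B (PowerSeries B) π ∣ f) (n : ℕ) {a : PowerSeries B}
    (h : f ∣ a * algebraMap B (PowerSeries B) π ^ n) : f ∣ a := by
  induction n generalizing a with
  | zero => simpa using h
  | succ n ih =>
    apply ih
    apply dvd_of_dvd_mul_pi hπ hf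
    rw [mul_assoc, ← pow_succ]
    exact h

theorem length_pi_pow (hπ : Irreducible π) {f : PowerSeries B}
    (hf : ¬ algebraMap B (PowerSeries B) π ∣ f) (n : ℕ) :
    Module.length (PowerSeries B)
        (PowerSeries B ⧸ Ideal.span {f, algebraMap B (PowerSeries B) π ^ n}) =
      (n : ℕ∞) * Module.length (PowerSeries B)
        (PowerSeries B ⧸ Ideal.span {f, algebraMap B (PowerSeries B) π}) := by
  induction n with
  | zero =>
    have : Ideal.span {f, algebraMap B (PowerSeries B) π ^ 0} = ⊤ := by
      rw [Ideal.eq_top_iff_one, pow_zero]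
      exact Ideal.subset_span (by simp)
    rw [this, Nat.cast_zero, zero_mul]
    exact Module.length_eq_zero_iff.mpr (Ideal.Quotient.subsingleton_iff.mpr rfl)
  | succ n ih =>
    have hstep := length_exact_mul (Ideal.span {f, algebraMap B (PowerSeries B) π})
      (Ideal.span {f, algebraMap B (PowerSeries B) π ^ (n + 1)})
      (algebraMap B (PowerSeries B) π ^ n) (by
        intro a
        rw [Ideal.mem_span_pair, Ideal.mem_span_pair]
        constructor
        · rintro ⟨u, v, huv⟩
          have h1 : f ∣ (a - v * algebraMap B (PowerSeries B) π) *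
              algebraMap B (PowerSeries B) π ^ n := ⟨u, by linear_combination -huv⟩
          obtain ⟨w, hw⟩ := dvd_of_dvd_mul_pi_pow hπ hf n h1
          exact ⟨w, v, by linear_combination -hw⟩
        · rintro ⟨u, v, huv⟩
          exact ⟨u * algebraMap B (PowerSeries B) π ^ n, v, by rw [← huv]; ring⟩)
    have hsup : Ideal.span {f, algebraMap B (PowerSeries B) π ^ (n + 1)} ⊔
        Ideal.span {algebraMap B (PowerSeries B) π ^ n} =
        Ideal.span {f, algebraMap B (PowerSeries B) π ^ n} := by
      apply le_antisymm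
      · refine sup_le ?_ ?_
        · rw [Ideal.span_le]
          intro z hz
          simp only [Set.mem_insert_iff, Set.mem_singleton_iff] at hz
          rcases hz with rfl | rfl
          · exact Ideal.subset_span (by simp)
          · rw [pow_succ]
            exact Ideal.mul_mem_right _ _ (Ideal.subset_span (by simp))
        · rw [Ideal.span_le]
          intro z hz
          simp only [Set.mem_singleton_iff] at hz
          subst hz
          exact Ideal.subset_span (by simp)
      · rw [Ideal.span_le]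
        intro z hz
        simp only [Set.mem_insert_iff, Set.mem_singleton_iff] at hz
        rcases hz with rfl | rfl
        · exact Ideal.mem_sup_left (Ideal.subset_span (by simp))
        · exact Ideal.mem_sup_right (Ideal.subset_span (by simp))
    rw [hsup] at hstep
    rw [hstep, ih]
    push_cast
    ring

theorem length_pi_one (hπ : Irreducible π) (f : PowerSeries B) :
    Module.length (PowerSeries B)
        (PowerSeries B ⧸ Ideal.span {f, algebraMap B (PowerSeries B) π}) =
      Module.length (PowerSeries (IsLocalRing.ResidueField B))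
        (PowerSeries (IsLocalRing.ResidueField B) ⧸
          Ideal.span {PowerSeries.map (IsLocalRing.residue B) f}) := by
  have hρ : Function.Surjective (PowerSeries.map (IsLocalRing.residue B)) :=
    PowerSeries.map_surjective _ IsLocalRing.residue_surjective
  let g : PowerSeries B →+* (PowerSeries (IsLocalRing.ResidueField B) ⧸
      Ideal.span {PowerSeries.map (IsLocalRing.residue B) f}) :=
    (Ideal.Quotient.mk _).comp (PowerSeries.map (IsLocalRing.residue B))
  have hg : Function.Surjective g := Ideal.Quotient.mk_surjective.comp hρ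
  have hker : RingHom.ker g = Ideal.span {f, algebraMap B (PowerSeries B) π} := by
    ext z
    rw [RingHom.mem_ker, Ideal.mem_span_pair]
    show Ideal.Quotient.mk _ (PowerSeries.map (IsLocalRing.residue B) z) = 0 ↔ _
    rw [Ideal.Quotient.eq_zero_iff_mem, Ideal.mem_span_singleton']
    constructor
    · rintro ⟨w', hw⟩
      obtain ⟨w, rfl⟩ := hρ w'
      have : PowerSeries.map (IsLocalRing.residue B) (z - w * f) = 0 := by
        rw [map_sub, map_mul, hw, sub_self]
      obtain ⟨v, hv⟩ := (rho_eq_zero_iff hπ _).mp this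
      exact ⟨w, v, by linear_combination -hv⟩
    · rintro ⟨u, v, rfl⟩
      refine ⟨PowerSeries.map (IsLocalRing.residue B) u, ?_⟩
      have : PowerSeries.map (IsLocalRing.residue B) (algebraMap B (PowerSeries B) π) = 0 :=
        (rho_eq_zero_iff hπ _).mpr dvd_rfl
      rw [map_add, map_mul, map_mul, this, mul_zero, add_zero]
  rw [← hker]
  exact length_quot_eq_of_ringEquiv _ _ (RingHom.quotientKerEquivOfSurjective hg)

/-- `length B⟦t⟧/(f, π^n) = n · length k⟦t⟧/(f mod π)` when `π ∤ f` -/
theorem length_pi_pow' (hπ : Irreducible π) {f : PowerSeries B}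
    (hf : ¬ algebraMap B (PowerSeries B) π ∣ f) (n : ℕ) :
    Module.length (PowerSeries B)
        (PowerSeries B ⧸ Ideal.span {f, algebraMap B (PowerSeries B) π ^ n}) =
      (n : ℕ∞) * Module.length (PowerSeries (IsLocalRing.ResidueField B))
        (PowerSeries (IsLocalRing.ResidueField B) ⧸
          Ideal.span {PowerSeries.map (IsLocalRing.residue B) f}) := by
  rw [length_pi_pow hπ hf n, length_pi_one hπ f]

end dvr

section fix

variable {B : Type*} [CommRing B] [IsDomain B] [IsDiscreteValuationRing B] {π : B}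

theorem sub_mem_of_poly (σ : PowerSeries B ≃+* PowerSeries B) (J : Ideal (PowerSeries B))
    (hB : ∀ b : B, σ (PowerSeries.C b) - PowerSeries.C b ∈ J)
    (hX : σ PowerSeries.X - PowerSeries.X ∈ J) (p : Polynomial B) :
    σ (p : PowerSeries B) - (p : PowerSeries B) ∈ J := by
  have hmul : ∀ r s : PowerSeries B, σ r - r ∈ J → σ s - s ∈ J → σ (r * s) - r * s ∈ J := by
    intro r s hr hs
    have : σ (r * s) - r * s = σ r * (σ s - s) + s * (σ r - r) := by
      rw [map_mul]
      ring
    rw [this]
    exact J.add_mem (J.mul_mem_left _ hs) (J.mul_mem_left _ hr)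
  have hadd : ∀ r s : PowerSeries B, σ r - r ∈ J → σ s - s ∈ J → σ (r + s) - (r + s) ∈ J := by
    intro r s hr hs
    have : σ (r + s) - (r + s) = (σ r - r) + (σ s - s) := by
      rw [map_add]
      ring
    rw [this]
    exact J.add_mem hr hs
  have hpow : ∀ n : ℕ, σ (PowerSeries.X ^ n) - PowerSeries.X ^ n ∈ J := by
    intro n
    induction n with
    | zero => rw [pow_zero, map_one, sub_self]; exact J.zero_mem
    | succ n ih => rw [pow_succ]; exact hmul _ _ ih hX
  induction p using Polynomial.induction_on' with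
  | add p q hp hq =>
    rw [Polynomial.coe_add]
    exact hadd _ _ hp hq
  | monomial n a =>
    rw [Polynomial.coe_monomial, PowerSeries.monomial_eq_C_mul_X_pow]
    exact hmul _ _ (hB a) (hpow n)

lemma X_mem_maximalIdeal :
    (PowerSeries.X : PowerSeries B) ∈ IsLocalRing.maximalIdeal (PowerSeries B) := by
  rw [IsLocalRing.mem_maximalIdeal, mem_nonunits_iff, PowerSeries.isUnit_iff_constantCoeff,
    PowerSeries.constantCoeff_X]
  exact not_isUnit_zero

lemma sigma_mem_maximalIdeal {Q : Type*} [CommRing Q] [IsLocalRing Q] (σ : Q ≃+* Q) {z : Q}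
    (hz : z ∈ IsLocalRing.maximalIdeal Q) : σ z ∈ IsLocalRing.maximalIdeal Q := by
  rw [IsLocalRing.mem_maximalIdeal, mem_nonunits_iff] at hz ⊢
  intro hu
  apply hz
  have := hu.map σ.symm
  simpa using this

theorem sub_mem (σ : PowerSeries B ≃+* PowerSeries B) (J : Ideal (PowerSeries B))
    (hB : ∀ b : B, σ (PowerSeries.C b) - PowerSeries.C b ∈ J)
    (hX : σ PowerSeries.X - PowerSeries.X ∈ J) (r : PowerSeries B) : σ r - r ∈ J := by
  apply mem_of_forall_mem_sup_pow
  intro N
  obtain ⟨s, p, rfl⟩ : ∃ (s : PowerSeries B) (p : Polynomial B),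
      r = PowerSeries.X ^ N * s + (p : PowerSeries B) :=
    ⟨_, _, PowerSeries.eq_X_pow_mul_shift_add_trunc N r⟩
  have : σ (PowerSeries.X ^ N * s + (p : PowerSeries B)) -
      (PowerSeries.X ^ N * s + (p : PowerSeries B)) =
      (σ (p : PowerSeries B) - (p : PowerSeries B)) +
        ((σ PowerSeries.X) ^ N * σ s - PowerSeries.X ^ N * s) := by
    rw [map_add, map_mul, map_pow]
    ring
  rw [this]
  refine Submodule.add_mem_sup (sub_mem_of_poly σ J hB hX p) ?_
  exact Ideal.sub_mem _
    (Ideal.mul_mem_right _ _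
      (Ideal.pow_mem_pow (sigma_mem_maximalIdeal σ X_mem_maximalIdeal) N))
    (Ideal.mul_mem_right _ _ (Ideal.pow_mem_pow X_mem_maximalIdeal N))

theorem fixIdeal_eq (σ : PowerSeries B ≃+* PowerSeries B) {j : ℕ} {γ : B} (hγ : IsUnit γ)
    (hσB : ∀ b : B, σ (algebraMap B (PowerSeries B) b) - algebraMap B (PowerSeries B) b ∈
      Ideal.span ({algebraMap B (PowerSeries B) (π ^ j)} : Set (PowerSeries B)))
    (hσπ : σ (algebraMap B (PowerSeries B) π) = algebraMap B (PowerSeries B) (π + γ * π ^ j)) :
    ArLef.fixIdeal σ =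
      Ideal.span {algebraMap B (PowerSeries B) (π ^ j), σ PowerSeries.X - PowerSeries.X} := by
  apply le_antisymm
  · unfold ArLef.fixIdeal
    rw [Ideal.span_le]
    rintro _ ⟨r, rfl⟩
    exact sub_mem σ _ (fun b => Ideal.span_mono (by simp) (hσB b))
      (Ideal.subset_span (by simp)) r
  · rw [Ideal.span_le]
    intro z hz
    simp only [Set.mem_insert_iff, Set.mem_singleton_iff] at hz
    rcases hz with rfl | rfl
    · obtain ⟨γ', hγ'⟩ := hγ.exists_left_inv
      have h1 : σ (algebraMap B (PowerSeries B) π) - algebraMap B (PowerSeries B) π ∈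
          ArLef.fixIdeal σ := Ideal.subset_span ⟨_, rfl⟩
      rw [hσπ, map_add, add_sub_cancel_left, map_mul] at h1
      have := Ideal.mul_mem_left _ (algebraMap B (PowerSeries B) γ') h1
      rwa [← mul_assoc, ← map_mul, hγ', map_one, one_mul] at this
    · exact Ideal.subset_span ⟨_, rfl⟩

end fix

end Groth.Agent.Lib.Helper76.ArLefPS
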