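import Groth.Prelude.Def_W4c1arstab1appArSing
import Mathlib.RingTheory.PowerSeries.Substitution
import Mathlib.RingTheory.PowerSeries.Trunc
import Mathlib.RingTheory.PowerSeries.Inverse
import Mathlib.RingTheory.PowerSeries.Expand
import Mathlib.RingTheory.Length
import Mathlib.RingTheory.Flat.Basic
import Mathlib.RingTheory.RingHom.Flat
import Mathlib.RingTheory.SimpleModule.Basic
import Mathlib.RingTheory.LocalRing.Basic

/-!
# Normal form in `k⟦x,y⟧/(y² - x^(r+1))` (helper76)

Every element of `ArSing.ring k r` is uniquely `α(x) + β(x)·y` with `α β : k⟦t⟧`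
(division by the `y`-monic series `y² - x^(r+1)`, done by hand on coefficients).

* `exists_nf`, `nf_unique`: division with remainder in `k⟦x,y⟧`;
* `cA`, `cB`: the coordinates, with `cA_mul`, `cB_mul`, …;
* `mem_span_x_iff`, `mem_span_xy_iff`, `mem_span_y_xpow_iff`: ideal membership in coordinates;
* `isMaximal_span_xy`, instance `IsLocalRing (ArSing.ring k r)`;
* `ringHom_ext_X`: ring maps out of `k⟦t⟧` are determined by constants and `t` (if `t ↦ x·u`);
* `length_step`: one step of a composition series; `flat_of_bijective_pair`.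
-/

set_option autoImplicit false
universe u

namespace Groth.Agent.Lib.Helper76.ArNF

open MvPowerSeries

section coeff2

variable {k : Type u} [CommRing k]

/-- the exponent vector of `x^i y^j` -/
noncomputable def pr (i j : ℕ) : Fin 2 →₀ ℕ := Finsupp.single 0 i + Finsupp.single 1 j

@[simp] lemma pr_apply_zero (i j : ℕ) : pr i j 0 = i := by simp [pr]
@[simp] lemma pr_apply_one (i j : ℕ) : pr i j 1 = j := by simp [pr]

lemma eq_pr (m : Fin 2 →₀ ℕ) : m = pr (m 0) (m 1) := by
  ext a
  fin_cases a <;> simp [pr]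

/-- the coefficient of `x^i y^j` -/
noncomputable def c2 (F : MvPowerSeries (Fin 2) k) (i j : ℕ) : k := coeff (pr i j) F

lemma ext2 {F G : MvPowerSeries (Fin 2) k} (h : ∀ i j, c2 F i j = c2 G i j) : F = G := by
  ext m
  rw [eq_pr m]
  exact h _ _

@[simp] lemma c2_add (F G : MvPowerSeries (Fin 2) k) (i j : ℕ) :
    c2 (F + G) i j = c2 F i j + c2 G i j := by simp [c2]
@[simp] lemma c2_sub (F G : MvPowerSeries (Fin 2) k) (i j : ℕ) :
    c2 (F - G) i j = c2 F i j - c2 G i j := by simp [c2]
@[simp] lemma c2_zero (i j : ℕ) : c2 (0 : MvPowerSeries (Fin 2) k) i j = 0 := by simp [c2]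

/-- the series with prescribed coefficients -/
def mk2 (f : ℕ → ℕ → k) : MvPowerSeries (Fin 2) k := fun m => f (m 0) (m 1)

@[simp] lemma c2_mk2 (f : ℕ → ℕ → k) (i j : ℕ) : c2 (mk2 f) i j = f i j := by
  show f (pr i j 0) (pr i j 1) = f i j
  rw [pr_apply_zero, pr_apply_one]

lemma c2_mul_X0_pow (F : MvPowerSeries (Fin 2) k) (s i j : ℕ) :
    c2 (F * X 0 ^ s) i j = if s ≤ i then c2 F (i - s) j else 0 := by
  unfold c2
  rw [X_pow_eq, coeff_mul_monomial]
  have h1 : Finsupp.single (0 : Fin 2) s ≤ pr i j ↔ s ≤ i := by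
    rw [Finsupp.le_def]
    constructor
    · intro h
      simpa [pr] using h 0
    · intro h a
      fin_cases a <;> simp [pr, h]
  by_cases h : s ≤ i
  · rw [if_pos (h1.mpr h), if_pos h, mul_one]
    have h2 : pr i j - Finsupp.single (0 : Fin 2) s = pr (i - s) j := by
      ext a
      fin_cases a <;> simp [pr]
    rw [h2]
  · rw [if_neg (fun h' => h (h1.mp h')), if_neg h]

lemma c2_mul_X1_pow (F : MvPowerSeries (Fin 2) k) (s i j : ℕ) :
    c2 (F * X 1 ^ s) i j = if s ≤ j then c2 F i (j - s) else 0 := by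
  unfold c2
  rw [X_pow_eq, coeff_mul_monomial]
  have h1 : Finsupp.single (1 : Fin 2) s ≤ pr i j ↔ s ≤ j := by
    rw [Finsupp.le_def]
    constructor
    · intro h
      simpa [pr] using h 1
    · intro h a
      fin_cases a <;> simp [pr, h]
  by_cases h : s ≤ j
  · rw [if_pos (h1.mpr h), if_pos h, mul_one]
    have h2 : pr i j - Finsupp.single (1 : Fin 2) s = pr i (j - s) := by
      ext a
      fin_cases a <;> simp [pr]
    rw [h2]
  · rw [if_neg (fun h' => h (h1.mp h')), if_neg h]

lemma c2_mul_X1 (F : MvPowerSeries (Fin 2) k) (i j : ℕ) :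
    c2 (F * X 1) i j = if 1 ≤ j then c2 F i (j - 1) else 0 := by
  have := c2_mul_X1_pow F 1 i j
  rwa [pow_one] at this

/-- `α(x)` as a series in two variables -/
noncomputable def xs (α : PowerSeries k) : MvPowerSeries (Fin 2) k :=
  PowerSeries.subst (X 0) α

lemma c2_xs (α : PowerSeries k) (i j : ℕ) :
    c2 (xs α) i j = if j = 0 then PowerSeries.coeff i α else 0 := by
  unfold c2 xs
  rw [PowerSeries.coeff_subst_single, pr_apply_zero]
  by_cases hj : j = 0
  · subst hj
    rw [if_pos rfl, if_pos]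
    simp [pr]
  · rw [if_neg hj, if_neg]
    intro h
    have := DFunLike.congr_fun h 1
    simp [pr] at this
    exact hj this

/-- the quotient in the division by `y² - x^s` -/
noncomputable def g2 (s : ℕ) (F : ℕ → ℕ → k) (i j : ℕ) : k :=
  if h : 0 < s ∧ s ≤ i then F i (j + 2) + g2 s F (i - s) (j + 2) else F i (j + 2)
termination_by i
decreasing_by omega

lemma g2_eq {s : ℕ} (hs : 0 < s) (F : ℕ → ℕ → k) (i j : ℕ) :
    g2 s F i j = F i (j + 2) + if s ≤ i then g2 s F (i - s) (j + 2) else 0 := by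
  rw [g2]
  by_cases h : s ≤ i
  · rw [dif_pos ⟨hs, h⟩, if_pos h]
  · rw [dif_neg (fun h' => h h'.2), if_neg h, add_zero]

/-- division with remainder by `y² - x^s` -/
theorem exists_nf (s : ℕ) (hs : 0 < s) (F : MvPowerSeries (Fin 2) k) :
    ∃ (α β : PowerSeries k) (G : MvPowerSeries (Fin 2) k),
      F = xs α + xs β * X 1 + G * (X 1 ^ 2 - X 0 ^ s) := by
  refine ⟨PowerSeries.mk fun i => c2 F i 0 + if s ≤ i then g2 s (c2 F) (i - s) 0 else 0,
    PowerSeries.mk fun i => c2 F i 1 + if s ≤ i then g2 s (c2 F) (i - s) 1 else 0,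
    mk2 (g2 s (c2 F)), ?_⟩
  apply ext2
  intro i j
  rw [mul_sub, c2_add, c2_sub, c2_add, c2_mul_X1_pow, c2_mul_X0_pow, c2_mul_X1, c2_xs, c2_xs]
  rcases Nat.lt_or_ge j 2 with hj | hj
  · interval_cases j
    · simp only [PowerSeries.coeff_mk, c2_mk2]
      simp
    · simp only [PowerSeries.coeff_mk, c2_mk2]
      simp
  · obtain ⟨j, rfl⟩ := Nat.exists_eq_add_of_le' hj
    have e2 : j + 2 - 2 = j := by omega
    have e3 : j + 2 - 1 = j + 1 := by omega
    have e4 : 2 ≤ j + 2 := by omega
    have e5 : 1 ≤ j + 2 := by omega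
    have e6 : ¬ (j + 2 = 0) := by omega
    have e7 : ¬ (j + 1 = 0) := by omega
    rw [e2, e3, if_pos e4, if_pos e5, if_neg e6, if_neg e7, c2_mk2, g2_eq hs (c2 F) i j]
    split_ifs
    · rw [c2_mk2]
      ring
    · ring

/-- uniqueness of the remainder -/
theorem nf_unique (s : ℕ) (hs : 0 < s) (α β : PowerSeries k) (G : MvPowerSeries (Fin 2) k)
    (h : xs α + xs β * X 1 = G * (X 1 ^ 2 - X 0 ^ s)) : α = 0 ∧ β = 0 ∧ G = 0 := by
  have key : ∀ i j, c2 G i j = if s ≤ i then c2 G (i - s) (j + 2) else 0 := by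
    intro i j
    have h1 := congrArg (fun F => c2 F i (j + 2)) h
    simp only [mul_sub, c2_add, c2_sub, c2_mul_X1_pow, c2_mul_X0_pow, c2_mul_X1, c2_xs] at h1
    simp at h1
    exact (sub_eq_zero.mp h1.symm)
  have hG : ∀ i j, c2 G i j = 0 := by
    intro i
    induction i using Nat.strong_induction_on with
    | _ i ih =>
      intro j
      rw [key]
      split_ifs with h'
      · exact ih (i - s) (by omega) _
      · rfl
  have G0 : G = 0 := ext2 (fun i j => by rw [hG, c2_zero])
  subst G0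
  rw [zero_mul] at h
  refine ⟨?_, ?_, rfl⟩
  · ext i
    have h1 := congrArg (fun F => c2 F i 0) h
    simp only [c2_add, c2_mul_X1, c2_xs, c2_zero] at h1
    simpa using h1
  · ext i
    have h1 := congrArg (fun F => c2 F i 1) h
    simp only [c2_add, c2_mul_X1, c2_xs, c2_zero] at h1
    simpa using h1

end coeff2

section general

/-- one step of a composition series: if `𝔪 z ⊆ J` and `z ∉ J` then the length drops by one
on adding `z` to `J` -/
theorem length_step {Q : Type*} [CommRing Q] (𝔪 : Ideal Q) [h𝔪 : 𝔪.IsMaximal] (J : Ideal Q)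
    (z : Q) (hz : z ∉ J) (hmz : ∀ a ∈ 𝔪, a * z ∈ J) :
    Module.length Q (Q ⧸ J) = Module.length Q (Q ⧸ (J ⊔ Ideal.span {z})) + 1 := by
  let μ : Q →ₗ[Q] Q ⧸ J := LinearMap.toSpanSingleton Q (Q ⧸ J) (Ideal.Quotient.mk J z)
  have hμ : ∀ a, μ a = Ideal.Quotient.mk J (a * z) := fun a => by
    show a • Ideal.Quotient.mk J z = _
    rw [map_mul]
    rfl
  have hker : 𝔪 = LinearMap.ker μ := by
    refine h𝔪.eq_of_le ?_ ?_
    · intro htop
      have : (1 : Q) ∈ LinearMap.ker μ := by rw [htop]; trivial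
      rw [LinearMap.mem_ker, hμ, one_mul, Ideal.Quotient.eq_zero_iff_mem] at this
      exact hz this
    · intro a ha
      rw [LinearMap.mem_ker, hμ, Ideal.Quotient.eq_zero_iff_mem]
      exact hmz a ha
  let f : Q ⧸ 𝔪 →ₗ[Q] Q ⧸ J := Submodule.liftQ 𝔪 μ hker.le
  have hf : Function.Injective f := by
    rw [← LinearMap.ker_eq_bot]
    exact Submodule.ker_liftQ_eq_bot' 𝔪 μ hker
  let g : Q ⧸ J →ₗ[Q] Q ⧸ (J ⊔ Ideal.span {z}) := Submodule.factor le_sup_left
  have hg : Function.Surjective g := Submodule.factor_surjective le_sup_left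
  have hfg : Function.Exact f g := by
    intro w
    obtain ⟨a, rfl⟩ := Ideal.Quotient.mk_surjective w
    constructor
    · intro h0
      have h1 : a ∈ J ⊔ Ideal.span {z} := by
        rw [← Ideal.Quotient.eq_zero_iff_mem]
        exact h0
      obtain ⟨j, hj, t, ht, rfl⟩ := Submodule.mem_sup.mp h1
      obtain ⟨c, rfl⟩ := Ideal.mem_span_singleton'.mp ht
      refine ⟨Ideal.Quotient.mk 𝔪 c, ?_⟩
      show μ c = _
      rw [hμ, map_add, Ideal.Quotient.eq_zero_iff_mem.mpr hj, zero_add]
    · rintro ⟨w', hw'⟩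
      obtain ⟨c, rfl⟩ := Ideal.Quotient.mk_surjective w'
      have h1 : Ideal.Quotient.mk J a = Ideal.Quotient.mk J (c * z) := by
        rw [← hw', ← hμ]
        rfl
      rw [h1]
      show Ideal.Quotient.mk (J ⊔ Ideal.span {z}) (c * z) = 0
      rw [Ideal.Quotient.eq_zero_iff_mem]
      exact Ideal.mem_sup_right (Ideal.mul_mem_left _ _ (Ideal.subset_span rfl))
  have hs : IsSimpleModule Q (Q ⧸ 𝔪) :=
    isSimpleModule_iff_isCoatom.mpr (Ideal.isMaximal_def.mp h𝔪)
  rw [Module.length_eq_add_of_exact f g hf hg hfg, Module.length_eq_one_iff.mpr hs, add_comm]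

lemma length_quot_top {Q : Type*} [CommRing Q] :
    Module.length Q (Q ⧸ (⊤ : Ideal Q)) = 0 :=
  Module.length_eq_zero_iff.mpr (Ideal.Quotient.subsingleton_iff.mpr rfl)

/-- a ring map `f : B → Q` such that `Q` is free over `B` on `1, z` is flat -/
theorem flat_of_bijective_pair {B Q : Type*} [CommRing B] [CommRing Q] (f : B →+* Q) (z : Q)
    (h : Function.Bijective fun p : B × B => f p.1 + f p.2 * z) : f.Flat := by
  letI : Algebra B Q := f.toAlgebra
  show Module.Flat B Q
  let e : (B × B) ≃ₗ[B] Q := LinearEquiv.ofBijective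
    { toFun := fun p => f p.1 + f p.2 * z
      map_add' := fun p q => by
        simp only [Prod.fst_add, Prod.snd_add, map_add]
        ring
      map_smul' := fun c p => by
        show f (c * p.1) + f (c * p.2) * z = f c * (f p.1 + f p.2 * z)
        rw [map_mul, map_mul]
        ring } h
  exact Module.Flat.of_linearEquiv e.symm

end general

section ArSingRing

open ArSing

variable (k : Type u) [Field k] (r : ℕ)

lemma xMap_apply (α : PowerSeries k) :
    xMap k r α = Ideal.Quotient.mk (Ideal.span {eqn k r}) (xs α) := by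
  unfold xMap xs
  rw [AlgHom.comp_apply, Ideal.Quotient.mkₐ_eq_mk, PowerSeries.coe_substAlgHom]

theorem nf_surj (q : ring k r) :
    ∃ α β : PowerSeries k, q = xMap k r α + xMap k r β * y k r := by
  obtain ⟨F, rfl⟩ := Ideal.Quotient.mk_surjective q
  obtain ⟨α, β, G, h⟩ := exists_nf (r + 1) (Nat.succ_pos r) F
  refine ⟨α, β, ?_⟩
  rw [xMap_apply, xMap_apply, ← map_mul, ← map_add, Ideal.Quotient.mk_eq_mk_iff_sub_mem,
    Ideal.mem_span_singleton']
  refine ⟨G, ?_⟩
  rw [h]
  unfold eqn
  ring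

theorem nf_inj {α β : PowerSeries k} (h : xMap k r α + xMap k r β * y k r = 0) :
    α = 0 ∧ β = 0 := by
  rw [xMap_apply, xMap_apply, ← map_mul, ← map_add, Ideal.Quotient.eq_zero_iff_mem,
    Ideal.mem_span_singleton'] at h
  obtain ⟨G, hG⟩ := h
  have := nf_unique (r + 1) (Nat.succ_pos r) α β G (by rw [← hG]; rfl)
  exact ⟨this.1, this.2.1⟩

/-- first coordinate -/
noncomputable def cA (q : ring k r) : PowerSeries k := (nf_surj k r q).choose

/-- second coordinate -/
noncomputable def cB (q : ring k r) : PowerSeries k := (nf_surj k r q).choose_spec.choose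

lemma eq_coords (q : ring k r) :
    q = xMap k r (cA k r q) + xMap k r (cB k r q) * y k r :=
  (nf_surj k r q).choose_spec.choose_spec

variable {k r}

lemma coords_unique {q : ring k r} {α β : PowerSeries k}
    (h : q = xMap k r α + xMap k r β * y k r) : cA k r q = α ∧ cB k r q = β := by
  have h1 := eq_coords k r q
  have h2 : xMap k r (cA k r q - α) + xMap k r (cB k r q - β) * y k r = 0 := by
    rw [map_sub, map_sub]
    have : xMap k r (cA k r q) + xMap k r (cB k r q) * y k r
        = xMap k r α + xMap k r β * y k r := h1.symm.trans h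
    linear_combination this
  have := nf_inj k r h2
  exact ⟨sub_eq_zero.mp this.1, sub_eq_zero.mp this.2⟩

@[simp] lemma cA_mk (α β : PowerSeries k) : cA k r (xMap k r α + xMap k r β * y k r) = α :=
  (coords_unique rfl).1

@[simp] lemma cB_mk (α β : PowerSeries k) : cB k r (xMap k r α + xMap k r β * y k r) = β :=
  (coords_unique rfl).2

lemma coords_ext {q q' : ring k r} (hA : cA k r q = cA k r q') (hB : cB k r q = cB k r q') :
    q = q' := by
  rw [eq_coords k r q, eq_coords k r q', hA, hB]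

lemma y_sq : y k r ^ 2 = x k r ^ (r + 1) := by
  unfold y x
  rw [← map_pow, ← map_pow, Ideal.Quotient.mk_eq_mk_iff_sub_mem]
  exact Ideal.subset_span rfl

lemma xMap_X : xMap k r PowerSeries.X = x k r := by
  rw [xMap_apply]
  unfold xs
  rw [PowerSeries.subst_X (PowerSeries.HasSubst.X (0 : Fin 2))]

lemma xMap_X_pow (n : ℕ) : xMap k r (PowerSeries.X ^ n) = x k r ^ n := by
  rw [map_pow, xMap_X]

@[simp] lemma cA_xMap (α : PowerSeries k) : cA k r (xMap k r α) = α :=
  (coords_unique (α := α) (β := 0) (by rw [map_zero, zero_mul, add_zero])).1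

@[simp] lemma cB_xMap (α : PowerSeries k) : cB k r (xMap k r α) = 0 :=
  (coords_unique (α := α) (β := 0) (by rw [map_zero, zero_mul, add_zero])).2

@[simp] lemma cA_y : cA k r (y k r) = 0 :=
  (coords_unique (α := 0) (β := 1) (by rw [map_zero, map_one, one_mul, zero_add])).1

@[simp] lemma cB_y : cB k r (y k r) = 1 :=
  (coords_unique (α := 0) (β := 1) (by rw [map_zero, map_one, one_mul, zero_add])).2

@[simp] lemma cA_x : cA k r (x k r) = PowerSeries.X := by rw [← xMap_X, cA_xMap]
@[simp] lemma cB_x : cB k r (x k r) = 0 := by rw [← xMap_X, cB_xMap]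
@[simp] lemma cA_one : cA k r (1 : ring k r) = 1 := by rw [← map_one (xMap k r), cA_xMap]
@[simp] lemma cB_one : cB k r (1 : ring k r) = 0 := by rw [← map_one (xMap k r), cB_xMap]
@[simp] lemma cA_zero : cA k r (0 : ring k r) = 0 := by rw [← map_zero (xMap k r), cA_xMap]
@[simp] lemma cB_zero : cB k r (0 : ring k r) = 0 := by rw [← map_zero (xMap k r), cB_xMap]

lemma cA_algebraMap (c : k) : cA k r (algebraMap k (ring k r) c) = PowerSeries.C c := by
  rw [← (xMap k r).commutes c, cA_xMap]
  rfl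

lemma cB_algebraMap (c : k) : cB k r (algebraMap k (ring k r) c) = 0 := by
  rw [← (xMap k r).commutes c, cB_xMap]

lemma coords_add (p q : ring k r) :
    cA k r (p + q) = cA k r p + cA k r q ∧ cB k r (p + q) = cB k r p + cB k r q := by
  apply coords_unique
  conv_lhs => rw [eq_coords k r p, eq_coords k r q]
  rw [map_add, map_add]
  ring

lemma cA_add (p q : ring k r) : cA k r (p + q) = cA k r p + cA k r q := (coords_add p q).1
lemma cB_add (p q : ring k r) : cB k r (p + q) = cB k r p + cB k r q := (coords_add p q).2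

lemma coords_neg (p : ring k r) :
    cA k r (-p) = -cA k r p ∧ cB k r (-p) = -cB k r p := by
  apply coords_unique
  conv_lhs => rw [eq_coords k r p]
  rw [map_neg, map_neg]
  ring

lemma cA_neg (p : ring k r) : cA k r (-p) = -cA k r p := (coords_neg p).1
lemma cB_neg (p : ring k r) : cB k r (-p) = -cB k r p := (coords_neg p).2

lemma cA_sub (p q : ring k r) : cA k r (p - q) = cA k r p - cA k r q := by
  rw [sub_eq_add_neg, cA_add, cA_neg, sub_eq_add_neg]

lemma cB_sub (p q : ring k r) : cB k r (p - q) = cB k r p - cB k r q := by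
  rw [sub_eq_add_neg, cB_add, cB_neg, sub_eq_add_neg]

lemma coords_mul (p q : ring k r) :
    cA k r (p * q) = cA k r p * cA k r q + PowerSeries.X ^ (r + 1) * (cB k r p * cB k r q) ∧
      cB k r (p * q) = cA k r p * cB k r q + cB k r p * cA k r q := by
  apply coords_unique
  conv_lhs => rw [eq_coords k r p, eq_coords k r q]
  simp only [map_add, map_mul, xMap_X_pow]
  linear_combination (xMap k r (cB k r p) * xMap k r (cB k r q)) * (y_sq (k := k) (r := r))

lemma cA_mul (p q : ring k r) :
    cA k r (p * q) = cA k r p * cA k r q + PowerSeries.X ^ (r + 1) * (cB k r p * cB k r q) :=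
  (coords_mul p q).1

lemma cB_mul (p q : ring k r) :
    cB k r (p * q) = cA k r p * cB k r q + cB k r p * cA k r q := (coords_mul p q).2

lemma eq_zero_of_coords {q : ring k r} (hA : cA k r q = 0) (hB : cB k r q = 0) : q = 0 :=
  coords_ext (by rw [hA, cA_zero]) (by rw [hB, cB_zero])

/-- membership in `(x)` -/
lemma mem_span_x_iff {q : ring k r} :
    q ∈ Ideal.span {x k r} ↔ PowerSeries.X ∣ cA k r q ∧ PowerSeries.X ∣ cB k r q := by
  constructor
  · intro h
    obtain ⟨a, rfl⟩ := Ideal.mem_span_singleton'.mp h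
    rw [cA_mul, cB_mul, cA_x, cB_x]
    exact ⟨⟨cA k r a, by ring⟩, ⟨cB k r a, by ring⟩⟩
  · rintro ⟨⟨a, ha⟩, ⟨b, hb⟩⟩
    rw [eq_coords k r q, ha, hb, map_mul, map_mul, xMap_X]
    refine Ideal.mem_span_singleton'.mpr ⟨xMap k r a + xMap k r b * y k r, ?_⟩
    ring

/-- membership in `(x, y)` -/
lemma mem_span_xy_iff {q : ring k r} :
    q ∈ Ideal.span {x k r, y k r} ↔ PowerSeries.X ∣ cA k r q := by
  constructor
  · intro h
    obtain ⟨a, b, rfl⟩ := Ideal.mem_span_pair.mp h
    rw [cA_add, cA_mul, cA_mul, cA_x, cB_x, cA_y, cB_y]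
    refine ⟨cA k r a + PowerSeries.X ^ r * cB k r b, ?_⟩
    ring
  · rintro ⟨a, ha⟩
    rw [eq_coords k r q, ha, map_mul, xMap_X]
    exact Ideal.mem_span_pair.mpr ⟨xMap k r a, xMap k r (cB k r q), by ring⟩

/-- membership in `(y, x^i)` for `i ≤ r + 1` -/
lemma mem_span_y_xpow_iff {i : ℕ} (hi : i ≤ r + 1) {q : ring k r} :
    q ∈ Ideal.span {y k r, x k r ^ i} ↔ PowerSeries.X ^ i ∣ cA k r q := by
  constructor
  · intro h
    obtain ⟨a, b, rfl⟩ := Ideal.mem_span_pair.mp h
    rw [cA_add, cA_mul, cA_mul, cA_y, cB_y, ← xMap_X_pow, cA_xMap, cB_xMap]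
    obtain ⟨d, hd⟩ := Nat.exists_eq_add_of_le hi
    rw [hd, pow_add]
    refine ⟨PowerSeries.X ^ d * cB k r a + cA k r b, ?_⟩
    ring
  · rintro ⟨a, ha⟩
    rw [eq_coords k r q, ha, map_mul, xMap_X_pow]
    exact Ideal.mem_span_pair.mpr ⟨xMap k r (cB k r q), xMap k r a, by ring⟩

theorem isMaximal_span_xy : (Ideal.span {x k r, y k r}).IsMaximal := by
  rw [Ideal.isMaximal_iff]
  refine ⟨?_, ?_⟩
  · rw [mem_span_xy_iff, cA_one, PowerSeries.X_dvd_iff]
    simp
  · intro J z hJ hz hzJ
    rw [mem_span_xy_iff, PowerSeries.X_dvd_iff] at hz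
    set c : k := PowerSeries.constantCoeff (cA k r z) with hc
    have h1 : z - algebraMap k (ring k r) c ∈ Ideal.span {x k r, y k r} := by
      rw [mem_span_xy_iff, PowerSeries.X_dvd_iff, cA_sub, cA_algebraMap, map_sub,
        PowerSeries.constantCoeff_C, sub_self]
    have h2 : algebraMap k (ring k r) c ∈ J := by
      have : algebraMap k (ring k r) c = z - (z - algebraMap k (ring k r) c) := by ring
      rw [this]
      exact J.sub_mem hzJ (hJ h1)
    have h3 : (1 : ring k r) = algebraMap k (ring k r) c⁻¹ * algebraMap k (ring k r) c := by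
      rw [← map_mul, inv_mul_cancel₀ hz, map_one]
    rw [h3]
    exact J.mul_mem_left _ h2

instance : Nontrivial (ring k r) := by
  refine ⟨⟨0, 1, fun h => ?_⟩⟩
  have h1 := (isMaximal_span_xy (k := k) (r := r)).ne_top
  apply h1
  rw [Ideal.eq_top_iff_one, ← h]
  exact zero_mem _

instance : IsLocalRing (ring k r) :=
  IsLocalRing.of_surjective' (Ideal.Quotient.mk (Ideal.span {eqn k r}))
    Ideal.Quotient.mk_surjective

lemma maximalIdeal_eq : IsLocalRing.maximalIdeal (ring k r) = Ideal.span {x k r, y k r} :=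
  (IsLocalRing.eq_maximalIdeal isMaximal_span_xy).symm

lemma x_mem_nonZeroDivisors : x k r ∈ nonZeroDivisors (ring k r) := by
  rw [mem_nonZeroDivisors_iff_right]
  intro z hz
  have hA := congrArg (cA k r) hz
  have hB := congrArg (cB k r) hz
  rw [cA_mul, cA_x, cB_x, cA_zero] at hA
  rw [cB_mul, cA_x, cB_x, cB_zero] at hB
  simp only [mul_zero, add_zero, zero_add] at hA hB
  refine eq_zero_of_coords ?_ ?_
  · rcases mul_eq_zero.mp hA with h | h
    · exact h
    · exact absurd h PowerSeries.X_ne_zero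
  · rcases mul_eq_zero.mp hB with h | h
    · exact h
    · exact absurd h PowerSeries.X_ne_zero

lemma y_mem_nonZeroDivisors : y k r ∈ nonZeroDivisors (ring k r) := by
  rw [mem_nonZeroDivisors_iff_right]
  intro z hz
  have hA := congrArg (cA k r) hz
  have hB := congrArg (cB k r) hz
  rw [cA_mul, cA_y, cB_y, cA_zero] at hA
  rw [cB_mul, cA_y, cB_y, cB_zero] at hB
  simp only [mul_zero, add_zero, zero_add, mul_one] at hA hB
  refine eq_zero_of_coords hB ?_
  rcases mul_eq_zero.mp hA with h | h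
  · exact absurd h (pow_ne_zero _ PowerSeries.X_ne_zero)
  · exact h

/-- the `x`-adic topology is separated -/
lemma eq_zero_of_forall_x_pow_dvd {q : ring k r} (h : ∀ n : ℕ, ∃ q', q = x k r ^ n * q') :
    q = 0 := by
  have key : ∀ n : ℕ, PowerSeries.X ^ n ∣ cA k r q ∧ PowerSeries.X ^ n ∣ cB k r q := by
    intro n
    obtain ⟨q', rfl⟩ := h n
    rw [cA_mul, cB_mul, ← xMap_X_pow, cA_xMap, cB_xMap]
    exact ⟨⟨cA k r q', by ring⟩, ⟨cB k r q', by ring⟩⟩
  refine eq_zero_of_coords ?_ ?_
  · ext n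
    rw [map_zero]
    exact PowerSeries.X_pow_dvd_iff.mp (key (n + 1)).1 n (Nat.lt_succ_self n)
  · ext n
    rw [map_zero]
    exact PowerSeries.X_pow_dvd_iff.mp (key (n + 1)).2 n (Nat.lt_succ_self n)

/-- ring maps from `k⟦t⟧` sending `t` into `(x)` are determined by constants and `t` -/
theorem ringHom_ext_X (φ ψ : PowerSeries k →+* ring k r)
    (hC : ∀ c, φ (PowerSeries.C c) = ψ (PowerSeries.C c))
    (hX : φ PowerSeries.X = ψ PowerSeries.X) (hx : ∃ u, φ PowerSeries.X = x k r * u) :
    φ = ψ := by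
  obtain ⟨u, hu⟩ := hx
  have hpoly : ∀ p : Polynomial k, φ (p : PowerSeries k) = ψ (p : PowerSeries k) := by
    have : φ.comp (Polynomial.coeToPowerSeries.ringHom) =
        ψ.comp (Polynomial.coeToPowerSeries.ringHom) := by
      apply Polynomial.ringHom_ext
      · intro a
        simpa using hC a
      · simpa using hX
    intro p
    exact RingHom.congr_fun this p
  ext f
  rw [← sub_eq_zero]
  apply eq_zero_of_forall_x_pow_dvd
  intro n
  have hf := PowerSeries.eq_X_pow_mul_shift_add_trunc n f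
  set f' : PowerSeries k := PowerSeries.mk fun i => PowerSeries.coeff (i + n) f with hf'
  refine ⟨u ^ n * (φ f' - ψ f'), ?_⟩
  conv_lhs => rw [hf]
  rw [map_add, map_add, map_mul, map_mul, map_pow, map_pow, hpoly, ← hX, hu]
  ring

end ArSingRing

end Groth.Agent.Lib.Helper76.ArNF
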