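import Groth.Agent.Lib.Helper76.ArNF2

/-!
# The two branches of the node `k⟦x,y⟧/(y² - x²)` (helper76)

* `brP`, `brM`: restriction to the branches `y = x` and `y = -x`, as algebra maps to `k⟦t⟧`;
* `br_ext`, `exists_of_br`: the node algebra is the fibre product of the two branches (`2 ≠ 0`);
* `span_v_eq_ker`: `(y - x)` is the kernel of `brP`;
* `ps_ringHom_ext`, `ringHom_ext_Q`: ring maps are determined by the images of the variables;
* `T`: the substitution `t ↦ -2t²`.
-/

set_option autoImplicit false
universe u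

namespace Groth.Agent.Lib.Helper76.ArNF

open ArSing

section general

variable {k : Type u} [Field k]

/-- ring maps from `k⟦t⟧` to a ring separated for the `z`-adic topology, sending `t` into `(z)`,
are determined by constants and `t` -/
theorem ps_ringHom_ext {B : Type*} [CommRing B] (z : B)
    (hz : ∀ b : B, (∀ n : ℕ, ∃ b', b = z ^ n * b') → b = 0)
    (φ ψ : PowerSeries k →+* B)
    (hC : ∀ c, φ (PowerSeries.C c) = ψ (PowerSeries.C c))
    (hX : φ PowerSeries.X = ψ PowerSeries.X) (hx : ∃ u, φ PowerSeries.X = z * u) :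
    φ = ψ := by
  obtain ⟨u, hu⟩ := hx
  have hpoly : ∀ p : Polynomial k, φ (p : PowerSeries k) = ψ (p : PowerSeries k) := by
    have : φ.comp (Polynomial.coeToPowerSeries.ringHom) =
        ψ.comp (Polynomial.coeToPowerSeries.ringHom) := by
      apply Polynomial.ringHom_ext
      · intro a
        simpa using hC a
      · simpa using hX
    intro p
    exact RingHom.congr_fun this p
  ext f
  rw [← sub_eq_zero]
  apply hz
  intro n
  have hf := PowerSeries.eq_X_pow_mul_shift_add_trunc n f
  set f' : PowerSeries k := PowerSeries.mk fun i => PowerSeries.coeff (i + n) f with hf'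
  refine ⟨u ^ n * (φ f' - ψ f'), ?_⟩
  conv_lhs => rw [hf]
  rw [map_add, map_add, map_mul, map_mul, map_pow, map_pow, hpoly, ← hX, hu]
  ring

/-- endomorphisms of `k⟦t⟧` sending `t` into `(t)` are determined by constants and `t` -/
theorem ps_endo_ext (φ ψ : PowerSeries k →+* PowerSeries k)
    (hC : ∀ c, φ (PowerSeries.C c) = ψ (PowerSeries.C c))
    (hX : φ PowerSeries.X = ψ PowerSeries.X) (hx : PowerSeries.X ∣ φ PowerSeries.X) :
    φ = ψ := by
  refine ps_ringHom_ext PowerSeries.X ?_ φ ψ hC hX hx
  intro b hb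
  ext n
  rw [map_zero]
  obtain ⟨b', hb'⟩ := hb (n + 1)
  exact PowerSeries.X_pow_dvd_iff.mp ⟨b', hb'⟩ n (Nat.lt_succ_self n)

lemma two_ne_zero_ps (h2 : (2 : k) ≠ 0) : (2 : PowerSeries k) ≠ 0 := by
  intro h
  have := congrArg PowerSeries.constantCoeff h
  rw [map_ofNat, map_zero] at this
  exact h2 this

end general

section node

variable {k : Type u} [Field k]

/-- restriction to the branch `y = x` -/
noncomputable def brP : ring k 1 →ₐ[k] PowerSeries k where
  toFun a := cA k 1 a + PowerSeries.X * cB k 1 a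
  map_one' := by rw [cA_one, cB_one, mul_zero, add_zero]
  map_mul' a b := by
    rw [cA_mul, cB_mul]
    ring
  map_zero' := by rw [cA_zero, cB_zero, mul_zero, add_zero]
  map_add' a b := by
    rw [cA_add, cB_add]
    ring
  commutes' c := by
    rw [cA_algebraMap, cB_algebraMap, mul_zero, add_zero]
    rfl

/-- restriction to the branch `y = -x` -/
noncomputable def brM : ring k 1 →ₐ[k] PowerSeries k where
  toFun a := cA k 1 a - PowerSeries.X * cB k 1 a
  map_one' := by rw [cA_one, cB_one, mul_zero, sub_zero]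
  map_mul' a b := by
    rw [cA_mul, cB_mul]
    ring
  map_zero' := by rw [cA_zero, cB_zero, mul_zero, sub_zero]
  map_add' a b := by
    rw [cA_add, cB_add]
    ring
  commutes' c := by
    rw [cA_algebraMap, cB_algebraMap, mul_zero, sub_zero]
    rfl

lemma brP_apply (a : ring k 1) : brP a = cA k 1 a + PowerSeries.X * cB k 1 a := rfl
lemma brM_apply (a : ring k 1) : brM a = cA k 1 a - PowerSeries.X * cB k 1 a := rfl

@[simp] lemma brP_x : brP (x k 1) = PowerSeries.X := by
  rw [brP_apply, cA_x, cB_x, mul_zero, add_zero]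
@[simp] lemma brP_y : brP (y k 1) = PowerSeries.X := by
  rw [brP_apply, cA_y, cB_y, mul_one, zero_add]
@[simp] lemma brM_x : brM (x k 1) = PowerSeries.X := by
  rw [brM_apply, cA_x, cB_x, mul_zero, sub_zero]
@[simp] lemma brM_y : brM (y k 1) = -PowerSeries.X := by
  rw [brM_apply, cA_y, cB_y, mul_one, zero_sub]

lemma constantCoeff_brP_eq (a : ring k 1) :
    PowerSeries.constantCoeff (brP a) = PowerSeries.constantCoeff (brM a) := by
  rw [brP_apply, brM_apply, map_add, map_sub, map_mul, PowerSeries.constantCoeff_X, zero_mul,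
    add_zero, sub_zero]

/-- the two branches separate points (`2 ≠ 0`) -/
lemma br_ext (h2 : (2 : k) ≠ 0) {a b : ring k 1} (hP : brP a = brP b) (hM : brM a = brM b) :
    a = b := by
  rw [brP_apply, brP_apply] at hP
  rw [brM_apply, brM_apply] at hM
  have h2' := two_ne_zero_ps h2
  have hA : cA k 1 a = cA k 1 b := by
    apply mul_left_cancel₀ h2'
    linear_combination hP + hM
  have hB : cB k 1 a = cB k 1 b := by
    apply mul_left_cancel₀ h2'
    apply mul_left_cancel₀ (PowerSeries.X_ne_zero (R := k))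
    linear_combination hP - hM
  exact coords_ext hA hB

/-- the node algebra is the fibre product of its two branches -/
lemma exists_of_br (h2 : (2 : k) ≠ 0) (f g : PowerSeries k)
    (h : PowerSeries.constantCoeff f = PowerSeries.constantCoeff g) :
    ∃ a : ring k 1, brP a = f ∧ brM a = g := by
  obtain ⟨δ, hδ⟩ : PowerSeries.X ∣ f - g := by
    rw [PowerSeries.X_dvd_iff, map_sub, h, sub_self]
  have h2c : PowerSeries.C (2⁻¹ : k) * 2 = 1 := by
    rw [← map_ofNat (PowerSeries.C (R := k)) 2, ← map_mul, inv_mul_cancel₀ h2, map_one]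
  refine ⟨xMap k 1 (PowerSeries.C (2⁻¹ : k) * (f + g)) +
    xMap k 1 (PowerSeries.C (2⁻¹ : k) * δ) * y k 1, ?_, ?_⟩
  · rw [brP_apply, cA_mk, cB_mk]
    linear_combination f * h2c - PowerSeries.C (2⁻¹ : k) * hδ
  · rw [brM_apply, cA_mk, cB_mk]
    linear_combination g * h2c + PowerSeries.C (2⁻¹ : k) * hδ

/-- `(y - x)` is the kernel of the restriction to the branch `y = x` -/
lemma span_v_eq_ker :
    Ideal.span {y k 1 - x k 1} = RingHom.ker (brP : ring k 1 →ₐ[k] PowerSeries k).toRingHom := by
  ext a
  rw [RingHom.mem_ker]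
  constructor
  · intro h
    obtain ⟨c, rfl⟩ := Ideal.mem_span_singleton'.mp h
    show brP (c * (y k 1 - x k 1)) = 0
    rw [map_mul, map_sub, brP_y, brP_x, sub_self, mul_zero]
  · intro h
    have h1 : cA k 1 a = -(PowerSeries.X * cB k 1 a) := by
      have : brP a = 0 := h
      rw [brP_apply] at this
      linear_combination this
    refine Ideal.mem_span_singleton'.mpr ⟨xMap k 1 (cB k 1 a), ?_⟩
    conv_rhs => rw [eq_coords k 1 a, h1, map_neg, map_mul, xMap_X]
    ring

/-- ring maps from the node algebra to `k⟦t⟧` are determined by the images of `x` and `y` -/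
theorem ringHom_ext_Q {r : ℕ} (ψ₁ ψ₂ : ring k r →+* PowerSeries k)
    (hC : ∀ c, ψ₁ (algebraMap k (ring k r) c) = ψ₂ (algebraMap k (ring k r) c))
    (hx : ψ₁ (x k r) = ψ₂ (x k r)) (hy : ψ₁ (y k r) = ψ₂ (y k r))
    (hxX : PowerSeries.X ∣ ψ₁ (x k r)) : ψ₁ = ψ₂ := by
  have key : ψ₁.comp (xMap k r).toRingHom = ψ₂.comp (xMap k r).toRingHom := by
    apply ps_endo_ext
    · intro c
      have : (PowerSeries.C c : PowerSeries k) = algebraMap k (PowerSeries k) c := rfl
      show ψ₁ (xMap k r (PowerSeries.C c)) = ψ₂ (xMap k r (PowerSeries.C c))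
      rw [this, AlgHom.commutes]
      exact hC c
    · show ψ₁ (xMap k r PowerSeries.X) = ψ₂ (xMap k r PowerSeries.X)
      rw [xMap_X]
      exact hx
    · show PowerSeries.X ∣ ψ₁ (xMap k r PowerSeries.X)
      rw [xMap_X]
      exact hxX
  refine RingHom.ext fun a => ?_
  have h1 : ∀ α, ψ₁ (xMap k r α) = ψ₂ (xMap k r α) := fun α => RingHom.congr_fun key α
  rw [eq_coords k r a, map_add, map_add, map_mul, map_mul, h1, h1, hy]

/-- the substitution `t ↦ -2t²` -/
noncomputable def T : PowerSeries k →+* PowerSeries k :=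
  (E : PowerSeries k →ₐ[k] PowerSeries k).toRingHom.comp (PowerSeries.rescale (-2 : k))

lemma T_apply (f : PowerSeries k) : T f = E (PowerSeries.rescale (-2 : k) f) := rfl

lemma T_C (c : k) : T (PowerSeries.C c) = PowerSeries.C c := by
  rw [T_apply]
  have : PowerSeries.rescale (-2 : k) (PowerSeries.C c) = PowerSeries.C c := by
    ext n
    rw [PowerSeries.coeff_rescale, PowerSeries.coeff_C]
    split_ifs with h
    · subst h
      simp
    · simp
  rw [this]
  exact PowerSeries.expand_C 2 two_ne_zero c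

lemma T_X : T (PowerSeries.X : PowerSeries k) = PowerSeries.C (-2 : k) * PowerSeries.X ^ 2 := by
  rw [T_apply, PowerSeries.rescale_X, map_mul, PowerSeries.expand_C, PowerSeries.expand_X]

lemma N_T (f : PowerSeries k) : N (T f) = T f := by
  rw [T_apply, N_E]

lemma T_injective (h2 : (2 : k) ≠ 0) : Function.Injective (T : PowerSeries k → PowerSeries k) := by
  intro f g h
  rw [T_apply, T_apply] at h
  have h1 := E_injective h
  ext n
  have h3 := congrArg (PowerSeries.coeff n) h1
  rw [PowerSeries.coeff_rescale, PowerSeries.coeff_rescale] at h3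
  exact mul_left_cancel₀ (pow_ne_zero n (neg_ne_zero.mpr h2)) h3

/-- every even series is in the image of `T` -/
lemma exists_T_eq (h2 : (2 : k) ≠ 0) (g : PowerSeries k) :
    ∃ f : PowerSeries k, T f = E g ∧
      PowerSeries.constantCoeff f = PowerSeries.constantCoeff g := by
  refine ⟨PowerSeries.rescale ((-2 : k)⁻¹) g, ?_, ?_⟩
  · rw [T_apply, PowerSeries.rescale_rescale, inv_mul_cancel₀ (neg_ne_zero.mpr h2),
      PowerSeries.rescale_one]
    rfl
  · rw [← PowerSeries.coeff_zero_eq_constantCoeff_apply, PowerSeries.coeff_rescale, pow_zero,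
      one_mul, PowerSeries.coeff_zero_eq_constantCoeff_apply]

end node

end Groth.Agent.Lib.Helper76.ArNF
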