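import Mathlib

/-!
# Density of a ring in its adic completion (helper76)

* `exists_of_sub_mem`: every element of the `I`-adic completion is congruent, modulo the `n`-th
  power of the extended ideal, to an element of the ring (`I` finitely generated).
-/

set_option autoImplicit false

namespace Groth.Agent.Lib.Helper76.ComplDense

variable {R : Type*} [CommRing R] (I : Ideal R)

theorem exists_of_sub_mem (hI : I.FG) (c : AdicCompletion I R) (n : ℕ) :
    ∃ r : R, c - AdicCompletion.of I R r ∈ (I.map (algebraMap R (AdicCompletion I R))) ^ n := by
  obtain ⟨r, hr⟩ := Submodule.mkQ_surjective _ (AdicCompletion.eval I R n c)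
  refine ⟨r, ?_⟩
  rw [← Ideal.map_pow, ← Submodule.restrictScalars_mem R, ← Ideal.smul_top_eq_map,
    AdicCompletion.pow_smul_top_eq_ker_eval hI, LinearMap.mem_ker, map_sub, AdicCompletion.eval_of,
    hr, sub_self]

end Groth.Agent.Lib.Helper76.ComplDense
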