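import Groth.Agent.Lib.Helper76.ArLefNode
import Mathlib.RingTheory.Nakayama

/-!
# The formal double point `A⟦x,y⟧/(xy - α)` over a general (local) base ring (helper76)

* `axis s`: restriction of a power series in two variables to a coordinate axis (a ring hom);
* `eq_zero_of_mul_eq_C`: over a noetherian local ring, if `U * V` is a constant and `U` has linear
  coefficient a unit and constant coefficient in the maximal ideal, then `V = 0` (Nakayama);
* `mem_span_of_algEquiv`: an `A`-algebra isomorphism `A⟦x,y⟧/(xy-α) ≃ A⟦x,y⟧/(xy-β)` forces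
  `α ∈ (β)`.
-/

set_option autoImplicit false
universe u

namespace Groth.Agent.Lib.Helper76.NodeGen

open MvPowerSeries
open Groth.Agent.Lib.Helper76.LT Groth.Agent.Lib.Helper76.PSInv
open Groth.Agent.Lib.Helper76.PSComplete

section axis

variable {A : Type u} [CommRing A]

/-- restriction of a power series in two variables to a coordinate axis -/
noncomputable def axis (s : Fin 2) : MvPowerSeries (Fin 2) A →+* PowerSeries A where
  toFun F := PowerSeries.mk fun n => coeff (Finsupp.single s n) F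
  map_one' := by
    ext n
    rw [PowerSeries.coeff_mk, PowerSeries.coeff_one, MvPowerSeries.coeff_one]
    simp [Finsupp.single_eq_zero]
  map_mul' F G := by
    show PowerSeries.mk (fun n => coeff (Finsupp.single s n) (F * G)) =
      PowerSeries.mk (fun n => coeff (Finsupp.single s n) F) *
        PowerSeries.mk (fun n => coeff (Finsupp.single s n) G)
    ext n
    rw [PowerSeries.coeff_mk, MvPowerSeries.coeff_mul, Finsupp.antidiagonal_single,
      Finset.sum_map, PowerSeries.coeff_mul]
    refine Finset.sum_congr rfl fun p _ => ?_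
    rw [PowerSeries.coeff_mk, PowerSeries.coeff_mk]
    rfl
  map_zero' := by
    ext n
    rw [PowerSeries.coeff_mk, map_zero, map_zero]
  map_add' F G := by
    show PowerSeries.mk (fun n => coeff (Finsupp.single s n) (F + G)) =
      PowerSeries.mk (fun n => coeff (Finsupp.single s n) F) +
        PowerSeries.mk (fun n => coeff (Finsupp.single s n) G)
    ext n
    rw [PowerSeries.coeff_mk, map_add, map_add, PowerSeries.coeff_mk, PowerSeries.coeff_mk]

lemma coeff_axis (s : Fin 2) (n : ℕ) (F : MvPowerSeries (Fin 2) A) :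
    PowerSeries.coeff n (axis s F) = coeff (Finsupp.single s n) F := by
  show PowerSeries.coeff n (PowerSeries.mk fun n => coeff (Finsupp.single s n) F) = _
  exact PowerSeries.coeff_mk _ _

lemma axis_C (s : Fin 2) (a : A) : axis s (C a : MvPowerSeries (Fin 2) A) = PowerSeries.C a := by
  ext n
  rw [coeff_axis, MvPowerSeries.coeff_C, PowerSeries.coeff_C]
  simp [Finsupp.single_eq_zero]

lemma axis_X_self (s : Fin 2) :
    axis s (X s : MvPowerSeries (Fin 2) A) = PowerSeries.X := by
  ext n
  rw [coeff_axis, MvPowerSeries.coeff_X, PowerSeries.coeff_X]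
  by_cases hn : n = 1
  · rw [if_pos hn, if_pos (by rw [hn])]
  · rw [if_neg hn, if_neg]
    intro h
    exact hn (Finsupp.single_injective s h)

lemma axis_X_ne {s s' : Fin 2} (h : s ≠ s') :
    axis s (X s' : MvPowerSeries (Fin 2) A) = 0 := by
  ext n
  rw [coeff_axis, MvPowerSeries.coeff_X, map_zero, if_neg]
  intro h1
  have h2 := DFunLike.congr_fun h1 s'
  simp [Finsupp.single_apply, h] at h2

end axis

section key

variable {R : Type u} [CommRing R] [IsLocalRing R] [IsNoetherianRing R]

theorem eq_zero_of_mul_eq_C (U V : PowerSeries R) (c : R)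
    (h0 : PowerSeries.coeff 0 U ∈ IsLocalRing.maximalIdeal R)
    (h1 : IsUnit (PowerSeries.coeff 1 U)) (h : U * V = PowerSeries.C c) : V = 0 := by
  obtain ⟨I, hI⟩ : ∃ I : Ideal R, I = Ideal.span (Set.range fun n => PowerSeries.coeff n V) :=
    ⟨_, rfl⟩
  have hVI : ∀ n, PowerSeries.coeff n V ∈ I := fun n => by
    rw [hI]
    exact Ideal.subset_span ⟨n, rfl⟩
  suffices hI0 : I = ⊥ by
    ext n
    have := hVI n
    rw [hI0, Ideal.mem_bot] at this
    rw [this, map_zero]
  apply Submodule.eq_bot_of_le_smul_of_le_jacobson_bot (IsLocalRing.maximalIdeal R) I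
    (IsNoetherian.noetherian I)
  · obtain ⟨J, hJ⟩ : ∃ J : Ideal R, J = IsLocalRing.maximalIdeal R • I := ⟨_, rfl⟩
    rw [← hJ]
    have hVJ : ∀ n, PowerSeries.coeff n V ∈ J := by
      have hC : PowerSeries.C (Ideal.Quotient.mk J (PowerSeries.coeff 0 U)) *
          PowerSeries.map (Ideal.Quotient.mk J) V = 0 := by
        ext m
        rw [PowerSeries.coeff_C_mul, PowerSeries.coeff_map, ← map_mul, map_zero,
          Ideal.Quotient.eq_zero_iff_mem, hJ]
        exact Submodule.smul_mem_smul h0 (hVI m)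
      obtain ⟨W, hW⟩ : ∃ W : PowerSeries (R ⧸ J), W = PowerSeries.mk fun p =>
          PowerSeries.coeff (p + 1) (PowerSeries.map (Ideal.Quotient.mk J) U) := ⟨_, rfl⟩
      have hU : PowerSeries.map (Ideal.Quotient.mk J) U =
          W * PowerSeries.X +
            PowerSeries.C (Ideal.Quotient.mk J (PowerSeries.coeff 0 U)) := by
        have h3 := PowerSeries.eq_shift_mul_X_add_const (PowerSeries.map (Ideal.Quotient.mk J) U)
        rw [← hW, ← PowerSeries.coeff_zero_eq_constantCoeff_apply, PowerSeries.coeff_map] at h3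
        exact h3
      have hWu : IsUnit W := by
        rw [PowerSeries.isUnit_iff_constantCoeff]
        have : PowerSeries.constantCoeff W = Ideal.Quotient.mk J (PowerSeries.coeff 1 U) := by
          rw [← PowerSeries.coeff_zero_eq_constantCoeff_apply, hW, PowerSeries.coeff_mk,
            PowerSeries.coeff_map]
        rw [this]
        exact h1.map _
      have h2 : PowerSeries.map (Ideal.Quotient.mk J) U * PowerSeries.map (Ideal.Quotient.mk J) V =
          PowerSeries.C (Ideal.Quotient.mk J c) := by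
        rw [← map_mul, h, PowerSeries.map_C]
      have h3 : PowerSeries.X * (W * PowerSeries.map (Ideal.Quotient.mk J) V) =
          PowerSeries.C (Ideal.Quotient.mk J c) := by
        linear_combination h2 - PowerSeries.map (Ideal.Quotient.mk J) V * hU - hC
      have h4 : W * PowerSeries.map (Ideal.Quotient.mk J) V = 0 := by
        ext n
        have h5 := congrArg (PowerSeries.coeff (n + 1)) h3
        rw [PowerSeries.coeff_succ_X_mul, PowerSeries.coeff_C, if_neg (Nat.succ_ne_zero n)] at h5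
        rw [h5, map_zero]
      have h6 : PowerSeries.map (Ideal.Quotient.mk J) V = 0 := hWu.mul_right_eq_zero.mp h4
      intro n
      have h7 := congrArg (PowerSeries.coeff n) h6
      rw [PowerSeries.coeff_map, map_zero, Ideal.Quotient.eq_zero_iff_mem] at h7
      exact h7
    rw [hI, Ideal.span_le]
    rintro _ ⟨n, rfl⟩
    exact hVJ n
  · exact IsLocalRing.maximalIdeal_le_jacobson ⊥

end key

section node

variable {A : Type u} [CommRing A]

local notation "P" => MvPowerSeries (Fin 2) A

/-- the formal double point over `A` -/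
abbrev Nd (α : A) : Type u := P ⧸ Ideal.span {(X 0 * X 1 - C α : P)}

variable (α : A) in
/-- the quotient map -/
noncomputable abbrev mkN : P →+* Nd α := Ideal.Quotient.mk _

lemma mkN_eq_zero_iff {α : A} {F : P} :
    mkN α F = 0 ↔ ∃ H : P, F = (X 0 * X 1 - C α) * H := by
  rw [Ideal.Quotient.eq_zero_iff_mem, Ideal.mem_span_singleton]
  rfl

lemma mkN_eq_iff {α : A} {F G : P} :
    mkN α F = mkN α G ↔ ∃ H : P, F - G = (X 0 * X 1 - C α) * H := by
  rw [← sub_eq_zero, ← map_sub, mkN_eq_zero_iff]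

lemma mkN_C {α : A} (a : A) : mkN α (C a) = algebraMap A (Nd α) a := rfl

/-- projection to an axis modulo `β` -/
noncomputable def proj (β : A) (s : Fin 2) : P →+* PowerSeries (A ⧸ Ideal.span {β}) :=
  (PowerSeries.map (Ideal.Quotient.mk (Ideal.span {β}))).comp (axis s)

lemma coeff_proj (β : A) (s : Fin 2) (n : ℕ) (F : P) :
    PowerSeries.coeff n (proj β s F) =
      Ideal.Quotient.mk (Ideal.span {β}) (coeff (Finsupp.single s n) F) := by
  rw [proj, RingHom.comp_apply, PowerSeries.coeff_map, coeff_axis]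

lemma proj_C (β : A) (s : Fin 2) (a : A) :
    proj β s (C a) = PowerSeries.C (Ideal.Quotient.mk (Ideal.span {β}) a) := by
  rw [proj, RingHom.comp_apply, axis_C, PowerSeries.map_C]

lemma two_cases (s : Fin 2) : s = 0 ∨ s = 1 := by
  fin_cases s
  · exact Or.inl rfl
  · exact Or.inr rfl

lemma proj_rel (β : A) (s : Fin 2) : proj β s (X 0 * X 1 - C β : P) = 0 := by
  have hC : proj β s (C β : P) = 0 := by
    rw [proj_C, Ideal.Quotient.eq_zero_iff_mem.mpr (Ideal.mem_span_singleton_self β), map_zero]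
  have hX : proj β s (X 0 : P) * proj β s (X 1 : P) = 0 := by
    rcases two_cases s with rfl | rfl
    · have : proj β 0 (X 1 : P) = 0 := by
        rw [proj, RingHom.comp_apply, axis_X_ne (by decide), map_zero]
      rw [this, mul_zero]
    · have : proj β 1 (X 0 : P) = 0 := by
        rw [proj, RingHom.comp_apply, axis_X_ne (by decide), map_zero]
      rw [this, zero_mul]
  rw [map_sub, map_mul, hX, hC, sub_zero]

variable [IsLocalRing A]

/-- projection to an axis modulo the maximal ideal -/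
noncomputable def rho (s : Fin 2) : P →+* PowerSeries (IsLocalRing.ResidueField A) :=
  (PowerSeries.map (IsLocalRing.residue A)).comp (axis s)

lemma rho_C (s : Fin 2) {a : A} (ha : a ∈ IsLocalRing.maximalIdeal A) :
    rho s (C a : P) = 0 := by
  rw [rho, RingHom.comp_apply, axis_C, PowerSeries.map_C,
    (IsLocalRing.residue_eq_zero_iff a).mpr ha, map_zero]

lemma rho_X_self (s : Fin 2) : rho s (X s : P) = PowerSeries.X := by
  rw [rho, RingHom.comp_apply, axis_X_self, PowerSeries.map_X]

lemma rho_X_ne {s s' : Fin 2} (h : s ≠ s') : rho s (X s' : P) = 0 := by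
  rw [rho, RingHom.comp_apply, axis_X_ne h, map_zero]

lemma rho_rel {α : A} (hα : α ∈ IsLocalRing.maximalIdeal A) (s : Fin 2) :
    rho s (X 0 * X 1 - C α : P) = 0 := by
  have hX : rho s (X 0 : P) * rho s (X 1 : P) = 0 := by
    rcases two_cases s with rfl | rfl
    · rw [rho_X_ne (s := 0) (s' := 1) (by decide), mul_zero]
    · rw [rho_X_ne (s := 1) (s' := 0) (by decide), zero_mul]
  rw [map_sub, map_mul, hX, rho_C s hα, sub_zero]

/-- `rho` on the double point -/
noncomputable def rhoBar {α : A} (hα : α ∈ IsLocalRing.maximalIdeal A) (s : Fin 2) :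
    Nd α →+* PowerSeries (IsLocalRing.ResidueField A) :=
  Ideal.Quotient.lift _ (rho s) (by
    intro a ha
    obtain ⟨c, rfl⟩ := Ideal.mem_span_singleton.mp ha
    rw [map_mul, rho_rel hα, zero_mul])

lemma rhoBar_mkN {α : A} (hα : α ∈ IsLocalRing.maximalIdeal A) (s : Fin 2) (F : P) :
    rhoBar hα s (mkN α F) = rho s F := rfl

/-- the maximal ideal of the double point -/
noncomputable def Mx (α : A) : Ideal (Nd α) :=
  Ideal.map (algebraMap A (Nd α)) (IsLocalRing.maximalIdeal A) ⊔
    Ideal.span {mkN α (X 0), mkN α (X 1)}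

/-- `𝔪_A N + 𝔪_N ^ 2` -/
noncomputable def Kx (α : A) : Ideal (Nd α) :=
  Ideal.map (algebraMap A (Nd α)) (IsLocalRing.maximalIdeal A) ⊔ (Mx α) ^ 2

lemma mkN_X_mem_Mx (α : A) (s : Fin 2) : mkN α (X s) ∈ Mx α := by
  rcases two_cases s with rfl | rfl
  · exact Ideal.mem_sup_right (Ideal.subset_span (by simp))
  · exact Ideal.mem_sup_right (Ideal.subset_span (by simp))

lemma algebraMap_mem_Mx (α : A) {a : A} (ha : a ∈ IsLocalRing.maximalIdeal A) :
    algebraMap A (Nd α) a ∈ Mx α :=
  Ideal.mem_sup_left (Ideal.mem_map_of_mem _ ha)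

theorem mkN_X_not_mem_Kx {α : A} (hα : α ∈ IsLocalRing.maximalIdeal A) :
    mkN α (X 0) ∉ Kx α := by
  intro hmem
  have hA : ∀ a ∈ IsLocalRing.maximalIdeal A, rhoBar hα 0 (algebraMap A (Nd α) a) = 0 := by
    intro a ha
    rw [← mkN_C, rhoBar_mkN, rho_C 0 ha]
  have hM : Mx α ≤ Ideal.comap (rhoBar hα 0) (Ideal.span {PowerSeries.X}) := by
    apply sup_le
    · rw [Ideal.map_le_iff_le_comap]
      intro a ha
      rw [Ideal.mem_comap, Ideal.mem_comap, hA a ha]
      exact Ideal.zero_mem _
    · rw [Ideal.span_le]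
      intro z hz
      simp only [Set.mem_insert_iff, Set.mem_singleton_iff] at hz
      rcases hz with rfl | rfl
      · rw [SetLike.mem_coe, Ideal.mem_comap, rhoBar_mkN, rho_X_self]
        exact Ideal.subset_span rfl
      · rw [SetLike.mem_coe, Ideal.mem_comap, rhoBar_mkN, rho_X_ne (by decide)]
        exact Ideal.zero_mem _
  have hK : Kx α ≤ Ideal.comap (rhoBar hα 0) (Ideal.span {PowerSeries.X ^ 2}) := by
    apply sup_le
    · rw [Ideal.map_le_iff_le_comap]
      intro a ha
      rw [Ideal.mem_comap, Ideal.mem_comap, hA a ha]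
      exact Ideal.zero_mem _
    · rw [← Ideal.span_singleton_pow]
      exact (Ideal.pow_right_mono hM 2).trans (Ideal.le_comap_pow _ 2)
  have h1 := hK hmem
  rw [Ideal.mem_comap, rhoBar_mkN, rho_X_self, Ideal.mem_span_singleton,
    PowerSeries.X_pow_dvd_iff] at h1
  have h2 := h1 1 (by norm_num)
  rw [PowerSeries.coeff_one_X] at h2
  exact one_ne_zero h2

theorem mem_Mx_of_constantCoeff {β : A} {F : P}
    (h : constantCoeff F ∈ IsLocalRing.maximalIdeal A) : mkN β F ∈ Mx β := by
  have hG : Ord (0 + 1) (F - C (constantCoeff F)) := ord_one_iff.mpr (by simp)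
  obtain ⟨gs, _, hgs⟩ := exists_eq_sum_X_mul hG
  rw [Fin.sum_univ_two] at hgs
  have hF : F = C (constantCoeff F) + X 0 * gs 0 + X 1 * gs 1 := by
    linear_combination hgs
  rw [hF, map_add, map_add, map_mul, map_mul, mkN_C]
  exact Ideal.add_mem _ (Ideal.add_mem _ (algebraMap_mem_Mx β h)
    (Ideal.mul_mem_right _ _ (mkN_X_mem_Mx β 0))) (Ideal.mul_mem_right _ _ (mkN_X_mem_Mx β 1))

theorem mkN_mem_Kx {β : A} {F : P} (h0 : constantCoeff F ∈ IsLocalRing.maximalIdeal A)
    (h1 : ∀ s, coeff (Finsupp.single s 1) F ∈ IsLocalRing.maximalIdeal A) :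
    mkN β F ∈ Kx β := by
  obtain ⟨R₂, hR₂⟩ : ∃ R₂ : P, R₂ = F - C (constantCoeff F) -
      C (coeff (Finsupp.single 0 1) F) * X 0 - C (coeff (Finsupp.single 1 1) F) * X 1 :=
    ⟨_, rfl⟩
  have hne : (Finsupp.single (0 : Fin 2) 1 : Fin 2 →₀ ℕ) ≠ Finsupp.single 1 1 := by
    intro h
    have := DFunLike.congr_fun h 0
    simp at this
  have hord : Ord 2 R₂ := by
    rw [ord_two_iff]
    constructor
    · rw [hR₂]
      simp
    · intro s
      rw [hR₂]
      simp only [map_sub, MvPowerSeries.coeff_C_mul, MvPowerSeries.coeff_C,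
        MvPowerSeries.coeff_X]
      rcases two_cases s with rfl | rfl
      · rw [if_neg (by simp), if_pos rfl, if_neg hne]
        ring
      · rw [if_neg (by simp), if_neg hne.symm, if_pos rfl]
        ring
  have hmem : R₂ ∈ varIdeal (Fin 2) A ^ 2 := mem_varIdeal_pow_iff.mpr hord
  have hle : Ideal.map (mkN β) (varIdeal (Fin 2) A) ≤ Mx β := by
    unfold varIdeal
    rw [Ideal.map_span, Ideal.span_le]
    rintro _ ⟨_, ⟨s, rfl⟩, rfl⟩
    exact mkN_X_mem_Mx β s
  have h2 : mkN β R₂ ∈ (Mx β) ^ 2 := by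
    have h3 : mkN β R₂ ∈ Ideal.map (mkN β) (varIdeal (Fin 2) A ^ 2) :=
      Ideal.mem_map_of_mem _ hmem
    rw [Ideal.map_pow] at h3
    exact Ideal.pow_right_mono hle 2 h3
  have hF : F = C (constantCoeff F) + C (coeff (Finsupp.single 0 1) F) * X 0 +
      C (coeff (Finsupp.single 1 1) F) * X 1 + R₂ := by
    rw [hR₂]
    ring
  rw [hF, map_add, map_add, map_add, map_mul, map_mul, mkN_C, mkN_C, mkN_C]
  refine Ideal.add_mem _ (Ideal.add_mem _ (Ideal.add_mem _ ?_ ?_) ?_) (Ideal.mem_sup_right h2)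
  · exact Ideal.mem_sup_left (Ideal.mem_map_of_mem _ h0)
  · exact Ideal.mem_sup_left (Ideal.mul_mem_right _ _ (Ideal.mem_map_of_mem _ (h1 0)))
  · exact Ideal.mem_sup_left (Ideal.mul_mem_right _ _ (Ideal.mem_map_of_mem _ (h1 1)))

theorem not_isUnit_mkN_X {α : A} (hα : α ∈ IsLocalRing.maximalIdeal A) (s : Fin 2) :
    ¬ IsUnit (mkN α (X s)) := by
  intro hu
  obtain ⟨w, hw⟩ := hu.exists_right_inv
  obtain ⟨W, rfl⟩ := Ideal.Quotient.mk_surjective w
  have h0 : mkN α (X s * W - 1) = 0 := by rw [map_sub, map_mul, hw, map_one, sub_self]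
  obtain ⟨H, hH⟩ := mkN_eq_zero_iff.mp h0
  have hc := congrArg constantCoeff hH
  simp only [map_sub, map_mul, map_one, constantCoeff_X, constantCoeff_C, zero_mul,
    zero_sub] at hc
  rw [IsLocalRing.mem_maximalIdeal, mem_nonunits_iff] at hα
  apply hα
  exact isUnit_iff_exists_inv.mpr ⟨constantCoeff H, by linear_combination hc⟩

theorem constantCoeff_mem_of_not_isUnit {β : A} {F : P} (h : ¬ IsUnit (mkN β F)) :
    constantCoeff F ∈ IsLocalRing.maximalIdeal A := by
  by_contra hc
  rw [IsLocalRing.notMem_maximalIdeal] at hc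
  exact h ((MvPowerSeries.isUnit_iff_constantCoeff.mpr hc).map (mkN β))

theorem map_Mx_le {α β : A} (hα : α ∈ IsLocalRing.maximalIdeal A) (φ : Nd α ≃ₐ[A] Nd β) :
    Mx α ≤ Ideal.comap (φ : Nd α →+* Nd β) (Mx β) := by
  apply sup_le
  · rw [Ideal.map_le_iff_le_comap]
    intro a ha
    rw [Ideal.mem_comap, Ideal.mem_comap]
    show φ (algebraMap A (Nd α) a) ∈ Mx β
    rw [φ.commutes]
    exact algebraMap_mem_Mx β ha
  · have hX : ∀ s : Fin 2, φ (mkN α (X s)) ∈ Mx β := by
      intro s
      obtain ⟨F, hF⟩ := Ideal.Quotient.mk_surjective (φ (mkN α (X s)))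
      rw [← hF]
      apply mem_Mx_of_constantCoeff
      apply constantCoeff_mem_of_not_isUnit (β := β)
      show ¬ IsUnit (Ideal.Quotient.mk _ F)
      rw [hF]
      intro hu
      apply not_isUnit_mkN_X hα s
      have := hu.map φ.symm
      rwa [φ.symm_apply_apply] at this
    rw [Ideal.span_le]
    intro z hz
    simp only [Set.mem_insert_iff, Set.mem_singleton_iff] at hz
    rcases hz with rfl | rfl
    · exact hX 0
    · exact hX 1

theorem map_Kx_le {α β : A} (hα : α ∈ IsLocalRing.maximalIdeal A) (φ : Nd α ≃ₐ[A] Nd β) :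
    Kx α ≤ Ideal.comap (φ : Nd α →+* Nd β) (Kx β) := by
  apply sup_le
  · rw [Ideal.map_le_iff_le_comap]
    intro a ha
    rw [Ideal.mem_comap, Ideal.mem_comap]
    show φ (algebraMap A (Nd α) a) ∈ Kx β
    rw [φ.commutes]
    exact Ideal.mem_sup_left (Ideal.mem_map_of_mem _ ha)
  · exact (Ideal.pow_right_mono (map_Mx_le hα φ) 2).trans
      ((Ideal.le_comap_pow _ 2).trans (Ideal.comap_mono le_sup_right))

theorem mem_span_of_algEquiv [IsNoetherianRing A] {α β : A}
    (hα : α ∈ IsLocalRing.maximalIdeal A) (hβ : β ∈ IsLocalRing.maximalIdeal A)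
    (φ : Nd α ≃ₐ[A] Nd β) : α ∈ Ideal.span {β} := by
  obtain ⟨F, hF⟩ := Ideal.Quotient.mk_surjective (φ (mkN α (X 0)))
  obtain ⟨G, hG⟩ := Ideal.Quotient.mk_surjective (φ (mkN α (X 1)))
  have hnu : ¬ IsUnit (mkN β F) := by
    show ¬ IsUnit (Ideal.Quotient.mk _ F)
    rw [hF]
    intro hu
    apply not_isUnit_mkN_X hα 0
    have := hu.map φ.symm
    rwa [φ.symm_apply_apply] at this
  have hF0 : constantCoeff F ∈ IsLocalRing.maximalIdeal A := constantCoeff_mem_of_not_isUnit hnu
  -- some linear coefficient is a unit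
  have hlin : ∃ s, coeff (Finsupp.single s 1) F ∉ IsLocalRing.maximalIdeal A := by
    by_contra hcon
    have h1 : ∀ s, coeff (Finsupp.single s 1) F ∈ IsLocalRing.maximalIdeal A := fun s => by
      by_contra h
      exact hcon ⟨s, h⟩
    have h2 : mkN β F ∈ Kx β := mkN_mem_Kx hF0 h1
    have h3 := map_Kx_le hβ φ.symm h2
    rw [Ideal.mem_comap] at h3
    have h4 : φ.symm (mkN β F) = mkN α (X 0) := by
      show φ.symm (Ideal.Quotient.mk _ F) = _
      rw [hF, φ.symm_apply_apply]
    have h5 : φ.symm (mkN β F) ∈ Kx α := h3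
    rw [h4] at h5
    exact mkN_X_not_mem_Kx hα h5
  obtain ⟨s, hs⟩ := hlin
  have hsu : IsUnit (coeff (Finsupp.single s 1) F) := IsLocalRing.notMem_maximalIdeal.mp hs
  -- the relation
  have hrel : mkN β (F * G) = mkN β (C α) := by
    have h1 : mkN α (X 0 * X 1) = mkN α (C α) := by
      rw [mkN_eq_iff]
      exact ⟨1, by ring⟩
    have h2 : φ (mkN α (X 0)) * φ (mkN α (X 1)) = algebraMap A (Nd β) α := by
      rw [← map_mul, ← map_mul, h1, mkN_C, φ.commutes]
    rw [map_mul, mkN_C, ← h2, ← hF, ← hG]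
  obtain ⟨H, hH⟩ := mkN_eq_iff.mp hrel
  -- the quotient `A/β` is local
  have hne : (Ideal.span {β} : Ideal A) ≠ ⊤ := by
    intro h
    have h1 : (1 : A) ∈ Ideal.span {β} := by rw [h]; exact Submodule.mem_top
    have h2 : Ideal.span {β} ≤ IsLocalRing.maximalIdeal A := by
      rw [Ideal.span_le, Set.singleton_subset_iff]
      exact hβ
    exact (Ideal.ne_top_iff_one _).mp (IsLocalRing.maximalIdeal.isMaximal A).ne_top (h2 h1)
  haveI : Nontrivial (A ⧸ Ideal.span {β}) := Ideal.Quotient.nontrivial_iff.mpr hne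
  haveI : IsLocalRing (A ⧸ Ideal.span {β}) :=
    IsLocalRing.of_surjective' (Ideal.Quotient.mk (Ideal.span {β})) Ideal.Quotient.mk_surjective
  have hUV : proj β s F * proj β s G =
      PowerSeries.C (Ideal.Quotient.mk (Ideal.span {β}) α) := by
    have h1 := congrArg (proj β s) hH
    rw [map_sub, map_mul, map_mul, proj_rel, zero_mul, sub_eq_zero, proj_C] at h1
    exact h1
  have h0 : PowerSeries.coeff 0 (proj β s F) ∈
      IsLocalRing.maximalIdeal (A ⧸ Ideal.span {β}) := by
    rw [coeff_proj, Finsupp.single_zero, IsLocalRing.mem_maximalIdeal, mem_nonunits_iff]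
    intro hu
    obtain ⟨w, hw⟩ := hu.exists_right_inv
    obtain ⟨w', rfl⟩ := Ideal.Quotient.mk_surjective w
    rw [← map_mul, ← map_one (Ideal.Quotient.mk (Ideal.span {β})), Ideal.Quotient.eq] at hw
    have h2 : Ideal.span {β} ≤ IsLocalRing.maximalIdeal A := by
      rw [Ideal.span_le, Set.singleton_subset_iff]
      exact hβ
    have h3 := h2 hw
    have h4 : coeff 0 F * w' ∈ IsLocalRing.maximalIdeal A := Ideal.mul_mem_right _ _ hF0
    have h5 : (1 : A) ∈ IsLocalRing.maximalIdeal A := by
      have := Ideal.sub_mem _ h4 h3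
      rwa [sub_sub_cancel] at this
    exact (Ideal.ne_top_iff_one _).mp (IsLocalRing.maximalIdeal.isMaximal A).ne_top h5
  have h1 : IsUnit (PowerSeries.coeff 1 (proj β s F)) := by
    rw [coeff_proj]
    exact hsu.map _
  have hV := eq_zero_of_mul_eq_C (proj β s F) (proj β s G) _ h0 h1 hUV
  rw [hV, mul_zero] at hUV
  have h6 := congrArg (PowerSeries.coeff 0) hUV
  rw [map_zero, PowerSeries.coeff_zero_C] at h6
  exact Ideal.Quotient.eq_zero_iff_mem.mp h6.symm

end node

end Groth.Agent.Lib.Helper76.NodeGen
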