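import Groth.Agent.Lib.Helper76.ArCls2
import Groth.Agent.Lib.Helper76.NodeGen
import Mathlib

/-!
# The double line germ `k⟦x,y⟧/(y²)` (helper76)

* `prime_X1`, `exists_aut`, `prime_of_lin`: a series of order exactly one is a coordinate, hence
  prime;
* `equiv_of_sq`: `k⟦x,y⟧/(G²H) ≃ k⟦x,y⟧/(y²)` for `G` of order one and `H` a unit;
* `exists_sq_of_equiv`: conversely such an isomorphism forces `F = u G²`;
* `flat`: `k⟦x,y⟧` is flat over `k[x,y]`; `dvd_of_common`: an irreducible polynomial having a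
  common non-unit factor with another polynomial in `k⟦x,y⟧` divides it;
* `not_sq_dvd`: an irreducible polynomial over an algebraically closed field has no square
  factors in `k⟦x,y⟧`;
* `exists_poly_sq`: if a polynomial is `u G²` in `k⟦x,y⟧` with `G` prime, it is `g² h` with
  polynomials `g ~ G`, `h(0) ≠ 0`.
-/

set_option autoImplicit false
universe u

namespace Groth.Agent.Lib.Helper76.DblLine

open MvPowerSeries
open Groth.Agent.Lib.Helper76.LT Groth.Agent.Lib.Helper76.PSInv
open Groth.Agent.Lib.Helper76.PSComplete Groth.Agent.Lib.Helper76.ArCls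
open Groth.Agent.Lib.Helper76

section basic

variable {k : Type u} [Field k]

local notation "P" => MvPowerSeries (Fin 2) k
local notation "Q" => MvPolynomial (Fin 2) k

theorem X1_ne_zero : (X 1 : P) ≠ 0 := by
  intro h
  have := congrArg (coeff (Finsupp.single (1 : Fin 2) 1)) h
  rw [coeff_index_single_self_X, map_zero] at this
  exact one_ne_zero this

theorem prime_X1 : Prime (X 1 : P) := by
  have hker : Ideal.span {(X 1 : P)} = RingHom.ker (NodeGen.axis (A := k) 0) := by
    ext A
    rw [Ideal.mem_span_singleton, X_dvd_iff, RingHom.mem_ker]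
    constructor
    · intro h
      ext n
      rw [NodeGen.coeff_axis, h _ (by simp)]
      exact (map_zero _).symm
    · intro h m hm
      have h1 : PowerSeries.coeff (m 0) (NodeGen.axis (A := k) 0 A) = 0 := by
        rw [h]
        exact map_zero _
      rw [NodeGen.coeff_axis] at h1
      have hm' : m = Finsupp.single 0 (m 0) := by
        ext i
        fin_cases i
        · simp
        · simpa using hm
      rw [hm']
      exact h1
  have hprime : (Ideal.span {(X 1 : P)}).IsPrime := by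
    rw [hker]
    exact RingHom.ker_isPrime _
  exact (Ideal.span_singleton_prime X1_ne_zero).mp hprime

/-- a series of order exactly one is the image of `y` under an automorphism -/
theorem exists_aut {G : P} (hG0 : constantCoeff G = 0)
    (hG1 : ∃ s, coeff (Finsupp.single s 1) G ≠ 0) :
    ∃ Φ : P ≃ₐ[k] P, Φ (X 1) = G := by
  classical
  by_cases h1 : coeff (Finsupp.single (1 : Fin 2) 1) G ≠ 0
  · have hy : ∀ s, constantCoeff ((![X 0, G] : Fin 2 → P) s) = 0 := by
      intro s
      fin_cases s <;> simp [hG0]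
    have hdet : IsUnit (jac (![X 0, G] : Fin 2 → P)).det := by
      have : (jac (![X 0, G] : Fin 2 → P)).det = coeff (Finsupp.single 1 1) G := by
        rw [Matrix.det_fin_two]
        simp [jac, coeff_index_single_X]
      rw [this]
      exact IsUnit.mk0 _ h1
    refine ⟨substEquiv hy hdet, ?_⟩
    rw [substEquiv_apply, subst_X (hasSubst_of_constantCoeff_zero hy)]
    rfl
  · have h0 : coeff (Finsupp.single (0 : Fin 2) 1) G ≠ 0 := by
      obtain ⟨s, hs⟩ := hG1
      fin_cases s
      · exact hs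
      · exact absurd hs h1
    have hy : ∀ s, constantCoeff ((![X 1, G] : Fin 2 → P) s) = 0 := by
      intro s
      fin_cases s <;> simp [hG0]
    have hdet : IsUnit (jac (![X 1, G] : Fin 2 → P)).det := by
      have : (jac (![X 1, G] : Fin 2 → P)).det = - coeff (Finsupp.single 0 1) G := by
        rw [Matrix.det_fin_two]
        simp [jac, coeff_index_single_X]
      rw [this]
      exact IsUnit.mk0 _ (neg_ne_zero.mpr h0)
    refine ⟨substEquiv hy hdet, ?_⟩
    rw [substEquiv_apply, subst_X (hasSubst_of_constantCoeff_zero hy)]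
    rfl

theorem prime_of_lin {G : P} (hG0 : constantCoeff G = 0)
    (hG1 : ∃ s, coeff (Finsupp.single s 1) G ≠ 0) : Prime G := by
  obtain ⟨Φ, hΦ⟩ := exists_aut hG0 hG1
  rw [← hΦ]
  exact (MulEquiv.prime_iff Φ).mpr prime_X1

theorem equiv_of_sq {F G H : P} (hF : F = G ^ 2 * H) (hH : IsUnit H)
    (hG0 : constantCoeff G = 0) (hG1 : ∃ s, coeff (Finsupp.single s 1) G ≠ 0) :
    Nonempty ((P ⧸ Ideal.span {F}) ≃ₐ[k] (P ⧸ Ideal.span {(X 1 : P) ^ 2})) := by
  obtain ⟨Φ, hΦ⟩ := exists_aut hG0 hG1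
  obtain ⟨u, hu⟩ := hH.exists_left_inv
  have hunit : IsUnit u := IsUnit.of_mul_eq_one H hu
  obtain ⟨e⟩ := quot_equiv Φ ((X 1 : P) ^ 2) F u hunit (by
    rw [map_pow, hΦ, hF]
    calc G ^ 2 = G ^ 2 * (u * H) := by rw [hu, mul_one]
      _ = u * (G ^ 2 * H) := by ring)
  exact ⟨e.symm⟩

theorem exists_sq_of_equiv {F : P}
    (E : (P ⧸ Ideal.span {F}) ≃ₐ[k] (P ⧸ Ideal.span {(X 1 : P) ^ 2})) :
    ∃ u G : P, IsUnit u ∧ F = u * G ^ 2 ∧ constantCoeff G = 0 ∧
      ∃ s, coeff (Finsupp.single s 1) G ≠ 0 := by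
  classical
  have hJ' : ∀ Z ∈ Ideal.span {(X 1 : P) ^ 2}, constantCoeff Z = 0 :=
    constantCoeff_of_mem_span (by simp)
  have hF0 : constantCoeff F = 0 := by
    by_contra h0
    have hFu : IsUnit F := by
      rw [MvPowerSeries.isUnit_iff_constantCoeff]
      exact IsUnit.mk0 _ h0
    have h1 : Ideal.Quotient.mk (Ideal.span {F}) 1 = 0 := by
      rw [Ideal.Quotient.eq_zero_iff_mem, Ideal.span_singleton_eq_top.mpr hFu]
      trivial
    have h2 : E 1 = 0 := by
      rw [← map_one (Ideal.Quotient.mk (Ideal.span {F})), h1, map_zero]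
    rw [map_one] at h2
    have h3 : (1 : P) ∈ Ideal.span {(X 1 : P) ^ 2} := by
      rw [← Ideal.Quotient.eq_zero_iff_mem, map_one]
      exact h2
    have := hJ' 1 h3
    simp at this
  have hJ : ∀ Z ∈ Ideal.span {F}, constantCoeff Z = 0 := constantCoeff_of_mem_span hF0
  obtain ⟨ybar, hybar⟩ : ∃ y : P ⧸ Ideal.span {(X 1 : P) ^ 2},
      y = Ideal.Quotient.mk _ (X 1) := ⟨_, rfl⟩
  have hy2 : ybar ^ 2 = 0 := by
    rw [hybar, ← map_pow, Ideal.Quotient.eq_zero_iff_mem]
    exact Ideal.mem_span_singleton_self _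
  have hy1 : ybar ∈ nu (P ⧸ Ideal.span {(X 1 : P) ^ 2}) ^ 1 :=
    (mem_nu_pow_iff hJ').mpr ⟨X 1, ord_one_iff.mpr (constantCoeff_X 1), hybar.symm⟩
  have hyn : ybar ∉ nu (P ⧸ Ideal.span {(X 1 : P) ^ 2}) ^ 2 := by
    intro h
    obtain ⟨Z, hZ, hZy⟩ := (mem_nu_pow_iff hJ').mp h
    rw [hybar, Ideal.Quotient.eq, Ideal.mem_span_singleton'] at hZy
    obtain ⟨W, hW⟩ := hZy
    have hX : (X 1 : P) = Z - W * X 1 ^ 2 := by
      rw [hW]
      ring
    have h2 : Ord 2 (X 1 : P) := by
      rw [hX]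
      refine hZ.sub ?_
      have := (ord_zero_all W).mul (Ord.pow_of_constantCoeff (constantCoeff_X (1 : Fin 2)) 2)
      rwa [zero_add] at this
    have := (ord_two_iff.mp h2).2 1
    rw [coeff_index_single_self_X] at this
    exact one_ne_zero this
  obtain ⟨gt, hgt⟩ : ∃ g : P ⧸ Ideal.span {F}, g = E.symm ybar := ⟨_, rfl⟩
  have hg2 : gt ^ 2 = 0 := by rw [hgt, ← map_pow, hy2, map_zero]
  have hg1 : gt ∈ nu (P ⧸ Ideal.span {F}) ^ 1 := by
    rw [hgt]
    exact mem_nu_pow_of_equiv E.symm hy1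
  have hgn : gt ∉ nu (P ⧸ Ideal.span {F}) ^ 2 := by
    intro h
    apply hyn
    have := mem_nu_pow_of_equiv E h
    rwa [hgt, E.apply_symm_apply] at this
  obtain ⟨G, hGord, hGmk⟩ := (mem_nu_pow_iff hJ).mp hg1
  have hG0 : constantCoeff G = 0 := ord_one_iff.mp hGord
  have hG1 : ∃ s, coeff (Finsupp.single s 1) G ≠ 0 := by
    by_contra hcon
    apply hgn
    refine (mem_nu_pow_iff hJ).mpr ⟨G, ?_, hGmk⟩
    rw [ord_two_iff]
    refine ⟨hG0, fun s => ?_⟩
    by_contra hs
    exact hcon ⟨s, hs⟩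
  have hGp : Prime G := prime_of_lin hG0 hG1
  have hGne : G ≠ 0 := hGp.ne_zero
  have hFnu : ¬ IsUnit F := by
    rw [MvPowerSeries.isUnit_iff_constantCoeff, hF0]
    exact not_isUnit_zero
  have hG2 : G ^ 2 ∈ Ideal.span {F} := by
    rw [← Ideal.Quotient.eq_zero_iff_mem, map_pow, hGmk]
    exact hg2
  obtain ⟨w, hw⟩ := Ideal.mem_span_singleton'.mp hG2
  have hGF : G ∣ F := by
    by_contra hnd
    have h1 : G ∣ w * F := by
      rw [hw]
      exact dvd_pow_self G two_ne_zero
    obtain ⟨w1, hw1⟩ := (hGp.dvd_or_dvd h1).resolve_right hnd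
    have h2 : w1 * F = G := by
      have : G * (w1 * F) = G * G := by
        rw [← mul_assoc, ← hw1, hw, pow_two]
      exact mul_left_cancel₀ hGne this
    have h3 : G ∣ w1 * F := by rw [h2]
    obtain ⟨w2, hw2⟩ := (hGp.dvd_or_dvd h3).resolve_right hnd
    have h4 : w2 * F = 1 := by
      have : G * (w2 * F) = G * 1 := by
        rw [← mul_assoc, ← hw2, h2, mul_one]
      exact mul_left_cancel₀ hGne this
    exact hFnu (IsUnit.of_mul_eq_one_right w2 h4)
  obtain ⟨F1, hF1⟩ := hGF
  have h5 : w * F1 = G := by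
    have : G * (w * F1) = G * G := by
      calc G * (w * F1) = w * (G * F1) := by ring
        _ = w * F := by rw [hF1]
        _ = G ^ 2 := hw
        _ = G * G := pow_two G
    exact mul_left_cancel₀ hGne this
  rcases hGp.irreducible.isUnit_or_isUnit h5.symm with hwu | hF1u
  · obtain ⟨u, hu⟩ := hwu.exists_left_inv
    refine ⟨u, G, IsUnit.of_mul_eq_one w hu, ?_, hG0, hG1⟩
    calc F = (u * w) * F := by rw [hu, one_mul]
      _ = u * (w * F) := by ring
      _ = u * G ^ 2 := by rw [hw]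
  · exfalso
    apply hgn
    obtain ⟨v, hv⟩ := hF1u.exists_left_inv
    have hGF' : G ∈ Ideal.span {F} := by
      rw [Ideal.mem_span_singleton']
      refine ⟨v, ?_⟩
      calc v * F = v * (G * F1) := by rw [hF1]
        _ = G * (v * F1) := by ring
        _ = G := by rw [hv, mul_one]
    have : gt = 0 := by
      rw [← hGmk, Ideal.Quotient.eq_zero_iff_mem]
      exact hGF'
    rw [this]
    exact Ideal.zero_mem _

end basic

section flat

variable {k : Type u} [Field k]

local notation "P" => MvPowerSeries (Fin 2) k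
local notation "Q" => MvPolynomial (Fin 2) k

set_option maxHeartbeats 400000 in
instance flat : Module.Flat Q P := by
  have h1 : Module.Flat Q (AdicCompletion (MvPolynomial.idealOfVars (Fin 2) k) Q) := inferInstance
  have e := (toAdicCompletionAlgEquiv (Fin 2) k).toLinearEquiv
  exact Module.Flat.of_linearEquiv e

lemma smul_eq (p : Q) (A : P) : p • A = (p : P) * A := by
  rw [Algebra.smul_def, MvPowerSeries.algebraMap_apply']
  simp

/-- the equational criterion of flatness for a relation with two terms -/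
theorem triv_rel {q p : Q} {p' q' : P} (hrel : q • p' + p • (-q') = 0) :
    ∃ (n : ℕ) (a : Fin 2 → Fin n → Q) (y : Fin n → P),
      (p' = ∑ j, a 0 j • y j) ∧ ∀ j, q * a 0 j + p * a 1 j = 0 := by
  have h := Module.Flat.isTrivialRelation_of_sum_smul_eq_zero (R := Q) (M := P)
    (f := (![q, p] : Fin 2 → Q)) (x := (![p', -q'] : Fin 2 → P)) (by
      rw [Fin.sum_univ_two]
      exact hrel)
  obtain ⟨n, a, y, hxy, hfa⟩ := h
  refine ⟨n, a, y, hxy 0, fun j => ?_⟩
  have := hfa j
  rw [Fin.sum_univ_two] at this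
  exact this

/-- an irreducible polynomial sharing a non-unit factor in `k⟦x,y⟧` with a polynomial divides
it -/
theorem dvd_of_common {p q : Q} (hp : Irreducible p) {G : P} (hG : ¬ IsUnit G)
    (h1 : G ∣ (p : P)) (h2 : G ∣ (q : P)) : p ∣ q := by
  classical
  by_contra hpq
  obtain ⟨p', hp'⟩ := h1
  obtain ⟨q', hq'⟩ := h2
  have hpp : Prime p := hp.prime
  have hrel : q • p' + p • (-q') = 0 := by
    rw [smul_eq, smul_eq, hp', hq']
    ring
  obtain ⟨n, a, y, h0, hfa⟩ := triv_rel hrel
  have hdiv : ∀ j, p ∣ a 0 j := by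
    intro j
    have h' : q * a 0 j + p * a 1 j = 0 := hfa j
    have h'' : p ∣ q * a 0 j := ⟨- a 1 j, by linear_combination h'⟩
    exact (hpp.dvd_or_dvd h'').resolve_left hpq
  choose b hb using hdiv
  have hp'eq : p' = (p : P) * ∑ j, (b j : P) * y j := by
    rw [h0, Finset.mul_sum]
    refine Finset.sum_congr rfl fun j _ => ?_
    rw [smul_eq, hb j, MvPolynomial.coe_mul]
    ring
  obtain ⟨r, hr⟩ : ∃ r : P, r = ∑ j, (b j : P) * y j := ⟨_, rfl⟩
  rw [← hr] at hp'eq
  have hpne : (p : P) ≠ 0 := by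
    intro h0
    exact hp.ne_zero (MvPolynomial.coe_eq_zero_iff.mp h0)
  have h3 : (p : P) * (G * r) = (p : P) * 1 := by
    rw [mul_one]
    calc (p : P) * (G * r) = G * ((p : P) * r) := by ring
      _ = G * p' := by rw [← hp'eq]
      _ = (p : P) := hp'.symm
  have h4 : G * r = 1 := mul_left_cancel₀ hpne h3
  exact hG (IsUnit.of_mul_eq_one r h4)

theorem exists_irreducible_factor {G : P} (hG : Prime G) (f : Q) (hf : f ≠ 0)
    (hGf : G ∣ (f : P)) : ∃ p : Q, Irreducible p ∧ p ∣ f ∧ G ∣ (p : P) := by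
  induction f using WfDvdMonoid.induction_on_irreducible with
  | zero => exact absurd rfl hf
  | unit u hu =>
    exfalso
    have h1 : IsUnit (u : P) :=
      hu.map (MvPolynomial.coeToMvPowerSeries.ringHom (σ := Fin 2) (R := k))
    exact hG.not_unit (isUnit_of_dvd_unit hGf h1)
  | mul a i ha hi ih =>
    rw [MvPolynomial.coe_mul] at hGf
    rcases hG.dvd_or_dvd hGf with h | h
    · exact ⟨i, hi, dvd_mul_right i a, h⟩
    · obtain ⟨p, hp, hpa, hGp⟩ := ih ha h
      exact ⟨p, hp, hpa.mul_left i, hGp⟩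

end flat

section deriv

variable {k : Type u} [Field k]

local notation "P" => MvPowerSeries (Fin 2) k
local notation "Q" => MvPolynomial (Fin 2) k

lemma totalDegree_pderiv_lt {p : Q} (i : Fin 2) (h : MvPolynomial.pderiv i p ≠ 0) :
    (MvPolynomial.pderiv i p).totalDegree < p.totalDegree := by
  classical
  have hne : (MvPolynomial.pderiv i p).support.Nonempty := by
    rwa [Finset.nonempty_iff_ne_empty, Ne, MvPolynomial.support_eq_empty]
  obtain ⟨m, hm, hmax⟩ := Finset.exists_mem_eq_sup _ hne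
    (fun s : Fin 2 →₀ ℕ => s.sum fun _ e => e)
  have hc : MvPolynomial.coeff (m + Finsupp.single i 1) p ≠ 0 := by
    intro h0
    have := MvPolynomial.mem_support_iff.mp hm
    rw [MvPolynomial.coeff_pderiv, h0, zero_mul] at this
    exact this rfl
  have h1 := MvPolynomial.le_totalDegree (MvPolynomial.mem_support_iff.mpr hc)
  have h2 : ((m + Finsupp.single i 1).sum fun _ e => e) = (m.sum fun _ e => e) + 1 := by
    rw [Finsupp.sum_add_index' (fun _ => rfl) (fun _ _ _ => rfl),
      Finsupp.sum_single_index rfl]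
  have h3 : (MvPolynomial.pderiv i p).totalDegree = m.sum fun _ e => e := by
    rw [MvPolynomial.totalDegree]
    exact hmax
  omega

lemma cast_eq_zero_of_pderiv {p : Q} (hder : ∀ i, MvPolynomial.pderiv i p = 0)
    {m : Fin 2 →₀ ℕ} (hm : m ∈ p.support) (i : Fin 2) : ((m i : ℕ) : k) = 0 := by
  classical
  by_cases hmi : m i = 0
  · rw [hmi, Nat.cast_zero]
  · have hm' : m - Finsupp.single i 1 + Finsupp.single i 1 = m := by
      ext j
      simp only [Finsupp.coe_add, Finsupp.coe_tsub, Pi.add_apply, Pi.sub_apply,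
        Finsupp.single_apply]
      split_ifs with hij
      · subst hij
        omega
      · omega
    have h := MvPolynomial.coeff_pderiv (i := i) p (m - Finsupp.single i 1)
    rw [hder i, MvPolynomial.coeff_zero, hm'] at h
    have hc : MvPolynomial.coeff m p ≠ 0 := MvPolynomial.mem_support_iff.mp hm
    have h2 : (((m - Finsupp.single i 1 : Fin 2 →₀ ℕ) i : ℕ) : k) + 1 = ((m i : ℕ) : k) := by
      have : (m - Finsupp.single i 1 : Fin 2 →₀ ℕ) i + 1 = m i := by
        simp only [Finsupp.coe_tsub, Pi.sub_apply, Finsupp.single_eq_same]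
        omega
      rw [← this, Nat.cast_add, Nat.cast_one]
    rw [h2] at h
    exact (mul_eq_zero.mp h.symm).resolve_left hc

lemma eq_C_of_support {p : Q} (h : ∀ m ∈ p.support, m = 0) :
    p = MvPolynomial.C (MvPolynomial.coeff 0 p) := by
  classical
  ext m
  rw [MvPolynomial.coeff_C]
  split_ifs with h0
  · rw [← h0]
  · by_contra hc
    exact h0 (h m (MvPolynomial.mem_support_iff.mpr hc)).symm

lemma exists_pow_eq [IsAlgClosed k] {p : Q} {ℓ : ℕ} (hℓ : ℓ.Prime) [CharP k ℓ]
    (h : ∀ m ∈ p.support, ∀ i, ℓ ∣ m i) : ∃ r : Q, r ^ ℓ = p := by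
  classical
  haveI : ExpChar Q ℓ := ExpChar.prime hℓ
  have hpos : 0 < ℓ := hℓ.pos
  choose root hroot using fun c : k => IsAlgClosed.exists_pow_nat_eq c hpos
  refine ⟨∑ m ∈ p.support, MvPolynomial.monomial (m.mapRange (· / ℓ) (Nat.zero_div ℓ))
    (root (MvPolynomial.coeff m p)), ?_⟩
  rw [sum_pow_char]
  conv_rhs => rw [← MvPolynomial.support_sum_monomial_coeff p]
  refine Finset.sum_congr rfl fun m hm => ?_
  have hm' : ℓ • Finsupp.mapRange (· / ℓ) (Nat.zero_div ℓ) m = m := by
    ext i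
    simp only [Finsupp.coe_smul, Pi.smul_apply, Finsupp.mapRange_apply, smul_eq_mul]
    exact Nat.mul_div_cancel' (h m hm i)
  rw [MvPolynomial.monomial_pow, hroot, hm']

theorem not_irreducible_of_pderiv_eq_zero [IsAlgClosed k] {p : Q}
    (hder : ∀ i, MvPolynomial.pderiv i p = 0) : ¬ Irreducible p := by
  classical
  intro hirr
  obtain ⟨ℓ, hchar⟩ := CharP.exists k
  have hdiv : ∀ m ∈ p.support, ∀ i, ℓ ∣ m i := fun m hm i =>
    (CharP.cast_eq_zero_iff k ℓ (m i)).mp (cast_eq_zero_of_pderiv hder hm i)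
  rcases CharP.char_is_prime_or_zero k ℓ with hprime | hzero
  · obtain ⟨r, hr⟩ := exists_pow_eq hprime hdiv
    rw [← hr] at hirr
    exact not_irreducible_pow hprime.one_lt.ne' hirr
  · subst hzero
    have hsupp : ∀ m ∈ p.support, m = 0 := by
      intro m hm
      ext i
      simpa using hdiv m hm i
    have hpC := eq_C_of_support hsupp
    by_cases hc : MvPolynomial.coeff 0 p = 0
    · rw [hc, map_zero] at hpC
      rw [hpC] at hirr
      exact not_irreducible_zero hirr
    · apply hirr.not_isUnit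
      rw [hpC]
      exact (IsUnit.mk0 _ hc).map MvPolynomial.C

theorem not_sq_dvd [IsAlgClosed k] {p : Q} (hp : Irreducible p) {G : P} (hG : ¬ IsUnit G) :
    ¬ (G ^ 2 ∣ (p : P)) := by
  rintro ⟨w, hw⟩
  have hGp : G ∣ (p : P) := ⟨G * w, by rw [hw]; ring⟩
  have hder : ∀ i, MvPolynomial.pderiv i p = 0 := by
    intro i
    have h1 : G ∣ ((MvPolynomial.pderiv i p : Q) : P) := by
      rw [← MvPowerSeries.pderiv_coe, hw, show G ^ 2 * w = G * (G * w) by ring,
        Derivation.leibniz, Derivation.leibniz]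
      simp only [smul_eq_mul]
      exact dvd_add (dvd_mul_right _ _) (Dvd.dvd.mul_right (dvd_mul_right G w) _)
    have h2 := dvd_of_common hp hG hGp h1
    by_contra hne
    have h3 := MvPolynomial.totalDegree_le_of_dvd_of_isDomain h2 hne
    have h4 := totalDegree_pderiv_lt i hne
    omega
  exact not_irreducible_of_pderiv_eq_zero hder hp

/-- a polynomial which is a unit times the square of a prime series is `g² h` with polynomials
`g`, `h`, `h(0) ≠ 0`, `g` associated to the prime series -/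
theorem exists_poly_sq [IsAlgClosed k] {f : Q} {u G : P} (hu : IsUnit u) (hG : Prime G)
    (hf : (f : P) = u * G ^ 2) :
    ∃ g h : Q, f = g ^ 2 * h ∧ MvPolynomial.constantCoeff h ≠ 0 ∧
      ∃ w : P, IsUnit w ∧ (g : P) = G * w := by
  have hGne : G ≠ 0 := hG.ne_zero
  have hGnu : ¬ IsUnit G := hG.not_unit
  have hfne : f ≠ 0 := by
    intro h0
    rw [h0, MvPolynomial.coe_zero] at hf
    have : u * G ^ 2 ≠ 0 := mul_ne_zero hu.ne_zero (pow_ne_zero 2 hGne)
    exact this hf.symm
  have hGf : G ∣ (f : P) := ⟨u * G, by rw [hf]; ring⟩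
  obtain ⟨p, hp, ⟨f1, hf1⟩, ⟨w, hw⟩⟩ := exists_irreducible_factor hG f hfne hGf
  have h1 : w * (f1 : P) = u * G := by
    have : G * (w * (f1 : P)) = G * (u * G) := by
      calc G * (w * (f1 : P)) = (G * w) * (f1 : P) := by ring
        _ = (p : P) * (f1 : P) := by rw [hw]
        _ = (f : P) := by rw [hf1, MvPolynomial.coe_mul]
        _ = G * (u * G) := by rw [hf]; ring
    exact mul_left_cancel₀ hGne this
  have hGw : ¬ G ∣ w := by
    rintro ⟨w', hw'⟩
    exact not_sq_dvd hp hGnu ⟨w', by rw [hw, hw']; ring⟩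
  have hGf1 : G ∣ (f1 : P) :=
    (hG.dvd_or_dvd (⟨u, by rw [h1]; ring⟩ : G ∣ w * (f1 : P))).resolve_left hGw
  obtain ⟨v, hv⟩ := hGf1
  have h2 : w * v = u := by
    have : G * (w * v) = G * u := by
      calc G * (w * v) = w * (G * v) := by ring
        _ = w * (f1 : P) := by rw [hv]
        _ = u * G := h1
        _ = G * u := mul_comm _ _
    exact mul_left_cancel₀ hGne this
  have hwv : IsUnit (w * v) := by rw [h2]; exact hu
  obtain ⟨hwu, hvu⟩ := IsUnit.mul_iff.mp hwv
  have hf1ne : f1 ≠ 0 := by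
    intro h0
    rw [h0, mul_zero] at hf1
    exact hfne hf1
  obtain ⟨p', hp', ⟨f2, hf2⟩, ⟨w', hw'⟩⟩ := exists_irreducible_factor hG f1 hf1ne ⟨v, hv⟩
  have h3 : w' * (f2 : P) = v := by
    have : G * (w' * (f2 : P)) = G * v := by
      calc G * (w' * (f2 : P)) = (G * w') * (f2 : P) := by ring
        _ = (p' : P) * (f2 : P) := by rw [hw']
        _ = (f1 : P) := by rw [hf2, MvPolynomial.coe_mul]
        _ = G * v := hv
    exact mul_left_cancel₀ hGne this
  have hw'f2 : IsUnit (w' * (f2 : P)) := by rw [h3]; exact hvu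
  obtain ⟨-, hf2u⟩ := IsUnit.mul_iff.mp hw'f2
  have hpp' : p ∣ p' := dvd_of_common hp hGnu ⟨w, hw⟩ ⟨w', hw'⟩
  obtain ⟨c, hc⟩ := hpp'
  have hcu : IsUnit c := by
    rcases hp'.isUnit_or_isUnit hc with h | h
    · exact absurd h hp.not_isUnit
    · exact h
  refine ⟨p, c * f2, ?_, ?_, w, hwu, hw⟩
  · rw [hf1, hf2, hc]
    ring
  · have hcu' : IsUnit ((c * f2 : Q) : P) := by
      rw [MvPolynomial.coe_mul]
      exact (hcu.map (MvPolynomial.coeToMvPowerSeries.ringHom (σ := Fin 2) (R := k))).mul hf2u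
    rw [MvPowerSeries.isUnit_iff_constantCoeff] at hcu'
    have e : MvPowerSeries.constantCoeff ((c * f2 : Q) : P) =
        MvPolynomial.constantCoeff (c * f2) := by
      rw [← MvPowerSeries.coeff_zero_eq_constantCoeff_apply, MvPolynomial.coeff_coe,
        MvPolynomial.constantCoeff_eq]
    rw [e] at hcu'
    exact hcu'.ne_zero

end deriv

end Groth.Agent.Lib.Helper76.DblLine
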