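import Mathlib

/-!
# The algebras `A[x,y]/(xy - a)` through their universal property (helper76)

* `IsNodeAlg a φ u v` : `(Q, φ, u, v)` has the universal property of `A[x,y]/(xy - a)`;
* `isNodeAlg_quot` : the quotient of the polynomial ring has it;
* `isPushout_of_up` : pushouts of commutative rings from the universal property;
* `isPushout_baseChange` : `A'[x,y]/(xy - g a) = A' ⊗_A A[x,y]/(xy - a)`;
* `isPushout_poly`, `flat_of_isNodeAlg` : `A[x,y]/(xy - a) = A ⊗_{k[t]} k[x,y]` and flatness over `A`.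
-/

set_option autoImplicit false
universe u

namespace Groth.Agent.Lib.Helper76.DefNode

open CategoryTheory CategoryTheory.Limits

/-- universal property of `A[x,y]/(xy - a)` -/
structure IsNodeAlg {A Q : Type u} [CommRing A] [CommRing Q] (a : A) (φ : A →+* Q) (u v : Q) :
    Prop where
  rel : u * v = φ a
  lift : ∀ {Z : Type u} [CommRing Z] (α : A →+* Z) (z₁ z₂ : Z), z₁ * z₂ = α a →
    ∃ ψ : Q →+* Z, ψ.comp φ = α ∧ ψ u = z₁ ∧ ψ v = z₂
  ext : ∀ {Z : Type u} [CommRing Z] (ψ ψ' : Q →+* Z), ψ.comp φ = ψ'.comp φ → ψ u = ψ' u →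
    ψ v = ψ' v → ψ = ψ'

theorem isNodeAlg_quot (A : Type u) [CommRing A] (a : A) (I : Ideal (MvPolynomial (Fin 2) A))
    (hI : I = Ideal.span {(MvPolynomial.X 0 * MvPolynomial.X 1 - MvPolynomial.C a :
      MvPolynomial (Fin 2) A)}) :
    IsNodeAlg a ((Ideal.Quotient.mk I).comp MvPolynomial.C)
      (Ideal.Quotient.mk I (MvPolynomial.X 0)) (Ideal.Quotient.mk I (MvPolynomial.X 1)) := by
  subst hI
  refine ⟨?_, ?_, ?_⟩
  · rw [← map_mul, RingHom.comp_apply]
    exact Ideal.Quotient.eq.mpr (Ideal.subset_span (Set.mem_singleton _))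
  · intro Z _ α z₁ z₂ h
    let ev : MvPolynomial (Fin 2) A →+* Z := MvPolynomial.eval₂Hom α ![z₁, z₂]
    have hle : Ideal.span {(MvPolynomial.X 0 * MvPolynomial.X 1 - MvPolynomial.C a :
        MvPolynomial (Fin 2) A)} ≤ RingHom.ker ev := by
      rw [Ideal.span_le, Set.singleton_subset_iff]
      show ev _ = 0
      simp [ev, h]
    have hev : ∀ p ∈ Ideal.span {(MvPolynomial.X 0 * MvPolynomial.X 1 - MvPolynomial.C a :
        MvPolynomial (Fin 2) A)}, ev p = 0 := fun p hp => hle hp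
    refine ⟨Ideal.Quotient.lift _ ev hev, ?_, ?_, ?_⟩
    · ext c
      simp [ev]
    · simp [ev]
    · simp [ev]
  · intro Z _ ψ ψ' h0 h1 h2
    apply Ideal.Quotient.ringHom_ext
    apply MvPolynomial.ringHom_ext
    · intro c
      exact RingHom.congr_fun h0 c
    · intro i
      fin_cases i
      · exact h1
      · exact h2

theorem isPushout_of_up {R S A B : CommRingCat.{u}} (f : R ⟶ S) (g : R ⟶ A) (inl : S ⟶ B)
    (inr : A ⟶ B) (w : f ≫ inl = g ≫ inr)
    (lift : ∀ (Z : CommRingCat.{u}) (α : S ⟶ Z) (β : A ⟶ Z), f ≫ α = g ≫ β →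
      ∃ γ : B ⟶ Z, inl ≫ γ = α ∧ inr ≫ γ = β)
    (uniq : ∀ (Z : CommRingCat.{u}) (γ γ' : B ⟶ Z), inl ≫ γ = inl ≫ γ' → inr ≫ γ = inr ≫ γ' →
      γ = γ') :
    IsPushout f g inl inr := by
  refine ⟨⟨w⟩, ⟨PushoutCocone.IsColimit.mk _
    (fun s => (lift s.pt s.inl s.inr s.condition).choose) ?_ ?_ ?_⟩⟩
  · intro s
    exact (lift s.pt s.inl s.inr s.condition).choose_spec.1
  · intro s
    exact (lift s.pt s.inl s.inr s.condition).choose_spec.2
  · intro s m h1 h2
    exact uniq _ _ _ (h1.trans (lift s.pt s.inl s.inr s.condition).choose_spec.1.symm)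
      (h2.trans (lift s.pt s.inl s.inr s.condition).choose_spec.2.symm)

theorem isPushout_baseChange {A A' Q Q' : Type u} [CommRing A] [CommRing A'] [CommRing Q]
    [CommRing Q'] {a : A} {φ : A →+* Q} {u v : Q} (h : IsNodeAlg a φ u v)
    {a' : A'} {φ' : A' →+* Q'} {u' v' : Q'} (h' : IsNodeAlg a' φ' u' v')
    (g : A →+* A') (hg : g a = a') (τ : Q →+* Q') (hτ : τ.comp φ = φ'.comp g) (hu : τ u = u')
    (hv : τ v = v') :
    IsPushout (CommRingCat.ofHom φ) (CommRingCat.ofHom g) (CommRingCat.ofHom τ)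
      (CommRingCat.ofHom φ') := by
  apply isPushout_of_up
  · rw [← CommRingCat.ofHom_comp, ← CommRingCat.ofHom_comp, hτ]
  · intro Z α β hαβ
    have hc : α.hom.comp φ = β.hom.comp g := by
      have := congrArg CommRingCat.Hom.hom hαβ
      simpa using this
    obtain ⟨ψ, h1, h2, h3⟩ := h'.lift (Z := Z) β.hom (α.hom u) (α.hom v) (by
      rw [← map_mul, h.rel, ← hg]
      exact RingHom.congr_fun hc a)
    refine ⟨CommRingCat.ofHom ψ, ?_, ?_⟩
    · apply CommRingCat.hom_ext
      rw [CommRingCat.hom_comp, CommRingCat.hom_ofHom, CommRingCat.hom_ofHom]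
      apply h.ext
      · rw [RingHom.comp_assoc, hτ, ← RingHom.comp_assoc, h1, hc]
      · rw [RingHom.comp_apply, hu, h2]
      · rw [RingHom.comp_apply, hv, h3]
    · apply CommRingCat.hom_ext
      rw [CommRingCat.hom_comp, CommRingCat.hom_ofHom, CommRingCat.hom_ofHom]
      exact h1
  · intro Z γ γ' e1 e2
    apply CommRingCat.hom_ext
    have e1' : γ.hom.comp τ = γ'.hom.comp τ := by
      have := congrArg CommRingCat.Hom.hom e1
      simpa using this
    have e2' : γ.hom.comp φ' = γ'.hom.comp φ' := by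
      have := congrArg CommRingCat.Hom.hom e2
      simpa using this
    apply h'.ext
    · exact e2'
    · rw [← hu]
      exact RingHom.congr_fun e1' u
    · rw [← hv]
      exact RingHom.congr_fun e1' v

end Groth.Agent.Lib.Helper76.DefNode
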