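import Groth.Agent.Lib.Helper76.DefNode1

/-!
# Flatness of `A[x,y]/(xy - a)` over `A` and twisting by units (helper76)
-/

set_option autoImplicit false
universe u

namespace Groth.Agent.Lib.Helper76.DefNode

open CategoryTheory CategoryTheory.Limits AlgebraicGeometry

theorem IsNodeAlg.twist {A Q : Type u} [CommRing A] [CommRing Q] {a : A} {φ : A →+* Q} {u v : Q}
    (h : IsNodeAlg a φ u v) (w w' : A) (hw : w * w' = 1) : IsNodeAlg (w * a) φ (φ w * u) v := by
  have hφ : φ w' * φ w = 1 := by rw [← map_mul, mul_comm, hw, map_one]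
  refine ⟨?_, ?_, ?_⟩
  · rw [mul_assoc, h.rel, map_mul]
  · intro Z _ α z₁ z₂ hz
    have hα : α w' * α w = 1 := by rw [← map_mul, mul_comm, hw, map_one]
    obtain ⟨ψ, h1, h2, h3⟩ := h.lift α (α w' * z₁) z₂ (by
      rw [mul_assoc, hz, map_mul, ← mul_assoc, hα, one_mul])
    refine ⟨ψ, h1, ?_, h3⟩
    rw [map_mul, h2, ← RingHom.comp_apply, h1, ← mul_assoc, mul_comm (α w), hα, one_mul]
  · intro Z _ ψ ψ' h0 h1 h2
    refine h.ext ψ ψ' h0 ?_ h2
    have e1 : ψ u = ψ (φ w') * ψ (φ w * u) := by rw [← map_mul, ← mul_assoc, hφ, one_mul]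
    have e2 : ψ' u = ψ' (φ w') * ψ' (φ w * u) := by rw [← map_mul, ← mul_assoc, hφ, one_mul]
    rw [e1, e2, h1]
    congr 1
    exact RingHom.congr_fun h0 w'

/-- `k[t] → k[x,y]`, `t ↦ xy` -/
noncomputable abbrev mulHom (k : Type u) [Field k] : Polynomial k →+* MvPolynomial (Fin 2) k :=
  (Polynomial.aeval (MvPolynomial.X 0 * MvPolynomial.X 1 : MvPolynomial (Fin 2) k) :
    Polynomial k →ₐ[k] MvPolynomial (Fin 2) k).toRingHom

theorem isPushout_poly (k : Type u) [Field k] {A Q : Type u} [CommRing A] [Algebra k A] [CommRing Q]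
    {a : A} {φ : A →+* Q} {u v : Q} (h : IsNodeAlg a φ u v) :
    IsPushout
      (CommRingCat.ofHom (mulHom k))
      (CommRingCat.ofHom ((Polynomial.aeval a : Polynomial k →ₐ[k] A).toRingHom))
      (CommRingCat.ofHom (MvPolynomial.eval₂Hom (φ.comp (algebraMap k A)) ![u, v]))
      (CommRingCat.ofHom φ) := by
  apply isPushout_of_up
  · rw [← CommRingCat.ofHom_comp, ← CommRingCat.ofHom_comp]
    congr 1
    apply Polynomial.ringHom_ext
    · intro c
      simp
    · simp [h.rel]
  · intro Z β α hαβ
    have hc : β.hom.comp (mulHom k) =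
        α.hom.comp ((Polynomial.aeval a : Polynomial k →ₐ[k] A).toRingHom) := by
      have := congrArg CommRingCat.Hom.hom hαβ
      simpa using this
    obtain ⟨ψ, h1, h2, h3⟩ := h.lift (Z := Z) α.hom (β.hom (MvPolynomial.X 0))
      (β.hom (MvPolynomial.X 1)) (by
        rw [← map_mul]
        have := RingHom.congr_fun hc Polynomial.X
        simpa using this)
    refine ⟨CommRingCat.ofHom ψ, ?_, ?_⟩
    · apply CommRingCat.hom_ext
      rw [CommRingCat.hom_comp, CommRingCat.hom_ofHom, CommRingCat.hom_ofHom]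
      apply MvPolynomial.ringHom_ext
      · intro c
        have e0 := RingHom.congr_fun hc (Polynomial.C c)
        have e1 : ψ (φ (algebraMap k A c)) = α.hom (algebraMap k A c) := RingHom.congr_fun h1 _
        simp at e0
        simp [e1, e0]
      · intro i
        fin_cases i
        · simpa using h2
        · simpa using h3
    · apply CommRingCat.hom_ext
      rw [CommRingCat.hom_comp, CommRingCat.hom_ofHom, CommRingCat.hom_ofHom]
      exact h1
  · intro Z γ γ' e1 e2
    apply CommRingCat.hom_ext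
    have e1' : γ.hom.comp (MvPolynomial.eval₂Hom (φ.comp (algebraMap k A)) ![u, v]) =
        γ'.hom.comp (MvPolynomial.eval₂Hom (φ.comp (algebraMap k A)) ![u, v]) := by
      have := congrArg CommRingCat.Hom.hom e1
      simpa using this
    have e2' : γ.hom.comp φ = γ'.hom.comp φ := by
      have := congrArg CommRingCat.Hom.hom e2
      simpa using this
    apply h.ext _ _ e2'
    · have := RingHom.congr_fun e1' (MvPolynomial.X 0)
      simpa using this
    · have := RingHom.congr_fun e1' (MvPolynomial.X 1)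
      simpa using this

theorem flat_mul (k : Type u) [Field k] : (mulHom k).Flat := by
  have hinj : Function.Injective (Polynomial.aeval
      (MvPolynomial.X 0 * MvPolynomial.X 1 : MvPolynomial (Fin 2) k) :
      Polynomial k →ₐ[k] MvPolynomial (Fin 2) k) := by
    have hret : (MvPolynomial.aeval ![Polynomial.X, 1] :
        MvPolynomial (Fin 2) k →ₐ[k] Polynomial k).comp
        (Polynomial.aeval (MvPolynomial.X 0 * MvPolynomial.X 1 : MvPolynomial (Fin 2) k) :
          Polynomial k →ₐ[k] MvPolynomial (Fin 2) k) =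
        AlgHom.id k _ := by
      apply Polynomial.algHom_ext
      simp
    intro p q hpq
    have := congrArg (MvPolynomial.aeval ![Polynomial.X, 1] :
        MvPolynomial (Fin 2) k →ₐ[k] Polynomial k) hpq
    rw [← AlgHom.comp_apply, ← AlgHom.comp_apply, hret] at this
    exact this
  letI : Algebra (Polynomial k) (MvPolynomial (Fin 2) k) := RingHom.toAlgebra (mulHom k)
  show Module.Flat (Polynomial k) (MvPolynomial (Fin 2) k)
  rw [Module.Flat.flat_iff_torsion_eq_bot_of_isBezout,
    ← Submodule.isTorsionFree_iff_torsion_eq_bot]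
  refine ⟨fun r hr m₁ m₂ hm => ?_⟩
  have hr0 : r ≠ 0 := hr.ne_zero
  have hne : algebraMap (Polynomial k) (MvPolynomial (Fin 2) k) r ≠ 0 := fun h0 =>
    hr0 (hinj (by rw [map_zero]; exact h0))
  simp only [Algebra.smul_def] at hm
  exact mul_left_cancel₀ hne hm

theorem flat_spec (k : Type u) [Field k] {A Q : Type u} [CommRing A] [Algebra k A] [CommRing Q]
    {a : A} {φ : A →+* Q} {u v : Q} (h : IsNodeAlg a φ u v) :
    Flat (Spec.map (CommRingCat.ofHom φ)) := by
  have pb := isPullback_SpecMap_of_isPushout _ _ _ _ (isPushout_poly k h)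
  have hfl : Flat (Spec.map (CommRingCat.ofHom (mulHom k))) :=
    (HasRingHomProperty.Spec_iff (P := @Flat)).mpr (flat_mul k)
  exact MorphismProperty.of_isPullback pb hfl

end Groth.Agent.Lib.Helper76.DefNode
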