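import Groth.Agent.Lib.Helper76.DefNode2
import Groth.Prelude.Def_ArtFun4

/-!
# The deformations `Spec A[x,y]/(xy - a)` of the node (helper76)
-/

set_option autoImplicit false
universe u

namespace Groth.Agent.Lib.Helper76.DefNode

open CategoryTheory CategoryTheory.Limits AlgebraicGeometry ArtFun ArtFun.Art

section General

variable {Λ k : Type u} [CommRing Λ] [Field k] [Algebra Λ k] {X : Scheme.{u}} {x : X ⟶ specPt k}

theorem specRes_base : specRes (base Λ k) = 𝟙 (specPt k) := by
  change Spec.map (CommRingCat.ofHom (RingHom.id k)) = _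
  rw [CommRingCat.ofHom_id]
  exact Spec.map_id _

theorem baseChange_iso {A A' : Art Λ k} (g : A ⟶ A') (D : DefSch X x A) (D' : DefSch X x A')
    (t : D'.total ⟶ D.total) (hpb : IsPullback t D'.f D.f (specMap g)) (hi : D'.i ≫ t = D.i) :
    (defFunctor X x).map g D.cl = D'.cl := by
  rw [defFunctor_map_cl]
  refine Quotient.sound ⟨?_⟩
  exact
    { iso := (IsPullback.of_hasPullback D.f (specMap g)).isoIsPullback _ _ hpb
      hom_f := IsPullback.isoIsPullback_hom_snd _ _ _ _
      i_hom := by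
        apply hpb.hom_ext
        · rw [Category.assoc, IsPullback.isoIsPullback_hom_fst, DefSch.baseChange_i_fst, hi]
        · rw [Category.assoc, IsPullback.isoIsPullback_hom_snd, D'.i_f]
          exact DefSch.baseChange_i_f D g }

/-- a deformation over `k[ε]` pulled back from `k` has a section through any rational point -/
theorem map_baseToDual_ne (D₂ : DefSch X x (dual Λ k)) (o : specPt k ⟶ X) (ho : o ≫ x = 𝟙 _)
    (hno : ∀ s' : spec (dual Λ k) ⟶ D₂.total, s' ≫ D₂.f = 𝟙 _ →
      specRes (dual Λ k) ≫ s' = o ≫ D₂.i → False)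
    (η : DefSch X x (base Λ k)) :
    (defFunctor X x).map (baseToDual : base Λ k ⟶ dual Λ k) η.cl ≠ D₂.cl := by
  intro heq
  rw [defFunctor_map_cl] at heq
  obtain ⟨e⟩ := Quotient.exact heq
  obtain ⟨p, hp1, hp2⟩ : ∃ p : spec (dual Λ k) ⟶ specPt k,
      p ≫ specRes (base Λ k) = specMap (baseToDual : base Λ k ⟶ dual Λ k) ∧
        specRes (dual Λ k) ≫ p = 𝟙 (specPt k) := by
    refine ⟨specMap (baseToDual : base Λ k ⟶ dual Λ k),
      comp_specRes_base (Λ := Λ) (k := k) (specMap (baseToDual : base Λ k ⟶ dual Λ k)), ?_⟩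
    exact (specRes_comp _).trans specRes_base
  have hcond : (p ≫ o ≫ η.i) ≫ η.f =
      𝟙 (spec (dual Λ k)) ≫ specMap (baseToDual : base Λ k ⟶ dual Λ k) := by
    rw [Category.assoc, Category.assoc, η.i_f, ← Category.assoc o, ho, Category.id_comp,
      Category.id_comp, hp1]
  let s : spec (dual Λ k) ⟶ pullback η.f (specMap (baseToDual : base Λ k ⟶ dual Λ k)) :=
    pullback.lift (p ≫ o ≫ η.i) (𝟙 (spec (dual Λ k))) hcond
  have hs1 : s ≫ pullback.fst η.f (specMap (baseToDual : base Λ k ⟶ dual Λ k)) =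
      p ≫ o ≫ η.i := pullback.lift_fst _ _ _
  have hs2 : s ≫ pullback.snd η.f (specMap (baseToDual : base Λ k ⟶ dual Λ k)) = 𝟙 _ :=
    pullback.lift_snd _ _ _
  have hi1 : (η.baseChange (baseToDual : base Λ k ⟶ dual Λ k)).i ≫
      pullback.fst η.f (specMap (baseToDual : base Λ k ⟶ dual Λ k)) = η.i :=
    DefSch.baseChange_i_fst η _
  have hi2 : (η.baseChange (baseToDual : base Λ k ⟶ dual Λ k)).i ≫
      pullback.snd η.f (specMap (baseToDual : base Λ k ⟶ dual Λ k)) =
      x ≫ specRes (dual Λ k) := DefSch.baseChange_i_f η _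
  have key : specRes (dual Λ k) ≫ s =
      o ≫ (η.baseChange (baseToDual : base Λ k ⟶ dual Λ k)).i := by
    apply pullback.hom_ext
    · rw [Category.assoc, hs1, Category.assoc, hi1, ← Category.assoc, hp2, Category.id_comp]
    · rw [Category.assoc, hs2, Category.comp_id, Category.assoc, hi2, ← Category.assoc, ho,
        Category.id_comp]
  refine hno (s ≫ e.iso.hom) ?_ ?_
  · rw [Category.assoc, e.hom_f]
    exact hs2
  · rw [← e.i_hom, ← Category.assoc, key, Category.assoc]

end General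

section Node

variable {k : Type u} [Field k] {B₀ : Type u} [CommRing B₀] [Algebra k B₀] {x₀ y₀ : B₀}
  (h₀ : IsNodeAlg (0 : k) (algebraMap k B₀) x₀ y₀)

section
variable {A : Art k k} {a : A} (ha : A.res a = 0) {Q : Type u} [CommRing Q] {φ : A →+* Q} {u v : Q}
  (h : IsNodeAlg a φ u v)

include h₀ ha h in
theorem exists_chi : ∃ χ : Q →+* B₀,
    χ.comp φ = (algebraMap k B₀).comp A.res.toRingHom ∧ χ u = x₀ ∧ χ v = y₀ :=
  h.lift _ x₀ y₀ (by
    rw [h₀.rel, RingHom.comp_apply, show A.res.toRingHom a = 0 from ha])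

/-- the map to the closed fibre -/
noncomputable def chi : Q →+* B₀ := (exists_chi h₀ ha h).choose

theorem chi_comp : (chi h₀ ha h).comp φ = (algebraMap k B₀).comp A.res.toRingHom :=
  (exists_chi h₀ ha h).choose_spec.1

theorem chi_u : chi h₀ ha h u = x₀ := (exists_chi h₀ ha h).choose_spec.2.1

theorem chi_v : chi h₀ ha h v = y₀ := (exists_chi h₀ ha h).choose_spec.2.2

/-- the deformation `Spec Q → Spec A` of `Spec B₀` -/
noncomputable def mkDef :
    DefSch (Spec (CommRingCat.of B₀)) (Spec.map (CommRingCat.ofHom (algebraMap k B₀))) A where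
  total := Spec (CommRingCat.of Q)
  f := Spec.map (CommRingCat.ofHom φ)
  flat := flat_spec k h
  i := Spec.map (CommRingCat.ofHom (chi h₀ ha h))
  isPullback := isPullback_SpecMap_of_isPushout _ _ _ _
    (isPushout_baseChange h h₀ A.res.toRingHom ha (chi h₀ ha h) (chi_comp h₀ ha h)
      (chi_u h₀ ha h) (chi_v h₀ ha h))

end

theorem map_cl_mkDef {A A' : Art k k} (g : A ⟶ A') {a : A} (ha : A.res a = 0) {Q : Type u}
    [CommRing Q] {φ : A →+* Q} {u v : Q} (h : IsNodeAlg a φ u v)
    {a' : A'} (ha' : A'.res a' = 0) {Q' : Type u} [CommRing Q'] {φ' : A' →+* Q'} {u' v' : Q'}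
    (h' : IsNodeAlg a' φ' u' v') (w : A') (hw : A'.res w = 1) (hg : g a = w * a') :
    (defFunctor _ _).map g (mkDef h₀ ha h).cl = (mkDef h₀ ha' h').cl := by
  have hwu : IsUnit w := by
    by_contra hn
    have hm : w ∈ IsLocalRing.maximalIdeal A' := (IsLocalRing.mem_maximalIdeal w).mpr hn
    rw [Art.mem_maximalIdeal_iff, hw] at hm
    exact one_ne_zero hm
  obtain ⟨w', hw'⟩ := hwu.exists_right_inv
  have h'' := h'.twist w w' hw'
  obtain ⟨τ, hτ, hu, hv⟩ := h.lift (φ'.comp g.toAlgHom.toRingHom) (φ' w * u') v' (by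
    rw [h''.rel, RingHom.comp_apply]
    congr 1
    exact hg.symm)
  have po := isPushout_baseChange h h'' g.toAlgHom.toRingHom hg τ hτ hu hv
  have pb := isPullback_SpecMap_of_isPushout _ _ _ _ po
  refine baseChange_iso g (mkDef h₀ ha h) (mkDef h₀ ha' h') (Spec.map (CommRingCat.ofHom τ)) pb ?_
  show Spec.map (CommRingCat.ofHom (chi h₀ ha' h')) ≫ Spec.map (CommRingCat.ofHom τ) =
    Spec.map (CommRingCat.ofHom (chi h₀ ha h))
  rw [← Spec.map_comp, ← CommRingCat.ofHom_comp]
  congr 2
  apply h.ext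
  · rw [RingHom.comp_assoc, hτ, ← RingHom.comp_assoc, chi_comp, chi_comp, RingHom.comp_assoc]
    congr 1
    exact congrArg AlgHom.toRingHom g.res_comp
  · rw [RingHom.comp_apply, hu, map_mul, chi_u, chi_u, ← RingHom.comp_apply, chi_comp,
      RingHom.comp_apply, show A'.res.toRingHom w = 1 from hw, map_one, one_mul]
  · rw [RingHom.comp_apply, hv, chi_v, chi_v]

/-- no section through the origin for `xy = ε` -/
theorem no_section {Q : Type u} [CommRing Q] {φ : DualNumber k →+* Q} {u v : Q}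
    (h : IsNodeAlg (DualNumber.eps : DualNumber k) φ u v) (χ : Q →+* B₀) (hχu : χ u = x₀)
    (hχv : χ v = y₀) (o' : B₀ →+* k) (ho1 : o' x₀ = 0) (ho2 : o' y₀ = 0)
    (s' : Spec (CommRingCat.of (DualNumber k)) ⟶ Spec (CommRingCat.of Q))
    (hs1 : s' ≫ Spec.map (CommRingCat.ofHom φ) = 𝟙 _)
    (hs2 : Spec.map (CommRingCat.ofHom
        ((TrivSqZeroExt.fstHom k k k : DualNumber k →ₐ[k] k).toRingHom)) ≫ s' =
      Spec.map (CommRingCat.ofHom o') ≫ Spec.map (CommRingCat.ofHom χ)) : False := by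
  obtain ⟨c, rfl⟩ := Spec.map_surjective s'
  have e1 : c.hom.comp φ = RingHom.id _ := by
    rw [← Spec.map_comp, ← Spec.map_id] at hs1
    have h1 := Spec.map_injective hs1
    have h2 := congrArg CommRingCat.Hom.hom h1
    simpa using h2
  have e2 : ((TrivSqZeroExt.fstHom k k k : DualNumber k →ₐ[k] k).toRingHom).comp c.hom =
      o'.comp χ := by
    rw [← Spec.map_comp, ← Spec.map_comp] at hs2
    have h1 := Spec.map_injective hs2
    have h2 := congrArg CommRingCat.Hom.hom h1
    simpa using h2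
  have hu : (c.hom u : DualNumber k).fst = 0 := by
    have h3 := RingHom.congr_fun e2 u
    rw [RingHom.comp_apply, RingHom.comp_apply, hχu, ho1] at h3
    exact h3
  have hv : (c.hom v : DualNumber k).fst = 0 := by
    have h3 := RingHom.congr_fun e2 v
    rw [RingHom.comp_apply, RingHom.comp_apply, hχv, ho2] at h3
    exact h3
  have hprod : (c.hom u * c.hom v : DualNumber k) = DualNumber.eps := by
    rw [← map_mul, h.rel, ← RingHom.comp_apply, e1]
    rfl
  have h0 : (c.hom u * c.hom v : DualNumber k).snd = 0 := by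
    rw [TrivSqZeroExt.snd_mul, hu, hv]
    simp
  rw [hprod] at h0
  simp at h0

end Node

end Groth.Agent.Lib.Helper76.DefNode
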