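import Groth.Agent.Lib.Helper76.DefNode3

/-!
# The deformation functor of the node is not pro-representable (helper76)

The object `k[ε₁, ε₂]/(ε₁², ε₂²)`, its automorphism `ε₁ ↦ (1 + ε₂) ε₁` fixing the class of
`xy = ε₁`, and the resulting contradiction with a universal family.
-/

set_option autoImplicit false
universe u

namespace Groth.Agent.Lib.Helper76.DefNode

open CategoryTheory CategoryTheory.Limits AlgebraicGeometry ArtFun ArtFun.Art

section A4
variable (k : Type u) [Field k]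

/-- `k[ε₁, ε₂]/(ε₁², ε₂²)` -/
abbrev R₄ : Type u := TrivSqZeroExt (DualNumber k) (DualNumber k)

theorem isLocalRing_R4 : IsLocalRing (R₄ k) := by
  refine IsLocalRing.of_isUnit_or_isUnit_one_sub_self fun a => ?_
  rcases IsLocalRing.isUnit_or_isUnit_one_sub_self a.fst with h | h
  · exact Or.inl (TrivSqZeroExt.isUnit_iff_isUnit_fst.mpr h)
  · refine Or.inr (TrivSqZeroExt.isUnit_iff_isUnit_fst.mpr ?_)
    simpa using h

theorem isArtinianRing_R4 : IsArtinianRing (R₄ k) :=
  haveI : Module.Finite k (DualNumber k) := inferInstanceAs (Module.Finite k (k × k))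
  haveI : Module.Finite k (R₄ k) :=
    inferInstanceAs (Module.Finite k (DualNumber k × DualNumber k))
  haveI : IsScalarTower k (R₄ k) (R₄ k) := @IsScalarTower.right k (R₄ k) _ _ _
  IsArtinianRing.of_finite k _

/-- the augmentation -/
noncomputable def res₄ : R₄ k →ₐ[k] k :=
  (TrivSqZeroExt.fstHom k k k).comp (TrivSqZeroExt.fstHom k (DualNumber k) (DualNumber k))

/-- the object `k[ε₁, ε₂]/(ε₁², ε₂²)` -/
noncomputable def A₄ : Art k k :=
  { carrier := R₄ k
    isLocalRing := isLocalRing_R4 k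
    isArtinianRing := isArtinianRing_R4 k
    res := res₄ k
    res_surjective := fun c => ⟨TrivSqZeroExt.inl (TrivSqZeroExt.inl c), rfl⟩ }

/-- `(p, q) ↦ (p, (1 + ε) q)` -/
noncomputable def sigmaHom : R₄ k →ₐ[k] R₄ k where
  toFun z := (z.fst, (1 + DualNumber.eps) * z.snd)
  map_one' := TrivSqZeroExt.ext rfl (by simp)
  map_mul' y z := TrivSqZeroExt.ext rfl (by
    change (1 + DualNumber.eps) * (y.fst • z.snd + MulOpposite.op z.fst • y.snd) =
      y.fst • ((1 + DualNumber.eps) * z.snd) + MulOpposite.op z.fst • ((1 + DualNumber.eps) * y.snd)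
    simp only [smul_eq_mul, MulOpposite.smul_eq_mul_unop, MulOpposite.unop_op]
    ring)
  map_zero' := TrivSqZeroExt.ext rfl (by simp)
  map_add' y z := TrivSqZeroExt.ext rfl (by
    change (1 + DualNumber.eps) * (y.snd + z.snd) =
      (1 + DualNumber.eps) * y.snd + (1 + DualNumber.eps) * z.snd
    ring)
  commutes' c := TrivSqZeroExt.ext rfl (by
    simp [TrivSqZeroExt.algebraMap_eq_inl'])

/-- `(p, q) ↦ (p₀, q₀)` -/
noncomputable def piHom : R₄ k →ₐ[k] DualNumber k where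
  toFun z := (z.fst.fst, z.snd.fst)
  map_one' := TrivSqZeroExt.ext rfl (by simp)
  map_mul' y z := TrivSqZeroExt.ext rfl (by
    change (y.fst • z.snd + MulOpposite.op z.fst • y.snd).fst =
      y.fst.fst • z.snd.fst + MulOpposite.op z.fst.fst • y.snd.fst
    simp only [smul_eq_mul, MulOpposite.smul_eq_mul_unop, MulOpposite.unop_op,
      TrivSqZeroExt.fst_add, TrivSqZeroExt.fst_mul])
  map_zero' := TrivSqZeroExt.ext rfl (by simp)
  map_add' y z := TrivSqZeroExt.ext rfl rfl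
  commutes' c := TrivSqZeroExt.ext rfl (by
    simp [TrivSqZeroExt.algebraMap_eq_inl'])

/-- `ε₁` -/
noncomputable def eps₁ : R₄ k := TrivSqZeroExt.inr 1

/-- the unit `1 + ε₂` -/
noncomputable def w₄ : R₄ k := TrivSqZeroExt.inl (1 + DualNumber.eps)

/-- `σ` as a morphism -/
noncomputable def sigma : A₄ k ⟶ A₄ k := ⟨sigmaHom k, AlgHom.ext fun _ => rfl⟩

/-- `π` as a morphism -/
noncomputable def pi₄ : A₄ k ⟶ dual k k := ⟨piHom k, AlgHom.ext fun _ => rfl⟩

theorem res_eps₁ : (A₄ k).res (eps₁ k) = 0 := by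
  change (TrivSqZeroExt.inr 1 : R₄ k).fst.fst = 0
  simp

theorem res_w₄ : (A₄ k).res (w₄ k) = 1 := by
  change (TrivSqZeroExt.inl (1 + DualNumber.eps) : R₄ k).fst.fst = 1
  simp

theorem res_eps : (dual k k).res (DualNumber.eps : DualNumber k) = 0 := by
  change (DualNumber.eps : DualNumber k).fst = 0
  simp

theorem sigma_eps₁ : sigma k (eps₁ k) = w₄ k * eps₁ k := by
  refine TrivSqZeroExt.ext ?_ ?_
  · change (TrivSqZeroExt.inr 1 : R₄ k).fst =
      (TrivSqZeroExt.inl (1 + DualNumber.eps) : R₄ k).fst * (TrivSqZeroExt.inr 1 : R₄ k).fst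
    simp
  · change (1 + DualNumber.eps) * (TrivSqZeroExt.inr 1 : R₄ k).snd =
      (TrivSqZeroExt.inl (1 + DualNumber.eps) : R₄ k).fst • (TrivSqZeroExt.inr 1 : R₄ k).snd +
        MulOpposite.op (TrivSqZeroExt.inr 1 : R₄ k).fst •
          (TrivSqZeroExt.inl (1 + DualNumber.eps) : R₄ k).snd
    simp

theorem pi_eps₁ : (pi₄ k (eps₁ k) : DualNumber k) = (1 : DualNumber k) * DualNumber.eps := by
  refine TrivSqZeroExt.ext ?_ ?_
  · change (TrivSqZeroExt.inr 1 : R₄ k).fst.fst =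
      ((1 : DualNumber k) * (DualNumber.eps : DualNumber k)).fst
    simp
  · change (TrivSqZeroExt.inr 1 : R₄ k).snd.fst =
      ((1 : DualNumber k) * (DualNumber.eps : DualNumber k)).snd
    simp

theorem fixed (z : R₄ k) (hz : sigmaHom k z = z) :
    piHom k z = algebraMap k (DualNumber k) (res₄ k z) := by
  have h2 : (1 + DualNumber.eps) * z.snd = z.snd := congrArg TrivSqZeroExt.snd hz
  have h3 : z.snd.fst = 0 := by
    have h4 := congrArg TrivSqZeroExt.snd h2
    rw [TrivSqZeroExt.snd_mul] at h4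
    simpa using h4
  refine TrivSqZeroExt.ext ?_ ?_
  · change z.fst.fst = (algebraMap k (DualNumber k) z.fst.fst).fst
    rfl
  · change z.snd.fst = (algebraMap k (DualNumber k) z.fst.fst).snd
    rw [h3]
    rfl

end A4

theorem not_prorep {k : Type u} [Field k] {B₀ : Type u} [CommRing B₀] [Algebra k B₀] {x₀ y₀ : B₀}
    (h₀ : IsNodeAlg (0 : k) (algebraMap k B₀) x₀ y₀) :
    ¬ ArtFun.IsProrepresentable (ArtFun.defFunctor (Λ := k) (Spec (CommRingCat.of B₀))
      (Spec.map (CommRingCat.ofHom (algebraMap k B₀)))) := by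
  rintro ⟨P⟩
  have h₄ := isNodeAlg_quot (A₄ k) (eps₁ k) _ rfl
  have h₂ := isNodeAlg_quot (dual k k) (DualNumber.eps : DualNumber k) _ rfl
  have F1 : (defFunctor _ _).map (sigma k) (mkDef h₀ (res_eps₁ k) h₄).cl =
      (mkDef h₀ (res_eps₁ k) h₄).cl :=
    map_cl_mkDef h₀ (sigma k) (res_eps₁ k) h₄ (res_eps₁ k) h₄ (w₄ k) (res_w₄ k) (sigma_eps₁ k)
  have F2 : (defFunctor _ _).map (pi₄ k) (mkDef h₀ (res_eps₁ k) h₄).cl =
      (mkDef h₀ (res_eps k) h₂).cl :=
    map_cl_mkDef h₀ (pi₄ k) (res_eps₁ k) h₄ (res_eps k) h₂ 1 (map_one _) (pi_eps₁ k)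
  obtain ⟨o', ho0, ho1, ho2⟩ := h₀.lift (RingHom.id k) 0 0 (by simp)
  have ho : Spec.map (CommRingCat.ofHom o') ≫ Spec.map (CommRingCat.ofHom (algebraMap k B₀)) =
      𝟙 (specPt k) := by
    rw [← Spec.map_comp, ← CommRingCat.ofHom_comp, ho0, CommRingCat.ofHom_id, Spec.map_id]
  have F3 : ∀ η : DefSch (Spec (CommRingCat.of B₀))
      (Spec.map (CommRingCat.ofHom (algebraMap k B₀))) (base k k),
      (defFunctor _ _).map (baseToDual : base k k ⟶ dual k k) η.cl ≠
        (mkDef h₀ (res_eps k) h₂).cl := fun η =>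
    map_baseToDual_ne (mkDef h₀ (res_eps k) h₂) (Spec.map (CommRingCat.ofHom o')) ho
      (fun s' hs1 hs2 => no_section h₂ (chi h₀ (res_eps k) h₂) (chi_u h₀ (res_eps k) h₂)
        (chi_v h₀ (res_eps k) h₂) o' ho1 ho2 s' hs1 hs2) η
  obtain ⟨φ₄, hφ₄⟩ := (P.universal (A₄ k)).2 (mkDef h₀ (res_eps₁ k) h₄).cl
  have hfix : HomSet.map (sigma k) φ₄ = φ₄ := by
    apply (P.universal (A₄ k)).1
    rw [P.family.natural, hφ₄]
    exact F1
  have hfac : HomSet.map (pi₄ k) φ₄ =
      HomSet.map (baseToDual : base k k ⟶ dual k k) (HomSet.map (toBase (A₄ k)) φ₄) := by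
    apply Subtype.ext
    apply AlgHom.ext
    intro r
    have hz : sigmaHom k (φ₄.1 r) = φ₄.1 r := AlgHom.congr_fun (congrArg Subtype.val hfix) r
    exact fixed k (φ₄.1 r) hz
  have key : (defFunctor _ _).map (baseToDual : base k k ⟶ dual k k)
      (P.family.app _ (HomSet.map (toBase (A₄ k)) φ₄)) = (mkDef h₀ (res_eps k) h₂).cl := by
    rw [← P.family.natural, ← hfac, P.family.natural, hφ₄]
    exact F2
  obtain ⟨η, hη⟩ := Quotient.exists_rep (P.family.app (base k k) (HomSet.map (toBase (A₄ k)) φ₄))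
  rw [← hη] at key
  exact F3 η key

end Groth.Agent.Lib.Helper76.DefNode
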