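import Groth.Agent.Lib.Helper76.HopfPS

/-!
Inertia group schemes of points of `Spec B` under a finite locally free Hopf coaction (helper76):
invariance under field extension (both directions), conjugacy over an algebraically closed field,
and a common algebraically closed overfield of two fields over the same prime.
-/

set_option autoImplicit false
universe u
open CategoryTheory CategoryTheory.Limits AlgebraicGeometry MonoidalCategory
  CartesianMonoidalCategory MonObj

namespace Groth.Agent.Lib.Helper76.HopfInertia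

/-- The prime ideal of a point of an affine scheme. -/
def idl {R : CommRingCat.{u}} (x : ↥(Spec R)) : Ideal R := PrimeSpectrum.asIdeal x

theorem idl_map {R₁ R₂ : CommRingCat.{u}} (f : R₁ ⟶ R₂) (x : ↥(Spec R₂)) :
    idl ((Spec.map f) x) = (idl x).comap f.hom := rfl

theorem idl_ext {R : CommRingCat.{u}} {x y : ↥(Spec R)} (h : idl x = idl y) : x = y :=
  PrimeSpectrum.ext h

theorem idl_mk {R : CommRingCat.{u}} (I : Ideal R) (hI : I.IsPrime) :
    ∃ x : ↥(Spec R), idl x = I := ⟨(⟨I, hI⟩ : PrimeSpectrum R), rfl⟩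

/-- Two fields over `R` with the same kernel embed over `R` in an algebraically closed field. -/
theorem exists_compositum (R K₁ K₂ : Type u) [CommRing R] [Field K₁] [Field K₂] [Algebra R K₁]
    [Algebra R K₂] (hq : RingHom.ker (algebraMap R K₁) = RingHom.ker (algebraMap R K₂)) :
    ∃ (L : Type u) (_ : Field L) (_ : IsAlgClosed L) (φ₁ : K₁ →+* L) (φ₂ : K₂ →+* L),
      φ₁.comp (algebraMap R K₁) = φ₂.comp (algebraMap R K₂) := by
  let f₁ : Spec (CommRingCat.of K₁) ⟶ Spec (CommRingCat.of R) :=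
    Spec.map (CommRingCat.ofHom (algebraMap R K₁))
  let f₂ : Spec (CommRingCat.of K₂) ⟶ Spec (CommRingCat.of R) :=
    Spec.map (CommRingCat.ofHom (algebraMap R K₂))
  obtain ⟨a₁, ha₁⟩ := idl_mk (R := CommRingCat.of K₁) ⊥ Ideal.isPrime_bot
  obtain ⟨a₂, ha₂⟩ := idl_mk (R := CommRingCat.of K₂) ⊥ Ideal.isPrime_bot
  have hpt : f₁ a₁ = f₂ a₂ := by
    apply idl_ext
    rw [idl_map, idl_map, ha₁, ha₂]
    exact hq
  obtain ⟨z, -, -⟩ := Scheme.Pullback.exists_preimage_pullback a₁ a₂ hpt
  let Z := pullback f₁ f₂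
  let ψ₁ : CommRingCat.of K₁ ⟶ Z.residueField z :=
    Spec.preimage (Z.fromSpecResidueField z ≫ pullback.fst f₁ f₂)
  let ψ₂ : CommRingCat.of K₂ ⟶ Z.residueField z :=
    Spec.preimage (Z.fromSpecResidueField z ≫ pullback.snd f₁ f₂)
  have hψ : CommRingCat.ofHom (algebraMap R K₁) ≫ ψ₁ = CommRingCat.ofHom (algebraMap R K₂) ≫ ψ₂ := by
    apply Spec.map_injective
    rw [Spec.map_comp, Spec.map_comp, Spec.map_preimage, Spec.map_preimage, Category.assoc,
      Category.assoc]
    exact congrArg (fun t => Z.fromSpecResidueField z ≫ t) pullback.condition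
  refine ⟨AlgebraicClosure (Z.residueField z), inferInstance, inferInstance,
    (algebraMap (Z.residueField z) (AlgebraicClosure (Z.residueField z))).comp ψ₁.hom,
    (algebraMap (Z.residueField z) (AlgebraicClosure (Z.residueField z))).comp ψ₂.hom, ?_⟩
  ext r
  have := congrArg (fun t => t.hom r) hψ
  simp only [CommRingCat.hom_comp, CommRingCat.hom_ofHom, RingHom.comp_apply] at this
  simp only [RingHom.comp_apply]
  rw [this]

section Inertia

variable (R A B : Type u) [CommRing R] [CommRing A] [CommRing B] [HopfAlgebra R A] [Algebra R B]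
  [HopfRep.Comod R A B] [GLin.IsCoactAlg R A B]

/-- Triviality of the inertia group scheme at a ring-valued point. -/
def Triv {K : Type u} [CommRing K] [Algebra R K] (x : B →ₐ[R] K) : Prop :=
  ∀ (T : Over (Spec (CommRingCat.of R))) (h : T ⟶ CoactBr.sp R K) (g : T ⟶ CoactBr.sp R A),
    lift g (h ≫ CoactBr.pt x) ≫ (CoactBr.action R A B).act = h ≫ CoactBr.pt x → g = 1

variable {R A B}

theorem triv_up {K L : Type u} [CommRing K] [CommRing L] [Algebra R K] [Algebra R L]
    (x : B →ₐ[R] K) (j : K →ₐ[R] L) (hx : Triv R A B x) : Triv R A B (j.comp x) := by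
  intro T h g hg
  rw [CoactBr.pt_comp, ← Category.assoc] at hg
  exact hx T (h ≫ CoactBr.pt j) g hg

theorem triv_down {K L : Type u} [Field K] [Field L] [Algebra R K] [Algebra R L]
    (x : B →ₐ[R] K) (j : K →ₐ[R] L) (hx : Triv R A B (j.comp x)) : Triv R A B x := by
  intro T h g hg
  let φ : (CoactBr.sp R L).left ⟶ (CoactBr.sp R K).left := (CoactBr.pt j).left
  have hflat : Flat (Spec.map (CommRingCat.ofHom j.toRingHom)) := by
    refine (HasRingHomProperty.Spec_iff (P := @Flat)).2 ?_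
    show RingHom.Flat j.toRingHom
    letI := j.toRingHom.toAlgebra
    show Module.Flat K L
    infer_instance
  haveI : Flat φ := hflat
  haveI : Subsingleton ↥(Spec (CommRingCat.of K)) := inferInstanceAs (Subsingleton (PrimeSpectrum K))
  have hsurj : Surjective (Spec.map (CommRingCat.ofHom j.toRingHom)) :=
    ⟨fun y => ⟨(default : PrimeSpectrum L), Subsingleton.elim _ _⟩⟩
  haveI : Surjective φ := hsurj
  let T' : Over (Spec (CommRingCat.of R)) := Over.mk (pullback.fst h.left φ ≫ T.hom)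
  let π : T' ⟶ T := Over.homMk (pullback.fst h.left φ) rfl
  have e1 : φ ≫ (CoactBr.sp R K).hom = (CoactBr.sp R L).hom := Over.w (CoactBr.pt j)
  have e2 : h.left ≫ (CoactBr.sp R K).hom = T.hom := Over.w h
  have e3 : pullback.fst h.left φ ≫ h.left = pullback.snd h.left φ ≫ φ := pullback.condition
  let h' : T' ⟶ CoactBr.sp R L := Over.homMk (pullback.snd h.left φ) (by
    show pullback.snd h.left φ ≫ (CoactBr.sp R L).hom = pullback.fst h.left φ ≫ T.hom
    calc pullback.snd h.left φ ≫ (CoactBr.sp R L).hom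
        = pullback.snd h.left φ ≫ (φ ≫ (CoactBr.sp R K).hom) := by rw [e1]
      _ = (pullback.snd h.left φ ≫ φ) ≫ (CoactBr.sp R K).hom := (Category.assoc _ _ _).symm
      _ = (pullback.fst h.left φ ≫ h.left) ≫ (CoactBr.sp R K).hom := by rw [e3]
      _ = pullback.fst h.left φ ≫ T.hom := by rw [Category.assoc, e2])
  have hsq : π ≫ h = h' ≫ CoactBr.pt j := by
    apply Over.OverMorphism.ext
    exact e3
  have hg' : lift (π ≫ g) (h' ≫ CoactBr.pt (j.comp x)) ≫ (CoactBr.action R A B).act =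
      h' ≫ CoactBr.pt (j.comp x) := by
    rw [CoactBr.pt_comp, ← Category.assoc, ← hsq, Category.assoc, ← comp_lift, Category.assoc, hg]
  have h1 := hx T' h' (π ≫ g) hg'
  haveI : Flat π.left := by
    show Flat (pullback.fst h.left φ)
    infer_instance
  haveI : Surjective π.left := by
    show Surjective (pullback.fst h.left φ)
    infer_instance
  haveI : Epi π.left := Flat.epi_of_flat_of_surjective _
  have h2 : π ≫ g = π ≫ 1 := by rw [h1, MonObj.comp_one]
  apply Over.OverMorphism.ext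
  exact (cancel_epi π.left).1 (congrArg CommaMorphism.left h2)

theorem triv_conj [Module.Finite R A] [Module.Projective R A] {L : Type u} [Field L]
    [IsAlgClosed L] [Algebra R L]
    (hC : Function.Bijective (algebraMap R (GLin.invariants R A B))) (y₁ y₂ : B →ₐ[R] L)
    (h₁ : Triv R A B y₁) : Triv R A B y₂ := by
  obtain ⟨γ₀, hγ₀⟩ := Groth.Agent.Lib.Helper76.HopfPS.exists_move R A B hC y₁ y₂
  intro T h g hg
  have hpt : lift (CoactBr.pt y₁) (CoactBr.pt γ₀) ≫ CoactBr.ract R A B = CoactBr.pt y₂ := by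
    rw [CoactBr.lift_pt_ract, ← hγ₀]
  have hy : h ≫ CoactBr.pt y₂ =
      lift (h ≫ CoactBr.pt y₁) (h ≫ CoactBr.pt γ₀) ≫ CoactBr.ract R A B := by
    rw [← hpt, ← Category.assoc, comp_lift]
  rw [hy, CoactBr.lift_action_act, CoactBr.lift_ract_ract] at hg
  have h3 := congrArg (fun y => lift y (h ≫ CoactBr.pt γ₀)⁻¹ ≫ CoactBr.ract R A B) hg
  simp only [CoactBr.lift_ract_ract, mul_inv_cancel, CoactBr.lift_one_ract] at h3
  have e : ((h ≫ CoactBr.pt γ₀) * g * (h ≫ CoactBr.pt γ₀)⁻¹)⁻¹ =
      (h ≫ CoactBr.pt γ₀) * g⁻¹ * (h ≫ CoactBr.pt γ₀)⁻¹ := by group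
  have hk := h₁ T h ((h ≫ CoactBr.pt γ₀) * g * (h ≫ CoactBr.pt γ₀)⁻¹) (by
    rw [CoactBr.lift_action_act, e]
    exact h3)
  calc g = (h ≫ CoactBr.pt γ₀)⁻¹ * ((h ≫ CoactBr.pt γ₀) * g * (h ≫ CoactBr.pt γ₀)⁻¹) *
        (h ≫ CoactBr.pt γ₀) := by group
    _ = 1 := by rw [hk]; group

/-- Triviality of inertia only depends on the image of the point in the quotient. -/
theorem triv_transfer [Module.Finite R A] [Module.Projective R A] {K₁ K₂ : Type u} [Field K₁]
    [Field K₂] [Algebra R K₁] [Algebra R K₂]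
    (hC : Function.Bijective (algebraMap R (GLin.invariants R A B)))
    (hq : RingHom.ker (algebraMap R K₁) = RingHom.ker (algebraMap R K₂))
    (x₁ : B →ₐ[R] K₁) (x₂ : B →ₐ[R] K₂) (h₁ : Triv R A B x₁) : Triv R A B x₂ := by
  obtain ⟨L, _, _, φ₁, φ₂, hφ⟩ := exists_compositum R K₁ K₂ hq
  letI : Algebra R L := (φ₁.comp (algebraMap R K₁)).toAlgebra
  let j₁ : K₁ →ₐ[R] L := { φ₁ with commutes' := fun r => rfl }
  let j₂ : K₂ →ₐ[R] L := { φ₂ with commutes' := fun r => (RingHom.congr_fun hφ r).symm }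
  exact triv_down x₂ j₂ (triv_conj hC (j₁.comp x₁) (j₂.comp x₂) (triv_up x₁ j₁ h₁))

end Inertia

end Groth.Agent.Lib.Helper76.HopfInertia
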