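import Groth.Agent.S1879
import Mathlib

/-!
Points of the quotient of an affine groupoid with finite locally free source and target
(algebra behind S1878): extension of geometric points along integral extensions, invariance of the
generic characteristic polynomial, and lifting of pairs of geometric points to the arrows.
-/

set_option autoImplicit false
universe u
open CategoryTheory CategoryTheory.Limits TensorProduct

namespace Groth.Agent.Lib.Helper76.QuotPts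

/-- Extension of a geometric point along an integral extension, with prescribed kernel. -/
theorem ext_point {C A k : Type u} [CommRing C] [CommRing A] [Algebra C A] [Algebra.IsIntegral C A]
    [Field k] [IsAlgClosed k] (p : Ideal A) [p.IsPrime] (φ : C →+* k)
    (hφ : RingHom.ker φ = p.comap (algebraMap C A)) :
    ∃ φ₁ : A →+* k, φ₁.comp (algebraMap C A) = φ ∧ RingHom.ker φ₁ = p := by
  haveI : (p.comap (algebraMap C A)).IsPrime := inferInstance
  let g : C ⧸ p.comap (algebraMap C A) →+* k :=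
    Ideal.Quotient.lift _ φ (fun a ha => by rw [← RingHom.mem_ker, hφ]; exact ha)
  have hg : Function.Injective g := by
    rw [injective_iff_map_eq_zero]
    intro x hx
    obtain ⟨c, rfl⟩ := Ideal.Quotient.mk_surjective x
    have h1 : φ c = 0 := hx
    rw [← RingHom.mem_ker, hφ] at h1
    exact Ideal.Quotient.eq_zero_iff_mem.2 h1
  letI : Algebra (C ⧸ p.comap (algebraMap C A)) k := g.toAlgebra
  haveI : Module.IsTorsionFree (C ⧸ p.comap (algebraMap C A)) k :=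
    Module.isTorsionFree_iff_algebraMap_injective.2 hg
  haveI : Module.IsTorsionFree (C ⧸ p.comap (algebraMap C A)) (A ⧸ p) :=
    Module.isTorsionFree_iff_algebraMap_injective.2 Ideal.algebraMap_quotient_injective
  haveI : Algebra.IsAlgebraic (C ⧸ p.comap (algebraMap C A)) (A ⧸ p) :=
    Algebra.IsIntegral.isAlgebraic
  let f : (A ⧸ p) →ₐ[C ⧸ p.comap (algebraMap C A)] k := IsAlgClosed.lift
  have hf : Function.Injective f := by
    have hker : RingHom.ker f.toRingHom = ⊥ := by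
      apply Ideal.eq_bot_of_comap_eq_bot (R := C ⧸ p.comap (algebraMap C A))
      rw [eq_bot_iff]
      intro x hx
      rw [Ideal.mem_comap, RingHom.mem_ker] at hx
      have h1 : g x = 0 := by
        rw [← hx]; exact (f.commutes x).symm
      exact (Ideal.mem_bot).2 (hg (by rw [map_zero]; exact h1))
    exact (RingHom.injective_iff_ker_eq_bot f.toRingHom).2 hker
  refine ⟨f.toRingHom.comp (Ideal.Quotient.mk p), ?_, ?_⟩
  · ext c
    show f (Ideal.Quotient.mk p (algebraMap C A c)) = φ c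
    have h1 : Ideal.Quotient.mk p (algebraMap C A c) =
        algebraMap (C ⧸ p.comap (algebraMap C A)) (A ⧸ p) (Ideal.Quotient.mk _ c) := rfl
    rw [h1, f.commutes]
    rfl
  · ext a
    rw [RingHom.mem_ker, RingHom.comp_apply]
    constructor
    · intro h
      have h1 : Ideal.Quotient.mk p a = 0 := hf (by rw [map_zero]; exact h)
      exact Ideal.Quotient.eq_zero_iff_mem.1 h1
    · intro h
      rw [Ideal.Quotient.eq_zero_iff_mem.2 h, map_zero]

/-- The algebraic data of an affine groupoid (no assumption on `j`). -/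
structure PS (A B P : Type u) [CommRing A] [CommRing B] [CommRing P] [Algebra A B] where
  τ : A →+* B
  ε : B →+* A
  p1 : B →+* P
  p0 : B →+* P
  c : B →+* P
  hεσ : ∀ a, ε (algebraMap A B a) = a
  hετ : ∀ a, ε (τ a) = a
  sqA : IsPushout (CommRingCat.ofHom τ) (CommRingCat.ofHom (algebraMap A B))
      (CommRingCat.ofHom p1) (CommRingCat.ofHom p0)
  sqB : IsPushout (CommRingCat.ofHom (algebraMap A B)) (CommRingCat.ofHom (algebraMap A B))
      (CommRingCat.ofHom p1) (CommRingCat.ofHom c)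
  hct : ∀ a, c (τ a) = p0 (τ a)

variable {A B P : Type u} [CommRing A] [CommRing B] [CommRing P] [Algebra A B]

/-- The matrix of multiplication by `y` through a presentation. -/
noncomputable def Nmat {n : ℕ} (π : (Fin n → A) →ₗ[A] B) (l : B →ₗ[A] (Fin n → A)) (y : B) :
    Matrix (Fin n) (Fin n) A := LinearMap.toMatrix' (l ∘ₗ LinearMap.mulLeft A y ∘ₗ π)

theorem Nmat_apply {n : ℕ} (π : (Fin n → A) →ₗ[A] B) (l : B →ₗ[A] (Fin n → A)) (y : B)
    (i j : Fin n) : Nmat π l y i j = l (y * π (Pi.single j 1)) i := by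
  unfold Nmat
  rw [LinearMap.toMatrix'_apply]
  rfl

theorem fac (𝔖 : PS A B P) {n : ℕ} (π : (Fin n → A) →ₗ[A] B) (l : B →ₗ[A] (Fin n → A))
    (hπl : π ∘ₗ l = LinearMap.id) :
    ∃ Y : Matrix (Fin n) (Fin n) B, ∀ y : B, 𝔖.c y = 𝔖.p0 y →
      ∃ X : Matrix (Fin n) (Fin n) B, (Nmat π l y).map 𝔖.τ = X * Y ∧
        (Nmat π l y).map (algebraMap A B) = Y * X := by
  letI : Algebra B P := 𝔖.p1.toAlgebra
  obtain ⟨π1, Λ1, h1, hM1⟩ :=
    Groth.Agent.S1879.bc_presentation (A' := B) 𝔖.τ 𝔖.p0 𝔖.sqA π l hπl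
  obtain ⟨π2, Λ2, h2, hM2⟩ :=
    Groth.Agent.S1879.bc_presentation (A' := B) (algebraMap A B) 𝔖.c 𝔖.sqB π l hπl
  refine ⟨LinearMap.toMatrix' (Λ2 ∘ₗ π1), fun y hy =>
    ⟨LinearMap.toMatrix' (Λ1 ∘ₗ LinearMap.mulLeft B (𝔖.p0 y) ∘ₗ π2), ?_, ?_⟩⟩
  · unfold Nmat
    rw [← hM1 y, ← LinearMap.toMatrix'_comp]
    congr 1
    refine LinearMap.ext fun v => ?_
    simp only [LinearMap.comp_apply]
    rw [show π2 (Λ2 (π1 v)) = π1 v from LinearMap.congr_fun h2 (π1 v)]
  · unfold Nmat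
    rw [← hM2 y, hy, ← LinearMap.toMatrix'_comp]
    congr 1
    refine LinearMap.ext fun v => ?_
    simp only [LinearMap.comp_apply]
    rw [show π1 (Λ1 ((LinearMap.mulLeft B (𝔖.p0 y)) (π2 v))) =
      (LinearMap.mulLeft B (𝔖.p0 y)) (π2 v) from LinearMap.congr_fun h1 _]

theorem eps_sum (𝔖 : PS A B P) {n : ℕ} (π : (Fin n → A) →ₗ[A] B) (l : B →ₗ[A] (Fin n → A))
    (hπl : π ∘ₗ l = LinearMap.id) (x : B) :
    ∑ i, 𝔖.ε (π (Pi.single i 1)) * l x i = 𝔖.ε x := by
  have hx : x = ∑ i, (l x i) • π (Pi.single i 1) := by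
    rw [← Groth.Agent.S1879.pi_decomp π (l x)]
    exact (LinearMap.congr_fun hπl x).symm
  conv_rhs => rw [hx]
  rw [map_sum]
  refine Finset.sum_congr rfl fun i _ => ?_
  rw [Algebra.smul_def, map_mul, 𝔖.hεσ, mul_comm]

theorem eigen (𝔖 : PS A B P) {n : ℕ} (π : (Fin n → A) →ₗ[A] B) (l : B →ₗ[A] (Fin n → A))
    (hπl : π ∘ₗ l = LinearMap.id) (a : A) (j : Fin n) :
    ∑ i, 𝔖.ε (π (Pi.single i 1)) * Nmat π l (𝔖.τ a) i j = a * 𝔖.ε (π (Pi.single j 1)) := by
  simp only [Nmat_apply]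
  rw [eps_sum 𝔖 π l hπl, map_mul, 𝔖.hετ]

theorem charpoly_spec (𝔖 : PS A B P) {n : ℕ} (π : (Fin n → A) →ₗ[A] B)
    (l : B →ₗ[A] (Fin n → A)) (hπl : π ∘ₗ l = LinearMap.id) {k : Type u} [Field k]
    (φ₀ φ₁ : A →+* k) (hφ : ∀ a, algebraMap A B a = 𝔖.τ a → φ₀ a = φ₁ a)
    (s : Finset A) (lam : A → k) :
    (Matrix.of fun i j => ∑ a ∈ s, lam a * φ₀ (Nmat π l (𝔖.τ a) i j)).charpoly =
      (Matrix.of fun i j => ∑ a ∈ s, lam a * φ₁ (Nmat π l (𝔖.τ a) i j)).charpoly := by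
  classical
  obtain ⟨Y, hY⟩ := fac 𝔖 π l hπl
  choose Xf hXf1 hXf2 using fun a => hY (𝔖.τ a) (𝔖.hct a)
  obtain ⟨𝒩, h𝒩⟩ : ∃ 𝒩 : Matrix (Fin n) (Fin n) (MvPolynomial A A), 𝒩 =
    Matrix.of fun i j => ∑ a ∈ s, MvPolynomial.X a * MvPolynomial.C (Nmat π l (𝔖.τ a) i j) :=
    ⟨_, rfl⟩
  obtain ⟨𝒳, h𝒳⟩ : ∃ 𝒳 : Matrix (Fin n) (Fin n) (MvPolynomial A B), 𝒳 =
    Matrix.of fun i j => ∑ a ∈ s, MvPolynomial.X a * MvPolynomial.C (Xf a i j) := ⟨_, rfl⟩
  have hτ : 𝒩.map (MvPolynomial.map 𝔖.τ) = 𝒳 * Y.map MvPolynomial.C := by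
    refine Matrix.ext fun i j => ?_
    have h1 : ∀ a, 𝔖.τ (Nmat π l (𝔖.τ a) i j) = ∑ x, Xf a i x * Y x j := by
      intro a
      have h2 := congrFun (congrFun (hXf1 a) i) j
      rw [Matrix.map_apply, Matrix.mul_apply] at h2
      exact h2
    rw [h𝒩, h𝒳]
    simp only [Matrix.map_apply, Matrix.of_apply, Matrix.mul_apply, map_sum, map_mul,
      MvPolynomial.map_X, MvPolynomial.map_C, h1, Finset.mul_sum, Finset.sum_mul]
    rw [Finset.sum_comm]
    refine Finset.sum_congr rfl fun x _ => Finset.sum_congr rfl fun a _ => ?_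
    ring
  have hσ : 𝒩.map (MvPolynomial.map (algebraMap A B)) = Y.map MvPolynomial.C * 𝒳 := by
    refine Matrix.ext fun i j => ?_
    have h1 : ∀ a, algebraMap A B (Nmat π l (𝔖.τ a) i j) = ∑ x, Y i x * Xf a x j := by
      intro a
      have h2 := congrFun (congrFun (hXf2 a) i) j
      rw [Matrix.map_apply, Matrix.mul_apply] at h2
      exact h2
    rw [h𝒩, h𝒳]
    simp only [Matrix.map_apply, Matrix.of_apply, Matrix.mul_apply, map_sum, map_mul,
      MvPolynomial.map_X, MvPolynomial.map_C, h1, Finset.mul_sum, Finset.sum_mul]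
    rw [Finset.sum_comm]
    refine Finset.sum_congr rfl fun x _ => Finset.sum_congr rfl fun a _ => ?_
    ring
  have hχ : 𝒩.charpoly.map (MvPolynomial.map 𝔖.τ) =
      𝒩.charpoly.map (MvPolynomial.map (algebraMap A B)) := by
    rw [← Matrix.charpoly_map, ← Matrix.charpoly_map, hτ, hσ, Matrix.charpoly_mul_comm]
  have hev : ∀ q : MvPolynomial A A,
      MvPolynomial.map 𝔖.τ q = MvPolynomial.map (algebraMap A B) q →
      MvPolynomial.eval₂Hom φ₀ lam q = MvPolynomial.eval₂Hom φ₁ lam q := by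
    intro q hq
    simp only [MvPolynomial.coe_eval₂Hom]
    rw [MvPolynomial.eval₂_eq, MvPolynomial.eval₂_eq]
    refine Finset.sum_congr rfl fun d _ => ?_
    have h1 := congrArg (MvPolynomial.coeff d) hq
    rw [MvPolynomial.coeff_map, MvPolynomial.coeff_map] at h1
    rw [hφ _ h1.symm]
  have hmap : 𝒩.charpoly.map (MvPolynomial.eval₂Hom φ₀ lam) =
      𝒩.charpoly.map (MvPolynomial.eval₂Hom φ₁ lam) := by
    ext m
    rw [Polynomial.coeff_map, Polynomial.coeff_map]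
    apply hev
    have h1 := congrArg (fun p => p.coeff m) hχ
    simpa only [Polynomial.coeff_map] using h1
  have hN : ∀ φ : A →+* k, 𝒩.map (MvPolynomial.eval₂Hom φ lam) =
      Matrix.of fun i j => ∑ a ∈ s, lam a * φ (Nmat π l (𝔖.τ a) i j) := by
    intro φ
    ext i j
    rw [h𝒩]
    simp only [Matrix.map_apply, Matrix.of_apply, map_sum, map_mul, MvPolynomial.eval₂Hom_X',
      MvPolynomial.eval₂Hom_C]
  rw [← hN φ₀, ← hN φ₁, Matrix.charpoly_map, Matrix.charpoly_map, hmap]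

theorem charpoly_root (𝔖 : PS A B P) {n : ℕ} (π : (Fin n → A) →ₗ[A] B)
    (l : B →ₗ[A] (Fin n → A)) (hπl : π ∘ₗ l = LinearMap.id) {k : Type u} [Field k]
    (φ : A →+* k) (s : Finset A) (lam : A → k) :
    (Matrix.of fun i j => ∑ a ∈ s, lam a * φ (Nmat π l (𝔖.τ a) i j)).charpoly.eval
      (∑ a ∈ s, lam a * φ a) = 0 := by
  classical
  rw [Matrix.eval_charpoly]
  apply Matrix.exists_vecMul_eq_zero_iff.1
  refine ⟨fun i => φ (𝔖.ε (π (Pi.single i 1))), ?_, ?_⟩
  · intro h0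
    have h1 : ∑ i, 𝔖.ε (π (Pi.single i 1)) * l (1 : B) i = 1 :=
      (eps_sum 𝔖 π l hπl 1).trans (map_one 𝔖.ε)
    have h2 : ∑ i, φ (𝔖.ε (π (Pi.single i 1))) * φ (l (1 : B) i) = 1 := by
      calc ∑ i, φ (𝔖.ε (π (Pi.single i 1))) * φ (l (1 : B) i)
          = φ (∑ i, 𝔖.ε (π (Pi.single i 1)) * l (1 : B) i) := by
            rw [map_sum]; simp only [map_mul]
        _ = φ 1 := by rw [h1]
        _ = 1 := map_one φ
    have h3 : ∀ i, φ (𝔖.ε (π (Pi.single i 1))) = 0 := fun i => congrFun h0 i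
    simp only [h3, zero_mul, Finset.sum_const_zero] at h2
    exact zero_ne_one h2
  · ext j
    have hE : ∀ a, ∑ i, φ (𝔖.ε (π (Pi.single i 1))) * φ (Nmat π l (𝔖.τ a) i j) =
        φ a * φ (𝔖.ε (π (Pi.single j 1))) := by
      intro a
      have h1 := congrArg φ (eigen 𝔖 π l hπl a j)
      rw [map_sum, map_mul] at h1
      simpa only [map_mul] using h1
    simp only [Matrix.vecMul, dotProduct, Matrix.sub_apply, Matrix.scalar_apply,
      Matrix.diagonal_apply, Matrix.of_apply, Pi.zero_apply, mul_sub, Finset.sum_sub_distrib,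
      mul_ite, mul_zero, Finset.sum_ite_eq', Finset.mem_univ, if_true]
    rw [sub_eq_zero]
    simp only [Finset.mul_sum]
    rw [Finset.sum_comm]
    refine Finset.sum_congr rfl fun a _ => ?_
    have h4 : ∀ i, φ (𝔖.ε (π (Pi.single i 1))) * (lam a * φ (Nmat π l (𝔖.τ a) i j)) =
        lam a * (φ (𝔖.ε (π (Pi.single i 1))) * φ (Nmat π l (𝔖.τ a) i j)) := fun i => by ring
    simp only [h4]
    rw [← Finset.mul_sum, hE]
    ring

theorem key_lemma (𝔖 : PS A B P) {n : ℕ} (π : (Fin n → A) →ₗ[A] B)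
    (l : B →ₗ[A] (Fin n → A)) (hπl : π ∘ₗ l = LinearMap.id) {k : Type u} [Field k]
    [Algebra A k] (φ₀ : A →+* k)
    (hφ : ∀ a, algebraMap A B a = 𝔖.τ a → φ₀ a = algebraMap A k a)
    (s : Finset A) (lam : A → k)
    (h0 : ∑ a ∈ s, lam a • ((1 : k) ⊗ₜ[A] 𝔖.τ a) = 0) : ∑ a ∈ s, lam a * φ₀ a = 0 := by
  classical
  have hχ := charpoly_spec 𝔖 π l hπl φ₀ (algebraMap A k) hφ s lam
  have hroot := charpoly_root 𝔖 π l hπl φ₀ s lam
  rw [hχ] at hroot
  have hzero : (Matrix.of fun i j => ∑ a ∈ s, lam a * algebraMap A k (Nmat π l (𝔖.τ a) i j)) =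
      (0 : Matrix (Fin n) (Fin n) k) := by
    ext i j
    rw [Matrix.of_apply, Matrix.zero_apply]
    let li : B →ₗ[A] A := LinearMap.proj i ∘ₗ l
    let Λi : k ⊗[A] B →ₗ[k] k :=
      (TensorProduct.AlgebraTensorModule.rid A k k).toLinearMap ∘ₗ (li.baseChange k)
    have hΛ : ∀ (x : k) (b : B), Λi (x ⊗ₜ b) = algebraMap A k (l b i) * x := by
      intro x b
      show (TensorProduct.AlgebraTensorModule.rid A k k) ((li.baseChange k) (x ⊗ₜ b)) = _
      rw [LinearMap.baseChange_tmul, TensorProduct.AlgebraTensorModule.rid_tmul, Algebra.smul_def]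
      rfl
    have h1 : Λi ((∑ a ∈ s, lam a • ((1 : k) ⊗ₜ[A] 𝔖.τ a)) *
        ((1 : k) ⊗ₜ[A] π (Pi.single j 1))) =
        ∑ a ∈ s, lam a * algebraMap A k (Nmat π l (𝔖.τ a) i j) := by
      rw [Finset.sum_mul, map_sum]
      refine Finset.sum_congr rfl fun a _ => ?_
      rw [smul_mul_assoc, map_smul, Algebra.TensorProduct.tmul_mul_tmul, hΛ, Nmat_apply,
        smul_eq_mul, mul_one, mul_one]
    rw [← h1, h0, zero_mul, map_zero]
  rw [hzero, Matrix.charpoly_zero, Polynomial.eval_pow, Polynomial.eval_X] at hroot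
  exact eq_zero_of_pow_eq_zero hroot


theorem lift_point (𝔖 : PS A B P) [Module.Finite A B] [Module.Projective A B] {k : Type u}
    [Field k] [IsAlgClosed k] (φ₀ φ₁ : A →+* k)
    (hφ : ∀ a, algebraMap A B a = 𝔖.τ a → φ₀ a = φ₁ a) :
    ∃ ψ : B →+* k, ψ.comp 𝔖.τ = φ₀ ∧ ψ.comp (algebraMap A B) = φ₁ := by
  classical
  obtain ⟨n, π, l, -, -, hπl⟩ := Module.Finite.exists_comp_eq_id_of_projective A B
  letI : Algebra A k := φ₁.toAlgebra
  let m0 : A →* k ⊗[A] B :=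
    { toFun := fun a => (1 : k) ⊗ₜ[A] 𝔖.τ a
      map_one' := by rw [map_one]; rfl
      map_mul' := fun a b => by rw [map_mul, Algebra.TensorProduct.tmul_mul_tmul, mul_one] }
  let F : MonoidAlgebra k A →ₐ[k] (k ⊗[A] B) := MonoidAlgebra.lift k (k ⊗[A] B) A m0
  let Gm : MonoidAlgebra k A →ₐ[k] k := MonoidAlgebra.lift k k A (φ₀ : A →* k)
  have hker : ∀ x : MonoidAlgebra k A, F x = 0 → Gm x = 0 := by
    intro x hx
    have hx' : ∑ a ∈ x.coeff.support, x.coeff a • ((1 : k) ⊗ₜ[A] 𝔖.τ a) = 0 := by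
      rw [← hx, MonoidAlgebra.lift_apply]
      rfl
    have h1 := key_lemma 𝔖 π l hπl φ₀ hφ x.coeff.support x.coeff hx'
    rw [MonoidAlgebra.lift_apply]
    exact h1
  letI : Algebra (MonoidAlgebra k A) (k ⊗[A] B) := F.toRingHom.toAlgebra
  haveI : IsScalarTower k (MonoidAlgebra k A) (k ⊗[A] B) :=
    IsScalarTower.of_algebraMap_eq (fun x => (F.commutes x).symm)
  haveI : Module.Finite k (k ⊗[A] B) := inferInstance
  haveI : Algebra.IsIntegral k (k ⊗[A] B) := inferInstance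
  haveI : Algebra.IsIntegral (MonoidAlgebra k A) (k ⊗[A] B) :=
    Algebra.IsIntegral.tower_top (R := k)
  haveI : (RingHom.ker Gm.toRingHom).IsPrime := RingHom.ker_isPrime _
  obtain ⟨Q, -, hQ2, hQ3⟩ := Ideal.exists_ideal_over_prime_of_isIntegral
    (RingHom.ker Gm.toRingHom) (⊥ : Ideal (k ⊗[A] B)) (by
      intro x hx
      rw [Ideal.mem_comap, Ideal.mem_bot] at hx
      exact (RingHom.mem_ker).2 (hker x hx))
  haveI := hQ2
  have hbij : Function.Bijective (algebraMap k ((k ⊗[A] B) ⧸ Q)) :=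
    IsAlgClosed.algebraMap_bijective_of_isIntegral
  let e : k ≃+* ((k ⊗[A] B) ⧸ Q) := RingEquiv.ofBijective (algebraMap k ((k ⊗[A] B) ⧸ Q)) hbij
  let ψ₁ : (k ⊗[A] B) →+* k := e.symm.toRingHom.comp (Ideal.Quotient.mk Q)
  have hψ₁ : ∀ (z : k ⊗[A] B) (c : k), z - algebraMap k (k ⊗[A] B) c ∈ Q → ψ₁ z = c := by
    intro z c hz
    show e.symm (Ideal.Quotient.mk Q z) = c
    rw [RingEquiv.symm_apply_eq]
    show Ideal.Quotient.mk Q z = algebraMap k ((k ⊗[A] B) ⧸ Q) c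
    rw [IsScalarTower.algebraMap_apply k (k ⊗[A] B) ((k ⊗[A] B) ⧸ Q)]
    exact (Ideal.Quotient.mk_eq_mk_iff_sub_mem _ _).2 hz
  refine ⟨ψ₁.comp (Algebra.TensorProduct.includeRight : B →ₐ[A] k ⊗[A] B).toRingHom, ?_, ?_⟩
  · ext a
    show ψ₁ ((1 : k) ⊗ₜ[A] 𝔖.τ a) = φ₀ a
    apply hψ₁
    have hmem : MonoidAlgebra.of k A a - algebraMap k (MonoidAlgebra k A) (φ₀ a) ∈
        RingHom.ker Gm.toRingHom := by
      rw [RingHom.mem_ker, map_sub]
      show Gm (MonoidAlgebra.of k A a) - Gm (algebraMap k (MonoidAlgebra k A) (φ₀ a)) = 0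
      rw [MonoidAlgebra.lift_of, AlgHom.commutes]
      exact sub_self _
    rw [← hQ3, Ideal.mem_comap, map_sub] at hmem
    have h1 : algebraMap (MonoidAlgebra k A) (k ⊗[A] B) (MonoidAlgebra.of k A a) =
        (1 : k) ⊗ₜ[A] 𝔖.τ a := MonoidAlgebra.lift_of _ _
    have h2 : algebraMap (MonoidAlgebra k A) (k ⊗[A] B)
        (algebraMap k (MonoidAlgebra k A) (φ₀ a)) = algebraMap k (k ⊗[A] B) (φ₀ a) :=
      (IsScalarTower.algebraMap_apply k (MonoidAlgebra k A) (k ⊗[A] B) _).symm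
    rw [h1, h2] at hmem
    exact hmem
  · ext a
    show ψ₁ ((1 : k) ⊗ₜ[A] algebraMap A B a) = φ₁ a
    apply hψ₁
    have h1 : (1 : k) ⊗ₜ[A] algebraMap A B a = algebraMap k (k ⊗[A] B) (φ₁ a) := by
      rw [Algebra.TensorProduct.algebraMap_apply, Algebra.algebraMap_eq_smul_one a,
        ← TensorProduct.smul_tmul, Algebra.smul_def, mul_one]
      rfl
    rw [h1, sub_self]
    exact Q.zero_mem

/-- (1b), algebraically: two primes of `A` with the same contraction to the invariants are the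
target and the source of a prime of `B`. -/
theorem pts (𝔖 : PS A B P) [Module.Finite A B] [Module.Projective A B]
    [Algebra.IsIntegral (RingHom.eqLocus (algebraMap A B) 𝔖.τ) A]
    (p₀ p₁ : Ideal A) [p₀.IsPrime] [p₁.IsPrime]
    (h : p₀.comap (RingHom.eqLocus (algebraMap A B) 𝔖.τ).subtype =
      p₁.comap (RingHom.eqLocus (algebraMap A B) 𝔖.τ).subtype) :
    ∃ 𝔯 : Ideal B, 𝔯.IsPrime ∧ 𝔯.comap 𝔖.τ = p₀ ∧ 𝔯.comap (algebraMap A B) = p₁ := by
  let k := AlgebraicClosure (FractionRing (A ⧸ p₀))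
  let φ₀ : A →+* k := (algebraMap (FractionRing (A ⧸ p₀)) k).comp
    ((algebraMap (A ⧸ p₀) (FractionRing (A ⧸ p₀))).comp (Ideal.Quotient.mk p₀))
  have hφ₀ : RingHom.ker φ₀ = p₀ := by
    ext a
    rw [RingHom.mem_ker]
    show algebraMap (FractionRing (A ⧸ p₀)) k
      (algebraMap (A ⧸ p₀) (FractionRing (A ⧸ p₀)) (Ideal.Quotient.mk p₀ a)) = 0 ↔ _
    rw [map_eq_zero, IsFractionRing.to_map_eq_zero_iff, Ideal.Quotient.eq_zero_iff_mem]
  have hker : RingHom.ker (φ₀.comp (RingHom.eqLocus (algebraMap A B) 𝔖.τ).subtype) =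
      p₁.comap (algebraMap (RingHom.eqLocus (algebraMap A B) 𝔖.τ) A) := by
    rw [← RingHom.comap_ker, hφ₀, h]
    rfl
  obtain ⟨φ₁, hφ₁, hkφ₁⟩ := ext_point p₁ _ hker
  obtain ⟨ψ, hψ0, hψ1⟩ := lift_point 𝔖 φ₀ φ₁ (by
    intro a ha
    have h1 := RingHom.congr_fun hφ₁ ⟨a, ha⟩
    exact h1.symm)
  refine ⟨RingHom.ker ψ, RingHom.ker_isPrime ψ, ?_, ?_⟩
  · rw [RingHom.comap_ker, hψ0, hφ₀]
  · rw [RingHom.comap_ker, hψ1, hkφ₁]

/-- (2a), algebraically. -/
theorem lift_geom {C A k : Type u} [CommRing C] [CommRing A] [Algebra C A]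
    [Algebra.IsIntegral C A] (hinj : Function.Injective (algebraMap C A))
    [Field k] [IsAlgClosed k] (φ : C →+* k) :
    ∃ φ₁ : A →+* k, φ₁.comp (algebraMap C A) = φ := by
  haveI : (RingHom.ker φ).IsPrime := RingHom.ker_isPrime φ
  obtain ⟨q, -, hq2, hq3⟩ := Ideal.exists_ideal_over_prime_of_isIntegral (RingHom.ker φ)
    (⊥ : Ideal A) (by
      intro x hx
      rw [Ideal.mem_comap, Ideal.mem_bot] at hx
      have h0 : x = 0 := hinj (by rw [hx, map_zero])
      rw [h0]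
      exact Ideal.zero_mem _)
  haveI := hq2
  obtain ⟨φ₁, hφ₁, -⟩ := ext_point q φ hq3.symm
  exact ⟨φ₁, hφ₁⟩


end Groth.Agent.Lib.Helper76.QuotPts
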