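import Groth.Prelude.Def_CoactBr
import Groth.Agent.Lib.Helper76.QuotPts
import Groth.Agent.Lib.Helper16.FinHopfShear
import Mathlib

/-!
The groupoid algebra data (`QuotPts.PS`) of the action groupoid of a commutative Hopf algebra `A`
coacting on a commutative algebra `B`, and transitivity of the group of geometric points on the
geometric points of `Spec B` with the same image in the spectrum of the ring of invariants, for `A`
finite locally free (helper76).
-/

set_option autoImplicit false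
universe u
open CategoryTheory CategoryTheory.Limits TensorProduct Algebra.TensorProduct WithConv

namespace Groth.Agent.Lib.Helper76.HopfPS

open Groth.Agent.Lib.Helper16.FinHopf

section Shear

variable (k : Type u) [CommRing k] (A : Type u) [CommRing A] [HopfAlgebra k A]

/-- The shear map `x ⊗ a ↦ x a₁ ⊗ a₂`. -/
noncomputable def shΨ : A ⊗[k] A →ₐ[k] A ⊗[k] A :=
  lift includeLeft (Bialgebra.comulAlgHom k A) (fun _ _ => Commute.all _ _)

/-- Its inverse `x ⊗ a ↦ x S(a₁) ⊗ a₂`. -/
noncomputable def shΦ : A ⊗[k] A →ₐ[k] A ⊗[k] A :=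
  lift includeLeft ((ptL k A)⁻¹ * ptR k A).ofConv (fun _ _ => Commute.all _ _)

theorem shΨ_includeLeft : (shΨ k A).comp includeLeft = includeLeft := by
  unfold shΨ
  exact lift_comp_includeLeft _ _ _

theorem shΦ_includeLeft : (shΦ k A).comp includeLeft = includeLeft := by
  unfold shΦ
  exact lift_comp_includeLeft _ _ _

theorem shΨ_includeRight : (shΨ k A).comp includeRight = Bialgebra.comulAlgHom k A := by
  unfold shΨ
  exact lift_comp_includeRight' _ _ _

theorem shΦ_includeRight : (shΦ k A).comp includeRight = ((ptL k A)⁻¹ * ptR k A).ofConv := by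
  unfold shΦ
  exact lift_comp_includeRight' _ _ _

theorem ptL_inv : (ptL k A)⁻¹ = toConv (includeLeft.comp (HopfAlgebra.antipodeAlgHom k A)) := rfl

theorem shΨ_comp_shΦ_right : (shΨ k A).comp ((shΦ k A).comp includeRight) = includeRight := by
  rw [shΦ_includeRight, AlgHom.comp_convMul_distrib]
  have h2 : (shΨ k A).comp ((ptL k A)⁻¹).ofConv = ((ptL k A)⁻¹).ofConv := by
    rw [ptL_inv]
    show (shΨ k A).comp (includeLeft.comp (HopfAlgebra.antipodeAlgHom k A)) =
      includeLeft.comp (HopfAlgebra.antipodeAlgHom k A)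
    rw [← AlgHom.comp_assoc, shΨ_includeLeft]
  have h3 : (shΨ k A).comp (ptR k A).ofConv = (ptD k A).ofConv := shΨ_includeRight k A
  rw [h2, h3]
  simp only [toConv_ofConv]
  rw [ptD_eq, ← mul_assoc,
    show (ptL k A)⁻¹ * ptL k A = 1 from inv_mul_cancel (G := WithConv (A →ₐ[k] A ⊗[k] A)) _,
    one_mul]
  rfl

theorem shΦ_comp_shΨ_right : (shΦ k A).comp ((shΨ k A).comp includeRight) = includeRight := by
  rw [shΨ_includeRight]
  show (shΦ k A).comp (ptD k A).ofConv = includeRight
  rw [ptD_eq, AlgHom.comp_convMul_distrib]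
  have h2 : (shΦ k A).comp (ptL k A).ofConv = (ptL k A).ofConv := shΦ_includeLeft k A
  have h3 : (shΦ k A).comp (ptR k A).ofConv = ((ptL k A)⁻¹ * ptR k A).ofConv :=
    shΦ_includeRight k A
  rw [h2, h3]
  simp only [toConv_ofConv]
  rw [← mul_assoc,
    show ptL k A * (ptL k A)⁻¹ = 1 from mul_inv_cancel (G := WithConv (A →ₐ[k] A ⊗[k] A)) _,
    one_mul]
  rfl

theorem shΨ_comp_shΦ : (shΨ k A).comp (shΦ k A) = AlgHom.id k _ := by
  apply Algebra.TensorProduct.ext
  · rw [AlgHom.comp_assoc, shΦ_includeLeft, shΨ_includeLeft]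
    rfl
  · apply AlgHom.ext
    intro a
    exact AlgHom.congr_fun (shΨ_comp_shΦ_right k A) a

theorem shΦ_comp_shΨ : (shΦ k A).comp (shΨ k A) = AlgHom.id k _ := by
  apply Algebra.TensorProduct.ext
  · rw [AlgHom.comp_assoc, shΨ_includeLeft, shΦ_includeLeft]
    rfl
  · apply AlgHom.ext
    intro a
    exact AlgHom.congr_fun (shΦ_comp_shΨ_right k A) a

/-- The shear map as an algebra automorphism of `A ⊗ A`. -/
noncomputable def shE : (A ⊗[k] A) ≃ₐ[k] (A ⊗[k] A) :=
  AlgEquiv.ofAlgHom (shΨ k A) (shΦ k A) (shΨ_comp_shΦ k A) (shΦ_comp_shΨ k A)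

theorem shE_tmul_one (x : A) : shE k A (x ⊗ₜ 1) = x ⊗ₜ 1 :=
  AlgHom.congr_fun (shΨ_includeLeft k A) x

theorem shE_one_tmul (a : A) : shE k A (1 ⊗ₜ a) = Bialgebra.comulAlgHom k A a :=
  AlgHom.congr_fun (shΨ_includeRight k A) a

end Shear

section PSdata

variable (R A B : Type u) [CommRing R] [CommRing A] [CommRing B] [HopfAlgebra R A] [Algebra R B]
  [HopfRep.Comod R A B] [GLin.IsCoactAlg R A B]

theorem counit_law :
    (Algebra.TensorProduct.map (AlgHom.id R B) (Bialgebra.counitAlgHom R A)).comp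
      (GLin.coactAlgHom R A B) = (Algebra.TensorProduct.rid R R B).symm.toAlgHom :=
  congrArg CommAlgCat.Hom.hom (CoactBr.coactHom_counit R A B)

theorem coassoc_law :
    (Algebra.TensorProduct.map (AlgHom.id R B) (Bialgebra.comulAlgHom R A)).comp
      (GLin.coactAlgHom R A B) =
      (Algebra.TensorProduct.assoc R R R B A A).toAlgHom.comp
        ((Algebra.TensorProduct.map (GLin.coactAlgHom R A B) (AlgHom.id R A)).comp
          (GLin.coactAlgHom R A B)) :=
  congrArg CommAlgCat.Hom.hom (CoactBr.coactHom_comul R A B)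

/-- The identity section `b ⊗ a ↦ ε(a) b`. -/
noncomputable def eps : B ⊗[R] A →ₐ[R] B :=
  (Algebra.TensorProduct.rid R R B).toAlgHom.comp
    (Algebra.TensorProduct.map (AlgHom.id R B) (Bialgebra.counitAlgHom R A))

/-- `b ⊗ a ↦ ρ(b) ⊗ a`. -/
noncomputable def p0 : B ⊗[R] A →ₐ[R] (B ⊗[R] A) ⊗[R] A :=
  Algebra.TensorProduct.map (GLin.coactAlgHom R A B) (AlgHom.id R A)

/-- `b ⊗ a ↦ b ⊗ Δ(a)`. -/
noncomputable def cc : B ⊗[R] A →ₐ[R] (B ⊗[R] A) ⊗[R] A :=
  (Algebra.TensorProduct.assoc R R R B A A).symm.toAlgHom.comp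
    (Algebra.TensorProduct.map (AlgHom.id R B) (Bialgebra.comulAlgHom R A))

theorem eps_rho (b : B) : eps R A B (GLin.coactAlgHom R A B b) = b := by
  have h' : (Algebra.TensorProduct.map (AlgHom.id R B) (Bialgebra.counitAlgHom R A))
      (GLin.coactAlgHom R A B b) = (Algebra.TensorProduct.rid R R B).symm b :=
    AlgHom.congr_fun (counit_law R A B) b
  show (Algebra.TensorProduct.rid R R B) ((Algebra.TensorProduct.map (AlgHom.id R B)
    (Bialgebra.counitAlgHom R A)) (GLin.coactAlgHom R A B b)) = b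
  rw [h', AlgEquiv.apply_symm_apply]

theorem eps_tmul_one (b : B) : eps R A B (b ⊗ₜ 1) = b := by
  show (Algebra.TensorProduct.rid R R B) ((Algebra.TensorProduct.map (AlgHom.id R B)
    (Bialgebra.counitAlgHom R A)) (b ⊗ₜ 1)) = b
  rw [Algebra.TensorProduct.map_tmul, map_one, Algebra.TensorProduct.rid_tmul, one_smul]
  rfl

theorem cc_rho (b : B) :
    cc R A B (GLin.coactAlgHom R A B b) = p0 R A B (GLin.coactAlgHom R A B b) := by
  have h' : (Algebra.TensorProduct.map (AlgHom.id R B) (Bialgebra.comulAlgHom R A))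
      (GLin.coactAlgHom R A B b) =
      (Algebra.TensorProduct.assoc R R R B A A) (p0 R A B (GLin.coactAlgHom R A B b)) :=
    AlgHom.congr_fun (coassoc_law R A B) b
  show (Algebra.TensorProduct.assoc R R R B A A).symm ((Algebra.TensorProduct.map (AlgHom.id R B)
    (Bialgebra.comulAlgHom R A)) (GLin.coactAlgHom R A B b)) = _
  rw [h', AlgEquiv.symm_apply_apply]

/-- The shear automorphism of `(B ⊗ A) ⊗ A`. -/
noncomputable def thetaE : ((B ⊗[R] A) ⊗[R] A) ≃ₐ[R] ((B ⊗[R] A) ⊗[R] A) :=
  (Algebra.TensorProduct.assoc R R R B A A).trans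
    ((Algebra.TensorProduct.congr (AlgEquiv.refl : B ≃ₐ[R] B) (shE R A)).trans
      (Algebra.TensorProduct.assoc R R R B A A).symm)

theorem thetaE_left (q : B ⊗[R] A) : thetaE R A B (q ⊗ₜ 1) = q ⊗ₜ 1 := by
  induction q using TensorProduct.induction_on with
  | zero => simp
  | tmul b a => simp [thetaE, shE_tmul_one]
  | add x y hx hy => rw [TensorProduct.add_tmul, map_add, hx, hy]

theorem thetaE_right (a : A) : thetaE R A B (1 ⊗ₜ a) = cc R A B (1 ⊗ₜ a) := by
  rw [Algebra.TensorProduct.one_def]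
  simp [thetaE, cc, shE_one_tmul]

theorem sqA_aux : IsPushout (CommRingCat.ofHom (GLin.coactAlgHom R A B).toRingHom)
    (CommRingCat.ofHom (algebraMap B (B ⊗[R] A)))
    (CommRingCat.ofHom
      (Algebra.TensorProduct.includeLeft : B ⊗[R] A →ₐ[R] (B ⊗[R] A) ⊗[R] A).toRingHom)
    (CommRingCat.ofHom (p0 R A B).toRingHom) := by
  have t : IsPushout (CommRingCat.ofHom (algebraMap R B)) (CommRingCat.ofHom (algebraMap R A))
      (CommRingCat.ofHom (algebraMap B (B ⊗[R] A)))
      (CommRingCat.ofHom (Algebra.TensorProduct.includeRight : A →ₐ[R] B ⊗[R] A).toRingHom) :=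
    CommRingCat.isPushout_tensorProduct R B A
  have s := CommRingCat.isPushout_tensorProduct R (B ⊗[R] A) A
  have e1 : CommRingCat.ofHom (algebraMap R B) ≫
      CommRingCat.ofHom (GLin.coactAlgHom R A B).toRingHom =
      CommRingCat.ofHom (algebraMap R (B ⊗[R] A)) := by
    ext r
    exact (GLin.coactAlgHom R A B).commutes r
  have e2 : CommRingCat.ofHom (Algebra.TensorProduct.includeRight : A →ₐ[R] B ⊗[R] A).toRingHom ≫
      CommRingCat.ofHom (p0 R A B).toRingHom =
      CommRingCat.ofHom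
        (Algebra.TensorProduct.includeRight : A →ₐ[R] (B ⊗[R] A) ⊗[R] A).toRingHom := by
    ext a
    show p0 R A B (1 ⊗ₜ a) = 1 ⊗ₜ a
    unfold p0
    rw [Algebra.TensorProduct.map_tmul, map_one]
    rfl
  have s' : IsPushout (CommRingCat.ofHom (algebraMap R B) ≫
      CommRingCat.ofHom (GLin.coactAlgHom R A B).toRingHom)
      (CommRingCat.ofHom (algebraMap R A))
      (CommRingCat.ofHom
        (Algebra.TensorProduct.includeLeft : B ⊗[R] A →ₐ[R] (B ⊗[R] A) ⊗[R] A).toRingHom)
      (CommRingCat.ofHom (Algebra.TensorProduct.includeRight : A →ₐ[R] B ⊗[R] A).toRingHom ≫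
        CommRingCat.ofHom (p0 R A B).toRingHom) := by
    rw [e1, e2]
    exact s
  refine IsPushout.of_left s' ?_ t
  ext b
  show (GLin.coactAlgHom R A B b) ⊗ₜ[R] (1 : A) = p0 R A B (algebraMap B (B ⊗[R] A) b)
  rw [Algebra.TensorProduct.algebraMap_apply]
  unfold p0
  rw [Algebra.TensorProduct.map_tmul, map_one]
  rfl

theorem sqB_aux : IsPushout (CommRingCat.ofHom (algebraMap B (B ⊗[R] A)))
    (CommRingCat.ofHom (algebraMap B (B ⊗[R] A)))
    (CommRingCat.ofHom
      (Algebra.TensorProduct.includeLeft : B ⊗[R] A →ₐ[R] (B ⊗[R] A) ⊗[R] A).toRingHom)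
    (CommRingCat.ofHom (cc R A B).toRingHom) := by
  have t : IsPushout (CommRingCat.ofHom (algebraMap R B)) (CommRingCat.ofHom (algebraMap R A))
      (CommRingCat.ofHom (algebraMap B (B ⊗[R] A)))
      (CommRingCat.ofHom (Algebra.TensorProduct.includeRight : A →ₐ[R] B ⊗[R] A).toRingHom) :=
    CommRingCat.isPushout_tensorProduct R B A
  have s := CommRingCat.isPushout_tensorProduct R (B ⊗[R] A) A
  have s' : IsPushout (CommRingCat.ofHom (algebraMap R B) ≫
      CommRingCat.ofHom (algebraMap B (B ⊗[R] A)))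
      (CommRingCat.ofHom (algebraMap R A))
      (CommRingCat.ofHom
        (Algebra.TensorProduct.includeLeft : B ⊗[R] A →ₐ[R] (B ⊗[R] A) ⊗[R] A).toRingHom)
      (CommRingCat.ofHom (Algebra.TensorProduct.includeRight : A →ₐ[R] B ⊗[R] A).toRingHom ≫
        CommRingCat.ofHom (cc R A B).toRingHom) := by
    refine IsPushout.of_iso s (Iso.refl _) (Iso.refl _) (Iso.refl _)
      (thetaE R A B).toRingEquiv.toCommRingCatIso ?_ ?_ ?_ ?_
    · simp only [Iso.refl_hom, Category.comp_id, Category.id_comp]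
      ext r
      exact IsScalarTower.algebraMap_apply R B (B ⊗[R] A) r
    · simp only [Iso.refl_hom, Category.comp_id, Category.id_comp]
    · refine CommRingCat.hom_ext (RingHom.ext fun q => ?_)
      show thetaE R A B (q ⊗ₜ 1) = q ⊗ₜ 1
      exact thetaE_left R A B q
    · ext a
      show thetaE R A B (1 ⊗ₜ a) = cc R A B (1 ⊗ₜ a)
      exact thetaE_right R A B a
  refine IsPushout.of_left s' ?_ t
  ext b
  show (algebraMap B (B ⊗[R] A) b) ⊗ₜ[R] (1 : A) = cc R A B (algebraMap B (B ⊗[R] A) b)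
  rw [Algebra.TensorProduct.algebraMap_apply]
  simp [cc, Algebra.TensorProduct.one_def]

/-- The groupoid algebra data of the action groupoid. -/
noncomputable def hopfPS : QuotPts.PS B (B ⊗[R] A) ((B ⊗[R] A) ⊗[R] A) where
  τ := (GLin.coactAlgHom R A B).toRingHom
  ε := (eps R A B).toRingHom
  p1 := (Algebra.TensorProduct.includeLeft : B ⊗[R] A →ₐ[R] (B ⊗[R] A) ⊗[R] A).toRingHom
  p0 := (p0 R A B).toRingHom
  c := (cc R A B).toRingHom
  hεσ := fun b => by
    show eps R A B (algebraMap B (B ⊗[R] A) b) = b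
    rw [Algebra.TensorProduct.algebraMap_apply]
    exact eps_tmul_one R A B b
  hετ := fun b => eps_rho R A B b
  sqA := sqA_aux R A B
  sqB := sqB_aux R A B
  hct := fun b => cc_rho R A B b

end PSdata

section Move

variable (R A B : Type u) [CommRing R] [CommRing A] [CommRing B] [HopfAlgebra R A] [Algebra R B]
  [HopfRep.Comod R A B] [GLin.IsCoactAlg R A B]

/-- Transitivity on geometric points: two `K`-points of `Spec B` (`K` algebraically closed) over the
ring of invariants `R` differ by a `K`-point of the finite locally free group `Spec A`. -/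
theorem exists_move [Module.Finite R A] [Module.Projective R A] {K : Type u} [Field K]
    [IsAlgClosed K] [Algebra R K]
    (hC : Function.Bijective (algebraMap R (GLin.invariants R A B))) (x₁ x₂ : B →ₐ[R] K) :
    ∃ γ : A →ₐ[R] K, x₂ = (Algebra.TensorProduct.lift x₁ γ fun _ _ => .all _ _).comp
      (GLin.coactAlgHom R A B) := by
  haveI : Module.Finite B (B ⊗[R] A) := inferInstance
  haveI : Module.Projective B (B ⊗[R] A) := inferInstance
  have hφ : ∀ b : B, algebraMap B (B ⊗[R] A) b = (hopfPS R A B).τ b →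
      x₂.toRingHom b = x₁.toRingHom b := by
    intro b hb
    have hb' : b ∈ GLin.invariants R A B := by
      rw [GLin.mem_invariants_iff]
      have h1 : (hopfPS R A B).τ b = HopfRep.Comod.coact (k := R) (A := A) b := rfl
      rw [← h1, ← hb, Algebra.TensorProduct.algebraMap_apply]
      rfl
    obtain ⟨r, hr⟩ := hC.2 ⟨b, hb'⟩
    have hr' : algebraMap R B r = b := congrArg Subtype.val hr
    show x₂ b = x₁ b
    rw [← hr', AlgHom.commutes, AlgHom.commutes]
  obtain ⟨ψ, h1, h2⟩ := QuotPts.lift_point (hopfPS R A B) x₂.toRingHom x₁.toRingHom hφ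
  have hψ1 : ∀ b : B, ψ (GLin.coactAlgHom R A B b) = x₂ b := fun b => RingHom.congr_fun h1 b
  have hψ2 : ∀ b : B, ψ (b ⊗ₜ 1) = x₁ b := by
    intro b
    have := RingHom.congr_fun h2 b
    rw [RingHom.comp_apply, Algebra.TensorProduct.algebraMap_apply] at this
    exact this
  let γ : A →ₐ[R] K :=
    { toRingHom := ψ.comp (Algebra.TensorProduct.includeRight : A →ₐ[R] B ⊗[R] A).toRingHom
      commutes' := by
        intro r
        show ψ ((1 : B) ⊗ₜ[R] (algebraMap R A r)) = algebraMap R K r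
        rw [Algebra.algebraMap_eq_smul_one, TensorProduct.tmul_smul, TensorProduct.smul_tmul',
          ← Algebra.algebraMap_eq_smul_one, hψ2, AlgHom.commutes] }
  have hγ : ∀ a : A, γ a = ψ (1 ⊗ₜ a) := fun a => rfl
  refine ⟨γ, ?_⟩
  have hlift : ∀ z : B ⊗[R] A,
      (Algebra.TensorProduct.lift x₁ γ fun _ _ => .all _ _) z = ψ z := by
    intro z
    induction z using TensorProduct.induction_on with
    | zero => rw [map_zero, map_zero]
    | tmul b a =>
      rw [Algebra.TensorProduct.lift_tmul, hγ, ← hψ2, ← map_mul,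
        Algebra.TensorProduct.tmul_mul_tmul, mul_one, one_mul]
    | add x y hx hy => rw [map_add, map_add, hx, hy]
  apply AlgHom.ext
  intro b
  rw [AlgHom.comp_apply, hlift, hψ1]

end Move

end Groth.Agent.Lib.Helper76.HopfPS
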