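import Groth.Agent.Lib.Helper76.LTOrd

/-!
# The Lubin–Tate lemma: abstract form

For `a_s = π X_s + X_s^q` and a contracting non-linear term `N` we study the operator
`T H = H(a) - π H - N H`.
-/

set_option autoImplicit false
universe u v

namespace Groth.Agent.Lib.Helper76.LT

open MvPowerSeries

variable {σ : Type*} {R : Type*} [CommRing R]

/-- the family `π X_s + X_s^q` -/
noncomputable def aLT (π : R) (q : ℕ) : σ → MvPowerSeries σ R := fun s => π • X s + X s ^ q

lemma aLT_eq (π : R) {q : ℕ} (hq : 1 ≤ q) (s : σ) :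
    aLT π q s = X s * (C π + X s ^ (q - 1)) := by
  have : (X s : MvPowerSeries σ R) ^ q = X s * X s ^ (q - 1) := by
    rw [← pow_succ']; congr 1; omega
  rw [aLT, this, mul_add, smul_eq_C_mul, mul_comm (C π)]

lemma constantCoeff_aLT (π : R) {q : ℕ} (hq : 1 ≤ q) (s : σ) :
    constantCoeff (aLT (σ := σ) π q s) = 0 := by
  rw [aLT_eq π hq, map_mul, constantCoeff_X, zero_mul]

lemma hasSubst_aLT [Finite σ] (π : R) {q : ℕ} (hq : 1 ≤ q) : HasSubst (aLT (σ := σ) π q) :=
  hasSubst_of_constantCoeff_zero (constantCoeff_aLT π hq)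

/-- Lemma B specialised to `a = aLT`. -/
lemma coeff_subst_aLT [Finite σ] (π : R) {q : ℕ} (hq : 2 ≤ q) {m : ℕ} {D : MvPowerSeries σ R}
    (hD : Ord m D) {e : σ →₀ ℕ} (he : e.degree ≤ m) :
    coeff e (subst (aLT π q) D) = π ^ e.degree * coeff e D := by
  have h1 : aLT (σ := σ) π q = fun s => X s * (C π + X s ^ (q - 1)) :=
    funext fun s => aLT_eq π (by omega) s
  have hs := hasSubst_aLT (σ := σ) π (by omega : 1 ≤ q)
  rw [h1] at hs ⊢
  rw [coeff_subst_X_mul _ hs hD he]
  congr 1
  have : ∀ s : σ, constantCoeff (C π + X s ^ (q - 1) : MvPowerSeries σ R) = π := by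
    intro s
    rw [map_add, constantCoeff_C, map_pow, constantCoeff_X, zero_pow (by omega), add_zero]
  simp only [this]
  rw [Finsupp.prod, Finset.prod_pow_eq_pow_sum, Finsupp.degree_apply]

/-- the operator `T H = H(a) - π H - N H` -/
noncomputable def T (π : R) (q : ℕ) (N : MvPowerSeries σ R → MvPowerSeries σ R)
    (H : MvPowerSeries σ R) : MvPowerSeries σ R :=
  subst (aLT π q) H - π • H - N H

/-- non-linear terms which are contracting for the order filtration -/
def Contracting (N : MvPowerSeries σ R → MvPowerSeries σ R) : Prop :=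
  N 0 = 0 ∧ ∀ (m : ℕ) (H Δ : MvPowerSeries σ R), 1 ≤ m → constantCoeff H = 0 → Ord m Δ →
    Ord (m + 1) (N (H + Δ) - N H)

lemma contracting_zero : Contracting (fun _ : MvPowerSeries σ R => (0 : MvPowerSeries σ R)) :=
  ⟨rfl, fun m _ _ _ _ _ => by simpa using ord_zero _⟩

lemma contracting_pow {q : ℕ} (hq : 2 ≤ q) :
    Contracting (fun H : MvPowerSeries σ R => H ^ q) :=
  ⟨zero_pow (by omega), fun _ _ _ hm hH hΔ =>
    ord_pow_sub_pow hq hH (hΔ.constantCoeff_eq_zero hm) hΔ⟩

section

variable [Finite σ] (π : R) {q : ℕ} (hq : 2 ≤ q) {N : MvPowerSeries σ R → MvPowerSeries σ R}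
  (hN : Contracting N)

include hq in
lemma T_add_sub (H Δ : MvPowerSeries σ R) :
    T π q N (H + Δ) - T π q N H = subst (aLT π q) Δ - π • Δ - (N (H + Δ) - N H) := by
  simp only [T, subst_add (hasSubst_aLT π (by omega : 1 ≤ q)), smul_add]
  abel

include hq hN in
lemma coeff_T_add {m : ℕ} (hm : 1 ≤ m) {H Δ : MvPowerSeries σ R} (hH : constantCoeff H = 0)
    (hΔ : Ord m Δ) {e : σ →₀ ℕ} (he : e.degree ≤ m) :
    coeff e (T π q N (H + Δ)) = coeff e (T π q N H) + (π ^ e.degree - π) * coeff e Δ := by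
  have h1 := congrArg (coeff e) (T_add_sub π hq (N := N) H Δ)
  have h2 : coeff e (N (H + Δ) - N H) = 0 := hN.2 m H Δ hm hH hΔ e (by omega)
  rw [map_sub, map_sub, map_sub, coeff_subst_aLT π hq hΔ he, h2] at h1
  have h3 : coeff e (π • Δ) = π * coeff e Δ := by rw [map_smul, smul_eq_mul]
  rw [h3] at h1
  linear_combination h1

include hq hN in
lemma T_zero : T π q N (0 : MvPowerSeries σ R) = 0 := by
  have h := hasSubst_aLT (σ := σ) π (by omega : 1 ≤ q)
  have : subst (aLT π q) (0 : MvPowerSeries σ R) = 0 := by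
    rw [← coe_substAlgHom h, map_zero]
  rw [T, this, hN.1, smul_zero, sub_zero, sub_zero]

include hq hN in
/-- Uniqueness part of the Lubin–Tate lemma. -/
theorem T_unique (hπ : ∀ m, 2 ≤ m → ∀ c : R, (π ^ m - π) * c = 0 → c = 0)
    {H₁ H₂ : MvPowerSeries σ R} (_h1 : constantCoeff H₁ = 0) (h2 : constantCoeff H₂ = 0)
    (hlin : Ord 2 (H₁ - H₂)) (hT : T π q N H₁ = T π q N H₂) : H₁ = H₂ := by
  have key : ∀ m, Ord (m + 2) (H₁ - H₂) := by
    intro m
    induction m with
    | zero => exact hlin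
    | succ m ih =>
      intro e he
      by_cases h : e.degree < m + 2
      · exact ih e h
      · have hdeg : e.degree = m + 2 := by omega
        have := coeff_T_add π hq hN (by omega : 1 ≤ m + 2) h2 ih (le_of_eq hdeg) (e := e)
        rw [add_sub_cancel, hT, hdeg] at this
        exact hπ (m + 2) (by omega) _ (by linear_combination -this)
  have : H₁ - H₂ = 0 := eq_zero_of_forall_ord fun m => (key m).mono (by omega)
  exact sub_eq_zero.mp this

include hq hN in
/-- Existence part of the Lubin–Tate lemma. -/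
theorem T_exists
    (hdiv : ∀ r, 1 ≤ r → ∀ H : MvPowerSeries σ R, constantCoeff H = 0 → ∀ e : σ →₀ ℕ,
      e.degree = r + 1 → ∃ c, (π - π ^ (r + 1)) * c = coeff e (T π q N H))
    (c : σ → R) :
    ∃ H : MvPowerSeries σ R, constantCoeff H = 0 ∧ (∀ s, coeff (Finsupp.single s 1) H = c s) ∧
      T π q N H = 0 := by
  classical
  haveI := Fintype.ofFinite σ
  let H₀ : MvPowerSeries σ R := ∑ s, C (c s) * X s
  have hH₀0 : constantCoeff H₀ = 0 := by
    simp only [H₀, map_sum, map_mul, constantCoeff_X, mul_zero, Finset.sum_const_zero]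
  have hH₀1 : ∀ s, coeff (Finsupp.single s 1) H₀ = c s := by
    intro s
    simp only [H₀, map_sum, coeff_C_mul, coeff_index_single_X]
    simp
  have hcont : ∀ (m : ℕ) (H Δ : MvPowerSeries σ R), constantCoeff H = 0 → 1 ≤ m → Ord m Δ →
      Ord m (T π q N (H + Δ) - T π q N H) := by
    intro m H Δ hH hm hΔ e he
    rw [map_sub, coeff_T_add π hq hN hm hH hΔ (le_of_lt he), hΔ e he]
    ring
  have hstep : ∀ (r : ℕ) (H : MvPowerSeries σ R), 1 ≤ r → constantCoeff H = 0 →
      Ord (r + 1) (T π q N H) → ∃ Δ, Ord (r + 1) Δ ∧ Ord (r + 2) (T π q N (H + Δ)) := by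
    intro r H hr hH hTH
    choose cc hcc using hdiv r hr H hH
    let Δ : MvPowerSeries σ R := fun e => if h : e.degree = r + 1 then cc e h else 0
    have hΔe : ∀ e, coeff e Δ = if h : e.degree = r + 1 then cc e h else 0 := fun e => rfl
    have hΔ : Ord (r + 1) Δ := by
      intro e he
      rw [hΔe, dif_neg (by omega)]
    refine ⟨Δ, hΔ, ?_⟩
    intro e he
    rw [coeff_T_add π hq hN (by omega : 1 ≤ r + 1) hH hΔ (by omega : e.degree ≤ r + 1)]
    by_cases h : e.degree = r + 1
    · rw [hΔe, dif_pos h, ← hcc e h, h]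
      ring
    · rw [hTH e (by omega), hΔ e (by omega)]
      ring
  have h0 : Ord 2 (T π q N H₀) := by
    intro e he
    have := coeff_T_add π hq hN (le_refl 1) (H := 0) (Δ := H₀) (map_zero _)
      (ord_one_iff.mpr hH₀0) (e := e) (by omega)
    rw [zero_add, T_zero π hq hN, map_zero, zero_add] at this
    rw [this]
    have hd : e.degree = 0 ∨ e.degree = 1 := by omega
    rcases hd with hd | hd
    · have : e = 0 := (Finsupp.degree_eq_zero_iff e).mp hd
      subst this
      rw [coeff_zero_eq_constantCoeff_apply, hH₀0, mul_zero]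
    · rw [hd, pow_one, sub_self, zero_mul]
  obtain ⟨H, hH0, hH2, hTH⟩ := exists_limit (T π q N) hcont hstep H₀ hH₀0 h0
  refine ⟨H, hH0, fun s => ?_, hTH⟩
  have := (ord_two_iff.mp hH2).2 s
  rw [map_sub, sub_eq_zero] at this
  rw [this, hH₀1]

end

end Groth.Agent.Lib.Helper76.LT
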