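import Groth.Agent.Lib.Helper76.LTCore
import Mathlib.RingTheory.MvPowerSeries.Expand
import Mathlib.FieldTheory.Finite.Basic
import Mathlib.RingTheory.DiscreteValuationRing.Basic
import Mathlib.RingTheory.LocalRing.ResidueField.Basic

/-!
# The Lubin–Tate lemma over a discrete valuation ring with finite residue field
-/

set_option autoImplicit false
universe u v

namespace Groth.Agent.Lib.Helper76.LT

open MvPowerSeries

/-- Over a finite field with `q` elements, `h(X^q) = h^q`. -/
theorem frob_subst {k : Type*} [Field k] [Finite k] {σ : Type*} (h : MvPowerSeries σ k) :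
    subst (fun s => (X s : MvPowerSeries σ k) ^ Nat.card k) h = h ^ Nat.card k := by
  classical
  have := Fintype.ofFinite k
  obtain ⟨p, hp⟩ := CharP.exists k
  obtain ⟨n, hpprime, hcard⟩ := FiniteField.card k p
  have : Fact p.Prime := ⟨hpprime⟩
  have : ExpChar k p := ExpChar.prime hpprime
  have hq : Nat.card k = p ^ (n : ℕ) := by rw [Nat.card_eq_fintype_card, hcard]
  have hfrob : iterateFrobenius k p n = RingHom.id k := by
    ext x
    rw [iterateFrobenius_def, ← hcard, FiniteField.pow_card]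
    rfl
  have := map_iterateFrobenius_expand p hpprime.ne_zero h n
  rw [hfrob, MvPowerSeries.map_id] at this
  simp only [RingHom.id_apply] at this
  rw [hq, ← this, expand, substAlgHom_apply]

section DVR

variable {O : Type*} [CommRing O] [IsDomain O] [IsDiscreteValuationRing O]
  [Finite (IsLocalRing.ResidueField O)] {π : O} {σ : Type*} [Finite σ]

/-- the cardinality of the residue field -/
noncomputable abbrev qO (O : Type*) [CommRing O] [IsLocalRing O] : ℕ :=
  Nat.card (IsLocalRing.ResidueField O)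

lemma two_le_qO : 2 ≤ qO O := by
  have : Fintype (IsLocalRing.ResidueField O) := Fintype.ofFinite _
  rw [qO, Nat.card_eq_fintype_card]
  exact Fintype.one_lt_card

lemma dvd_iff_residue (hπ : Irreducible π) (x : O) :
    π ∣ x ↔ IsLocalRing.residue O x = 0 := by
  rw [IsLocalRing.residue_eq_zero_iff, hπ.maximalIdeal_eq, Ideal.mem_span_singleton]

lemma residue_pi (hπ : Irreducible π) : IsLocalRing.residue O π = 0 :=
  (dvd_iff_residue hπ π).mp dvd_rfl

/-- All coefficients of `H(πX + X^q) - πH - H^q` are divisible by `π`. -/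
lemma dvd_coeff_T (hπ : Irreducible π) (H : MvPowerSeries σ O) (e : σ →₀ ℕ) :
    π ∣ coeff e (T π (qO O) (fun H => H ^ qO O) H) := by
  have hq := two_le_qO (O := O)
  rw [dvd_iff_residue hπ, ← coeff_map]
  have ha := hasSubst_aLT (σ := σ) π (by omega : 1 ≤ qO O)
  have hmap : ∀ s, map (IsLocalRing.residue O) (aLT π (qO O) s) =
      (X s : MvPowerSeries σ (IsLocalRing.ResidueField O)) ^ qO O := by
    intro s
    rw [aLT, smul_eq_C_mul, map_add, map_mul, map_pow, map_X, map_C, residue_pi hπ, map_zero,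
      zero_mul, zero_add]
  have : map (IsLocalRing.residue O) (T π (qO O) (fun H => H ^ qO O) H) = 0 := by
    rw [T, map_sub, map_sub, map_subst ha, smul_eq_C_mul, map_mul, map_C, residue_pi hπ, map_zero,
      zero_mul, sub_zero, map_pow]
    simp only [hmap]
    rw [frob_subst, sub_self]
  rw [this, map_zero]

lemma pow_sub_ne_zero (hπ : Irreducible π) {m : ℕ} (hm : 2 ≤ m) : π ^ m - π ≠ 0 := by
  intro h
  have h1 : π * π ^ (m - 1) = π * 1 := by
    rw [← pow_succ', mul_one]
    have : m - 1 + 1 = m := by omega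
    rw [this]
    exact sub_eq_zero.mp h
  have h2 : π ^ (m - 1) = 1 := mul_left_cancel₀ hπ.ne_zero h1
  exact hπ.not_isUnit (IsUnit.of_pow_eq_one h2 (by omega))

/-- Uniqueness in the Lubin–Tate lemma over `O`. -/
theorem O_unique (hπ : Irreducible π) {H₁ H₂ : MvPowerSeries σ O}
    (h1 : constantCoeff H₁ = 0) (h2 : constantCoeff H₂ = 0)
    (hlin : ∀ s, coeff (Finsupp.single s 1) H₁ = coeff (Finsupp.single s 1) H₂)
    (hT₁ : T π (qO O) (fun H => H ^ qO O) H₁ = 0) (hT₂ : T π (qO O) (fun H => H ^ qO O) H₂ = 0) :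
    H₁ = H₂ := by
  refine T_unique π two_le_qO (contracting_pow two_le_qO) ?_ h1 h2 ?_ (hT₁.trans hT₂.symm)
  · intro m hm c hc
    exact (mul_eq_zero.mp hc).resolve_left (pow_sub_ne_zero hπ hm)
  · rw [ord_two_iff]
    exact ⟨by rw [map_sub, h1, h2, sub_zero], fun s => by rw [map_sub, hlin s, sub_self]⟩

/-- Existence in the Lubin–Tate lemma over `O`. -/
theorem O_exists (hπ : Irreducible π) (c : σ → O) :
    ∃ H : MvPowerSeries σ O, constantCoeff H = 0 ∧ (∀ s, coeff (Finsupp.single s 1) H = c s) ∧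
      T π (qO O) (fun H => H ^ qO O) H = 0 := by
  refine T_exists π two_le_qO (contracting_pow two_le_qO) ?_ c
  intro r hr H _ e _
  obtain ⟨y, hy⟩ := dvd_coeff_T hπ H e
  have hu : IsUnit (1 - π ^ r) := by
    apply IsLocalRing.isUnit_one_sub_self_of_mem_nonunits
    rw [mem_nonunits_iff]
    intro h
    exact hπ.not_isUnit (isUnit_pow_iff (by omega) |>.mp h)
  obtain ⟨u, hu⟩ := hu
  refine ⟨y * ↑u⁻¹, ?_⟩
  rw [hy]
  have : π - π ^ (r + 1) = π * (u : O) := by rw [hu]; ring
  rw [this]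
  calc π * ↑u * (y * ↑u⁻¹) = π * y * (↑u * ↑u⁻¹) := by ring
    _ = π * y := by rw [Units.mul_inv, mul_one]

end DVR

section Field

variable {K : Type*} [Field K] {ϖ : K} {σ : Type*} [Finite σ] {q : ℕ}

/-- Uniqueness for the linearised equation over a field. -/
theorem K_unique (hq : 2 ≤ q) (hϖ : ∀ m, 2 ≤ m → ϖ ^ m - ϖ ≠ 0) {H₁ H₂ : MvPowerSeries σ K}
    (h1 : constantCoeff H₁ = 0) (h2 : constantCoeff H₂ = 0)
    (hlin : ∀ s, coeff (Finsupp.single s 1) H₁ = coeff (Finsupp.single s 1) H₂)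
    (hT₁ : T ϖ q (fun _ => 0) H₁ = 0) (hT₂ : T ϖ q (fun _ => 0) H₂ = 0) :
    H₁ = H₂ := by
  refine T_unique ϖ hq contracting_zero ?_ h1 h2 ?_ (hT₁.trans hT₂.symm)
  · intro m hm c hc
    exact (mul_eq_zero.mp hc).resolve_left (hϖ m hm)
  · rw [ord_two_iff]
    exact ⟨by rw [map_sub, h1, h2, sub_zero], fun s => by rw [map_sub, hlin s, sub_self]⟩

/-- Existence for the linearised equation over a field. -/
theorem K_exists (hq : 2 ≤ q) (hϖ : ∀ m, 2 ≤ m → ϖ ^ m - ϖ ≠ 0) (c : σ → K) :
    ∃ H : MvPowerSeries σ K, constantCoeff H = 0 ∧ (∀ s, coeff (Finsupp.single s 1) H = c s) ∧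
      T ϖ q (fun _ => 0) H = 0 := by
  refine T_exists ϖ hq contracting_zero ?_ c
  intro r hr H _ e _
  have hne : ϖ - ϖ ^ (r + 1) ≠ 0 := by
    have := hϖ (r + 1) (by omega)
    intro h
    apply this
    linear_combination -h
  exact ⟨(ϖ - ϖ ^ (r + 1))⁻¹ * coeff e (T ϖ q (fun _ => 0) H), by
    rw [← mul_assoc, mul_inv_cancel₀ hne, one_mul]⟩

end Field

end Groth.Agent.Lib.Helper76.LT
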