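import Groth.Agent.Lib.Helper76.LTMain

/-!
# Linearised Lubin–Tate lemma over a field (the logarithm)
-/

set_option autoImplicit false
universe u v

namespace Groth.Agent.Lib.Helper76.LT

open MvPowerSeries

variable {σ τ : Type*}

lemma map_fLT {R S : Type*} [CommRing R] [CommRing S] (h : R →+* S) (π : R) (q : ℕ) :
    PowerSeries.map h (fLT π q) = fLT (h π) q := by
  rw [fLT, fLT, map_add, map_pow, PowerSeries.map_X, PowerSeries.smul_eq_C_mul,
    PowerSeries.smul_eq_C_mul, map_mul, PowerSeries.map_X, PowerSeries.map_C]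

section Lin

variable {K : Type*} [CommRing K] [Finite σ] {ϖ : K} {φ : PowerSeries K}

lemma inter_smulX_iff {A : MvPowerSeries σ K} (hA : constantCoeff A = 0) :
    Inter (ϖ • PowerSeries.X) φ A ↔
      ϖ • A = subst (fun s => PowerSeries.subst (MvPowerSeries.X s : MvPowerSeries σ K) φ) A := by
  have h := hasSubst_ps hA
  rw [Inter, PowerSeries.subst_smul h, PowerSeries.subst_X h]

lemma Inter.add_lin (hφ : PowerSeries.constantCoeff φ = 0) {A B : MvPowerSeries σ K}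
    (hA : constantCoeff A = 0) (hB : constantCoeff B = 0)
    (hIA : Inter (ϖ • PowerSeries.X) φ A) (hIB : Inter (ϖ • PowerSeries.X) φ B) :
    Inter (ϖ • PowerSeries.X) φ (A + B) := by
  rw [inter_smulX_iff (by rw [map_add, hA, hB, add_zero])]
  rw [inter_smulX_iff hA] at hIA
  rw [inter_smulX_iff hB] at hIB
  rw [subst_add (hasSubst_fam hφ), smul_add, hIA, hIB]

lemma Inter.smul_lin (hφ : PowerSeries.constantCoeff φ = 0) {A : MvPowerSeries σ K}
    (hA : constantCoeff A = 0) (c : K)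
    (hIA : Inter (ϖ • PowerSeries.X) φ A) :
    Inter (ϖ • PowerSeries.X) φ (c • A) := by
  have hcA : constantCoeff (c • A) = 0 := by
    rw [smul_eq_C_mul, map_mul, hA, mul_zero]
  rw [inter_smulX_iff hcA]
  rw [inter_smulX_iff hA] at hIA
  rw [subst_smul (hasSubst_fam hφ), ← hIA, smul_comm]

end Lin

section Field

variable {K : Type*} [Field K] [Finite σ] {ϖ : K} {q : ℕ}

theorem interK_unique (hq : 2 ≤ q) (hϖ : ∀ m, 2 ≤ m → ϖ ^ m - ϖ ≠ 0) {H₁ H₂ : MvPowerSeries σ K}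
    (h1 : constantCoeff H₁ = 0) (h2 : constantCoeff H₂ = 0)
    (hlin : ∀ s, coeff (Finsupp.single s 1) H₁ = coeff (Finsupp.single s 1) H₂)
    (hI₁ : Inter (ϖ • PowerSeries.X) (fLT ϖ q) H₁) (hI₂ : Inter (ϖ • PowerSeries.X) (fLT ϖ q) H₂) :
    H₁ = H₂ :=
  K_unique hq hϖ h1 h2 hlin ((inter_lin_iff ϖ q h1).mp hI₁) ((inter_lin_iff ϖ q h2).mp hI₂)

theorem interK_exists (hq : 2 ≤ q) (hϖ : ∀ m, 2 ≤ m → ϖ ^ m - ϖ ≠ 0) (c : σ → K) :
    ∃ H : MvPowerSeries σ K, constantCoeff H = 0 ∧ (∀ s, coeff (Finsupp.single s 1) H = c s) ∧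
      Inter (ϖ • PowerSeries.X) (fLT ϖ q) H := by
  obtain ⟨H, h0, h1, hT⟩ := K_exists hq hϖ c
  exact ⟨H, h0, h1, (inter_lin_iff ϖ q h0).mpr hT⟩

end Field

end Groth.Agent.Lib.Helper76.LT
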