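import Groth.Agent.Lib.Helper76.LTSubst

/-!
# The Lubin–Tate lemma in intertwiner form
-/

set_option autoImplicit false
universe u v

namespace Groth.Agent.Lib.Helper76.LT

open MvPowerSeries

variable {σ τ : Type*}

/-- linear coefficients of `H(g(X_s))` -/
lemma coeff_single_subst_fam {R : Type*} [CommRing R] [Finite σ] {H : MvPowerSeries σ R}
    (hH : constantCoeff H = 0) {g : PowerSeries R} (hg : PowerSeries.constantCoeff g = 0) (t : σ) :
    coeff (Finsupp.single t 1)
      (subst (fun s => PowerSeries.subst (MvPowerSeries.X s : MvPowerSeries σ R) g) H) =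
      coeff (Finsupp.single t 1) H * PowerSeries.coeff 1 g := by
  classical
  have := Fintype.ofFinite σ
  rw [coeff_single_subst (fun s => constantCoeff_pssubst (constantCoeff_X s) hg) hH]
  simp only [coeff_single_pssubst (constantCoeff_X _) hg, coeff_index_single_X]
  simp [mul_comm]

section DVR

variable {O : Type*} [CommRing O] [IsDomain O] [IsDiscreteValuationRing O]
  [Finite (IsLocalRing.ResidueField O)] {π : O} [Finite σ]

/-- the Lubin–Tate series over `O` -/
noncomputable abbrev fO (π : O) : PowerSeries O := fLT π (qO O)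

lemma constantCoeff_fO (π : O) : PowerSeries.constantCoeff (fO π) = 0 :=
  constantCoeff_fLT π (by have := two_le_qO (O := O); omega)

/-- Uniqueness in the Lubin–Tate lemma (intertwiner form). -/
theorem inter_unique (hπ : Irreducible π) {H₁ H₂ : MvPowerSeries σ O}
    (h1 : constantCoeff H₁ = 0) (h2 : constantCoeff H₂ = 0)
    (hlin : ∀ s, coeff (Finsupp.single s 1) H₁ = coeff (Finsupp.single s 1) H₂)
    (hI₁ : Inter (fO π) (fO π) H₁) (hI₂ : Inter (fO π) (fO π) H₂) : H₁ = H₂ :=
  O_unique hπ h1 h2 hlin ((inter_fLT_iff π _ h1).mp hI₁) ((inter_fLT_iff π _ h2).mp hI₂)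

/-- Existence in the Lubin–Tate lemma (intertwiner form). -/
theorem inter_exists (hπ : Irreducible π) (c : σ → O) :
    ∃ H : MvPowerSeries σ O, constantCoeff H = 0 ∧ (∀ s, coeff (Finsupp.single s 1) H = c s) ∧
      Inter (fO π) (fO π) H := by
  obtain ⟨H, h0, h1, hT⟩ := O_exists hπ c
  exact ⟨H, h0, h1, (inter_fLT_iff π _ h0).mpr hT⟩

end DVR

end Groth.Agent.Lib.Helper76.LT
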