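import Mathlib.RingTheory.FormalGroup.Basic
import Mathlib.RingTheory.MvPowerSeries.Order
import Mathlib.RingTheory.MvPowerSeries.Substitution
import Mathlib.Tactic

/-!
# Order filtration on multivariate power series and successive approximation

Auxiliary library for the Lubin–Tate statements (helper76).
-/

set_option autoImplicit false
universe u v

namespace Groth.Agent.Lib.Helper76.LT

open MvPowerSeries

variable {σ : Type*} {R : Type*} [CommRing R]

/-- All coefficients of total degree `< m` vanish. -/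
def Ord (m : ℕ) (D : MvPowerSeries σ R) : Prop :=
  ∀ d : σ →₀ ℕ, d.degree < m → coeff d D = 0

lemma Ord.mono {m n : ℕ} {D : MvPowerSeries σ R} (h : Ord n D) (hmn : m ≤ n) : Ord m D :=
  fun d hd => h d (lt_of_lt_of_le hd hmn)

lemma ord_zero (m : ℕ) : Ord m (0 : MvPowerSeries σ R) := fun d _ => by simp

lemma Ord.add {m : ℕ} {A B : MvPowerSeries σ R} (hA : Ord m A) (hB : Ord m B) : Ord m (A + B) :=
  fun d hd => by rw [map_add, hA d hd, hB d hd, add_zero]

lemma Ord.neg {m : ℕ} {A : MvPowerSeries σ R} (hA : Ord m A) : Ord m (-A) :=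
  fun d hd => by rw [map_neg, hA d hd, neg_zero]

lemma Ord.sub {m : ℕ} {A B : MvPowerSeries σ R} (hA : Ord m A) (hB : Ord m B) : Ord m (A - B) :=
  fun d hd => by rw [map_sub, hA d hd, hB d hd, sub_zero]

lemma Ord.smul {m : ℕ} {A : MvPowerSeries σ R} (c : R) (hA : Ord m A) : Ord m (c • A) :=
  fun d hd => by rw [map_smul, hA d hd, smul_zero]

lemma Ord.mul {m n : ℕ} {A B : MvPowerSeries σ R} (hA : Ord m A) (hB : Ord n B) :
    Ord (m + n) (A * B) := by
  classical
  intro d hd
  rw [coeff_mul]
  refine Finset.sum_eq_zero fun p hp => ?_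
  have hp' : p.1 + p.2 = d := by simpa using hp
  have hdeg : p.1.degree + p.2.degree = d.degree := by rw [← hp', map_add]
  by_cases h1 : p.1.degree < m
  · rw [hA _ h1, zero_mul]
  · rw [hB _ (by omega), mul_zero]

lemma ord_one_iff {D : MvPowerSeries σ R} : Ord 1 D ↔ constantCoeff D = 0 := by
  constructor
  · intro h
    have := h 0 (by simp)
    simpa using this
  · intro h d hd
    have hd0 : d = 0 := by
      have : d.degree = 0 := by omega
      exact (Finsupp.degree_eq_zero_iff d).mp this
    subst hd0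
    simpa using h

lemma Ord.constantCoeff_eq_zero {m : ℕ} (hm : 1 ≤ m) {D : MvPowerSeries σ R} (h : Ord m D) :
    constantCoeff D = 0 := ord_one_iff.mp (h.mono hm)

lemma eq_zero_of_forall_ord {D : MvPowerSeries σ R} (h : ∀ m, Ord m D) : D = 0 := by
  ext d
  simpa using h (d.degree + 1) d (Nat.lt_succ_self _)

lemma Ord.pow_of_constantCoeff {A : MvPowerSeries σ R} (hA : constantCoeff A = 0) (n : ℕ) :
    Ord n (A ^ n) := by
  induction n with
  | zero => intro d hd; omega
  | succ n ih =>
    rw [pow_succ]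
    exact ih.mul (ord_one_iff.mpr hA)

/-- Ord 2 is equivalent to vanishing of constant and linear coefficients. -/
lemma ord_two_iff {D : MvPowerSeries σ R} :
    Ord 2 D ↔ constantCoeff D = 0 ∧ ∀ s, coeff (Finsupp.single s 1) D = 0 := by
  constructor
  · intro h
    refine ⟨(h.mono (by norm_num : 1 ≤ 2)).constantCoeff_eq_zero le_rfl, fun s => h _ ?_⟩
    simp
  · rintro ⟨h0, h1⟩ d hd
    have hd' : d.degree = 0 ∨ d.degree = 1 := by omega
    rcases hd' with hd' | hd'
    · have : d = 0 := (Finsupp.degree_eq_zero_iff d).mp hd'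
      subst this; simpa using h0
    · have : d ∈ Set.range (fun a : σ => Finsupp.single a 1) := by
        rw [Finsupp.range_single_one]; exact hd'
      obtain ⟨s, rfl⟩ := this
      exact h1 s

/-- Lemma A: the `q`-th power map is contracting for the order filtration. -/
lemma ord_pow_sub_pow {q : ℕ} (hq : 2 ≤ q) {m : ℕ} {H Δ : MvPowerSeries σ R}
    (hH : constantCoeff H = 0) (hΔ0 : constantCoeff Δ = 0) (hΔ : Ord m Δ) :
    Ord (m + 1) ((H + Δ) ^ q - H ^ q) := by
  have key : (H + Δ) ^ q - H ^ q =
      Δ * ∑ i ∈ Finset.range q, (H + Δ) ^ i * H ^ (q - 1 - i) := by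
    have := Commute.geom_sum₂_mul (Commute.all (H + Δ) H) q
    rw [← this]; ring
  rw [key]
  refine hΔ.mul (ord_one_iff.mpr ?_)
  rw [map_sum]
  refine Finset.sum_eq_zero fun i hi => ?_
  have hi' : i < q := Finset.mem_range.mp hi
  rw [map_mul, map_pow, map_pow, map_add, hH, hΔ0, add_zero]
  by_cases h0 : i = 0
  · subst h0
    rw [zero_pow (by omega : q - 1 - 0 ≠ 0), mul_zero]
  · rw [zero_pow h0, zero_mul]

/-- coefficients of a product of powers of series without constant terms vanish in low degree -/
lemma coeff_prod_pow_eq_zero_of_degree_lt {τ : Type*} {a : σ → MvPowerSeries τ R}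
    (ha : ∀ i, constantCoeff (a i) = 0) {d : τ →₀ ℕ} {n : σ →₀ ℕ} (h : d.degree < n.degree) :
    coeff d (n.prod fun s e => a s ^ e) = 0 := by
  rw [Finsupp.prod]
  refine coeff_of_lt_order (lt_of_lt_of_le (Nat.cast_lt.mpr h)
    (le_trans ?_ (le_order_prod _ n.support)))
  rw [Finsupp.degree_apply]
  exact_mod_cast Finset.sum_le_sum fun i _ => le_order_pow_of_constantCoeff_eq_zero _ (ha i)

/-- Lemma B: leading coefficients of `D(X_s u_s)`. -/
lemma coeff_subst_X_mul (u : σ → MvPowerSeries σ R)
    (ha : HasSubst (fun s => X s * u s)) {m : ℕ} {D : MvPowerSeries σ R} (hD : Ord m D)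
    {e : σ →₀ ℕ} (he : e.degree ≤ m) :
    coeff e (subst (fun s => X s * u s) D) =
      (e.prod fun s n => (constantCoeff (u s)) ^ n) * coeff e D := by
  classical
  have hprod : ∀ d : σ →₀ ℕ, (d.prod fun s n => (X s * u s) ^ n) =
      monomial d (1 : R) * d.prod fun s n => u s ^ n := by
    intro d
    simp only [mul_pow, Finsupp.prod_mul]
    rw [← MvPowerSeries.monomial_one_eq]
  rw [coeff_subst ha, finsum_eq_single _ e]
  · rw [hprod, coeff_monomial_mul, if_pos le_rfl, tsub_self, one_mul, smul_eq_mul, mul_comm,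
      coeff_zero_eq_constantCoeff_apply, map_finsuppProd]
    simp only [map_pow]
  · intro d hd
    by_cases h : d.degree < m
    · rw [hD d h, zero_smul]
    · have hle : ¬ d ≤ e := by
        intro hle
        apply hd
        have h1 : d.degree ≤ e.degree := Finsupp.degree_mono hle
        have h2 : e = d + (e - d) := (add_tsub_cancel_of_le hle).symm
        have h3 : e.degree = d.degree + (e - d).degree := by rw [← map_add, ← h2]
        have h4 : (e - d).degree = 0 := by omega
        have h5 : e - d = 0 := (Finsupp.degree_eq_zero_iff _).mp h4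
        rw [h2, h5, add_zero]
      rw [hprod, coeff_monomial_mul, if_neg hle, smul_zero]

/-- Chain rule at the origin: linear coefficients of a composite. -/
lemma coeff_single_subst {τ : Type*} [Fintype σ] {b : σ → MvPowerSeries τ R}
    (hb : ∀ s, constantCoeff (b s) = 0) {H : MvPowerSeries σ R} (hH : constantCoeff H = 0)
    (t : τ) :
    coeff (Finsupp.single t 1) (subst b H) =
      ∑ s, coeff (Finsupp.single s 1) H * coeff (Finsupp.single t 1) (b s) := by
  classical
  have hsb : HasSubst b := hasSubst_of_constantCoeff_zero hb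
  rw [coeff_subst hsb]
  have hsupp : Function.support (fun d : σ →₀ ℕ => coeff d H •
      coeff (Finsupp.single t 1) (d.prod fun s e => b s ^ e)) ⊆
      ↑(Finset.univ.image (fun s : σ => Finsupp.single s (1 : ℕ))) := by
    intro d hd
    simp only [Function.mem_support, ne_eq] at hd
    have h1 : d.degree ≤ 1 := by
      by_contra hcon
      apply hd
      rw [coeff_prod_pow_eq_zero_of_degree_lt hb (by simpa using (not_le.mp hcon)), smul_zero]
    have h0 : d ≠ 0 := by
      rintro rfl
      apply hd
      rw [coeff_zero_eq_constantCoeff_apply, hH, zero_smul]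
    have h2 : d.degree = 1 := by
      have : d.degree ≠ 0 := fun h => h0 ((Finsupp.degree_eq_zero_iff d).mp h)
      omega
    have : d ∈ Set.range (fun a : σ => Finsupp.single a 1) := by
      rw [Finsupp.range_single_one]; exact h2
    obtain ⟨s, rfl⟩ := this
    simp
  rw [finsum_eq_sum_of_support_subset _ hsupp, Finset.sum_image]
  · refine Finset.sum_congr rfl fun s _ => ?_
    rw [Finsupp.prod_single_index (by simp), pow_one, smul_eq_mul]
  · intro s _ s' _ h
    exact (Finsupp.single_left_inj (one_ne_zero : (1 : ℕ) ≠ 0)).mp h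

/-- substitution of series without constant term preserves vanishing constant term -/
lemma constantCoeff_subst_zero {τ : Type*} [Finite σ] {b : σ → MvPowerSeries τ R}
    (hb : ∀ s, constantCoeff (b s) = 0) {H : MvPowerSeries σ R} (hH : constantCoeff H = 0) :
    constantCoeff (subst b H) = 0 :=
  constantCoeff_subst_eq_zero (hasSubst_of_constantCoeff_zero hb) hb hH

/-- Successive approximation in the order filtration. -/
theorem exists_limit (T : MvPowerSeries σ R → MvPowerSeries σ R)
    (hcont : ∀ (m : ℕ) (H Δ : MvPowerSeries σ R), constantCoeff H = 0 → 1 ≤ m → Ord m Δ →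
      Ord m (T (H + Δ) - T H))
    (hstep : ∀ (r : ℕ) (H : MvPowerSeries σ R), 1 ≤ r → constantCoeff H = 0 → Ord (r + 1) (T H) →
      ∃ Δ, Ord (r + 1) Δ ∧ Ord (r + 2) (T (H + Δ)))
    (H₀ : MvPowerSeries σ R) (hP0 : constantCoeff H₀ = 0) (h0 : Ord 2 (T H₀)) :
    ∃ H, constantCoeff H = 0 ∧ Ord 2 (H - H₀) ∧ T H = 0 := by
  classical
  -- one step on the subtype
  have key : ∀ n : ℕ, ∀ H : {H : MvPowerSeries σ R // constantCoeff H = 0 ∧ Ord (n + 2) (T H)},
      ∃ H' : {H : MvPowerSeries σ R // constantCoeff H = 0 ∧ Ord (n + 1 + 2) (T H)},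
        Ord (n + 2) (H'.1 - H.1) := by
    intro n H
    obtain ⟨Δ, hΔ, hT⟩ := hstep (n + 1) H.1 (by omega) H.2.1 H.2.2
    refine ⟨⟨H.1 + Δ, ?_, hT⟩, ?_⟩
    · rw [map_add, H.2.1, hΔ.constantCoeff_eq_zero (by omega), add_zero]
    · simpa using hΔ
  choose next hnext using key
  let seq : (n : ℕ) → {H : MvPowerSeries σ R // constantCoeff H = 0 ∧ Ord (n + 2) (T H)} :=
    fun n => Nat.rec ⟨H₀, hP0, h0⟩ (fun n ih => next n ih) n
  have hseq_succ : ∀ n, Ord (n + 2) ((seq (n + 1)).1 - (seq n).1) := fun n => hnext n (seq n)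
  have hstab : ∀ n k, Ord (n + 2) ((seq (n + k)).1 - (seq n).1) := by
    intro n k
    induction k with
    | zero => simpa using ord_zero _
    | succ k ih =>
      have : (seq (n + (k + 1))).1 - (seq n).1 =
          ((seq (n + k + 1)).1 - (seq (n + k)).1) + ((seq (n + k)).1 - (seq n).1) := by
        rw [← add_assoc]; ring
      rw [this]
      exact ((hseq_succ (n + k)).mono (by omega)).add ih
  have hcoeff : ∀ (a b : ℕ) (e : σ →₀ ℕ), a ≤ b → e.degree < a + 2 →
      coeff e (seq b).1 = coeff e (seq a).1 := by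
    intro a b e hab he
    obtain ⟨k, rfl⟩ := Nat.exists_eq_add_of_le hab
    have := hstab a k e he
    rwa [map_sub, sub_eq_zero] at this
  let H : MvPowerSeries σ R := fun e => coeff e (seq e.degree).1
  have hH : ∀ n, Ord (n + 2) (H - (seq n).1) := by
    intro n e he
    rw [map_sub, sub_eq_zero]
    show coeff e (seq e.degree).1 = coeff e (seq n).1
    rcases le_total e.degree n with h | h
    · exact (hcoeff e.degree n e h (by omega)).symm
    · exact hcoeff n e.degree e h he
  have hH0 : constantCoeff H = 0 := by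
    have h1 := (hH 0).constantCoeff_eq_zero (by norm_num)
    rw [map_sub, (seq 0).2.1, sub_zero] at h1
    exact h1
  refine ⟨H, hH0, hH 0, ?_⟩
  apply eq_zero_of_forall_ord
  intro m
  have h1 : Ord (m + 2) (T ((seq m).1 + (H - (seq m).1)) - T (seq m).1) :=
    hcont (m + 2) _ _ (seq m).2.1 (by omega) (hH m)
  have h2 : Ord (m + 2) (T (seq m).1) := (seq m).2.2
  have h3 : T H = (T ((seq m).1 + (H - (seq m).1)) - T (seq m).1) + T (seq m).1 := by
    rw [add_sub_cancel, sub_add_cancel]
  rw [h3]
  exact (h1.add h2).mono (by omega)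

end Groth.Agent.Lib.Helper76.LT
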