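import Groth.Agent.Lib.Helper76.LTFrob

/-!
# Intertwining calculus for substitution of power series
-/

set_option autoImplicit false
universe u v

namespace Groth.Agent.Lib.Helper76.LT

open MvPowerSeries

variable {σ τ : Type*} {R : Type*} [CommRing R]

/-- `φ₁(H) = H(φ₂(X_s))` -/
def Inter (φ₁ φ₂ : PowerSeries R) (H : MvPowerSeries σ R) : Prop :=
  PowerSeries.subst H φ₁ =
    MvPowerSeries.subst (fun s => PowerSeries.subst (MvPowerSeries.X s : MvPowerSeries σ R) φ₂) H

lemma constantCoeff_pssubst {A : MvPowerSeries σ R} (hA : constantCoeff A = 0) {φ : PowerSeries R}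
    (hφ : PowerSeries.constantCoeff φ = 0) : constantCoeff (PowerSeries.subst A φ) = 0 :=
  PowerSeries.constantCoeff_subst_eq_zero hA φ hφ

lemma hasSubst_ps {A : MvPowerSeries σ R} (hA : constantCoeff A = 0) : PowerSeries.HasSubst A :=
  PowerSeries.HasSubst.of_constantCoeff_zero hA

lemma hasSubst_fam [Finite σ] {φ : PowerSeries R} (hφ : PowerSeries.constantCoeff φ = 0) :
    HasSubst (fun s => PowerSeries.subst (MvPowerSeries.X s : MvPowerSeries σ R) φ) :=
  hasSubst_of_constantCoeff_zero fun s => constantCoeff_pssubst (constantCoeff_X s) hφ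

/-- mixed associativity of substitution -/
lemma subst_pssubst {b : σ → MvPowerSeries τ R} (hb : HasSubst b) {A : MvPowerSeries σ R}
    (hA : PowerSeries.HasSubst A) (φ : PowerSeries R) :
    subst b (PowerSeries.subst A φ) = PowerSeries.subst (subst b A) φ := by
  rw [PowerSeries.subst, subst_comp_subst_apply hA.const hb]
  rfl

lemma inter_X [Finite σ] {φ : PowerSeries R} (hφ : PowerSeries.constantCoeff φ = 0) (s : σ) :
    Inter φ φ (X s : MvPowerSeries σ R) := by
  rw [Inter, subst_X (hasSubst_fam hφ)]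

/-- composition of intertwiners -/
theorem Inter.comp [Finite σ] [Finite τ] {φ₁ φ₂ φ₃ : PowerSeries R}
    (h₂ : PowerSeries.constantCoeff φ₂ = 0) (h₃ : PowerSeries.constantCoeff φ₃ = 0)
    {H : MvPowerSeries σ R} (hH0 : constantCoeff H = 0) (hH : Inter φ₁ φ₂ H)
    {b : σ → MvPowerSeries τ R} (hb0 : ∀ s, constantCoeff (b s) = 0)
    (hb : ∀ s, Inter φ₂ φ₃ (b s)) : Inter φ₁ φ₃ (subst b H) := by
  have hsb : HasSubst b := hasSubst_of_constantCoeff_zero hb0
  rw [Inter, ← subst_pssubst hsb (hasSubst_ps hH0), hH,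
    subst_comp_subst_apply (hasSubst_fam h₂) hsb, subst_comp_subst_apply hsb (hasSubst_fam h₃)]
  congr 1
  funext s
  rw [subst_pssubst hsb (hasSubst_ps (constantCoeff_X s)), subst_X hsb]
  exact hb s

/-- one-variable intertwiners -/
lemma inter_one_iff {φ₁ φ₂ g : PowerSeries R} :
    Inter φ₁ φ₂ (g : MvPowerSeries Unit R) ↔ PowerSeries.subst g φ₁ = PowerSeries.subst φ₂ g := by
  have : (fun s : Unit => PowerSeries.subst (MvPowerSeries.X s : MvPowerSeries Unit R) φ₂) =
      fun _ => φ₂ := by
    funext s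
    exact PowerSeries.X_subst φ₂
  rw [Inter, this]
  rfl

/-- composition with a one-variable series on the outside -/
theorem Inter.pscomp [Finite τ] {φ₁ φ₂ φ₃ : PowerSeries R}
    (h₂ : PowerSeries.constantCoeff φ₂ = 0) (h₃ : PowerSeries.constantCoeff φ₃ = 0)
    {g : PowerSeries R} (hg0 : PowerSeries.constantCoeff g = 0)
    (hg : PowerSeries.subst g φ₁ = PowerSeries.subst φ₂ g)
    {B : MvPowerSeries τ R} (hB0 : constantCoeff B = 0) (hB : Inter φ₂ φ₃ B) :
    Inter φ₁ φ₃ (PowerSeries.subst B g) :=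
  Inter.comp (σ := Unit) h₂ h₃ hg0 (inter_one_iff.mpr hg) (fun _ => hB0) (fun _ => hB)

lemma Inter.map {S : Type*} [CommRing S] (h : R →+* S) [Finite σ] {φ₁ φ₂ : PowerSeries R}
    (h₂ : PowerSeries.constantCoeff φ₂ = 0)
    {H : MvPowerSeries σ R} (hH0 : constantCoeff H = 0) (hH : Inter φ₁ φ₂ H) :
    Inter (PowerSeries.map h φ₁) (PowerSeries.map h φ₂) (MvPowerSeries.map h H) := by
  have e1 := congrArg (MvPowerSeries.map h) hH
  rw [PowerSeries.map_subst (hasSubst_ps hH0), MvPowerSeries.map_subst (hasSubst_fam h₂)] at e1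
  rw [Inter, e1]
  congr 1
  funext s
  rw [PowerSeries.map_subst (hasSubst_ps (constantCoeff_X s)), MvPowerSeries.map_X]

/-- linear coefficient of a composite with a one-variable series -/
lemma coeff_single_pssubst {B : MvPowerSeries τ R} (hB : constantCoeff B = 0) {g : PowerSeries R}
    (hg : PowerSeries.constantCoeff g = 0) (t : τ) :
    coeff (Finsupp.single t 1) (PowerSeries.subst B g) =
      PowerSeries.coeff 1 g * coeff (Finsupp.single t 1) B := by
  have := coeff_single_subst (σ := Unit) (b := fun _ => B) (fun _ => hB) (H := g) hg t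
  rw [PowerSeries.subst, this, Fintype.sum_unique]
  rfl

section LT

variable (π : R) (q : ℕ)

/-- the Lubin–Tate series `πT + T^q` -/
noncomputable def fLT : PowerSeries R := π • PowerSeries.X + PowerSeries.X ^ q

lemma constantCoeff_fLT {q : ℕ} (hq : 1 ≤ q) : PowerSeries.constantCoeff (fLT π q) = 0 := by
  rw [fLT, map_add, map_pow, PowerSeries.constantCoeff_X, zero_pow (by omega), add_zero,
    PowerSeries.smul_eq_C_mul, map_mul, PowerSeries.constantCoeff_X, mul_zero]

lemma pssubst_fLT {A : MvPowerSeries σ R} (hA : constantCoeff A = 0) :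
    PowerSeries.subst A (fLT π q) = π • A + A ^ q := by
  have h := hasSubst_ps hA
  rw [fLT, PowerSeries.subst_add h, PowerSeries.subst_smul h, PowerSeries.subst_pow h,
    PowerSeries.subst_X h]

lemma fam_fLT : (fun s => PowerSeries.subst (MvPowerSeries.X s : MvPowerSeries σ R) (fLT π q)) =
    aLT π q := by
  funext s
  rw [pssubst_fLT π q (constantCoeff_X s), aLT]

lemma inter_fLT_iff {H : MvPowerSeries σ R} (hH : constantCoeff H = 0) :
    Inter (fLT π q) (fLT π q) H ↔ T π q (fun H => H ^ q) H = 0 := by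
  rw [Inter, pssubst_fLT π q hH, fam_fLT, T, sub_sub, sub_eq_zero]
  exact eq_comm

lemma inter_lin_iff {H : MvPowerSeries σ R} (hH : constantCoeff H = 0) :
    Inter (π • PowerSeries.X) (fLT π q) H ↔ T π q (fun _ => 0) H = 0 := by
  have h := hasSubst_ps hH
  rw [Inter, PowerSeries.subst_smul h, PowerSeries.subst_X h, fam_fLT, T, sub_zero, sub_eq_zero]
  exact eq_comm

end LT

end Groth.Agent.Lib.Helper76.LT
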