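import Groth.Agent.Lib.Helper76.LTOrd

/-!
# Successive approximation for families of power series
-/

set_option autoImplicit false
universe u v

namespace Groth.Agent.Lib.Helper76.LT

open MvPowerSeries

variable {σ ι : Type*} {R : Type*} [CommRing R]

/-- componentwise order condition -/
def OrdV (m : ℕ) (v : ι → MvPowerSeries σ R) : Prop := ∀ i, Ord m (v i)

lemma OrdV.mono {m n : ℕ} {v : ι → MvPowerSeries σ R} (h : OrdV n v) (hmn : m ≤ n) : OrdV m v :=
  fun i => (h i).mono hmn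

lemma OrdV.add {m : ℕ} {v w : ι → MvPowerSeries σ R} (hv : OrdV m v) (hw : OrdV m w) :
    OrdV m (v + w) := fun i => (hv i).add (hw i)

lemma ordV_zero (m : ℕ) : OrdV m (0 : ι → MvPowerSeries σ R) := fun _ => ord_zero m

/-- Successive approximation for a family of unknowns and one scalar equation `T H = 0`.
Corrections at stage `k` have order `≥ k + c₀`, errors at stage `k` have order `≥ k + c₁`. -/
theorem exists_limit_vec (T : (ι → MvPowerSeries σ R) → MvPowerSeries σ R) {c₀ c₁ : ℕ}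
    (hc₀ : 1 ≤ c₀) (H₀ : ι → MvPowerSeries σ R)
    (hcont : ∀ (m : ℕ) (H Δ : ι → MvPowerSeries σ R), OrdV c₀ (H - H₀) → 1 ≤ m → OrdV m Δ →
      Ord m (T (H + Δ) - T H))
    (hstep : ∀ (k : ℕ) (H : ι → MvPowerSeries σ R), OrdV c₀ (H - H₀) → Ord (k + c₁) (T H) →
      ∃ Δ, OrdV (k + c₀) Δ ∧ Ord (k + 1 + c₁) (T (H + Δ)))
    (h0 : Ord c₁ (T H₀)) :
    ∃ H, OrdV c₀ (H - H₀) ∧ T H = 0 := by
  classical
  have key : ∀ n : ℕ, ∀ H : {H : ι → MvPowerSeries σ R // OrdV c₀ (H - H₀) ∧ Ord (n + c₁) (T H)},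
      ∃ H' : {H : ι → MvPowerSeries σ R // OrdV c₀ (H - H₀) ∧ Ord (n + 1 + c₁) (T H)},
        OrdV (n + c₀) (H'.1 - H.1) := by
    intro n H
    obtain ⟨Δ, hΔ, hT⟩ := hstep n H.1 H.2.1 H.2.2
    refine ⟨⟨H.1 + Δ, ?_, hT⟩, ?_⟩
    · have : H.1 + Δ - H₀ = (H.1 - H₀) + Δ := by abel
      rw [this]
      exact H.2.1.add (hΔ.mono (by omega))
    · simpa using hΔ
  choose next hnext using key
  let seq : (n : ℕ) → {H : ι → MvPowerSeries σ R // OrdV c₀ (H - H₀) ∧ Ord (n + c₁) (T H)} :=
    fun n => Nat.rec ⟨H₀, by simpa using ordV_zero c₀, by simpa using h0⟩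
      (fun n ih => next n ih) n
  have hseq_succ : ∀ n, OrdV (n + c₀) ((seq (n + 1)).1 - (seq n).1) := fun n => hnext n (seq n)
  have hstab : ∀ n k, OrdV (n + c₀) ((seq (n + k)).1 - (seq n).1) := by
    intro n k
    induction k with
    | zero => simpa using ordV_zero _
    | succ k ih =>
      have : (seq (n + (k + 1))).1 - (seq n).1 =
          ((seq (n + k + 1)).1 - (seq (n + k)).1) + ((seq (n + k)).1 - (seq n).1) := by
        rw [← add_assoc]; abel
      rw [this]
      exact ((hseq_succ (n + k)).mono (by omega)).add ih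
  have hcoeff : ∀ (a b : ℕ) (i : ι) (e : σ →₀ ℕ), a ≤ b → e.degree < a + c₀ →
      coeff e ((seq b).1 i) = coeff e ((seq a).1 i) := by
    intro a b i e hab he
    obtain ⟨k, rfl⟩ := Nat.exists_eq_add_of_le hab
    have := hstab a k i e he
    rwa [Pi.sub_apply, map_sub, sub_eq_zero] at this
  let H : ι → MvPowerSeries σ R := fun i e => coeff e ((seq e.degree).1 i)
  have hH : ∀ n, OrdV (n + c₀) (H - (seq n).1) := by
    intro n i e he
    rw [Pi.sub_apply, map_sub, sub_eq_zero]
    show coeff e ((seq e.degree).1 i) = coeff e ((seq n).1 i)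
    rcases le_total e.degree n with h | h
    · exact (hcoeff e.degree n i e h (by omega)).symm
    · exact hcoeff n e.degree i e h he
  have hHP : OrdV c₀ (H - H₀) := by
    have h1 := hH 0
    have h2 : H - H₀ = (H - (seq 0).1) + ((seq 0).1 - H₀) := by abel
    rw [h2]
    exact (h1.mono (by omega)).add (seq 0).2.1
  refine ⟨H, hHP, ?_⟩
  apply eq_zero_of_forall_ord
  intro m
  have h1 : Ord (m + c₀) (T ((seq m).1 + (H - (seq m).1)) - T (seq m).1) :=
    hcont (m + c₀) _ _ (seq m).2.1 (by omega) (hH m)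
  have h2 : Ord (m + c₁) (T (seq m).1) := (seq m).2.2
  have h3 : T H = (T ((seq m).1 + (H - (seq m).1)) - T (seq m).1) + T (seq m).1 := by
    rw [add_sub_cancel, sub_add_cancel]
  rw [h3]
  exact (h1.mono (by omega)).add (h2.mono (by omega))

end Groth.Agent.Lib.Helper76.LT
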