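import Mathlib

/-!
# Localisation of a base change (helper76)

`locloc`: from a pushout square of rings `R' = K ⊗ R` (given through its universal property),
localisations `A = R_p`, `B = R'_P` (given through their universal properties) and a local
homomorphism `A → B`, the ring `B` is the localisation of `K ⊗[k] A` at a prime lying over the
maximal ideal of `A`.
-/

set_option autoImplicit false
universe u

namespace Groth.Agent.Lib.Helper76.NodeBC

open TensorProduct IsLocalRing

section locloc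

variable {k K R R' A B : Type u} [Field k] [Field K] [CommRing R] [CommRing R'] [CommRing A]
  [CommRing B] [Algebra k K] [Algebra k A] [Algebra K B] [IsLocalRing A] [IsLocalRing B]

theorem locloc (ιR : k →+* R) (ιK : K →+* R') (ρ : R →+* R') (gA : R →+* A) (gB : R' →+* B)
    (φ : A →+* B) [IsLocalHom φ]
    (h1 : gA.comp ιR = algebraMap k A) (h2 : gB.comp ιK = algebraMap K B)
    (h3 : φ.comp gA = gB.comp ρ) (h4 : ρ.comp ιR = ιK.comp (algebraMap k K))
    (hpush : ∀ (T : Type u) [CommRing T] (α : K →+* T) (β : R →+* T),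
      α.comp (algebraMap k K) = β.comp ιR → ∃ γ : R' →+* T, γ.comp ιK = α ∧ γ.comp ρ = β)
    (hpush_ext : ∀ (T : Type u) [CommRing T] (γ γ' : R' →+* T),
      γ.comp ιK = γ'.comp ιK → γ.comp ρ = γ'.comp ρ → γ = γ')
    (hlocA_ext : ∀ (T : Type u) [CommRing T] (β β' : A →+* T), β.comp gA = β'.comp gA → β = β')
    (hlocB : ∀ (T : Type u) [CommRing T] (γ : R' →+* T), (∀ s, IsUnit (gB s) → IsUnit (γ s)) →
      ∃ γ' : B →+* T, γ'.comp gB = γ)
    (hlocB_ext : ∀ (T : Type u) [CommRing T] (γ γ' : B →+* T), γ.comp gB = γ'.comp gB → γ = γ') :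
    ∃ (P' : Ideal (K ⊗[k] A)) (_ : P'.IsPrime),
      P'.comap (Algebra.TensorProduct.includeRight : A →ₐ[k] K ⊗[k] A).toRingHom =
        maximalIdeal A ∧
      Nonempty (Localization.AtPrime P' ≃ₐ[K] B) := by
  classical
  have hφk : ∀ t : k, φ (algebraMap k A t) = algebraMap K B (algebraMap k K t) := by
    intro t
    have e1 : algebraMap k A t = gA (ιR t) := (RingHom.congr_fun h1 t).symm
    have e2 : φ (gA (ιR t)) = gB (ρ (ιR t)) := RingHom.congr_fun h3 (ιR t)
    have e3 : ρ (ιR t) = ιK (algebraMap k K t) := RingHom.congr_fun h4 t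
    have e4 : gB (ιK (algebraMap k K t)) = algebraMap K B (algebraMap k K t) :=
      RingHom.congr_fun h2 _
    rw [e1, e2, e3, e4]
  letI algkB : Algebra k B := ((algebraMap K B).comp (algebraMap k K)).toAlgebra
  haveI : IsScalarTower k K B := IsScalarTower.of_algebraMap_eq (fun _ => rfl)
  let φk : A →ₐ[k] B := { φ with commutes' := fun t => hφk t }
  let Φ : K ⊗[k] A →ₐ[K] B :=
    Algebra.TensorProduct.lift (Algebra.ofId K B) φk (fun _ _ => Commute.all _ _)
  have hΦ : ∀ (c : K) (a : A), Φ (c ⊗ₜ[k] a) = algebraMap K B c * φ a := by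
    intro c a
    rw [Algebra.TensorProduct.lift_tmul]
    rfl
  obtain ⟨P', hP'⟩ : ∃ P' : Ideal (K ⊗[k] A), P' = (maximalIdeal B).comap Φ.toRingHom :=
    ⟨_, rfl⟩
  haveI hP'prime : P'.IsPrime := by
    rw [hP']
    exact Ideal.comap_isPrime _ _
  have hmemP' : ∀ z, z ∈ P' ↔ ¬ IsUnit (Φ z) := by
    intro z
    rw [hP', Ideal.mem_comap, mem_maximalIdeal, mem_nonunits_iff]
    rfl
  have hΦr : ∀ a : A,
      Φ ((Algebra.TensorProduct.includeRight : A →ₐ[k] K ⊗[k] A).toRingHom a) = φ a := by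
    intro a
    show Φ ((1 : K) ⊗ₜ[k] a) = φ a
    rw [hΦ, map_one, one_mul]
  have hcomap : P'.comap (Algebra.TensorProduct.includeRight : A →ₐ[k] K ⊗[k] A).toRingHom =
      maximalIdeal A := by
    ext a
    rw [Ideal.mem_comap, hmemP', mem_maximalIdeal, mem_nonunits_iff, hΦr, isUnit_map_iff φ a]
  have hunits : ∀ y : P'.primeCompl, IsUnit (Φ.toRingHom (y : K ⊗[k] A)) := by
    intro y
    by_contra hnu
    exact y.2 ((hmemP' _).mpr hnu)
  obtain ⟨Ψ₁, hΨ₁def⟩ : ∃ Ψ₁ : Localization.AtPrime P' →+* B,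
      Ψ₁ = IsLocalization.lift (M := P'.primeCompl) hunits := ⟨_, rfl⟩
  have hΨ₁ : ∀ z, Ψ₁ (algebraMap (K ⊗[k] A) (Localization.AtPrime P') z) = Φ z := by
    intro z
    rw [hΨ₁def]
    exact IsLocalization.lift_eq hunits z
  have hΨ₁K : ∀ c : K, Ψ₁ (algebraMap K (Localization.AtPrime P') c) = algebraMap K B c := by
    intro c
    rw [IsScalarTower.algebraMap_apply K (K ⊗[k] A) (Localization.AtPrime P'), hΨ₁,
      AlgHom.commutes]
  have hΨ₁loc : ∀ w : Localization.AtPrime P', IsUnit (Ψ₁ w) → IsUnit w := by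
    intro w hw
    obtain ⟨⟨u, s⟩, rfl⟩ := IsLocalization.mk'_surjective P'.primeCompl w
    have hsp : Φ.toRingHom u = Φ.toRingHom s *
        Ψ₁ (IsLocalization.mk' (Localization.AtPrime P') u s) := by
      rw [hΨ₁def]
      exact (IsLocalization.lift_mk'_spec _ _ _ _).mp rfl
    have hu : IsUnit (Φ u) := by
      have h5 := (hunits s).mul hw
      rw [← hsp] at h5
      exact h5
    rw [IsLocalization.AtPrime.isUnit_mk'_iff (Localization.AtPrime P') P']
    intro hmem
    exact (hmemP' u).mp hmem hu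
  have hcond : (algebraMap K (Localization.AtPrime P')).comp (algebraMap k K) =
      ((algebraMap (K ⊗[k] A) (Localization.AtPrime P')).comp
        ((Algebra.TensorProduct.includeRight : A →ₐ[k] K ⊗[k] A).toRingHom.comp gA)).comp ιR := by
    ext t
    simp only [RingHom.comp_apply]
    have e1 : gA (ιR t) = algebraMap k A t := RingHom.congr_fun h1 t
    rw [e1]
    have e2 : (Algebra.TensorProduct.includeRight : A →ₐ[k] K ⊗[k] A).toRingHom
        (algebraMap k A t) = algebraMap K (K ⊗[k] A) (algebraMap k K t) := by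
      have h5 := (Algebra.TensorProduct.includeRight : A →ₐ[k] K ⊗[k] A).commutes t
      rw [IsScalarTower.algebraMap_apply k K (K ⊗[k] A)] at h5
      exact h5
    rw [e2, ← IsScalarTower.algebraMap_apply K (K ⊗[k] A) (Localization.AtPrime P')]
  obtain ⟨γ, hγK, hγR⟩ := hpush (Localization.AtPrime P') (algebraMap K (Localization.AtPrime P'))
    ((algebraMap (K ⊗[k] A) (Localization.AtPrime P')).comp
      ((Algebra.TensorProduct.includeRight : A →ₐ[k] K ⊗[k] A).toRingHom.comp gA)) hcond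
  have hΨ₁γ : Ψ₁.comp γ = gB := by
    apply hpush_ext B
    · rw [RingHom.comp_assoc, hγK, h2]
      ext c
      exact hΨ₁K c
    · rw [RingHom.comp_assoc, hγR, ← h3]
      ext r
      simp only [RingHom.comp_apply]
      rw [hΨ₁, hΦr]
  have hγunits : ∀ s, IsUnit (gB s) → IsUnit (γ s) := by
    intro s hs
    apply hΨ₁loc
    have h5 : Ψ₁ (γ s) = gB s := RingHom.congr_fun hΨ₁γ s
    rw [h5]
    exact hs
  obtain ⟨Ψ₂, hΨ₂⟩ := hlocB (Localization.AtPrime P') γ hγunits
  have h12 : Ψ₁.comp Ψ₂ = RingHom.id B := by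
    apply hlocB_ext B
    rw [RingHom.comp_assoc, hΨ₂, hΨ₁γ, RingHom.id_comp]
  have hFr : (Ψ₂.comp φ) = (algebraMap (K ⊗[k] A) (Localization.AtPrime P')).comp
      (Algebra.TensorProduct.includeRight : A →ₐ[k] K ⊗[k] A).toRingHom := by
    apply hlocA_ext (Localization.AtPrime P')
    rw [RingHom.comp_assoc, h3, ← RingHom.comp_assoc, hΨ₂, hγR, RingHom.comp_assoc]
  have hFl : ∀ c : K, Ψ₂ (algebraMap K B c) = algebraMap K (Localization.AtPrime P') c := by
    intro c
    have e1 : algebraMap K B c = gB (ιK c) := (RingHom.congr_fun h2 c).symm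
    rw [e1]
    have e2 : Ψ₂ (gB (ιK c)) = γ (ιK c) := RingHom.congr_fun hΨ₂ (ιK c)
    rw [e2]
    exact RingHom.congr_fun hγK c
  have h21 : Ψ₂.comp Ψ₁ = RingHom.id (Localization.AtPrime P') := by
    apply IsLocalization.ringHom_ext P'.primeCompl
    refine RingHom.ext fun z => ?_
    simp only [RingHom.comp_apply, RingHom.id_apply]
    rw [hΨ₁]
    induction z using TensorProduct.induction_on with
    | zero => simp
    | tmul c a =>
      rw [hΦ, map_mul, hFl]
      have e1 : Ψ₂ (φ a) = algebraMap (K ⊗[k] A) (Localization.AtPrime P') ((1 : K) ⊗ₜ[k] a) :=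
        RingHom.congr_fun hFr a
      rw [e1, IsScalarTower.algebraMap_apply K (K ⊗[k] A) (Localization.AtPrime P'), ← map_mul,
        Algebra.TensorProduct.algebraMap_apply, Algebra.algebraMap_self, RingHom.id_apply,
        Algebra.TensorProduct.tmul_mul_tmul, mul_one, one_mul]
    | add x y hx hy => rw [map_add, map_add, map_add, hx, hy]
  refine ⟨P', hP'prime, hcomap, ⟨AlgEquiv.ofRingEquiv (f := RingEquiv.ofRingHom Ψ₁ Ψ₂ h12 h21) ?_⟩⟩
  intro c
  exact hΨ₁K c

end locloc

end Groth.Agent.Lib.Helper76.NodeBC
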