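import Mathlib
import Groth.Prelude.Def_CurvBase
import Groth.Agent.Lib.Helper76.NodeBC1

/-!
# The local ring of a base change of a scheme over a field (helper76)

`bridge`: for a scheme `X` over a field `k`, a field extension `K` and a point `xb` of `X_K`, the
local ring of `X_K` at `xb` is, as a `K`-algebra, the localisation of `K ⊗[k] O_{X,x}` at a prime
lying over the maximal ideal, where `x` is the image of `xb`.
-/

set_option autoImplicit false
set_option backward.isDefEq.respectTransparency.types false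
universe u

namespace Groth.Agent.Lib.Helper76.NodeBC

open TensorProduct IsLocalRing CategoryTheory CategoryTheory.Limits AlgebraicGeometry

theorem germ_appLE_top {X S : Scheme.{u}} (f : X ⟶ S) (U : X.Opens) (x : X) (hxU : x ∈ U)
    (e : U ≤ f ⁻¹ᵁ ⊤) :
    f.appLE ⊤ U e ≫ X.presheaf.germ U x hxU = f.appTop ≫ X.presheaf.germ ⊤ x trivial := by
  rw [Scheme.Hom.appLE, Category.assoc, TopCat.Presheaf.germ_res]
  rfl

theorem ΓSpecIso_hom_inv (R : CommRingCat.{u}) (t : R) :
    (Scheme.ΓSpecIso R).hom.hom ((Scheme.ΓSpecIso R).inv.hom t) = t := by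
  rw [← CommRingCat.comp_apply, Iso.inv_hom_id]
  rfl

theorem ΓSpecIso_inv_hom (R : CommRingCat.{u}) (σ : Γ(Spec R, ⊤)) :
    (Scheme.ΓSpecIso R).inv.hom ((Scheme.ΓSpecIso R).hom.hom σ) = σ := by
  rw [← CommRingCat.comp_apply, Iso.hom_inv_id]
  rfl

section

variable (k : Type u) [Field k] (X : Scheme.{u}) [X.Over (Spec (CommRingCat.of k))]
    (K : Type u) [Field K] [Algebra k K]

local notation "ff" => (X ↘ Spec (CommRingCat.of k))
local notation "gg" => (Spec.map (CommRingCat.ofHom (algebraMap k K)))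
local notation "YY" => Curv2.bc k X K
local notation "π₁" => Curv2.bcFst k X K
local notation "π₂" => Curv2.bcSnd k X K

set_option maxHeartbeats 1000000 in
theorem bridge (xb : ↑(Curv2.bc k X K)) :
    letI : (Curv2.bc k X K).Over (Spec (CommRingCat.of K)) := ⟨Curv2.bcSnd k X K⟩
    letI := Curv2.stalkAlgebra k X (Curv2.bcFst k X K xb)
    letI := Curv2.stalkAlgebra K (Curv2.bc k X K) xb
    ∃ (P' : Ideal (K ⊗[k] X.presheaf.stalk (Curv2.bcFst k X K xb))) (_ : P'.IsPrime),
      P'.comap (Algebra.TensorProduct.includeRight :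
        X.presheaf.stalk (Curv2.bcFst k X K xb) →ₐ[k]
          K ⊗[k] X.presheaf.stalk (Curv2.bcFst k X K xb)).toRingHom =
        maximalIdeal (X.presheaf.stalk (Curv2.bcFst k X K xb)) ∧
      Nonempty (Localization.AtPrime P' ≃ₐ[K] (Curv2.bc k X K).presheaf.stalk xb) := by
  letI instOver : (Curv2.bc k X K).Over (Spec (CommRingCat.of K)) := ⟨Curv2.bcSnd k X K⟩
  letI algA := Curv2.stalkAlgebra k X (Curv2.bcFst k X K xb)
  letI algB := Curv2.stalkAlgebra K (Curv2.bc k X K) xb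
  have H : IsPullback π₁ π₂ ff gg := IsPullback.of_hasPullback ff gg
  obtain ⟨U, hU, hxU, -⟩ := exists_isAffineOpen_mem_and_subset (x := π₁ xb) (U := ⊤) trivial
  obtain ⟨V, hVdef⟩ : ∃ V : (YY).Opens, V = π₁ ⁻¹ᵁ U ⊓ π₂ ⁻¹ᵁ ⊤ := ⟨_, rfl⟩
  have hVeq : V = π₁ ⁻¹ᵁ U := by
    rw [hVdef]
    simp
  haveI : IsAffineHom gg := inferInstance
  haveI : IsAffineHom π₁ := MorphismProperty.pullback_fst _ _ ‹_›
  have hV : IsAffineOpen V := by
    rw [hVeq]
    exact hU.preimage π₁
  have hxbV : xb ∈ V := by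
    rw [hVeq]
    exact hxU
  have hUST : (⊤ : (Spec (CommRingCat.of K)).Opens) ≤ gg ⁻¹ᵁ ⊤ := fun _ _ => trivial
  have hUSX : U ≤ ff ⁻¹ᵁ ⊤ := fun _ _ => trivial
  have hle1 : V ≤ π₁ ⁻¹ᵁ U := hVeq.le
  have hle2 : V ≤ π₂ ⁻¹ᵁ ⊤ := fun _ _ => trivial
  have hiso := isIso_pushoutSection_of_isAffineOpen H hUST hUSX hVdef (isAffineOpen_top _)
    (isAffineOpen_top _) hU
  have HP : IsPushout ((ff).appLE ⊤ U hUSX) ((gg).appLE ⊤ ⊤ hUST) ((π₁).appLE U V hle1)
      ((π₂).appLE ⊤ V hle2) := (isIso_pushoutSection_iff H hUST hUSX hVdef).mp hiso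
  letI algRA := X.presheaf.algebra_section_stalk ⟨π₁ xb, hxU⟩
  haveI hlocA := hU.isLocalization_stalk ⟨π₁ xb, hxU⟩
  letI algRB := (YY).presheaf.algebra_section_stalk ⟨xb, hxbV⟩
  haveI hlocB := hV.isLocalization_stalk ⟨xb, hxbV⟩
  haveI : IsLocalHom ((π₁).stalkMap xb).hom := inferInstance
  have hN : ∀ t : k, ((gg).appLE ⊤ ⊤ hUST).hom ((Scheme.ΓSpecIso (CommRingCat.of k)).inv.hom t) =
      (Scheme.ΓSpecIso (CommRingCat.of K)).inv.hom (algebraMap k K t) := by
    intro t
    have e1 : (gg).appLE ⊤ ⊤ hUST = (gg).appTop := Scheme.Hom.appLE_eq_app gg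
    rw [e1]
    have e2 := Scheme.ΓSpecIso_inv_naturality (CommRingCat.ofHom (algebraMap k K))
    exact (congrArg (fun m => m.hom t) e2).symm
  refine locloc
    (((ff).appLE ⊤ U hUSX).hom.comp (Scheme.ΓSpecIso (CommRingCat.of k)).inv.hom)
    (((π₂).appLE ⊤ V hle2).hom.comp (Scheme.ΓSpecIso (CommRingCat.of K)).inv.hom)
    ((π₁).appLE U V hle1).hom
    (X.presheaf.germ U (π₁ xb) hxU).hom
    ((YY).presheaf.germ V xb hxbV).hom
    ((π₁).stalkMap xb).hom ?_ ?_ ?_ ?_ ?_ ?_ ?_ ?_ ?_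
  · -- h1
    refine RingHom.ext fun t => ?_
    have e := germ_appLE_top ff U (π₁ xb) hxU hUSX
    exact congrArg (fun m => m.hom ((Scheme.ΓSpecIso (CommRingCat.of k)).inv.hom t)) e
  · -- h2
    refine RingHom.ext fun t => ?_
    have e := germ_appLE_top π₂ V xb hxbV hle2
    exact congrArg (fun m => m.hom ((Scheme.ΓSpecIso (CommRingCat.of K)).inv.hom t)) e
  · -- h3
    have e : X.presheaf.germ U (π₁ xb) hxU ≫ (π₁).stalkMap xb =
        (π₁).appLE U V hle1 ≫ (YY).presheaf.germ V xb hxbV := by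
      rw [Scheme.Hom.germ_stalkMap, Scheme.Hom.appLE, Category.assoc, TopCat.Presheaf.germ_res]
    refine RingHom.ext fun r => ?_
    exact congrArg (fun m => m.hom r) e
  · -- h4
    refine RingHom.ext fun t => ?_
    have e := congrArg (fun m => m.hom ((Scheme.ΓSpecIso (CommRingCat.of k)).inv.hom t)) HP.w
    simp only [RingHom.comp_apply]
    rw [← hN t]
    exact e
  · -- hpush
    intro T _ α β hαβ
    have hc : (ff).appLE ⊤ U hUSX ≫ CommRingCat.ofHom β =
        (gg).appLE ⊤ ⊤ hUST ≫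
          ((Scheme.ΓSpecIso (CommRingCat.of K)).hom ≫ CommRingCat.ofHom α) := by
      refine CommRingCat.hom_ext (RingHom.ext fun s => ?_)
      have hs := ΓSpecIso_inv_hom (CommRingCat.of k) s
      rw [← hs]
      show β (((ff).appLE ⊤ U hUSX).hom ((Scheme.ΓSpecIso (CommRingCat.of k)).inv.hom
          ((Scheme.ΓSpecIso (CommRingCat.of k)).hom.hom s))) =
        α ((Scheme.ΓSpecIso (CommRingCat.of K)).hom.hom (((gg).appLE ⊤ ⊤ hUST).hom
          ((Scheme.ΓSpecIso (CommRingCat.of k)).inv.hom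
            ((Scheme.ΓSpecIso (CommRingCat.of k)).hom.hom s))))
      rw [hN, ΓSpecIso_hom_inv]
      exact (RingHom.congr_fun hαβ ((Scheme.ΓSpecIso (CommRingCat.of k)).hom.hom s)).symm
    refine ⟨(HP.desc (CommRingCat.ofHom β)
      ((Scheme.ΓSpecIso (CommRingCat.of K)).hom ≫ CommRingCat.ofHom α) hc).hom, ?_, ?_⟩
    · refine RingHom.ext fun c => ?_
      have e := congrArg (fun m => m.hom ((Scheme.ΓSpecIso (CommRingCat.of K)).inv.hom c))
        (HP.inr_desc (CommRingCat.ofHom β)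
          ((Scheme.ΓSpecIso (CommRingCat.of K)).hom ≫ CommRingCat.ofHom α) hc)
      refine e.trans ?_
      show α ((Scheme.ΓSpecIso (CommRingCat.of K)).hom.hom
        ((Scheme.ΓSpecIso (CommRingCat.of K)).inv.hom c)) = α c
      rw [ΓSpecIso_hom_inv]
    · refine RingHom.ext fun r => ?_
      exact congrArg (fun m => m.hom r) (HP.inl_desc (CommRingCat.ofHom β)
          ((Scheme.ΓSpecIso (CommRingCat.of K)).hom ≫ CommRingCat.ofHom α) hc)
  · -- hpush_ext
    intro T _ γ γ' hK hR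
    have e : CommRingCat.ofHom γ = CommRingCat.ofHom γ' := by
      apply HP.hom_ext
      · exact CommRingCat.hom_ext hR
      · refine CommRingCat.hom_ext (RingHom.ext fun s => ?_)
        have hs := ΓSpecIso_inv_hom (CommRingCat.of K) s
        rw [← hs]
        exact RingHom.congr_fun hK ((Scheme.ΓSpecIso (CommRingCat.of K)).hom.hom s)
    exact congrArg (fun m => m.hom) e
  · -- hlocA_ext
    intro T _ β β' h
    exact IsLocalization.ringHom_ext
      (hU.primeIdealOf ⟨π₁ xb, hxU⟩).asIdeal.primeCompl h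
  · -- hlocB
    intro T _ γ hγ
    have hg : ∀ y : (hV.primeIdealOf ⟨xb, hxbV⟩).asIdeal.primeCompl, IsUnit (γ y) := fun y =>
      hγ _ (IsLocalization.map_units ((YY).presheaf.stalk xb) y)
    exact ⟨IsLocalization.lift hg, IsLocalization.lift_comp hg⟩
  · -- hlocB_ext
    intro T _ γ γ' h
    exact IsLocalization.ringHom_ext
      (hV.primeIdealOf ⟨xb, hxbV⟩).asIdeal.primeCompl h

end

end Groth.Agent.Lib.Helper76.NodeBC
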