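import Mathlib

/-!
# Localisations of `K ⊗[k] A` over the closed point of a local `k`-algebra `A` (helper76)

For a local `k`-algebra `A`, a field extension `K/k` and a prime `P'` of `K ⊗[k] A` lying over the
maximal ideal of `A`, we study `B = (K ⊗[k] A)_{P'}`:

* `phi` : the structure map `A → B`; it is local (`phi_isLocalHom`) and faithfully flat, which is
  recorded as ideal descent `phi_descent` and preservation of non-zero-divisors `phi_nzd`;
* `noeth` : `B` is Noetherian when `A` is essentially of finite type over `k`;
* `residue_bijective` : when `K` is algebraically closed and `κ(A)/k` is algebraic, the residue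
  field of `B` is `K`;
* `maximalIdeal_eq_map_of_sep` : when moreover `κ(A)/k` is separable, `𝔪_A B = 𝔪_B`.
-/

set_option autoImplicit false
universe u

namespace Groth.Agent.Lib.Helper76.NodeBC

open TensorProduct IsLocalRing

section core

variable {k K A : Type u} [Field k] [Field K] [Algebra k K] [CommRing A] [IsLocalRing A]
  [Algebra k A] (P' : Ideal (K ⊗[k] A)) [P'.IsPrime]

/-- the structure map `A → (K ⊗[k] A)_{P'}` -/
noncomputable def phi : A →+* Localization.AtPrime P' :=
  (algebraMap (K ⊗[k] A) (Localization.AtPrime P')).comp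
    (Algebra.TensorProduct.includeRight : A →ₐ[k] K ⊗[k] A).toRingHom

theorem phi_apply (a : A) :
    phi P' a = algebraMap (K ⊗[k] A) (Localization.AtPrime P') ((1 : K) ⊗ₜ[k] a) := rfl

theorem phi_algebraMap (t : k) :
    phi P' (algebraMap k A t) = algebraMap K (Localization.AtPrime P') (algebraMap k K t) := by
  rw [phi_apply]
  have h5 := (Algebra.TensorProduct.includeRight : A →ₐ[k] K ⊗[k] A).commutes t
  rw [IsScalarTower.algebraMap_apply k K (K ⊗[k] A)] at h5
  have h6 : (1 : K) ⊗ₜ[k] algebraMap k A t = algebraMap K (K ⊗[k] A) (algebraMap k K t) := h5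
  rw [h6, ← IsScalarTower.algebraMap_apply K (K ⊗[k] A) (Localization.AtPrime P')]

variable (hP' : P'.comap (Algebra.TensorProduct.includeRight : A →ₐ[k] K ⊗[k] A).toRingHom =
  maximalIdeal A)
include hP'

theorem isUnit_phi_iff (a : A) : IsUnit (phi P' a) ↔ IsUnit a := by
  rw [phi_apply, IsLocalization.AtPrime.isUnit_to_map_iff (Localization.AtPrime P') P']
  have h1 : ((1 : K) ⊗ₜ[k] a ∈ P') ↔ a ∈ maximalIdeal A := by
    rw [← hP', Ideal.mem_comap]
    rfl
  show ¬ ((1 : K) ⊗ₜ[k] a ∈ P') ↔ IsUnit a
  rw [h1, mem_maximalIdeal, mem_nonunits_iff, not_not]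

theorem phi_isLocalHom : IsLocalHom (phi P') :=
  ⟨fun a ha => (isUnit_phi_iff P' hP' a).mp ha⟩

theorem phi_mem_maximalIdeal {a : A} (ha : a ∈ maximalIdeal A) :
    phi P' a ∈ maximalIdeal (Localization.AtPrime P') := by
  rw [mem_maximalIdeal, mem_nonunits_iff, isUnit_phi_iff P' hP']
  exact (mem_nonunits_iff.mp ((mem_maximalIdeal _).mp ha))

theorem map_le_maximalIdeal :
    (maximalIdeal A).map (phi P') ≤ maximalIdeal (Localization.AtPrime P') := by
  rw [Ideal.map_le_iff_le_comap]
  intro a ha
  exact phi_mem_maximalIdeal P' hP' ha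

theorem flat_facts :
    (∀ (I : Ideal A) (a : A), phi P' a ∈ I.map (phi P') → a ∈ I) ∧
    (∀ z : A, z ∈ nonZeroDivisors A → phi P' z ∈ nonZeroDivisors (Localization.AtPrime P')) := by
  letI algAT : Algebra A (K ⊗[k] A) := Algebra.TensorProduct.rightAlgebra
  have hphi : algebraMap A (Localization.AtPrime P') = phi P' := by
    rw [IsScalarTower.algebraMap_eq A (K ⊗[k] A) (Localization.AtPrime P')]
    rfl
  haveI : Module.Flat A (K ⊗[k] A) := by
    let e : K ⊗[k] A ≃ₗ[A] A ⊗[k] K :=
      { (Algebra.TensorProduct.comm k K A).toLinearEquiv with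
        map_smul' := fun a z => by
          show Algebra.TensorProduct.comm k K A (a • z) = a • Algebra.TensorProduct.comm k K A z
          rw [Algebra.smul_def, Algebra.smul_def, map_mul]
          congr 1 }
    exact Module.Flat.of_linearEquiv e
  haveI : Module.Flat (K ⊗[k] A) (Localization.AtPrime P') :=
    IsLocalization.flat (Localization.AtPrime P') P'.primeCompl
  haveI : Module.Flat A (Localization.AtPrime P') :=
    Module.Flat.trans A (K ⊗[k] A) (Localization.AtPrime P')
  haveI : IsLocalHom (algebraMap A (Localization.AtPrime P')) := by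
    rw [hphi]
    exact phi_isLocalHom P' hP'
  haveI : Module.FaithfullyFlat A (Localization.AtPrime P') :=
    Module.FaithfullyFlat.of_flat_of_isLocalHom
  constructor
  · intro I a ha
    have h1 := Ideal.comap_map_eq_self_of_faithfullyFlat (B := Localization.AtPrime P') I
    rw [hphi] at h1
    rw [← h1]
    exact ha
  · intro z hz
    have hreg : IsSMulRegular (Localization.AtPrime P') z :=
      Module.Flat.isSMulRegular_of_isRegular (isRegular_iff_mem_nonZeroDivisors.mpr hz)
    rw [mem_nonZeroDivisors_iff_right]
    intro w hw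
    apply hreg
    show z • w = z • (0 : Localization.AtPrime P')
    rw [smul_zero, Algebra.smul_def, hphi, mul_comm]
    exact hw

theorem phi_descent (I : Ideal A) (a : A) (h : phi P' a ∈ I.map (phi P')) : a ∈ I :=
  (flat_facts P' hP').1 I a h

theorem phi_nzd (z : A) (hz : z ∈ nonZeroDivisors A) :
    phi P' z ∈ nonZeroDivisors (Localization.AtPrime P') :=
  (flat_facts P' hP').2 z hz

theorem phi_injective : Function.Injective (phi P') := by
  rw [injective_iff_map_eq_zero]
  intro a ha
  have h1 : a ∈ (⊥ : Ideal A) := by
    apply phi_descent P' hP'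
    rw [ha]
    exact Ideal.zero_mem _
  exact h1

omit hP' in
theorem noeth [Algebra.EssFiniteType k A] : IsNoetherianRing (Localization.AtPrime P') := by
  haveI : IsNoetherianRing (K ⊗[k] A) := Algebra.EssFiniteType.isNoetherianRing K _
  infer_instance

theorem residue_bijective [IsAlgClosed K] [Algebra.IsAlgebraic k (ResidueField A)] :
    Function.Bijective (algebraMap K (ResidueField (Localization.AtPrime P'))) := by
  have key0 : ∀ a : A, IsIntegral K (residue (Localization.AtPrime P') (phi P' a)) := by
    intro a
    have hint : IsIntegral k (residue A a) := Algebra.IsIntegral.isIntegral _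
    obtain ⟨p, hpm, hp⟩ := hint
    refine ⟨p.map (algebraMap k K), hpm.map _, ?_⟩
    rw [Polynomial.eval₂_map]
    have hcomp : (algebraMap K (ResidueField (Localization.AtPrime P'))).comp (algebraMap k K) =
        ((residue (Localization.AtPrime P')).comp (phi P')).comp (algebraMap k A) := by
      refine RingHom.ext fun t => ?_
      simp only [RingHom.comp_apply]
      rw [phi_algebraMap]
      rfl
    rw [hcomp]
    have h1 := Polynomial.hom_eval₂ p (algebraMap k A)
      ((residue (Localization.AtPrime P')).comp (phi P')) a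
    simp only [RingHom.comp_apply] at h1
    rw [← h1]
    have h2 : Polynomial.eval₂ (algebraMap k A) a p ∈ maximalIdeal A := by
      rw [← residue_eq_zero_iff, Polynomial.hom_eval₂]
      have h3 : (residue A).comp (algebraMap k A) = algebraMap k (ResidueField A) := rfl
      rw [h3]
      exact hp
    rw [residue_eq_zero_iff]
    exact phi_mem_maximalIdeal P' hP' h2
  have key : ∀ z : K ⊗[k] A, IsIntegral K (residue (Localization.AtPrime P')
      (algebraMap (K ⊗[k] A) (Localization.AtPrime P') z)) := by
    intro z
    induction z using TensorProduct.induction_on with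
    | zero =>
      rw [map_zero, map_zero]
      exact isIntegral_zero
    | tmul c a =>
      have e1 : c ⊗ₜ[k] a = algebraMap K (K ⊗[k] A) c * ((1 : K) ⊗ₜ[k] a) := by
        rw [Algebra.TensorProduct.algebraMap_apply, Algebra.algebraMap_self, RingHom.id_apply,
          Algebra.TensorProduct.tmul_mul_tmul, mul_one, one_mul]
      rw [e1, map_mul, map_mul, ← IsScalarTower.algebraMap_apply K (K ⊗[k] A)
        (Localization.AtPrime P')]
      exact (isIntegral_algebraMap (R := K)
        (A := ResidueField (Localization.AtPrime P')) (x := c)).mul (key0 a)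
    | add x y hx hy =>
      rw [map_add, map_add]
      exact hx.add hy
  haveI : Algebra.IsIntegral K (ResidueField (Localization.AtPrime P')) := by
    refine ⟨fun w => ?_⟩
    obtain ⟨b, rfl⟩ := residue_surjective w
    obtain ⟨⟨u, s⟩, rfl⟩ := IsLocalization.mk'_surjective P'.primeCompl b
    have h1 : residue (Localization.AtPrime P') (IsLocalization.mk' _ u s) *
        residue (Localization.AtPrime P')
          (algebraMap (K ⊗[k] A) (Localization.AtPrime P') (s : K ⊗[k] A)) =
        residue (Localization.AtPrime P')
          (algebraMap (K ⊗[k] A) (Localization.AtPrime P') u) := by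
      rw [← map_mul, IsLocalization.mk'_spec]
    have hs0 : residue (Localization.AtPrime P')
        (algebraMap (K ⊗[k] A) (Localization.AtPrime P') (s : K ⊗[k] A)) ≠ 0 := by
      rw [residue_ne_zero_iff_isUnit]
      exact IsLocalization.map_units _ s
    show IsIntegral K (residue (Localization.AtPrime P') (IsLocalization.mk' _ u s))
    rw [(eq_mul_inv_iff_mul_eq₀ hs0).mpr h1]
    exact (key u).mul (key _).inv
  exact IsAlgClosed.algebraMap_bijective_of_isIntegral

theorem maximalIdeal_eq_map_of_sep [IsAlgClosed K] [Algebra.EssFiniteType k A]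
    [Algebra.IsSeparable k (ResidueField A)] :
    maximalIdeal (Localization.AtPrime P') = (maximalIdeal A).map (phi P') := by
  apply le_antisymm _ (map_le_maximalIdeal P' hP')
  rw [← Localization.AtPrime.map_eq_maximalIdeal, Ideal.map_le_iff_le_comap]
  intro z hz
  rw [Ideal.mem_comap]
  -- the reduction map
  obtain ⟨q, hqdef⟩ : ∃ q : K ⊗[k] A →ₐ[k] K ⊗[k] ResidueField A,
      q = Algebra.TensorProduct.map (AlgHom.id k K) (IsScalarTower.toAlgHom k A (ResidueField A)) :=
    ⟨_, rfl⟩
  have hres : Function.Surjective (IsScalarTower.toAlgHom k A (ResidueField A)) :=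
    residue_surjective
  have hqs : Function.Surjective q := by
    rw [hqdef]
    exact Algebra.TensorProduct.map_surjective _ _ (fun x => ⟨x, rfl⟩) hres
  have hker : RingHom.ker q = (maximalIdeal A).map
      (Algebra.TensorProduct.includeRight : A →ₐ[k] K ⊗[k] A) := by
    rw [hqdef, Algebra.TensorProduct.lTensor_ker _ hres]
    congr 1
    exact ker_residue
  have hkerle : RingHom.ker q ≤ P' := by
    rw [hker, Ideal.map_le_iff_le_comap]
    intro a ha
    rw [← hP'] at ha
    exact ha
  haveI hPbar : (P'.map q).IsPrime := Ideal.map_isPrime_of_surjective hqs hkerle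
  have hcomap : (P'.map q).comap q = P' := by
    have h1 := Ideal.comap_map_of_surjective' (q : K ⊗[k] A →+* K ⊗[k] ResidueField A) hqs P'
    have h2 : (P'.map (q : K ⊗[k] A →+* K ⊗[k] ResidueField A)).comap
        (q : K ⊗[k] A →+* K ⊗[k] ResidueField A) = P' := by
      rw [h1]
      exact sup_eq_left.mpr hkerle
    exact h2
  -- the local ring of the fibre is a field
  haveI : Algebra.FormallyUnramified k (ResidueField A) :=
    Algebra.FormallyUnramified.of_isSeparable k _
  haveI : Algebra.EssFiniteType k (ResidueField A) :=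
    inferInstanceAs (Algebra.EssFiniteType k (A ⧸ maximalIdeal A))
  haveI : Algebra.FormallyUnramified (K ⊗[k] ResidueField A) (Localization.AtPrime (P'.map q)) :=
    Algebra.FormallyUnramified.of_isLocalization (P'.map q).primeCompl
  haveI : Algebra.FormallyUnramified K (Localization.AtPrime (P'.map q)) :=
    Algebra.FormallyUnramified.comp K (K ⊗[k] ResidueField A) _
  haveI : Algebra.EssFiniteType K (Localization.AtPrime (P'.map q)) :=
    Algebra.EssFiniteType.comp K (K ⊗[k] ResidueField A) _
  have hfield : maximalIdeal (Localization.AtPrime (P'.map q)) = ⊥ :=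
    (IsLocalRing.isField_iff_maximalIdeal_eq.mp
      (Algebra.FormallyUnramified.isField_of_isAlgClosed_of_isLocalRing K
        (Localization.AtPrime (P'.map q))))
  have hz1 : algebraMap (K ⊗[k] ResidueField A) (Localization.AtPrime (P'.map q)) (q z) = 0 := by
    have h1 : algebraMap (K ⊗[k] ResidueField A) (Localization.AtPrime (P'.map q)) (q z) ∈
        maximalIdeal (Localization.AtPrime (P'.map q)) := by
      rw [IsLocalization.AtPrime.to_map_mem_maximal_iff (Localization.AtPrime (P'.map q))
        (P'.map q)]
      exact Ideal.mem_map_of_mem _ hz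
    rw [hfield] at h1
    exact h1
  obtain ⟨⟨sbar, hsbar⟩, hsz⟩ := (IsLocalization.map_eq_zero_iff (P'.map q).primeCompl
    (Localization.AtPrime (P'.map q)) (q z)).mp hz1
  obtain ⟨s, rfl⟩ := hqs sbar
  have hsP : s ∉ P' := fun hs => hsbar (Ideal.mem_map_of_mem _ hs)
  have hszker : s * z ∈ RingHom.ker q := by
    rw [RingHom.mem_ker, map_mul]
    exact hsz
  rw [hker] at hszker
  have h3 : algebraMap (K ⊗[k] A) (Localization.AtPrime P') (s * z) ∈
      (maximalIdeal A).map (phi P') := by
    have h4 := Ideal.mem_map_of_mem (algebraMap (K ⊗[k] A) (Localization.AtPrime P')) hszker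
    have h5 : algebraMap (K ⊗[k] A) (Localization.AtPrime P') (s * z) ∈
        ((maximalIdeal A).map
          (Algebra.TensorProduct.includeRight : A →ₐ[k] K ⊗[k] A).toRingHom).map
            (algebraMap (K ⊗[k] A) (Localization.AtPrime P')) := h4
    rw [Ideal.map_map] at h5
    exact h5
  rw [map_mul] at h3
  have hsu : IsUnit (algebraMap (K ⊗[k] A) (Localization.AtPrime P') s) :=
    (IsLocalization.AtPrime.isUnit_to_map_iff (Localization.AtPrime P') P' s).mpr hsP
  exact (Ideal.unit_mul_mem_iff_mem _ hsu).mp h3

end core

end Groth.Agent.Lib.Helper76.NodeBC
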