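import Mathlib
import Groth.Agent.Lib.Helper76.PSCRing
import Groth.Agent.Lib.Helper76.ArLefPS

/-!
# Equivariant deformations of a node: approximation and flatness lemmas (helper76)

* `exists_limit`, `eq_of_forall_sub_mem_pow`: limits in adically complete rings;
* `hkey`: one step of the successive approximation `u v ≡ ε`;
* `exists_eigen_uv`: for a flat-free statement: given an involution `σ` of `S` over `R` and
  eigenvectors `u₁, v₁` generating `𝔪_S` modulo `𝔪_R S` with `u₁ v₁ ∈ 𝔪_R S`, there are eigenvectors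
  `u, v` congruent to them with `u v = t ∈ 𝔪_R`;
* `mem_smul_ker_of_flat`, `ker_eq_of_flat`: the kernel of a surjection onto a flat algebra, which is
  small modulo `𝔪`, is as small as possible;
* `mem_map_C_of_coeff`: a power series with coefficients in a finitely generated ideal `I` lies in
  `I · R⟦X⟧`.
-/

set_option autoImplicit false

namespace Groth.Agent.Lib.Helper76.NodeDef

open IsLocalRing

section limit

theorem exists_limit {A : Type*} [CommRing A] (I : Ideal A) [IsPrecomplete I A] (f : ℕ → A)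
    (hf : ∀ n, f (n + 1) - f n ∈ I ^ n) : ∃ L : A, ∀ n, L - f n ∈ I ^ n := by
  have h2 : ∀ m d, f m - f (m + d) ∈ I ^ m := by
    intro m d
    induction d with
    | zero => simp
    | succ d ih =>
      have h3 : f (m + d) - f (m + d + 1) ∈ I ^ m := by
        have := Ideal.pow_le_pow_right (Nat.le_add_right m d) (hf (m + d))
        have h4 := (I ^ m).neg_mem this
        rwa [neg_sub] at h4
      have := Ideal.add_mem _ ih h3
      rwa [sub_add_sub_cancel] at this
  obtain ⟨L, hL⟩ := IsPrecomplete.prec ‹IsPrecomplete I A› (f := f) (by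
    intro m n hmn
    obtain ⟨d, rfl⟩ := Nat.exists_eq_add_of_le hmn
    rw [SModEq.sub_mem, smul_eq_mul, Ideal.mul_top]
    exact h2 m d)
  refine ⟨L, fun n => ?_⟩
  have := hL n
  rw [SModEq.sub_mem, smul_eq_mul, Ideal.mul_top] at this
  have h4 := (I ^ n).neg_mem this
  rwa [neg_sub] at h4

theorem eq_of_forall_sub_mem_pow {A : Type*} [CommRing A] (I : Ideal A) [IsHausdorff I A] {x y : A}
    (h : ∀ n, x - y ∈ I ^ n) : x = y := by
  rw [← sub_eq_zero]
  apply IsHausdorff.haus ‹IsHausdorff I A›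
  intro n
  rw [SModEq.zero, smul_eq_mul, Ideal.mul_top]
  exact h n

end limit

section pure

lemma step_identity {S : Type*} [CommRing S] (U V E D P Q sP sQ Aa Bb H : S)
    (hA : Aa * Aa = 1) (hB : Bb * Bb = 1) (hH : 2 * H = 1) (hE : E * (1 - Aa * Bb) = 0) :
    (U - H * (Q + Aa * sQ)) * (V - H * (P + Bb * sP)) - (E + H * (1 + Aa * Bb) * D) =
      H * ((U * V - E - (D + U * P + V * Q)) +
        Aa * Bb * ((Aa * U) * (Bb * V) - E - (D + (Aa * U) * sP + (Bb * V) * sQ))) +
      (H * (P + Bb * sP)) * (H * (Q + Aa * sQ)) := by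
  linear_combination (-U * V + E) * hH + (-U * V * H * Bb * Bb + H * Bb * U * sP) * hA +
    (-U * V * H + H * Aa * V * sQ) * hB + (-H) * hE

end pure

section approx

variable {A B : Type*} [CommRing A] [IsLocalRing A] [CommRing B] [IsLocalRing B] [Algebra A B]

variable (A B) in
/-- the ideal `𝔪_A ^ n B` -/
abbrev aI (n : ℕ) : Ideal B := (maximalIdeal A ^ n).map (algebraMap A B)

lemma aI_mul (m n : ℕ) : aI A B m * aI A B n = aI A B (m + n) := by
  show (maximalIdeal A ^ m).map (algebraMap A B) * (maximalIdeal A ^ n).map (algebraMap A B) = _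
  rw [← Ideal.map_mul, ← pow_add]

lemma aI_anti {m n : ℕ} (h : m ≤ n) : aI A B n ≤ aI A B m :=
  Ideal.map_mono (Ideal.pow_le_pow_right h)

lemma map_maximalIdeal_le [IsLocalHom (algebraMap A B)] :
    (maximalIdeal A).map (algebraMap A B) ≤ maximalIdeal B := by
  rw [Ideal.map_le_iff_le_comap]
  intro a ha
  rw [Ideal.mem_comap]
  exact ((IsLocalRing.mem_maximalIdeal _).mpr fun hu =>
    ((IsLocalRing.mem_maximalIdeal a).mp ha) (isUnit_of_map_unit (algebraMap A B) a hu))

lemma aI_one_eq : aI A B 1 = (maximalIdeal A).map (algebraMap A B) := by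
  show (maximalIdeal A ^ 1).map (algebraMap A B) = _
  rw [pow_one]

lemma aI_one_le [IsLocalHom (algebraMap A B)] : aI A B 1 ≤ maximalIdeal B := by
  rw [aI_one_eq]
  exact map_maximalIdeal_le

lemma aI_le_pow [IsLocalHom (algebraMap A B)] (n : ℕ) : aI A B n ≤ maximalIdeal B ^ n := by
  show (maximalIdeal A ^ n).map (algebraMap A B) ≤ _
  rw [Ideal.map_pow]
  exact Ideal.pow_right_mono map_maximalIdeal_le n

theorem hkey (hres : ∀ b : B, ∃ c : A, b - algebraMap A B c ∈ maximalIdeal B) (n : ℕ) (U V : B)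
    (hUV : maximalIdeal B = Ideal.span {U, V} ⊔ aI A B 1) (z : B) (hz : z ∈ aI A B (n + 1)) :
    ∃ (δ : A) (P Q : B), δ ∈ maximalIdeal A ^ (n + 1) ∧ P ∈ aI A B (n + 1) ∧
      Q ∈ aI A B (n + 1) ∧ z - (algebraMap A B δ + U * P + V * Q) ∈ aI A B (n + 2) := by
  have hdec : ∀ b : B, ∃ (c : A) (p q r : B), r ∈ aI A B 1 ∧
      b = algebraMap A B c + U * p + V * q + r := by
    intro b
    obtain ⟨c, hc⟩ := hres b
    rw [hUV] at hc
    obtain ⟨y, hy, r, hr, hyr⟩ := Submodule.mem_sup.mp hc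
    obtain ⟨p, q, hpq⟩ := Ideal.mem_span_pair.mp hy
    refine ⟨c, p, q, r, hr, ?_⟩
    have : b = algebraMap A B c + (y + r) := by rw [hyr]; ring
    rw [this, ← hpq]
    ring
  have hz' : z ∈ Submodule.span B ((algebraMap A B) '' (maximalIdeal A ^ (n + 1) : Ideal A)) := hz
  clear hz
  induction hz' using Submodule.span_induction with
  | mem x hx =>
    obtain ⟨a, ha, rfl⟩ := hx
    exact ⟨a, 0, 0, ha, zero_mem _, zero_mem _, by simp⟩
  | zero => exact ⟨0, 0, 0, zero_mem _, zero_mem _, zero_mem _, by simp⟩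
  | add x y _ _ hx hy =>
    obtain ⟨δ₁, P₁, Q₁, h1, h2, h3, h4⟩ := hx
    obtain ⟨δ₂, P₂, Q₂, g1, g2, g3, g4⟩ := hy
    refine ⟨δ₁ + δ₂, P₁ + P₂, Q₁ + Q₂, Ideal.add_mem _ h1 g1, Ideal.add_mem _ h2 g2,
      Ideal.add_mem _ h3 g3, ?_⟩
    have := Ideal.add_mem _ h4 g4
    convert this using 1
    rw [map_add]
    ring
  | smul b x _ hx =>
    obtain ⟨δ, P, Q, h1, h2, h3, h4⟩ := hx
    obtain ⟨c, p, q, r, hr, hb⟩ := hdec b
    refine ⟨c * δ, b * P + p * algebraMap A B δ, b * Q + q * algebraMap A B δ,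
      Ideal.mul_mem_left _ _ h1, ?_, ?_, ?_⟩
    · exact Ideal.add_mem _ (Ideal.mul_mem_left _ _ h2)
        (Ideal.mul_mem_left _ _ (Ideal.mem_map_of_mem _ h1))
    · exact Ideal.add_mem _ (Ideal.mul_mem_left _ _ h3)
        (Ideal.mul_mem_left _ _ (Ideal.mem_map_of_mem _ h1))
    · have e1 : r * algebraMap A B δ ∈ aI A B (n + 2) := by
        have h5 : r * algebraMap A B δ ∈ aI A B (1 + (n + 1)) := by
          rw [← aI_mul]
          exact Ideal.mul_mem_mul hr (Ideal.mem_map_of_mem (algebraMap A B) h1)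
        exact aI_anti (by omega) h5
      have e2 : b * (x - (algebraMap A B δ + U * P + V * Q)) ∈ aI A B (n + 2) :=
        Ideal.mul_mem_left _ _ h4
      have := Ideal.add_mem _ e2 e1
      convert this using 1
      rw [smul_eq_mul, map_mul]
      conv_rhs => rw [hb]
      conv_lhs => rw [hb]
      ring

end approx

section equivariant

variable {R S : Type*} [CommRing R] [IsLocalRing R] [CommRing S] [IsLocalRing S] [Algebra R S]

omit [IsLocalRing R] [IsLocalRing S] in
lemma sigma_mem_map (σ : S ≃ₐ[R] S) (I : Ideal R) {z : S} (hz : z ∈ I.map (algebraMap R S)) :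
    σ z ∈ I.map (algebraMap R S) := by
  have h1 : (σ : S →+* S) z ∈ (I.map (algebraMap R S)).map (σ : S →+* S) :=
    Ideal.mem_map_of_mem _ hz
  rw [Ideal.map_map] at h1
  have h2 : ((σ : S →+* S).comp (algebraMap R S)) = algebraMap R S :=
    RingHom.ext fun r => σ.commutes r
  rw [h2] at h1
  exact h1

omit [IsLocalRing R] in
lemma sigma_mem_pow (σ : S ≃ₐ[R] S) {z : S} {n : ℕ} (hz : z ∈ maximalIdeal S ^ n) :
    σ z ∈ maximalIdeal S ^ n := by
  have h0 : (maximalIdeal S).map (σ : S →+* S) ≤ maximalIdeal S := by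
    rw [Ideal.map_le_iff_le_comap]
    intro a ha
    rw [Ideal.mem_comap]
    refine (IsLocalRing.mem_maximalIdeal _).mpr fun hu =>
      (IsLocalRing.mem_maximalIdeal a).mp ha ?_
    have h3 : IsUnit (σ a) := hu
    have := h3.map σ.symm
    rwa [AlgEquiv.symm_apply_apply] at this
  have h1 : (σ : S →+* S) z ∈ (maximalIdeal S ^ n).map (σ : S →+* S) :=
    Ideal.mem_map_of_mem _ hz
  rw [Ideal.map_pow] at h1
  exact Ideal.pow_right_mono h0 n h1

theorem exists_eigen_uv [IsNoetherianRing S] [IsAdicComplete (maximalIdeal R) R]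
    [IsAdicComplete (maximalIdeal S) S] [IsLocalHom (algebraMap R S)]
    (hres : ∀ s : S, ∃ c : R, s - algebraMap R S c ∈ maximalIdeal S)
    (σ : S ≃ₐ[R] S) (hσ : ∀ s, σ (σ s) = s) (hf : R) (hhf : 2 * hf = 1)
    (a b : R) (ha : a * a = 1) (hb : b * b = 1)
    (u₁ v₁ : S) (hu : u₁ ∈ maximalIdeal S) (hv : v₁ ∈ maximalIdeal S)
    (hσu : σ u₁ = algebraMap R S a * u₁) (hσv : σ v₁ = algebraMap R S b * v₁)
    (huv : u₁ * v₁ ∈ (maximalIdeal R).map (algebraMap R S))
    (hgen : maximalIdeal S = Ideal.span {u₁, v₁} ⊔ (maximalIdeal R).map (algebraMap R S)) :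
    ∃ (u v : S) (t : R), u ∈ maximalIdeal S ∧ v ∈ maximalIdeal S ∧ t ∈ maximalIdeal R ∧
      u * v = algebraMap R S t ∧ σ u = algebraMap R S a * u ∧ σ v = algebraMap R S b * v ∧
      u - u₁ ∈ (maximalIdeal R).map (algebraMap R S) ∧
      v - v₁ ∈ (maximalIdeal R).map (algebraMap R S) ∧ t * (1 - a * b) = 0 := by
  classical
  have hA2 : algebraMap R S a * algebraMap R S a = 1 := by rw [← map_mul, ha, map_one]
  have hB2 : algebraMap R S b * algebraMap R S b = 1 := by rw [← map_mul, hb, map_one]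
  have hH2 : 2 * algebraMap R S hf = 1 := by
    have := congrArg (algebraMap R S) hhf
    rwa [map_mul, map_ofNat, map_one] at this
  have hσ𝔞 : ∀ (n : ℕ) (z : S), z ∈ aI R S n → σ z ∈ aI R S n := fun n z hz =>
    sigma_mem_map σ _ hz
  let Good : ℕ → S × S × R → Prop := fun n s =>
    s.1 ∈ maximalIdeal S ∧ s.2.1 ∈ maximalIdeal S ∧ s.2.2 ∈ maximalIdeal R ∧
      maximalIdeal S = Ideal.span {s.1, s.2.1} ⊔ aI R S 1 ∧
      s.1 * s.2.1 - algebraMap R S s.2.2 ∈ aI R S (n + 1) ∧
      σ s.1 = algebraMap R S a * s.1 ∧ σ s.2.1 = algebraMap R S b * s.2.1 ∧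
      s.2.2 * (1 - a * b) = 0
  have hstep : ∀ (n : ℕ) (s : S × S × R), Good n s → ∃ s' : S × S × R, Good (n + 1) s' ∧
      s'.1 - s.1 ∈ aI R S (n + 1) ∧ s'.2.1 - s.2.1 ∈ aI R S (n + 1) ∧
      s'.2.2 - s.2.2 ∈ maximalIdeal R ^ (n + 1) := by
    rintro n ⟨U, V, e⟩ ⟨hU, hV, he, hUV, hz, hsU, hsV, hee⟩
    simp only at hU hV he hUV hz hsU hsV hee
    obtain ⟨δ, P, Q, hδ, hP, hQ, hrest⟩ := hkey hres n U V hUV _ hz
    have hE : algebraMap R S e * (1 - algebraMap R S a * algebraMap R S b) = 0 := by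
      have := congrArg (algebraMap R S) hee
      rwa [map_mul, map_sub, map_one, map_mul, map_zero] at this
    obtain ⟨Q', hQ'def⟩ : ∃ q, q = algebraMap R S hf * (Q + algebraMap R S a * σ Q) := ⟨_, rfl⟩
    obtain ⟨P', hP'def⟩ : ∃ p, p = algebraMap R S hf * (P + algebraMap R S b * σ P) := ⟨_, rfl⟩
    have hQ' : Q' ∈ aI R S (n + 1) := by
      rw [hQ'def]
      exact Ideal.mul_mem_left _ _ (Ideal.add_mem _ hQ (Ideal.mul_mem_left _ _ (hσ𝔞 _ _ hQ)))
    have hP' : P' ∈ aI R S (n + 1) := by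
      rw [hP'def]
      exact Ideal.mul_mem_left _ _ (Ideal.add_mem _ hP (Ideal.mul_mem_left _ _ (hσ𝔞 _ _ hP)))
    have hsQ' : σ Q' = algebraMap R S a * Q' := by
      rw [hQ'def]
      simp only [map_mul, map_add, AlgEquiv.commutes, hσ]
      linear_combination (-(algebraMap R S hf * σ Q)) * hA2
    have hsP' : σ P' = algebraMap R S b * P' := by
      rw [hP'def]
      simp only [map_mul, map_add, AlgEquiv.commutes, hσ]
      linear_combination (-(algebraMap R S hf * σ P)) * hB2
    have hδ' : hf * (1 + a * b) * δ ∈ maximalIdeal R ^ (n + 1) := Ideal.mul_mem_left _ _ hδ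
    have hP1 : P' ∈ aI R S 1 := aI_anti (by omega : 1 ≤ n + 1) hP'
    have hQ1 : Q' ∈ aI R S 1 := aI_anti (by omega : 1 ≤ n + 1) hQ'
    have hPm : P' ∈ maximalIdeal S := aI_one_le hP1
    have hQm : Q' ∈ maximalIdeal S := aI_one_le hQ1
    refine ⟨(U - Q', V - P', e + hf * (1 + a * b) * δ),
      ⟨Ideal.sub_mem _ hU hQm, Ideal.sub_mem _ hV hPm,
        Ideal.add_mem _ he (Ideal.pow_le_self (by omega) hδ'), ?_, ?_, ?_, ?_, ?_⟩, ?_, ?_, ?_⟩
    · -- generation
      show maximalIdeal S = Ideal.span {U - Q', V - P'} ⊔ aI R S 1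
      apply le_antisymm
      · rw [hUV]
        refine sup_le (Ideal.span_le.mpr ?_) le_sup_right
        intro x hx
        rcases hx with hx | hx
        · rw [hx]
          have h1 : U - Q' ∈ Ideal.span {U - Q', V - P'} ⊔ aI R S 1 :=
            Ideal.mem_sup_left (Ideal.subset_span (Set.mem_insert _ _))
          have h2 : Q' ∈ Ideal.span {U - Q', V - P'} ⊔ aI R S 1 := Ideal.mem_sup_right hQ1
          have := Ideal.add_mem _ h1 h2
          rwa [sub_add_cancel] at this
        · rw [Set.mem_singleton_iff.mp hx]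
          have h1 : V - P' ∈ Ideal.span {U - Q', V - P'} ⊔ aI R S 1 :=
            Ideal.mem_sup_left (Ideal.subset_span (Set.mem_insert_of_mem _ rfl))
          have h2 : P' ∈ Ideal.span {U - Q', V - P'} ⊔ aI R S 1 := Ideal.mem_sup_right hP1
          have := Ideal.add_mem _ h1 h2
          rwa [sub_add_cancel] at this
      · refine sup_le (Ideal.span_le.mpr ?_) aI_one_le
        intro x hx
        rcases hx with hx | hx
        · rw [hx]
          exact Ideal.sub_mem _ hU hQm
        · rw [Set.mem_singleton_iff.mp hx]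
          exact Ideal.sub_mem _ hV hPm
    · -- the new congruence
      show (U - Q') * (V - P') - algebraMap R S (e + hf * (1 + a * b) * δ) ∈ aI R S (n + 2)
      have hσrest : σ (U * V - algebraMap R S e - (algebraMap R S δ + U * P + V * Q)) =
          (algebraMap R S a * U) * (algebraMap R S b * V) - algebraMap R S e -
            (algebraMap R S δ + (algebraMap R S a * U) * σ P + (algebraMap R S b * V) * σ Q) := by
        simp only [map_sub, map_add, map_mul, AlgEquiv.commutes, hsU, hsV]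
      have hmem : algebraMap R S hf *
          ((U * V - algebraMap R S e - (algebraMap R S δ + U * P + V * Q)) +
            algebraMap R S a * algebraMap R S b *
              σ (U * V - algebraMap R S e - (algebraMap R S δ + U * P + V * Q))) ∈
          aI R S (n + 2) :=
        Ideal.mul_mem_left _ _ (Ideal.add_mem _ hrest (Ideal.mul_mem_left _ _ (hσ𝔞 _ _ hrest)))
      rw [hσrest] at hmem
      have hPQ : P' * Q' ∈ aI R S (n + 2) := by
        have := Ideal.mul_mem_mul hP' hQ'
        rw [aI_mul] at this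
        exact aI_anti (by omega) this
      have key := step_identity U V (algebraMap R S e) (algebraMap R S δ) P Q (σ P) (σ Q)
        (algebraMap R S a) (algebraMap R S b) (algebraMap R S hf) hA2 hB2 hH2 hE
      rw [← hQ'def, ← hP'def] at key
      have hmap : algebraMap R S (e + hf * (1 + a * b) * δ) = algebraMap R S e +
          algebraMap R S hf * (1 + algebraMap R S a * algebraMap R S b) * algebraMap R S δ := by
        simp only [map_add, map_mul, map_one]
      rw [hmap, key]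
      exact Ideal.add_mem _ hmem hPQ
    · show σ (U - Q') = algebraMap R S a * (U - Q')
      rw [map_sub, hsU, hsQ', mul_sub]
    · show σ (V - P') = algebraMap R S b * (V - P')
      rw [map_sub, hsV, hsP', mul_sub]
    · show (e + hf * (1 + a * b) * δ) * (1 - a * b) = 0
      linear_combination hee + (-hf * δ * b * b) * ha + (-hf * δ) * hb
    · show U - Q' - U ∈ _
      have : U - Q' - U = -Q' := by ring
      rw [this]
      exact Submodule.neg_mem _ hQ'
    · show V - P' - V ∈ _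
      have : V - P' - V = -P' := by ring
      rw [this]
      exact Submodule.neg_mem _ hP'
    · show e + hf * (1 + a * b) * δ - e ∈ _
      have : e + hf * (1 + a * b) * δ - e = hf * (1 + a * b) * δ := by ring
      rw [this]
      exact hδ'
  have h0 : Good 0 (u₁, v₁, 0) := by
    refine ⟨hu, hv, zero_mem _, ?_, ?_, hσu, hσv, zero_mul _⟩
    · show maximalIdeal S = Ideal.span {u₁, v₁} ⊔ aI R S 1
      rw [aI_one_eq]
      exact hgen
    · show u₁ * v₁ - algebraMap R S 0 ∈ aI R S (0 + 1)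
      rw [map_zero, sub_zero, zero_add, aI_one_eq]
      exact huv
  let Sq : ∀ n, {s : S × S × R // Good n s} := fun n => Nat.rec ⟨(u₁, v₁, 0), h0⟩
    (fun n s => ⟨Classical.choose (hstep n s.1 s.2), (Classical.choose_spec (hstep n s.1 s.2)).1⟩) n
  have hS : ∀ n, ((Sq (n + 1)).1.1 - (Sq n).1.1 ∈ aI R S (n + 1)) ∧
      ((Sq (n + 1)).1.2.1 - (Sq n).1.2.1 ∈ aI R S (n + 1)) ∧
      ((Sq (n + 1)).1.2.2 - (Sq n).1.2.2 ∈ maximalIdeal R ^ (n + 1)) := fun n =>
    (Classical.choose_spec (hstep n (Sq n).1 (Sq n).2)).2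
  obtain ⟨us, vs, ε, hus0, hvs0, hall⟩ : ∃ (us vs : ℕ → S) (ε : ℕ → R), us 0 = u₁ ∧ vs 0 = v₁ ∧
      ∀ n, Good n (us n, vs n, ε n) ∧ us (n + 1) - us n ∈ aI R S (n + 1) ∧
        vs (n + 1) - vs n ∈ aI R S (n + 1) ∧ ε (n + 1) - ε n ∈ maximalIdeal R ^ (n + 1) :=
    ⟨fun n => (Sq n).1.1, fun n => (Sq n).1.2.1, fun n => (Sq n).1.2.2, rfl, rfl,
      fun n => ⟨(Sq n).2, hS n⟩⟩
  clear_value Sq
  have hGood : ∀ n, us n ∈ maximalIdeal S ∧ vs n ∈ maximalIdeal S ∧ ε n ∈ maximalIdeal R ∧
      us n * vs n - algebraMap R S (ε n) ∈ aI R S (n + 1) ∧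
      σ (us n) = algebraMap R S a * us n ∧ σ (vs n) = algebraMap R S b * vs n ∧
      ε n * (1 - a * b) = 0 := by
    intro n
    obtain ⟨g1, g2, g3, -, g5, g6, g7, g8⟩ := (hall n).1
    exact ⟨g1, g2, g3, g5, g6, g7, g8⟩
  have hdu : ∀ n, us (n + 1) - us n ∈ maximalIdeal S ^ n := fun n =>
    Ideal.pow_le_pow_right (Nat.le_succ n) (aI_le_pow (n + 1) (hall n).2.1)
  have hdv : ∀ n, vs (n + 1) - vs n ∈ maximalIdeal S ^ n := fun n =>
    Ideal.pow_le_pow_right (Nat.le_succ n) (aI_le_pow (n + 1) (hall n).2.2.1)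
  have hdε : ∀ n, ε (n + 1) - ε n ∈ maximalIdeal R ^ n := fun n =>
    Ideal.pow_le_pow_right (Nat.le_succ n) (hall n).2.2.2
  obtain ⟨u, hu'⟩ := exists_limit (maximalIdeal S) us hdu
  obtain ⟨v, hv'⟩ := exists_limit (maximalIdeal S) vs hdv
  obtain ⟨t, ht'⟩ := exists_limit (maximalIdeal R) ε hdε
  have hdiffu : ∀ n, us n - u₁ ∈ aI R S 1 := by
    intro n
    induction n with
    | zero => rw [hus0, sub_self]; exact zero_mem _
    | succ n ih =>
      have := Ideal.add_mem _ (aI_anti (by omega : 1 ≤ n + 1) (hall n).2.1) ih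
      rwa [sub_add_sub_cancel] at this
  have hdiffv : ∀ n, vs n - v₁ ∈ aI R S 1 := by
    intro n
    induction n with
    | zero => rw [hvs0, sub_self]; exact zero_mem _
    | succ n ih =>
      have := Ideal.add_mem _ (aI_anti (by omega : 1 ≤ n + 1) (hall n).2.2.1) ih
      rwa [sub_add_sub_cancel] at this
  refine ⟨u, v, t, ?_, ?_, ?_, ?_, ?_, ?_, ?_, ?_, ?_⟩
  · have h1 := hu' 1
    rw [pow_one] at h1
    have := Ideal.add_mem _ h1 (hGood 1).1
    rwa [sub_add_cancel] at this
  · have h1 := hv' 1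
    rw [pow_one] at h1
    have := Ideal.add_mem _ h1 (hGood 1).2.1
    rwa [sub_add_cancel] at this
  · have h1 := ht' 1
    rw [pow_one] at h1
    have := Ideal.add_mem _ h1 (hGood 1).2.2.1
    rwa [sub_add_cancel] at this
  · refine eq_of_forall_sub_mem_pow (maximalIdeal S) fun n => ?_
    have e1 : (u - us n) * v ∈ maximalIdeal S ^ n := Ideal.mul_mem_right _ _ (hu' n)
    have e2 : us n * (v - vs n) ∈ maximalIdeal S ^ n := Ideal.mul_mem_left _ _ (hv' n)
    have e3 : us n * vs n - algebraMap R S (ε n) ∈ maximalIdeal S ^ n :=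
      aI_le_pow n (aI_anti (Nat.le_succ n) (hGood n).2.2.2.1)
    have e4 : algebraMap R S (t - ε n) ∈ maximalIdeal S ^ n :=
      aI_le_pow n (Ideal.mem_map_of_mem _ (ht' n))
    have : u * v - algebraMap R S t = (u - us n) * v + us n * (v - vs n) +
        (us n * vs n - algebraMap R S (ε n)) - algebraMap R S (t - ε n) := by
      rw [map_sub]; ring
    rw [this]
    exact Ideal.sub_mem _ (Ideal.add_mem _ (Ideal.add_mem _ e1 e2) e3) e4
  · refine eq_of_forall_sub_mem_pow (maximalIdeal S) fun n => ?_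
    have e1 : σ (u - us n) ∈ maximalIdeal S ^ n := sigma_mem_pow σ (hu' n)
    have e2 : algebraMap R S a * (u - us n) ∈ maximalIdeal S ^ n := Ideal.mul_mem_left _ _ (hu' n)
    have e3 : σ (us n) = algebraMap R S a * us n := (hGood n).2.2.2.2.1
    have : σ u - algebraMap R S a * u = σ (u - us n) - algebraMap R S a * (u - us n) := by
      rw [map_sub, e3]; ring
    rw [this]
    exact Ideal.sub_mem _ e1 e2
  · refine eq_of_forall_sub_mem_pow (maximalIdeal S) fun n => ?_
    have e1 : σ (v - vs n) ∈ maximalIdeal S ^ n := sigma_mem_pow σ (hv' n)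
    have e2 : algebraMap R S b * (v - vs n) ∈ maximalIdeal S ^ n := Ideal.mul_mem_left _ _ (hv' n)
    have e3 : σ (vs n) = algebraMap R S b * vs n := (hGood n).2.2.2.2.2.1
    have : σ v - algebraMap R S b * v = σ (v - vs n) - algebraMap R S b * (v - vs n) := by
      rw [map_sub, e3]; ring
    rw [this]
    exact Ideal.sub_mem _ e1 e2
  · rw [← aI_one_eq]
    apply Groth.Agent.Lib.Helper76.ArLefPS.mem_of_forall_mem_sup_pow
    intro n
    have : u - u₁ = (us n - u₁) + (u - us n) := by ring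
    rw [this]
    exact Submodule.add_mem_sup (hdiffu n) (hu' n)
  · rw [← aI_one_eq]
    apply Groth.Agent.Lib.Helper76.ArLefPS.mem_of_forall_mem_sup_pow
    intro n
    have : v - v₁ = (vs n - v₁) + (v - vs n) := by ring
    rw [this]
    exact Submodule.add_mem_sup (hdiffv n) (hv' n)
  · refine eq_of_forall_sub_mem_pow (maximalIdeal R) fun n => ?_
    have e1 : ε n * (1 - a * b) = 0 := (hGood n).2.2.2.2.2.2
    have : t * (1 - a * b) - 0 = (t - ε n) * (1 - a * b) := by
      rw [sub_zero, sub_mul, e1, sub_zero]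
    rw [this]
    exact Ideal.mul_mem_right _ _ (ht' n)

end equivariant

section flat

theorem mem_smul_ker_of_flat {R P S : Type*} [CommRing R] [CommRing P] [CommRing S] [Algebra R P]
    [Algebra R S] [Module.Flat R S] (ψ : P →ₐ[R] S) (hsurj : Function.Surjective ψ) (𝔪 : Ideal R)
    (hfg : 𝔪.FG) (f : P) (hf : ψ f = 0) (hfm : f ∈ 𝔪.map (algebraMap R P)) :
    f ∈ 𝔪.map (algebraMap R P) * RingHom.ker ψ := by
  classical
  obtain ⟨n, a, ha⟩ := Submodule.fg_iff_exists_fin_generating_family.mp hfg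
  have ha' : ∀ i, a i ∈ 𝔪 := fun i => by rw [← ha]; exact Submodule.subset_span ⟨i, rfl⟩
  have hmap : 𝔪.map (algebraMap R P) = Ideal.span (Set.range fun i => algebraMap R P (a i)) := by
    have h1 : 𝔪 = Ideal.span (Set.range a) := ha.symm
    rw [h1, Ideal.map_span, ← Set.range_comp]
    rfl
  rw [hmap] at hfm
  obtain ⟨p, hp⟩ := (Ideal.mem_span_range_iff_exists_fun).mp hfm
  have hrel0 : ψ f = ∑ i, a i • ψ (p i) := by
    rw [← hp, map_sum]
    refine Finset.sum_congr rfl fun i _ => ?_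
    rw [map_mul, AlgHom.commutes, Algebra.smul_def, mul_comm]
  have hrel : ∑ i, a i • ψ (p i) = 0 := hrel0.symm.trans hf
  obtain ⟨κ, b, y, hy1, hy2⟩ := Module.Flat.isTrivialRelation_of_sum_smul_eq_zero (R := R) (M := S)
    (f := a) (x := fun i => ψ (p i)) hrel
  have hy1' : ∀ i, ψ (p i) = ∑ j, b i j • y j := hy1
  choose q hq using fun j => hsurj (y j)
  have hk : ∀ i, p i - ∑ j, b i j • q j ∈ RingHom.ker ψ := by
    intro i
    rw [RingHom.mem_ker, map_sub, map_sum, hy1' i, sub_eq_zero]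
    refine Finset.sum_congr rfl fun j _ => ?_
    rw [map_smul, hq]
  have hfe : f = ∑ i, algebraMap R P (a i) * (p i - ∑ j, b i j • q j) := by
    have h3 : ∑ i, algebraMap R P (a i) * ∑ j, b i j • q j = 0 := by
      have h4 : ∀ i, algebraMap R P (a i) * ∑ j, b i j • q j = ∑ j, (a i * b i j) • q j := by
        intro i
        rw [Finset.mul_sum]
        refine Finset.sum_congr rfl fun j _ => ?_
        rw [← Algebra.smul_def, smul_smul]
      rw [Finset.sum_congr rfl fun i _ => h4 i, Finset.sum_comm]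
      refine Finset.sum_eq_zero fun j _ => ?_
      rw [← Finset.sum_smul, hy2 j, zero_smul]
    rw [← hp]
    simp only [mul_sub, Finset.sum_sub_distrib]
    rw [h3, sub_zero]
    exact Finset.sum_congr rfl fun i _ => mul_comm _ _
  rw [hfe]
  exact Ideal.sum_mem _ fun i _ => Ideal.mul_mem_mul (Ideal.mem_map_of_mem _ (ha' i)) (hk i)

theorem ker_eq_of_flat {R P S : Type*} [CommRing R] [CommRing P] [IsNoetherianRing P] [CommRing S]
    [Algebra R P] [Algebra R S] [Module.Flat R S] (ψ : P →ₐ[R] S) (hsurj : Function.Surjective ψ)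
    (𝔪 : Ideal R) (hfg : 𝔪.FG) (hjac : 𝔪.map (algebraMap R P) ≤ Ideal.jacobson ⊥)
    (J : Ideal P) (hJ : J ≤ RingHom.ker ψ) (hle : RingHom.ker ψ ≤ 𝔪.map (algebraMap R P) ⊔ J) :
    RingHom.ker ψ = J := by
  refine le_antisymm ?_ hJ
  refine Submodule.le_of_le_smul_of_le_jacobson_bot (IsNoetherian.noetherian _) hjac ?_
  intro f hf
  obtain ⟨m, hm, j, hj, rfl⟩ := Submodule.mem_sup.mp (hle hf)
  have hmk : ψ m = 0 := by
    have h1 : ψ (m + j) = 0 := hf
    have h2 : ψ j = 0 := hJ hj
    rw [map_add, h2, add_zero] at h1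
    exact h1
  have := mem_smul_ker_of_flat ψ hsurj 𝔪 hfg m hmk hm
  rw [add_comm]
  exact Submodule.add_mem_sup hj this

theorem mem_map_C_of_coeff {R σ : Type*} [CommRing R] (I : Ideal R) (hI : I.FG)
    (f : MvPowerSeries σ R) (hf : ∀ m, MvPowerSeries.coeff m f ∈ I) :
    f ∈ I.map (MvPowerSeries.C : R →+* MvPowerSeries σ R) := by
  classical
  obtain ⟨n, a, ha⟩ := Submodule.fg_iff_exists_fin_generating_family.mp hI
  have ha' : ∀ i, a i ∈ I := fun i => by rw [← ha]; exact Submodule.subset_span ⟨i, rfl⟩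
  have hex : ∀ m, ∃ c : Fin n → R, ∑ i, c i * a i = MvPowerSeries.coeff m f := by
    intro m
    have h1 : MvPowerSeries.coeff m f ∈ Ideal.span (Set.range a) := by
      have := hf m
      rw [← ha] at this
      exact this
    exact Ideal.mem_span_range_iff_exists_fun.mp h1
  choose c hc using hex
  let F : Fin n → MvPowerSeries σ R := fun i m => c m i
  have hfe : f = ∑ i, (MvPowerSeries.C (a i) : MvPowerSeries σ R) * F i := by
    ext m
    rw [map_sum, ← hc m]
    refine Finset.sum_congr rfl fun i _ => ?_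
    rw [MvPowerSeries.coeff_C_mul, mul_comm]
    rfl
  rw [hfe]
  exact Ideal.sum_mem _ fun i _ => Ideal.mul_mem_right _ _ (Ideal.mem_map_of_mem _ (ha' i))

end flat

end Groth.Agent.Lib.Helper76.NodeDef
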