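import Mathlib
import Groth.Agent.Lib.Helper76.NodeDefA
import Groth.Agent.Lib.Helper76.ArInvNode

/-!
# Equivariant deformations of a node: the closed fibre and the final isomorphism (helper76)

* `ker_le_of_surjective_endo`: the surjective-endomorphism trick computing a kernel;
* `exists_Lambda`: the comparison map `k⟦x,y⟧ → R⟦X,Y⟧`, `y² - x² ↦ XY`;
* `exists_algEquiv`: `S ≃ R⟦X,Y⟧/(XY - t)` from `u v = t` and a kernel estimate on the closed fibre;
* `exists_eigen_coords`: eigen-coordinates for a branch-preserving involution of the node algebra.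
-/

set_option autoImplicit false
set_option linter.unusedSimpArgs false
universe u

namespace Groth.Agent.Lib.Helper76.NodeDef

open IsLocalRing MvPowerSeries
open Groth.Agent.Lib.Helper76.PSCRing Groth.Agent.Lib.Helper76.PSComplete

section endo

theorem ker_le_of_surjective_endo {A P : Type*} [CommRing A] [CommRing P] (w : A)
    [IsNoetherianRing (A ⧸ Ideal.span {w})] (Λ : A →+* P) (I' : Ideal P) (hΛ1 : Λ w ∈ I')
    (hΛ2 : ∀ f : P, ∃ g : A, f - Λ g ∈ I') (ψ : P →+* A ⧸ Ideal.span {w})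
    (hsurj : Function.Surjective ψ) (hI' : ∀ f ∈ I', ψ f = 0) (f : P) (hf : ψ f = 0) : f ∈ I' := by
  let Φ : A →+* A ⧸ Ideal.span {w} := ψ.comp Λ
  have hΦ : ∀ a ∈ Ideal.span {w}, Φ a = 0 := by
    intro a ha
    obtain ⟨c, rfl⟩ := Ideal.mem_span_singleton'.mp ha
    show ψ (Λ (c * w)) = 0
    rw [map_mul]
    exact hI' _ (Ideal.mul_mem_left _ _ hΛ1)
  let Φq : A ⧸ Ideal.span {w} →+* A ⧸ Ideal.span {w} := Ideal.Quotient.lift _ Φ hΦ
  have hΦq : ∀ a, Φq (Ideal.Quotient.mk _ a) = ψ (Λ a) := fun a => Ideal.Quotient.lift_mk _ _ _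
  have hkey : ∀ p : P, ∀ g : A, p - Λ g ∈ I' → ψ p = Φq (Ideal.Quotient.mk _ g) := by
    intro p g hg
    rw [hΦq, ← sub_eq_zero, ← map_sub]
    exact hI' _ hg
  have hsurjq : Function.Surjective Φq := by
    intro n
    obtain ⟨p, rfl⟩ := hsurj n
    obtain ⟨g, hg⟩ := hΛ2 p
    exact ⟨Ideal.Quotient.mk _ g, (hkey p g hg).symm⟩
  have hinj := injective_of_surjective_endo Φq hsurjq
  obtain ⟨g, hg⟩ := hΛ2 f
  have h1 : Φq (Ideal.Quotient.mk _ g) = 0 := by rw [← hkey f g hg, hf]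
  have h2 : Ideal.Quotient.mk (Ideal.span {w}) g = 0 := hinj (by rw [h1, map_zero])
  have h3 : g ∈ Ideal.span {w} := Ideal.Quotient.eq_zero_iff_mem.mp h2
  obtain ⟨c, rfl⟩ := Ideal.mem_span_singleton'.mp h3
  have h4 : Λ (c * w) ∈ I' := by rw [map_mul]; exact Ideal.mul_mem_left _ _ hΛ1
  have := Ideal.add_mem _ hg h4
  rwa [sub_add_cancel] at this

end endo

section lambda

variable {k R : Type*} [Field k] [CommRing R] [IsLocalRing R] [IsNoetherianRing R]
  [IsAdicComplete (maximalIdeal R) R] [Algebra k R]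

theorem exists_Lambda (h2 : (2 : k) ≠ 0) (ρ : R →+* k)
    (hρ : ∀ r, r - algebraMap k R (ρ r) ∈ maximalIdeal R) :
    ∃ Λ : MvPowerSeries (Fin 2) k →+* MvPowerSeries (Fin 2) R,
      Λ (X 1 ^ 2 - X 0 ^ 2) = X 0 * X 1 ∧
      ∀ f, ∃ g, f - Λ g ∈ (maximalIdeal R).map (C : R →+* MvPowerSeries (Fin 2) R) := by
  classical
  have hX : ∀ s : Fin 2, (X s : MvPowerSeries (Fin 2) R) ∈
      maximalIdeal (MvPowerSeries (Fin 2) R) := fun s => X_mem_maximalIdeal s
  obtain ⟨h, hh⟩ : ∃ h : R, 2 * h = 1 := ⟨algebraMap k R 2⁻¹, by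
    rw [← map_ofNat (algebraMap k R) 2, ← map_mul, mul_inv_cancel₀ h2, map_one]⟩
  have hC2 : (2 : MvPowerSeries (Fin 2) R) * C h = 1 := by
    rw [← map_ofNat (C : R →+* MvPowerSeries (Fin 2) R) 2, ← map_mul, hh, map_one]
  let b : Fin 2 → MvPowerSeries (Fin 2) R := ![C h * (X 1 - X 0), C h * (X 1 + X 0)]
  let b' : Fin 2 → MvPowerSeries (Fin 2) R := ![X 1 - X 0, X 1 + X 0]
  have hb : ∀ s, b s ∈ maximalIdeal (MvPowerSeries (Fin 2) R) := by
    intro s
    fin_cases s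
    · exact Ideal.mul_mem_left _ _ (Ideal.sub_mem _ (hX 1) (hX 0))
    · exact Ideal.mul_mem_left _ _ (Ideal.add_mem _ (hX 1) (hX 0))
  have hb' : ∀ s, b' s ∈ maximalIdeal (MvPowerSeries (Fin 2) R) := by
    intro s
    fin_cases s
    · exact Ideal.sub_mem _ (hX 1) (hX 0)
    · exact Ideal.add_mem _ (hX 1) (hX 0)
  obtain ⟨L, hLX, hLC⟩ := exists_ringHom (maximalIdeal (MvPowerSeries (Fin 2) R))
    (C : R →+* MvPowerSeries (Fin 2) R) b hb
  obtain ⟨L', hL'X, hL'C⟩ := exists_ringHom (maximalIdeal (MvPowerSeries (Fin 2) R))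
    (C : R →+* MvPowerSeries (Fin 2) R) b' hb'
  have hL0 : L (X 0) = C h * (X 1 - X 0) := hLX 0
  have hL1 : L (X 1) = C h * (X 1 + X 0) := hLX 1
  have hL'0 : L' (X 0) = X 1 - X 0 := hL'X 0
  have hL'1 : L' (X 1) = X 1 + X 0 := hL'X 1
  have hLL'X : ∀ s, (L.comp L') (X s) = (RingHom.id (MvPowerSeries (Fin 2) R)) (X s) := by
    intro s
    fin_cases s
    · show L (L' (X 0)) = X 0
      rw [hL'0, map_sub, hL1, hL0]
      linear_combination (X 0 : MvPowerSeries (Fin 2) R) * hC2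
    · show L (L' (X 1)) = X 1
      rw [hL'1, map_add, hL1, hL0]
      linear_combination (X 1 : MvPowerSeries (Fin 2) R) * hC2
  have hLL' : ∀ f, L (L' f) = f := by
    have : L.comp L' = RingHom.id _ := by
      refine ringHom_ext (maximalIdeal (MvPowerSeries (Fin 2) R)) _ _ ?_ hLL'X ?_
      · intro s
        rw [hLL'X s]
        exact hX s
      · intro r
        show L (L' (C r)) = C r
        rw [hL'C, hLC]
    exact fun f => RingHom.congr_fun this f
  let ι : MvPowerSeries (Fin 2) k →+* MvPowerSeries (Fin 2) R := MvPowerSeries.map (algebraMap k R)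
  refine ⟨L.comp ι, ?_, ?_⟩
  · show L (ι (X 1 ^ 2 - X 0 ^ 2)) = X 0 * X 1
    have : ι (X 1 ^ 2 - X 0 ^ 2) = X 1 ^ 2 - X 0 ^ 2 := by
      simp only [ι, map_sub, map_pow, MvPowerSeries.map_X]
    rw [this, map_sub, map_pow, map_pow, hL1, hL0]
    linear_combination (X 0 * X 1 * (2 * C h + 1) : MvPowerSeries (Fin 2) R) * hC2
  · intro f
    refine ⟨MvPowerSeries.map ρ (L' f), ?_⟩
    have hd : L' f - ι (MvPowerSeries.map ρ (L' f)) ∈
        (maximalIdeal R).map (C : R →+* MvPowerSeries (Fin 2) R) := by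
      refine mem_map_C_of_coeff _ (IsNoetherian.noetherian _) _ fun m => ?_
      rw [map_sub, MvPowerSeries.coeff_map, MvPowerSeries.coeff_map]
      exact hρ _
    have h1 := Ideal.mem_map_of_mem L hd
    rw [Ideal.map_map] at h1
    have h2 : L.comp (C : R →+* MvPowerSeries (Fin 2) R) = C := RingHom.ext hLC
    rw [h2, map_sub, hLL'] at h1
    exact h1

end lambda

section equivThm

variable {R S : Type*} [CommRing R] [IsLocalRing R] [IsNoetherianRing R]
  [IsAdicComplete (maximalIdeal R) R] [CommRing S] [IsLocalRing S] [IsNoetherianRing S]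
  [IsAdicComplete (maximalIdeal S) S] [Algebra R S] [IsLocalHom (algebraMap R S)] [Module.Flat R S]

theorem exists_algEquiv (hres : ∀ s : S, ∃ c : R, s - algebraMap R S c ∈ maximalIdeal S)
    (u v : S) (t : R) (hu : u ∈ maximalIdeal S) (hv : v ∈ maximalIdeal S)
    (huv : u * v = algebraMap R S t)
    (hgen : maximalIdeal S = Ideal.span {u, v} ⊔ (maximalIdeal R).map (algebraMap R S))
    (hfib : ∀ ψ : MvPowerSeries (Fin 2) R →ₐ[R] S, ψ (X 0) = u → ψ (X 1) = v →
      Function.Surjective ψ → ∀ f, ψ f = 0 →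
        f ∈ (maximalIdeal R).map (C : R →+* MvPowerSeries (Fin 2) R) ⊔
          Ideal.span {(X 0 * X 1 - C t : MvPowerSeries (Fin 2) R)}) :
    ∃ f : S ≃ₐ[R] (MvPowerSeries (Fin 2) R ⧸
        Ideal.span {(X 0 * X 1 - C t : MvPowerSeries (Fin 2) R)}),
      f u = Ideal.Quotient.mk _ (X 0) ∧ f v = Ideal.Quotient.mk _ (X 1) := by
  classical
  have hb : ∀ s : Fin 2, (![u, v] : Fin 2 → S) s ∈ maximalIdeal S := by
    intro s
    fin_cases s
    · exact hu
    · exact hv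
  let ψ : MvPowerSeries (Fin 2) R →ₐ[R] S := evC (maximalIdeal S) ![u, v] hb
  have hψ0 : ψ (X 0) = u := evC_X _ _ hb 0
  have hψ1 : ψ (X 1) = v := evC_X _ _ hb 1
  have hψC : ∀ r, ψ (C r) = algebraMap R S r := fun r => by
    have := ψ.commutes r
    rwa [MvPowerSeries.algebraMap_apply, Algebra.algebraMap_self, RingHom.id_apply] at this
  have hrange : Ideal.span (Set.range (![u, v] : Fin 2 → S)) = Ideal.span {u, v} := by
    apply le_antisymm
    · rw [Ideal.span_le]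
      rintro _ ⟨s, rfl⟩
      fin_cases s
      · exact Ideal.subset_span (Set.mem_insert _ _)
      · exact Ideal.subset_span (Set.mem_insert_of_mem _ rfl)
    · rw [Ideal.span_le]
      intro x hx
      rcases hx with hx | hx
      · rw [hx]
        exact Ideal.subset_span ⟨0, rfl⟩
      · rw [Set.mem_singleton_iff.mp hx]
        exact Ideal.subset_span ⟨1, rfl⟩
  have hmap : (maximalIdeal (MvPowerSeries (Fin 2) R)).map
      (ψ : MvPowerSeries (Fin 2) R →+* S) = maximalIdeal S := by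
    rw [map_maximalIdeal_eq (R := R) ![u, v] (ψ : MvPowerSeries (Fin 2) R →+* S) hψC
      (fun i => evC_X _ _ hb i), hrange, hgen, sup_comm]
  have hsurj : Function.Surjective ψ := by
    have := surjective_of_map_maximalIdeal (ψ : MvPowerSeries (Fin 2) R →+* S) hmap (fun s => by
      obtain ⟨c, hc⟩ := hres s
      refine ⟨C c, ?_⟩
      have : (ψ : MvPowerSeries (Fin 2) R →+* S) (C c) = algebraMap R S c := hψC c
      rw [this]
      exact hc)
    exact this
  have hJ0 : ψ (X 0 * X 1 - C t) = 0 := by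
    rw [map_sub, map_mul, hψ0, hψ1, hψC, huv, sub_self]
  have hJ : Ideal.span {(X 0 * X 1 - C t : MvPowerSeries (Fin 2) R)} ≤ RingHom.ker ψ := by
    rw [Ideal.span_singleton_le_iff_mem, RingHom.mem_ker]
    exact hJ0
  have hCeq : (maximalIdeal R).map (algebraMap R (MvPowerSeries (Fin 2) R)) =
      (maximalIdeal R).map (C : R →+* MvPowerSeries (Fin 2) R) := by
    congr 1
  have hker : RingHom.ker ψ = Ideal.span {(X 0 * X 1 - C t : MvPowerSeries (Fin 2) R)} := by
    refine ker_eq_of_flat ψ hsurj (maximalIdeal R) (IsNoetherian.noetherian _) ?_ _ hJ ?_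
    · rw [hCeq]
      exact map_C_maximalIdeal_le.trans (IsLocalRing.maximalIdeal_le_jacobson ⊥)
    · rw [hCeq]
      intro f hf
      exact hfib ψ hψ0 hψ1 hsurj f (RingHom.mem_ker.mp hf)
  let G : (MvPowerSeries (Fin 2) R ⧸
      Ideal.span {(X 0 * X 1 - C t : MvPowerSeries (Fin 2) R)}) →ₐ[R] S :=
    Ideal.Quotient.liftₐ _ ψ (fun a ha => RingHom.mem_ker.mp (hJ ha))
  have hG : ∀ p, G (Ideal.Quotient.mk _ p) = ψ p := fun p => rfl
  have hGbij : Function.Bijective G := by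
    constructor
    · rw [injective_iff_map_eq_zero]
      intro x hx
      obtain ⟨p, rfl⟩ := Ideal.Quotient.mk_surjective x
      rw [hG] at hx
      have : p ∈ RingHom.ker ψ := RingHom.mem_ker.mpr hx
      rw [hker] at this
      exact Ideal.Quotient.eq_zero_iff_mem.mpr this
    · intro s
      obtain ⟨p, rfl⟩ := hsurj s
      exact ⟨Ideal.Quotient.mk _ p, hG p⟩
  refine ⟨(AlgEquiv.ofBijective G hGbij).symm, ?_, ?_⟩
  · rw [AlgEquiv.symm_apply_eq]
    show u = G (Ideal.Quotient.mk _ (X 0))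
    rw [hG, hψ0]
  · rw [AlgEquiv.symm_apply_eq]
    show v = G (Ideal.Quotient.mk _ (X 1))
    rw [hG, hψ1]

end equivThm

section closedFibre

open ArSing Groth.Agent.Lib.Helper76.ArNF Groth.Agent.Lib.Helper76.ArInvNode

variable {k : Type u} [Field k]

lemma mem_maximalIdeal_of_cc {a : ring k 1} (h : PowerSeries.constantCoeff (brP a) = 0) :
    a ∈ maximalIdeal (ring k 1) := by
  rw [maximalIdeal_eq, mem_span_xy_iff, PowerSeries.X_dvd_iff]
  rw [brP_apply, map_add, map_mul, PowerSeries.constantCoeff_X, zero_mul, add_zero] at h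
  exact h

theorem exists_eigen_coords (h2 : (2 : k) ≠ 0) (σ : ring k 1 ≃ₐ[k] ring k 1)
    (hσ : ∀ a, σ (σ a) = a)
    (hP : brP (σ (y k 1)) = brP (σ (x k 1))) (hM : brM (σ (y k 1)) = -brM (σ (x k 1))) :
    ∃ (ξ₁ ξ₂ : k) (ub vb : ring k 1), ξ₁ ^ 2 = 1 ∧ ξ₂ ^ 2 = 1 ∧ ub * vb = 0 ∧
      σ ub = algebraMap k (ring k 1) ξ₂ * ub ∧ σ vb = algebraMap k (ring k 1) ξ₁ * vb ∧
      ub ∈ maximalIdeal (ring k 1) ∧ vb ∈ maximalIdeal (ring k 1) ∧
      ∀ a ∈ maximalIdeal (ring k 1), ∃ p q, a = p * ub + q * vb := by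
  have hS₁ : PowerSeries.constantCoeff (brP (σ (x k 1))) = 0 :=
    constantCoeff_eq_zero_of_not_isUnit (brP.comp (σ : ring k 1 →ₐ[k] ring k 1)) not_isUnit_x
  have hS₂ : PowerSeries.constantCoeff (brM (σ (x k 1))) = 0 :=
    constantCoeff_eq_zero_of_not_isUnit (brM.comp (σ : ring k 1 →ₐ[k] ring k 1)) not_isUnit_x
  obtain ⟨S1, hS1⟩ := exists_sub _ hS₁
  obtain ⟨S2, hS2⟩ := exists_sub _ hS₂
  have hc₁ : ∀ a, brP (σ a) = S1 (brP a) := by
    have : brP.comp (σ : ring k 1 →ₐ[k] ring k 1) = S1.comp brP := by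
      apply algHom_ext_Q
      · show brP (σ (x k 1)) = S1 (brP (x k 1))
        rw [brP_x, hS1]
      · show brP (σ (y k 1)) = S1 (brP (y k 1))
        rw [brP_y, hS1, hP]
    exact fun a => AlgHom.congr_fun this a
  have hc₂ : ∀ a, brM (σ a) = S2 (brM a) := by
    have : brM.comp (σ : ring k 1 →ₐ[k] ring k 1) = S2.comp brM := by
      apply algHom_ext_Q
      · show brM (σ (x k 1)) = S2 (brM (x k 1))
        rw [brM_x, hS2]
      · show brM (σ (y k 1)) = S2 (brM (y k 1))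
        rw [brM_y, map_neg, hS2, hM]
    exact fun a => AlgHom.congr_fun this a
  have hi₁ : ∀ f, S1 (S1 f) = f := by
    intro f
    rw [← brP_xMap f, ← hc₁, ← hc₁, hσ]
  have hi₂ : ∀ f, S2 (S2 f) = f := by
    intro f
    rw [← brM_xMap f, ← hc₂, ← hc₂, hσ]
  obtain ⟨ξ₁, τ₁, hξ₁, -, -, hτ₁, -⟩ := exists_linearise h2 S1 hi₁
  obtain ⟨ξ₂, τ₂, hξ₂, -, -, hτ₂, -⟩ := exists_linearise h2 S2 hi₂
  obtain ⟨ψ, hψP, hψM⟩ := exists_pairAut h2 τ₁ τ₂
  have hτ₁' : S1 (τ₁ PowerSeries.X) = algebraMap k (PowerSeries k) ξ₁ * τ₁ PowerSeries.X := hτ₁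
  have hτ₂' : S2 (τ₂ PowerSeries.X) = algebraMap k (PowerSeries k) ξ₂ * τ₂ PowerSeries.X := hτ₂
  have hsq₁ : ξ₁ ^ 2 = 1 := by rcases hξ₁ with rfl | rfl <;> ring
  have hsq₂ : ξ₂ ^ 2 = 1 := by rcases hξ₂ with rfl | rfl <;> ring
  have hPu : brP (ψ (y k 1 - x k 1)) = 0 := by
    rw [hψP, map_sub, brP_y, brP_x, sub_self, map_zero]
  have hMu : brM (ψ (y k 1 - x k 1)) = -τ₂ PowerSeries.X - τ₂ PowerSeries.X := by
    rw [hψM, map_sub, brM_y, brM_x, map_sub, map_neg]
  have hPv : brP (ψ (y k 1 + x k 1)) = τ₁ PowerSeries.X + τ₁ PowerSeries.X := by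
    rw [hψP, map_add, brP_y, brP_x, map_add]
  have hMv : brM (ψ (y k 1 + x k 1)) = 0 := by
    rw [hψM, map_add, brM_y, brM_x, neg_add_cancel, map_zero]
  refine ⟨ξ₁, ξ₂, ψ (y k 1 - x k 1), ψ (y k 1 + x k 1), hsq₁, hsq₂, ?_, ?_, ?_, ?_, ?_, ?_⟩
  · rw [← map_mul]
    have : (y k 1 - x k 1) * (y k 1 + x k 1) = 0 := by
      have := y_sq (k := k) (r := 1)
      linear_combination this
    rw [this, map_zero]
  · apply br_ext h2
    · rw [hc₁, hPu, map_zero, map_mul, hPu, mul_zero]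
    · rw [hc₂, map_mul, AlgHom.commutes, hMu]
      simp only [map_sub, map_neg, hτ₂']
      ring
  · apply br_ext h2
    · rw [hc₁, map_mul, AlgHom.commutes, hPv]
      simp only [map_add, hτ₁']
      ring
    · rw [hc₂, hMv, map_zero, map_mul, hMv, mul_zero]
  · exact mem_maximalIdeal_of_cc (by rw [hPu, map_zero])
  · refine mem_maximalIdeal_of_cc ?_
    rw [constantCoeff_brP_eq, hMv, map_zero]
  · intro a ha
    have hb : ψ.symm a ∈ maximalIdeal (ring k 1) := by
      refine (IsLocalRing.mem_maximalIdeal _).mpr fun hu =>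
        (IsLocalRing.mem_maximalIdeal _).mp ha ?_
      have := hu.map ψ
      rwa [AlgEquiv.apply_symm_apply] at this
    rw [maximalIdeal_eq] at hb
    obtain ⟨c, d, hcd⟩ := Ideal.mem_span_pair.mp hb
    obtain ⟨hk, hhk⟩ : ∃ hk : ring k 1, 2 * hk = 1 := ⟨algebraMap k (ring k 1) 2⁻¹, by
      rw [← map_ofNat (algebraMap k (ring k 1)) 2, ← map_mul, mul_inv_cancel₀ h2, map_one]⟩
    refine ⟨ψ (hk * (d - c)), ψ (hk * (c + d)), ?_⟩
    rw [← map_mul, ← map_mul, ← map_add]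
    have : hk * (d - c) * (y k 1 - x k 1) + hk * (c + d) * (y k 1 + x k 1) = ψ.symm a := by
      rw [← hcd]
      linear_combination (c * x k 1 + d * y k 1) * hhk
    rw [this, AlgEquiv.apply_symm_apply]

end closedFibre

end Groth.Agent.Lib.Helper76.NodeDef
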