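import Mathlib
import Groth.Agent.Lib.Helper76.NodeDefB
import Groth.Agent.Lib.Helper63.CompletionNoeth

/-!
# Nodes via completions (helper76)

* `exists_uv`: successive approximation `u v = t` (no group action) in complete local rings;
* `exists_surj`: the surjection `R⟦X,Y⟧ → S`, `X ↦ u`, `Y ↦ v`;
* `ker_sub_of_surjective_endo`: kernel computation by the surjective endomorphism trick (second form);
* `map_surjective`, `mem_map_C_of_map_eq_zero`: coefficientwise reduction of power series;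
* `exists_map_completion`: the map induced on adic completions;
* `exists_data`: the data `α`, `R̂⟦X,Y⟧ → B̂` for a node-like local homomorphism `A → B`.
-/

set_option autoImplicit false
universe u

namespace Groth.Agent.Lib.Helper76.NodeDef

open IsLocalRing MvPowerSeries
open Groth.Agent.Lib.Helper76.PSCRing Groth.Agent.Lib.Helper76.PSComplete

section nonequivariant

variable {R S : Type*} [CommRing R] [IsLocalRing R] [CommRing S] [IsLocalRing S] [Algebra R S]

theorem exists_uv [IsNoetherianRing S] [IsAdicComplete (maximalIdeal R) R]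
    [IsAdicComplete (maximalIdeal S) S] [IsLocalHom (algebraMap R S)]
    (hres : ∀ s : S, ∃ c : R, s - algebraMap R S c ∈ maximalIdeal S)
    (u₁ v₁ : S) (hu : u₁ ∈ maximalIdeal S) (hv : v₁ ∈ maximalIdeal S)
    (huv : u₁ * v₁ ∈ (maximalIdeal R).map (algebraMap R S))
    (hgen : maximalIdeal S = Ideal.span {u₁, v₁} ⊔ (maximalIdeal R).map (algebraMap R S)) :
    ∃ (u v : S) (t : R), u ∈ maximalIdeal S ∧ v ∈ maximalIdeal S ∧ t ∈ maximalIdeal R ∧
      u * v = algebraMap R S t ∧ u - u₁ ∈ (maximalIdeal R).map (algebraMap R S) ∧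
      v - v₁ ∈ (maximalIdeal R).map (algebraMap R S) := by
  classical
  let Good : ℕ → S × S × R → Prop := fun n s =>
    s.1 ∈ maximalIdeal S ∧ s.2.1 ∈ maximalIdeal S ∧ s.2.2 ∈ maximalIdeal R ∧
      maximalIdeal S = Ideal.span {s.1, s.2.1} ⊔ aI R S 1 ∧
      s.1 * s.2.1 - algebraMap R S s.2.2 ∈ aI R S (n + 1)
  have hstep : ∀ (n : ℕ) (s : S × S × R), Good n s → ∃ s' : S × S × R, Good (n + 1) s' ∧
      s'.1 - s.1 ∈ aI R S (n + 1) ∧ s'.2.1 - s.2.1 ∈ aI R S (n + 1) ∧
      s'.2.2 - s.2.2 ∈ maximalIdeal R ^ (n + 1) := by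
    rintro n ⟨U, V, e⟩ ⟨hU, hV, he, hUV, hz⟩
    simp only at hU hV he hUV hz
    obtain ⟨δ, P, Q, hδ, hP, hQ, hrest⟩ := hkey hres n U V hUV _ hz
    have hP1 : P ∈ aI R S 1 := aI_anti (by omega : 1 ≤ n + 1) hP
    have hQ1 : Q ∈ aI R S 1 := aI_anti (by omega : 1 ≤ n + 1) hQ
    have hPm : P ∈ maximalIdeal S := aI_one_le hP1
    have hQm : Q ∈ maximalIdeal S := aI_one_le hQ1
    refine ⟨(U - Q, V - P, e + δ),
      ⟨Ideal.sub_mem _ hU hQm, Ideal.sub_mem _ hV hPm,
        Ideal.add_mem _ he (Ideal.pow_le_self (by omega) hδ), ?_, ?_⟩, ?_, ?_, ?_⟩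
    · show maximalIdeal S = Ideal.span {U - Q, V - P} ⊔ aI R S 1
      apply le_antisymm
      · rw [hUV]
        refine sup_le (Ideal.span_le.mpr ?_) le_sup_right
        intro x hx
        rcases hx with hx | hx
        · rw [hx]
          have h1 : U - Q ∈ Ideal.span {U - Q, V - P} ⊔ aI R S 1 :=
            Ideal.mem_sup_left (Ideal.subset_span (Set.mem_insert _ _))
          have h2 : Q ∈ Ideal.span {U - Q, V - P} ⊔ aI R S 1 := Ideal.mem_sup_right hQ1
          have := Ideal.add_mem _ h1 h2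
          rwa [sub_add_cancel] at this
        · rw [Set.mem_singleton_iff.mp hx]
          have h1 : V - P ∈ Ideal.span {U - Q, V - P} ⊔ aI R S 1 :=
            Ideal.mem_sup_left (Ideal.subset_span (Set.mem_insert_of_mem _ rfl))
          have h2 : P ∈ Ideal.span {U - Q, V - P} ⊔ aI R S 1 := Ideal.mem_sup_right hP1
          have := Ideal.add_mem _ h1 h2
          rwa [sub_add_cancel] at this
      · refine sup_le (Ideal.span_le.mpr ?_) aI_one_le
        intro x hx
        rcases hx with hx | hx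
        · rw [hx]
          exact Ideal.sub_mem _ hU hQm
        · rw [Set.mem_singleton_iff.mp hx]
          exact Ideal.sub_mem _ hV hPm
    · show (U - Q) * (V - P) - algebraMap R S (e + δ) ∈ aI R S (n + 2)
      have hPQ : P * Q ∈ aI R S (n + 2) := by
        have := Ideal.mul_mem_mul hP hQ
        rw [aI_mul] at this
        exact aI_anti (by omega) this
      have := Ideal.add_mem _ hrest hPQ
      convert this using 1
      simp only [map_add]
      ring
    · show U - Q - U ∈ _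
      have : U - Q - U = -Q := by ring
      rw [this]
      exact Submodule.neg_mem _ hQ
    · show V - P - V ∈ _
      have : V - P - V = -P := by ring
      rw [this]
      exact Submodule.neg_mem _ hP
    · show e + δ - e ∈ _
      have : e + δ - e = δ := by ring
      rw [this]
      exact hδ
  have h0 : Good 0 (u₁, v₁, 0) := by
    refine ⟨hu, hv, zero_mem _, ?_, ?_⟩
    · show maximalIdeal S = Ideal.span {u₁, v₁} ⊔ aI R S 1
      rw [aI_one_eq]
      exact hgen
    · show u₁ * v₁ - algebraMap R S 0 ∈ aI R S (0 + 1)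
      rw [map_zero, sub_zero, zero_add, aI_one_eq]
      exact huv
  let Sq : ∀ n, {s : S × S × R // Good n s} := fun n => Nat.rec ⟨(u₁, v₁, 0), h0⟩
    (fun n s => ⟨Classical.choose (hstep n s.1 s.2), (Classical.choose_spec (hstep n s.1 s.2)).1⟩) n
  have hS : ∀ n, ((Sq (n + 1)).1.1 - (Sq n).1.1 ∈ aI R S (n + 1)) ∧
      ((Sq (n + 1)).1.2.1 - (Sq n).1.2.1 ∈ aI R S (n + 1)) ∧
      ((Sq (n + 1)).1.2.2 - (Sq n).1.2.2 ∈ maximalIdeal R ^ (n + 1)) := fun n =>
    (Classical.choose_spec (hstep n (Sq n).1 (Sq n).2)).2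
  obtain ⟨us, vs, ε, hus0, hvs0, hall⟩ : ∃ (us vs : ℕ → S) (ε : ℕ → R), us 0 = u₁ ∧ vs 0 = v₁ ∧
      ∀ n, Good n (us n, vs n, ε n) ∧ us (n + 1) - us n ∈ aI R S (n + 1) ∧
        vs (n + 1) - vs n ∈ aI R S (n + 1) ∧ ε (n + 1) - ε n ∈ maximalIdeal R ^ (n + 1) :=
    ⟨fun n => (Sq n).1.1, fun n => (Sq n).1.2.1, fun n => (Sq n).1.2.2, rfl, rfl,
      fun n => ⟨(Sq n).2, hS n⟩⟩
  clear_value Sq
  have hGood : ∀ n, us n ∈ maximalIdeal S ∧ vs n ∈ maximalIdeal S ∧ ε n ∈ maximalIdeal R ∧
      us n * vs n - algebraMap R S (ε n) ∈ aI R S (n + 1) := by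
    intro n
    obtain ⟨g1, g2, g3, -, g5⟩ := (hall n).1
    exact ⟨g1, g2, g3, g5⟩
  have hdu : ∀ n, us (n + 1) - us n ∈ maximalIdeal S ^ n := fun n =>
    Ideal.pow_le_pow_right (Nat.le_succ n) (aI_le_pow (n + 1) (hall n).2.1)
  have hdv : ∀ n, vs (n + 1) - vs n ∈ maximalIdeal S ^ n := fun n =>
    Ideal.pow_le_pow_right (Nat.le_succ n) (aI_le_pow (n + 1) (hall n).2.2.1)
  have hdε : ∀ n, ε (n + 1) - ε n ∈ maximalIdeal R ^ n := fun n =>
    Ideal.pow_le_pow_right (Nat.le_succ n) (hall n).2.2.2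
  obtain ⟨u, hu'⟩ := exists_limit (maximalIdeal S) us hdu
  obtain ⟨v, hv'⟩ := exists_limit (maximalIdeal S) vs hdv
  obtain ⟨t, ht'⟩ := exists_limit (maximalIdeal R) ε hdε
  have hdiffu : ∀ n, us n - u₁ ∈ aI R S 1 := by
    intro n
    induction n with
    | zero => rw [hus0, sub_self]; exact zero_mem _
    | succ n ih =>
      have := Ideal.add_mem _ (aI_anti (by omega : 1 ≤ n + 1) (hall n).2.1) ih
      rwa [sub_add_sub_cancel] at this
  have hdiffv : ∀ n, vs n - v₁ ∈ aI R S 1 := by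
    intro n
    induction n with
    | zero => rw [hvs0, sub_self]; exact zero_mem _
    | succ n ih =>
      have := Ideal.add_mem _ (aI_anti (by omega : 1 ≤ n + 1) (hall n).2.2.1) ih
      rwa [sub_add_sub_cancel] at this
  refine ⟨u, v, t, ?_, ?_, ?_, ?_, ?_, ?_⟩
  · have h1 := hu' 1
    rw [pow_one] at h1
    have := Ideal.add_mem _ h1 (hGood 1).1
    rwa [sub_add_cancel] at this
  · have h1 := hv' 1
    rw [pow_one] at h1
    have := Ideal.add_mem _ h1 (hGood 1).2.1
    rwa [sub_add_cancel] at this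
  · have h1 := ht' 1
    rw [pow_one] at h1
    have := Ideal.add_mem _ h1 (hGood 1).2.2.1
    rwa [sub_add_cancel] at this
  · refine eq_of_forall_sub_mem_pow (maximalIdeal S) fun n => ?_
    have e1 : (u - us n) * v ∈ maximalIdeal S ^ n := Ideal.mul_mem_right _ _ (hu' n)
    have e2 : us n * (v - vs n) ∈ maximalIdeal S ^ n := Ideal.mul_mem_left _ _ (hv' n)
    have e3 : us n * vs n - algebraMap R S (ε n) ∈ maximalIdeal S ^ n :=
      aI_le_pow n (aI_anti (Nat.le_succ n) (hGood n).2.2.2)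
    have e4 : algebraMap R S (t - ε n) ∈ maximalIdeal S ^ n :=
      aI_le_pow n (Ideal.mem_map_of_mem _ (ht' n))
    have : u * v - algebraMap R S t = (u - us n) * v + us n * (v - vs n) +
        (us n * vs n - algebraMap R S (ε n)) - algebraMap R S (t - ε n) := by
      rw [map_sub]; ring
    rw [this]
    exact Ideal.sub_mem _ (Ideal.add_mem _ (Ideal.add_mem _ e1 e2) e3) e4
  · rw [← aI_one_eq]
    apply Groth.Agent.Lib.Helper76.ArLefPS.mem_of_forall_mem_sup_pow
    intro n
    have : u - u₁ = (us n - u₁) + (u - us n) := by ring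
    rw [this]
    exact Submodule.add_mem_sup (hdiffu n) (hu' n)
  · rw [← aI_one_eq]
    apply Groth.Agent.Lib.Helper76.ArLefPS.mem_of_forall_mem_sup_pow
    intro n
    have : v - v₁ = (vs n - v₁) + (v - vs n) := by ring
    rw [this]
    exact Submodule.add_mem_sup (hdiffv n) (hv' n)

theorem exists_surj [IsNoetherianRing R] [IsNoetherianRing S] [IsAdicComplete (maximalIdeal R) R]
    [IsAdicComplete (maximalIdeal S) S]
    (hres : ∀ s : S, ∃ c : R, s - algebraMap R S c ∈ maximalIdeal S)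
    (u v : S) (t : R) (hu : u ∈ maximalIdeal S) (hv : v ∈ maximalIdeal S)
    (huv : u * v = algebraMap R S t)
    (hgen : maximalIdeal S = Ideal.span {u, v} ⊔ (maximalIdeal R).map (algebraMap R S)) :
    ∃ ψ : MvPowerSeries (Fin 2) R →ₐ[R] S, ψ (X 0) = u ∧ ψ (X 1) = v ∧ Function.Surjective ψ ∧
      ψ (X 0 * X 1 - C t) = 0 := by
  classical
  have hb : ∀ s : Fin 2, (![u, v] : Fin 2 → S) s ∈ maximalIdeal S := by
    intro s
    fin_cases s
    · exact hu
    · exact hv
  let ψ : MvPowerSeries (Fin 2) R →ₐ[R] S := evC (maximalIdeal S) ![u, v] hb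
  have hψ0 : ψ (X 0) = u := evC_X _ _ hb 0
  have hψ1 : ψ (X 1) = v := evC_X _ _ hb 1
  have hψC : ∀ r, ψ (C r) = algebraMap R S r := fun r => by
    have := ψ.commutes r
    rwa [MvPowerSeries.algebraMap_apply, Algebra.algebraMap_self, RingHom.id_apply] at this
  have hrange : Ideal.span (Set.range (![u, v] : Fin 2 → S)) = Ideal.span {u, v} := by
    apply le_antisymm
    · rw [Ideal.span_le]
      rintro _ ⟨s, rfl⟩
      fin_cases s
      · exact Ideal.subset_span (Set.mem_insert _ _)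
      · exact Ideal.subset_span (Set.mem_insert_of_mem _ rfl)
    · rw [Ideal.span_le]
      intro x hx
      rcases hx with hx | hx
      · rw [hx]
        exact Ideal.subset_span ⟨0, rfl⟩
      · rw [Set.mem_singleton_iff.mp hx]
        exact Ideal.subset_span ⟨1, rfl⟩
  have hmap : (maximalIdeal (MvPowerSeries (Fin 2) R)).map
      (ψ : MvPowerSeries (Fin 2) R →+* S) = maximalIdeal S := by
    rw [map_maximalIdeal_eq (R := R) ![u, v] (ψ : MvPowerSeries (Fin 2) R →+* S) hψC
      (fun i => evC_X _ _ hb i), hrange, hgen, sup_comm]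
  have hsurj : Function.Surjective ψ := by
    have := surjective_of_map_maximalIdeal (ψ : MvPowerSeries (Fin 2) R →+* S) hmap (fun s => by
      obtain ⟨c, hc⟩ := hres s
      refine ⟨C c, ?_⟩
      have : (ψ : MvPowerSeries (Fin 2) R →+* S) (C c) = algebraMap R S c := hψC c
      rw [this]
      exact hc)
    exact this
  refine ⟨ψ, hψ0, hψ1, hsurj, ?_⟩
  rw [map_sub, map_mul, hψ0, hψ1, hψC, huv, sub_self]

end nonequivariant

section endo2

theorem ker_sub_of_surjective_endo {P A' : Type*} [CommRing P] [CommRing A'] (w : A')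
    [IsNoetherianRing (A' ⧸ Ideal.span {w})] (π : P →+* A') (hπ : Function.Surjective π) (p₀ : P)
    (hp₀ : π p₀ = w) (ψ : P →+* A' ⧸ Ideal.span {w}) (hsurj : Function.Surjective ψ)
    (hker : ∀ f, π f = 0 → ψ f = 0) (hψp₀ : ψ p₀ = 0) (f : P) (hf : ψ f = 0) :
    ∃ c : P, π (f - c * p₀) = 0 := by
  let θ : A' →+* A' ⧸ Ideal.span {w} :=
    π.liftOfSurjective hπ ⟨ψ, fun f hf => RingHom.mem_ker.mpr (hker f (RingHom.mem_ker.mp hf))⟩
  have hθ : ∀ p, θ (π p) = ψ p := fun p =>
    RingHom.liftOfRightInverse_comp_apply π _ _ ⟨ψ, _⟩ p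
  have hθw : ∀ a ∈ Ideal.span {w}, θ a = 0 := by
    intro a ha
    obtain ⟨c, rfl⟩ := Ideal.mem_span_singleton'.mp ha
    have hw : θ w = 0 := by
      have := hθ p₀
      rw [hp₀, hψp₀] at this
      exact this
    rw [map_mul, hw, mul_zero]
  let Θ : A' ⧸ Ideal.span {w} →+* A' ⧸ Ideal.span {w} := Ideal.Quotient.lift _ θ hθw
  have hΘ : ∀ a, Θ (Ideal.Quotient.mk _ a) = θ a := fun a => Ideal.Quotient.lift_mk _ _ _
  have hsurjΘ : Function.Surjective Θ := by
    intro n
    obtain ⟨p, rfl⟩ := hsurj n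
    exact ⟨Ideal.Quotient.mk _ (π p), by rw [hΘ, hθ]⟩
  have hinj := injective_of_surjective_endo Θ hsurjΘ
  have h1 : Θ (Ideal.Quotient.mk _ (π f)) = 0 := by rw [hΘ, hθ, hf]
  have h2 : Ideal.Quotient.mk (Ideal.span {w}) (π f) = 0 := hinj (by rw [h1, map_zero])
  have h3 : π f ∈ Ideal.span {w} := Ideal.Quotient.eq_zero_iff_mem.mp h2
  obtain ⟨c', hc'⟩ := Ideal.mem_span_singleton'.mp h3
  obtain ⟨c, rfl⟩ := hπ c'
  refine ⟨c, ?_⟩
  rw [map_sub, map_mul, hp₀, hc', sub_self]

end endo2

section psmap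

variable {R k : Type*} [CommRing R] [CommRing k] {σ : Type*}

theorem map_surjective (ρ : R →+* k) (hρ : Function.Surjective ρ) :
    Function.Surjective (MvPowerSeries.map ρ : MvPowerSeries σ R →+* MvPowerSeries σ k) := by
  intro g
  choose c hc using fun m => hρ (MvPowerSeries.coeff m g)
  let F : MvPowerSeries σ R := fun m => c m
  refine ⟨F, ?_⟩
  ext m
  rw [MvPowerSeries.coeff_map]
  exact hc m

theorem mem_map_C_of_map_eq_zero (ρ : R →+* k) (hfg : (RingHom.ker ρ).FG) (f : MvPowerSeries σ R)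
    (hf : MvPowerSeries.map ρ f = 0) :
    f ∈ (RingHom.ker ρ).map (C : R →+* MvPowerSeries σ R) := by
  refine mem_map_C_of_coeff _ hfg f fun m => ?_
  rw [RingHom.mem_ker, ← MvPowerSeries.coeff_map, hf, map_zero]

end psmap

section mapCompletion

open AdicCompletion Groth.Agent.Lib.Helper63.CompletionNoeth

theorem exists_map_completion {A R : Type*} [CommRing A] [CommRing R] (φ : A →+* R) (J : Ideal A)
    (I : Ideal R) (hJI : J.map φ ≤ I) :
    ∃ Ψ : AdicCompletion J A →+* AdicCompletion I R,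
      (∀ a, Ψ (AdicCompletion.of J A a) = AdicCompletion.of I R (φ a)) ∧
      (Function.Surjective φ → J.map φ = I → Function.Surjective Ψ) := by
  have hle : ∀ n, J ^ n ≤ (I ^ n).comap φ := fun n => by
    rw [← Ideal.map_le_iff_le_comap, Ideal.map_pow]
    exact Ideal.pow_right_mono hJI n
  let f : (n : ℕ) → AdicCompletion J A →+* R ⧸ I ^ n := fun n =>
    (Ideal.quotientMap (I ^ n) φ (hle n)).comp ((evalₐ J n : AdicCompletion J A →ₐ[A] A ⧸ J ^ n) :
      AdicCompletion J A →+* A ⧸ J ^ n)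
  have hf : ∀ {m n : ℕ} (hmn : m ≤ n), (Ideal.Quotient.factorPow I hmn).comp (f n) = f m := by
    intro m n hmn
    ext x
    change Ideal.Quotient.factorPow I hmn (Ideal.quotientMap (I ^ n) φ (hle n) (evalₐ J n x)) =
      Ideal.quotientMap (I ^ m) φ (hle m) (evalₐ J m x)
    rw [← evalₐ_factorPow J hmn x]
    generalize evalₐ J n x = y
    obtain ⟨a, rfl⟩ := Ideal.Quotient.mk_surjective y
    rfl
  let Ψ := AdicCompletion.liftRingHom I f hf
  refine ⟨Ψ, ?_, ?_⟩
  · intro a
    apply AdicCompletion.ext_evalₐ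
    intro n
    rw [evalₐ_liftRingHom, evalₐ_of]
    change Ideal.quotientMap (I ^ n) φ (hle n) (evalₐ J n (AdicCompletion.of J A a)) = _
    rw [evalₐ_of]
    rfl
  · intro hφ hJI'
    intro y
    obtain ⟨r, rfl⟩ := AdicCompletion.mk_surjective I R y
    have hr : ∀ n, r.val (n + 1) - r.val n ∈ I ^ n := by
      intro n
      have h := r.property (Nat.le_succ n)
      rw [SModEq.sub_mem] at h
      have h2 : r.val n - r.val (n + 1) ∈ I ^ n := by simpa using h
      have : r.val (n + 1) - r.val n = -(r.val n - r.val (n + 1)) := by ring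
      rw [this]
      exact (I ^ n).neg_mem h2
    have hstep : ∀ n (a : A), φ a = r.val n → ∃ b, φ b = r.val (n + 1) ∧ b - a ∈ J ^ n := by
      intro n a ha
      have h1 : r.val (n + 1) - r.val n ∈ (J ^ n).map φ := by
        rw [Ideal.map_pow, hJI']; exact hr n
      obtain ⟨d, hd, hd'⟩ := (Ideal.mem_map_iff_of_surjective φ hφ).1 h1
      refine ⟨a + d, ?_, ?_⟩
      · rw [map_add, ha, hd']; ring
      · simpa using hd
    obtain ⟨a0, ha0⟩ := hφ (r.val 0)
    let seq : ∀ n, {a : A // φ a = r.val n} := fun n =>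
      Nat.rec ⟨a0, ha0⟩ (fun n p => ⟨(hstep n p.1 p.2).choose, (hstep n p.1 p.2).choose_spec.1⟩) n
    have hseq : ∀ n, (seq (n + 1)).1 - (seq n).1 ∈ J ^ n := fun n =>
      (hstep n (seq n).1 (seq n).2).choose_spec.2
    let s : AdicCauchySequence J A := AdicCauchySequence.mk J A (fun n => (seq n).1) (by
      intro n
      rw [SModEq.sub_mem]
      have : (seq n).1 - (seq (n + 1)).1 = -((seq (n + 1)).1 - (seq n).1) := by ring
      rw [this]
      have := (J ^ n).neg_mem (hseq n)
      simpa using this)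
    refine ⟨AdicCompletion.mk J A s, ?_⟩
    apply AdicCompletion.ext_evalₐ
    intro n
    rw [evalₐ_liftRingHom, evalₐ_mk]
    change Ideal.quotientMap (I ^ n) φ (hle n) (evalₐ J n (AdicCompletion.mk J A s)) = _
    rw [evalₐ_mk]
    change Ideal.Quotient.mk (I ^ n) (φ (seq n).1) = _
    rw [(seq n).2]

end mapCompletion

section completion

variable (A B : Type u) [CommRing A] [IsLocalRing A] [IsNoetherianRing A]
  [CommRing B] [IsLocalRing B] [IsNoetherianRing B] [Algebra A B] [IsLocalHom (algebraMap A B)]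

local notation "Â" => AdicCompletion (maximalIdeal A) A
local notation "B̂" => AdicCompletion (maximalIdeal B) B

theorem exists_data (hres : ∀ b : B, ∃ c : A, b - algebraMap A B c ∈ maximalIdeal B)
    (u v : B) (hu : u ∈ maximalIdeal B) (hv : v ∈ maximalIdeal B)
    (huv : u * v ∈ (maximalIdeal A).map (algebraMap A B))
    (hgen : maximalIdeal B = Ideal.span {u, v} ⊔ (maximalIdeal A).map (algebraMap A B)) :
    ∃ φh : Â →+* B̂, (∀ a, φh (algebraMap A Â a) = algebraMap A B̂ a) ∧
      ∃ α : Â, α ∈ (maximalIdeal A).map (algebraMap A Â) ∧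
      ∃ ψ₀ : MvPowerSeries (Fin 2) Â →+* B̂,
        (∀ r, ψ₀ (C r) = φh r) ∧ Function.Surjective ψ₀ ∧ ψ₀ (X 0 * X 1 - C α) = 0 ∧
        ψ₀ (X 0) - algebraMap B B̂ u ∈ (maximalIdeal A).map (algebraMap A B̂) ∧
        ψ₀ (X 1) - algebraMap B B̂ v ∈ (maximalIdeal A).map (algebraMap A B̂) := by
  classical
  haveI hNA : IsNoetherianRing Â :=
    Groth.Agent.Lib.Helper63.CompletionNoeth.isNoetherianRing_adicCompletion A _
  haveI hNB : IsNoetherianRing B̂ :=
    Groth.Agent.Lib.Helper63.CompletionNoeth.isNoetherianRing_adicCompletion B _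
  obtain ⟨φh, hφh, -⟩ := exists_map_completion (algebraMap A B) (maximalIdeal A) (maximalIdeal B)
    map_maximalIdeal_le
  have hφh' : ∀ a, φh (algebraMap A Â a) = algebraMap A B̂ a := fun a => hφh a
  letI : Algebra Â B̂ := φh.toAlgebra
  have halg : ∀ r : Â, algebraMap Â B̂ r = φh r := fun r => rfl
  have hmA : maximalIdeal Â = (maximalIdeal A).map (algebraMap A Â) :=
    AdicCompletion.maximalIdeal_eq_map
  have hmB : maximalIdeal B̂ = (maximalIdeal B).map (algebraMap B B̂) :=
    AdicCompletion.maximalIdeal_eq_map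
  have hcomp : (algebraMap Â B̂).comp (algebraMap A Â) = algebraMap A B̂ := RingHom.ext hφh'
  have hcomp' : (algebraMap B B̂).comp (algebraMap A B) = algebraMap A B̂ :=
    RingHom.ext fun a => rfl
  have hK : (maximalIdeal Â).map (algebraMap Â B̂) = (maximalIdeal A).map (algebraMap A B̂) := by
    rw [hmA, Ideal.map_map, hcomp]
  have hK' : ((maximalIdeal A).map (algebraMap A B)).map (algebraMap B B̂) =
      (maximalIdeal A).map (algebraMap A B̂) := by
    rw [Ideal.map_map, hcomp']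
  haveI : IsLocalHom (algebraMap Â B̂) := by
    apply ((IsLocalRing.local_hom_TFAE _).out 0 2).mpr
    rw [hK, ← hK', hmB]
    exact Ideal.map_mono map_maximalIdeal_le
  have hres' : ∀ s : B̂, ∃ c : Â, s - algebraMap Â B̂ c ∈ maximalIdeal B̂ := by
    intro s
    obtain ⟨b, hb⟩ := Ideal.Quotient.mk_surjective (AdicCompletion.evalOneₐ (maximalIdeal B) s)
    have h1 : s - algebraMap B B̂ b ∈ maximalIdeal B̂ := by
      rw [hmB, ← AdicCompletion.ker_evalOneₐ_eq_map _ (IsNoetherian.noetherian _), RingHom.mem_ker]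
      show AdicCompletion.evalOneₐ (maximalIdeal B) (s - algebraMap B B̂ b) = 0
      rw [map_sub, ← hb, sub_eq_zero]
      rfl
    obtain ⟨c, hc⟩ := hres b
    refine ⟨algebraMap A Â c, ?_⟩
    have h2 : algebraMap B B̂ (b - algebraMap A B c) ∈ maximalIdeal B̂ := by
      rw [hmB]
      exact Ideal.mem_map_of_mem _ hc
    rw [halg, hφh']
    have h3 : algebraMap B B̂ (algebraMap A B c) = algebraMap A B̂ c := rfl
    have : s - algebraMap A B̂ c = (s - algebraMap B B̂ b) +
        algebraMap B B̂ (b - algebraMap A B c) := by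
      rw [map_sub, h3]; ring
    rw [this]
    exact Ideal.add_mem _ h1 h2
  have hu' : algebraMap B B̂ u ∈ maximalIdeal B̂ := by
    rw [hmB]; exact Ideal.mem_map_of_mem _ hu
  have hv' : algebraMap B B̂ v ∈ maximalIdeal B̂ := by
    rw [hmB]; exact Ideal.mem_map_of_mem _ hv
  have huv' : algebraMap B B̂ u * algebraMap B B̂ v ∈ (maximalIdeal Â).map (algebraMap Â B̂) := by
    rw [hK, ← hK', ← map_mul]
    exact Ideal.mem_map_of_mem _ huv
  have hgen' : maximalIdeal B̂ = Ideal.span {algebraMap B B̂ u, algebraMap B B̂ v} ⊔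
      (maximalIdeal Â).map (algebraMap Â B̂) := by
    rw [hK, ← hK', hmB, hgen, Ideal.map_sup, Ideal.map_span, Set.image_pair]
  obtain ⟨uh, vh, t, hum, hvm, htm, huvh, hu1, hv1⟩ :=
    exists_uv hres' _ _ hu' hv' huv' hgen'
  have hgen'' : maximalIdeal B̂ = Ideal.span {uh, vh} ⊔
      (maximalIdeal Â).map (algebraMap Â B̂) := by
    apply le_antisymm
    · rw [hgen']
      refine sup_le (Ideal.span_le.mpr ?_) le_sup_right
      intro x hx
      rcases hx with hx | hx
      · rw [hx]
        have h1 : uh ∈ Ideal.span {uh, vh} ⊔ (maximalIdeal Â).map (algebraMap Â B̂) :=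
          Ideal.mem_sup_left (Ideal.subset_span (Set.mem_insert _ _))
        have h2' : uh - algebraMap B B̂ u ∈
            Ideal.span {uh, vh} ⊔ (maximalIdeal Â).map (algebraMap Â B̂) :=
          Ideal.mem_sup_right hu1
        have := Ideal.sub_mem _ h1 h2'
        rwa [sub_sub_cancel] at this
      · rw [Set.mem_singleton_iff.mp hx]
        have h1 : vh ∈ Ideal.span {uh, vh} ⊔ (maximalIdeal Â).map (algebraMap Â B̂) :=
          Ideal.mem_sup_left (Ideal.subset_span (Set.mem_insert_of_mem _ rfl))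
        have h2' : vh - algebraMap B B̂ v ∈
            Ideal.span {uh, vh} ⊔ (maximalIdeal Â).map (algebraMap Â B̂) :=
          Ideal.mem_sup_right hv1
        have := Ideal.sub_mem _ h1 h2'
        rwa [sub_sub_cancel] at this
    · refine sup_le (Ideal.span_le.mpr ?_) map_maximalIdeal_le
      intro x hx
      rcases hx with hx | hx
      · rw [hx]
        exact hum
      · rw [Set.mem_singleton_iff.mp hx]
        exact hvm
  obtain ⟨ψ, hψ0, hψ1, hψs, hψk⟩ := exists_surj hres' uh vh t hum hvm huvh hgen''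
  refine ⟨φh, hφh', t, by rw [← hmA]; exact htm, (ψ : MvPowerSeries (Fin 2) Â →+* B̂), ?_, hψs,
    hψk, ?_, ?_⟩
  · intro r
    have := ψ.commutes r
    rwa [MvPowerSeries.algebraMap_apply, Algebra.algebraMap_self, RingHom.id_apply] at this
  · show ψ (X 0) - _ ∈ _
    rw [hψ0, ← hK]
    exact hu1
  · show ψ (X 1) - _ ∈ _
    rw [hψ1, ← hK]
    exact hv1

end completion

end Groth.Agent.Lib.Helper76.NodeDef
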