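import Mathlib
import Groth.Agent.Lib.Helper76.NodeDefC
import Groth.Agent.Lib.Helper76.ComplDense
import Groth.Agent.Lib.Helper83.FlatCompl

/-!
# Nodes with a general nondegenerate quadratic form (helper76)

* `step_identityQ`, `exists_uvQ`: successive approximation `a u² + b u v + c v² = t`
  (discriminant a unit) in complete local rings;
* `exists_surj0`, `exists_surjQ`: the surjection `R⟦X,Y⟧ → S`;
* `exists_algEquiv_of_flat_complete`: a flat complete local `Λ`-algebra whose closed fibre is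
  `k⟦X,Y⟧/(q̄)` is `Λ⟦X,Y⟧/(q - h)`;
* `ker_map_completion`: the kernel of the map of completions induced by a surjection;
* `exists_equiv_of_flat_fibre`: the version for a flat local homomorphism `A → B` of Noetherian
  local rings, in terms of the completion of the fibre ring.
-/

set_option autoImplicit false
universe u

namespace Groth.Agent.Lib.Helper76.NodeDef

open IsLocalRing MvPowerSeries
open Groth.Agent.Lib.Helper76.PSCRing Groth.Agent.Lib.Helper76.PSComplete

section pureQ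

lemma step_identityQ {S : Type*} [CommRing S] (U V E D P Q Aa Bb Cc Dv : S)
    (hd : (Bb * Bb - 4 * Aa * Cc) * Dv = 1) :
    Aa * (U + Dv * (2 * Cc * P - Bb * Q)) ^ 2 +
        Bb * ((U + Dv * (2 * Cc * P - Bb * Q)) * (V + Dv * (2 * Aa * Q - Bb * P))) +
        Cc * (V + Dv * (2 * Aa * Q - Bb * P)) ^ 2 - (E + D) =
      (Aa * U ^ 2 + Bb * (U * V) + Cc * V ^ 2 - E - (D + U * P + V * Q)) +
      (Aa * (Dv * (2 * Cc * P - Bb * Q)) ^ 2 +
        Bb * ((Dv * (2 * Cc * P - Bb * Q)) * (Dv * (2 * Aa * Q - Bb * P))) +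
        Cc * (Dv * (2 * Aa * Q - Bb * P)) ^ 2) := by
  linear_combination (-(U * P + V * Q)) * hd

end pureQ

section approxQ

variable {R S : Type*} [CommRing R] [IsLocalRing R] [CommRing S] [IsLocalRing S] [Algebra R S]

theorem exists_uvQ [IsNoetherianRing S] [IsAdicComplete (maximalIdeal R) R]
    [IsAdicComplete (maximalIdeal S) S] [IsLocalHom (algebraMap R S)]
    (hres : ∀ s : S, ∃ c : R, s - algebraMap R S c ∈ maximalIdeal S)
    (a b c dinv : R) (hd : (b * b - 4 * a * c) * dinv = 1)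
    (u₁ v₁ : S) (hu : u₁ ∈ maximalIdeal S) (hv : v₁ ∈ maximalIdeal S)
    (huv : algebraMap R S a * u₁ ^ 2 + algebraMap R S b * (u₁ * v₁) + algebraMap R S c * v₁ ^ 2 ∈
      (maximalIdeal R).map (algebraMap R S))
    (hgen : maximalIdeal S = Ideal.span {u₁, v₁} ⊔ (maximalIdeal R).map (algebraMap R S)) :
    ∃ (u v : S) (t : R), u ∈ maximalIdeal S ∧ v ∈ maximalIdeal S ∧ t ∈ maximalIdeal R ∧
      algebraMap R S a * u ^ 2 + algebraMap R S b * (u * v) + algebraMap R S c * v ^ 2 =
        algebraMap R S t ∧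
      u - u₁ ∈ (maximalIdeal R).map (algebraMap R S) ∧
      v - v₁ ∈ (maximalIdeal R).map (algebraMap R S) := by
  classical
  have hd' : (algebraMap R S b * algebraMap R S b - 4 * algebraMap R S a * algebraMap R S c) *
      algebraMap R S dinv = 1 := by
    have := congrArg (algebraMap R S) hd
    simpa only [map_mul, map_sub, map_ofNat, map_one] using this
  let Good : ℕ → S × S × R → Prop := fun n s =>
    s.1 ∈ maximalIdeal S ∧ s.2.1 ∈ maximalIdeal S ∧ s.2.2 ∈ maximalIdeal R ∧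
      maximalIdeal S = Ideal.span {s.1, s.2.1} ⊔ aI R S 1 ∧
      algebraMap R S a * s.1 ^ 2 + algebraMap R S b * (s.1 * s.2.1) +
        algebraMap R S c * s.2.1 ^ 2 - algebraMap R S s.2.2 ∈ aI R S (n + 1)
  have hstep : ∀ (n : ℕ) (s : S × S × R), Good n s → ∃ s' : S × S × R, Good (n + 1) s' ∧
      s'.1 - s.1 ∈ aI R S (n + 1) ∧ s'.2.1 - s.2.1 ∈ aI R S (n + 1) ∧
      s'.2.2 - s.2.2 ∈ maximalIdeal R ^ (n + 1) := by
    rintro n ⟨U, V, e⟩ ⟨hU, hV, he, hUV, hz⟩
    simp only at hU hV he hUV hz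
    obtain ⟨δ, P, Q, hδ, hP, hQ, hrest⟩ := hkey hres n U V hUV _ hz
    obtain ⟨s, hsdef⟩ : ∃ s, s = algebraMap R S dinv *
        (2 * algebraMap R S c * P - algebraMap R S b * Q) := ⟨_, rfl⟩
    obtain ⟨r, hrdef⟩ : ∃ r, r = algebraMap R S dinv *
        (2 * algebraMap R S a * Q - algebraMap R S b * P) := ⟨_, rfl⟩
    have hs : s ∈ aI R S (n + 1) := by
      rw [hsdef]
      exact Ideal.mul_mem_left _ _ (Ideal.sub_mem _ (Ideal.mul_mem_left _ _ hP)
        (Ideal.mul_mem_left _ _ hQ))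
    have hr : r ∈ aI R S (n + 1) := by
      rw [hrdef]
      exact Ideal.mul_mem_left _ _ (Ideal.sub_mem _ (Ideal.mul_mem_left _ _ hQ)
        (Ideal.mul_mem_left _ _ hP))
    have hs1 : s ∈ aI R S 1 := aI_anti (by omega : 1 ≤ n + 1) hs
    have hr1 : r ∈ aI R S 1 := aI_anti (by omega : 1 ≤ n + 1) hr
    have hsm : s ∈ maximalIdeal S := aI_one_le hs1
    have hrm : r ∈ maximalIdeal S := aI_one_le hr1
    refine ⟨(U + s, V + r, e + δ),
      ⟨Ideal.add_mem _ hU hsm, Ideal.add_mem _ hV hrm,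
        Ideal.add_mem _ he (Ideal.pow_le_self (by omega) hδ), ?_, ?_⟩, ?_, ?_, ?_⟩
    · show maximalIdeal S = Ideal.span {U + s, V + r} ⊔ aI R S 1
      apply le_antisymm
      · rw [hUV]
        refine sup_le (Ideal.span_le.mpr ?_) le_sup_right
        intro x hx
        rcases hx with hx | hx
        · rw [hx]
          have h1 : U + s ∈ Ideal.span {U + s, V + r} ⊔ aI R S 1 :=
            Ideal.mem_sup_left (Ideal.subset_span (Set.mem_insert _ _))
          have h2 : s ∈ Ideal.span {U + s, V + r} ⊔ aI R S 1 := Ideal.mem_sup_right hs1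
          have := Ideal.sub_mem _ h1 h2
          rwa [add_sub_cancel_right] at this
        · rw [Set.mem_singleton_iff.mp hx]
          have h1 : V + r ∈ Ideal.span {U + s, V + r} ⊔ aI R S 1 :=
            Ideal.mem_sup_left (Ideal.subset_span (Set.mem_insert_of_mem _ rfl))
          have h2 : r ∈ Ideal.span {U + s, V + r} ⊔ aI R S 1 := Ideal.mem_sup_right hr1
          have := Ideal.sub_mem _ h1 h2
          rwa [add_sub_cancel_right] at this
      · refine sup_le (Ideal.span_le.mpr ?_) aI_one_le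
        intro x hx
        rcases hx with hx | hx
        · rw [hx]
          exact Ideal.add_mem _ hU hsm
        · rw [Set.mem_singleton_iff.mp hx]
          exact Ideal.add_mem _ hV hrm
    · show algebraMap R S a * (U + s) ^ 2 + algebraMap R S b * ((U + s) * (V + r)) +
        algebraMap R S c * (V + r) ^ 2 - algebraMap R S (e + δ) ∈ aI R S (n + 2)
      have hmul : ∀ x y : S, x ∈ aI R S (n + 1) → y ∈ aI R S (n + 1) →
          x * y ∈ aI R S (n + 2) := by
        intro x y hx hy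
        have := Ideal.mul_mem_mul hx hy
        rw [aI_mul] at this
        exact aI_anti (by omega) this
      have hsr : algebraMap R S a * s ^ 2 + algebraMap R S b * (s * r) +
          algebraMap R S c * r ^ 2 ∈ aI R S (n + 2) := by
        rw [pow_two, pow_two]
        exact Ideal.add_mem _ (Ideal.add_mem _ (Ideal.mul_mem_left _ _ (hmul s s hs hs))
          (Ideal.mul_mem_left _ _ (hmul s r hs hr))) (Ideal.mul_mem_left _ _ (hmul r r hr hr))
      have key := step_identityQ U V (algebraMap R S e) (algebraMap R S δ) P Q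
        (algebraMap R S a) (algebraMap R S b) (algebraMap R S c) (algebraMap R S dinv) hd'
      rw [← hsdef, ← hrdef] at key
      rw [map_add, key]
      exact Ideal.add_mem _ hrest hsr
    · show U + s - U ∈ _
      have : U + s - U = s := by ring
      rw [this]
      exact hs
    · show V + r - V ∈ _
      have : V + r - V = r := by ring
      rw [this]
      exact hr
    · show e + δ - e ∈ _
      have : e + δ - e = δ := by ring
      rw [this]
      exact hδ
  have h0 : Good 0 (u₁, v₁, 0) := by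
    refine ⟨hu, hv, zero_mem _, ?_, ?_⟩
    · show maximalIdeal S = Ideal.span {u₁, v₁} ⊔ aI R S 1
      rw [aI_one_eq]
      exact hgen
    · show algebraMap R S a * u₁ ^ 2 + algebraMap R S b * (u₁ * v₁) +
        algebraMap R S c * v₁ ^ 2 - algebraMap R S 0 ∈ aI R S (0 + 1)
      rw [map_zero, sub_zero, zero_add, aI_one_eq]
      exact huv
  let Sq : ∀ n, {s : S × S × R // Good n s} := fun n => Nat.rec ⟨(u₁, v₁, 0), h0⟩
    (fun n s => ⟨Classical.choose (hstep n s.1 s.2), (Classical.choose_spec (hstep n s.1 s.2)).1⟩) n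
  have hS : ∀ n, ((Sq (n + 1)).1.1 - (Sq n).1.1 ∈ aI R S (n + 1)) ∧
      ((Sq (n + 1)).1.2.1 - (Sq n).1.2.1 ∈ aI R S (n + 1)) ∧
      ((Sq (n + 1)).1.2.2 - (Sq n).1.2.2 ∈ maximalIdeal R ^ (n + 1)) := fun n =>
    (Classical.choose_spec (hstep n (Sq n).1 (Sq n).2)).2
  obtain ⟨us, vs, ε, hus0, hvs0, hall⟩ : ∃ (us vs : ℕ → S) (ε : ℕ → R), us 0 = u₁ ∧ vs 0 = v₁ ∧
      ∀ n, Good n (us n, vs n, ε n) ∧ us (n + 1) - us n ∈ aI R S (n + 1) ∧
        vs (n + 1) - vs n ∈ aI R S (n + 1) ∧ ε (n + 1) - ε n ∈ maximalIdeal R ^ (n + 1) :=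
    ⟨fun n => (Sq n).1.1, fun n => (Sq n).1.2.1, fun n => (Sq n).1.2.2, rfl, rfl,
      fun n => ⟨(Sq n).2, hS n⟩⟩
  clear_value Sq
  have hGood : ∀ n, us n ∈ maximalIdeal S ∧ vs n ∈ maximalIdeal S ∧ ε n ∈ maximalIdeal R ∧
      algebraMap R S a * us n ^ 2 + algebraMap R S b * (us n * vs n) +
        algebraMap R S c * vs n ^ 2 - algebraMap R S (ε n) ∈ aI R S (n + 1) := by
    intro n
    obtain ⟨g1, g2, g3, -, g5⟩ := (hall n).1
    exact ⟨g1, g2, g3, g5⟩
  have hdu : ∀ n, us (n + 1) - us n ∈ maximalIdeal S ^ n := fun n =>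
    Ideal.pow_le_pow_right (Nat.le_succ n) (aI_le_pow (n + 1) (hall n).2.1)
  have hdv : ∀ n, vs (n + 1) - vs n ∈ maximalIdeal S ^ n := fun n =>
    Ideal.pow_le_pow_right (Nat.le_succ n) (aI_le_pow (n + 1) (hall n).2.2.1)
  have hdε : ∀ n, ε (n + 1) - ε n ∈ maximalIdeal R ^ n := fun n =>
    Ideal.pow_le_pow_right (Nat.le_succ n) (hall n).2.2.2
  obtain ⟨u, hu'⟩ := exists_limit (maximalIdeal S) us hdu
  obtain ⟨v, hv'⟩ := exists_limit (maximalIdeal S) vs hdv
  obtain ⟨t, ht'⟩ := exists_limit (maximalIdeal R) ε hdε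
  have hdiffu : ∀ n, us n - u₁ ∈ aI R S 1 := by
    intro n
    induction n with
    | zero => rw [hus0, sub_self]; exact zero_mem _
    | succ n ih =>
      have := Ideal.add_mem _ (aI_anti (by omega : 1 ≤ n + 1) (hall n).2.1) ih
      rwa [sub_add_sub_cancel] at this
  have hdiffv : ∀ n, vs n - v₁ ∈ aI R S 1 := by
    intro n
    induction n with
    | zero => rw [hvs0, sub_self]; exact zero_mem _
    | succ n ih =>
      have := Ideal.add_mem _ (aI_anti (by omega : 1 ≤ n + 1) (hall n).2.2.1) ih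
      rwa [sub_add_sub_cancel] at this
  refine ⟨u, v, t, ?_, ?_, ?_, ?_, ?_, ?_⟩
  · have h1 := hu' 1
    rw [pow_one] at h1
    have := Ideal.add_mem _ h1 (hGood 1).1
    rwa [sub_add_cancel] at this
  · have h1 := hv' 1
    rw [pow_one] at h1
    have := Ideal.add_mem _ h1 (hGood 1).2.1
    rwa [sub_add_cancel] at this
  · have h1 := ht' 1
    rw [pow_one] at h1
    have := Ideal.add_mem _ h1 (hGood 1).2.2.1
    rwa [sub_add_cancel] at this
  · refine eq_of_forall_sub_mem_pow (maximalIdeal S) fun n => ?_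
    have e1 : algebraMap R S a * ((u - us n) * (u + us n)) +
        algebraMap R S b * ((u - us n) * v + us n * (v - vs n)) +
        algebraMap R S c * ((v - vs n) * (v + vs n)) ∈ maximalIdeal S ^ n :=
      Ideal.add_mem _ (Ideal.add_mem _
        (Ideal.mul_mem_left _ _ (Ideal.mul_mem_right _ _ (hu' n)))
        (Ideal.mul_mem_left _ _ (Ideal.add_mem _ (Ideal.mul_mem_right _ _ (hu' n))
          (Ideal.mul_mem_left _ _ (hv' n)))))
        (Ideal.mul_mem_left _ _ (Ideal.mul_mem_right _ _ (hv' n)))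
    have e3 : algebraMap R S a * us n ^ 2 + algebraMap R S b * (us n * vs n) +
        algebraMap R S c * vs n ^ 2 - algebraMap R S (ε n) ∈ maximalIdeal S ^ n :=
      aI_le_pow n (aI_anti (Nat.le_succ n) (hGood n).2.2.2)
    have e4 : algebraMap R S (t - ε n) ∈ maximalIdeal S ^ n :=
      aI_le_pow n (Ideal.mem_map_of_mem _ (ht' n))
    have : algebraMap R S a * u ^ 2 + algebraMap R S b * (u * v) + algebraMap R S c * v ^ 2 -
        algebraMap R S t = (algebraMap R S a * ((u - us n) * (u + us n)) +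
        algebraMap R S b * ((u - us n) * v + us n * (v - vs n)) +
        algebraMap R S c * ((v - vs n) * (v + vs n))) +
        (algebraMap R S a * us n ^ 2 + algebraMap R S b * (us n * vs n) +
        algebraMap R S c * vs n ^ 2 - algebraMap R S (ε n)) - algebraMap R S (t - ε n) := by
      rw [map_sub]; ring
    rw [this]
    exact Ideal.sub_mem _ (Ideal.add_mem _ e1 e3) e4
  · rw [← aI_one_eq]
    apply Groth.Agent.Lib.Helper76.ArLefPS.mem_of_forall_mem_sup_pow
    intro n
    have : u - u₁ = (us n - u₁) + (u - us n) := by ring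
    rw [this]
    exact Submodule.add_mem_sup (hdiffu n) (hu' n)
  · rw [← aI_one_eq]
    apply Groth.Agent.Lib.Helper76.ArLefPS.mem_of_forall_mem_sup_pow
    intro n
    have : v - v₁ = (vs n - v₁) + (v - vs n) := by ring
    rw [this]
    exact Submodule.add_mem_sup (hdiffv n) (hv' n)

theorem exists_surj0 [IsNoetherianRing R] [IsNoetherianRing S] [IsAdicComplete (maximalIdeal R) R]
    [IsAdicComplete (maximalIdeal S) S]
    (hres : ∀ s : S, ∃ c : R, s - algebraMap R S c ∈ maximalIdeal S)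
    (u v : S) (hu : u ∈ maximalIdeal S) (hv : v ∈ maximalIdeal S)
    (hgen : maximalIdeal S = Ideal.span {u, v} ⊔ (maximalIdeal R).map (algebraMap R S)) :
    ∃ ψ : MvPowerSeries (Fin 2) R →ₐ[R] S, ψ (X 0) = u ∧ ψ (X 1) = v ∧ Function.Surjective ψ ∧
      ∀ r, ψ (C r) = algebraMap R S r := by
  classical
  have hb : ∀ s : Fin 2, (![u, v] : Fin 2 → S) s ∈ maximalIdeal S := by
    intro s
    fin_cases s
    · exact hu
    · exact hv
  let ψ : MvPowerSeries (Fin 2) R →ₐ[R] S := evC (maximalIdeal S) ![u, v] hb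
  have hψ0 : ψ (X 0) = u := evC_X _ _ hb 0
  have hψ1 : ψ (X 1) = v := evC_X _ _ hb 1
  have hψC : ∀ r, ψ (C r) = algebraMap R S r := fun r => by
    have := ψ.commutes r
    rwa [MvPowerSeries.algebraMap_apply, Algebra.algebraMap_self, RingHom.id_apply] at this
  have hrange : Ideal.span (Set.range (![u, v] : Fin 2 → S)) = Ideal.span {u, v} := by
    apply le_antisymm
    · rw [Ideal.span_le]
      rintro _ ⟨s, rfl⟩
      fin_cases s
      · exact Ideal.subset_span (Set.mem_insert _ _)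
      · exact Ideal.subset_span (Set.mem_insert_of_mem _ rfl)
    · rw [Ideal.span_le]
      intro x hx
      rcases hx with hx | hx
      · rw [hx]
        exact Ideal.subset_span ⟨0, rfl⟩
      · rw [Set.mem_singleton_iff.mp hx]
        exact Ideal.subset_span ⟨1, rfl⟩
  have hmap : (maximalIdeal (MvPowerSeries (Fin 2) R)).map
      (ψ : MvPowerSeries (Fin 2) R →+* S) = maximalIdeal S := by
    rw [map_maximalIdeal_eq (R := R) ![u, v] (ψ : MvPowerSeries (Fin 2) R →+* S) hψC
      (fun i => evC_X _ _ hb i), hrange, hgen, sup_comm]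
  have hsurj : Function.Surjective ψ := by
    have := surjective_of_map_maximalIdeal (ψ : MvPowerSeries (Fin 2) R →+* S) hmap (fun s => by
      obtain ⟨c, hc⟩ := hres s
      refine ⟨C c, ?_⟩
      have : (ψ : MvPowerSeries (Fin 2) R →+* S) (C c) = algebraMap R S c := hψC c
      rw [this]
      exact hc)
    exact this
  exact ⟨ψ, hψ0, hψ1, hsurj, hψC⟩

theorem exists_surjQ [IsNoetherianRing R] [IsNoetherianRing S] [IsAdicComplete (maximalIdeal R) R]
    [IsAdicComplete (maximalIdeal S) S]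
    (hres : ∀ s : S, ∃ c : R, s - algebraMap R S c ∈ maximalIdeal S)
    (a b c : R) (u v : S) (t : R) (hu : u ∈ maximalIdeal S) (hv : v ∈ maximalIdeal S)
    (huv : algebraMap R S a * u ^ 2 + algebraMap R S b * (u * v) + algebraMap R S c * v ^ 2 =
      algebraMap R S t)
    (hgen : maximalIdeal S = Ideal.span {u, v} ⊔ (maximalIdeal R).map (algebraMap R S)) :
    ∃ ψ : MvPowerSeries (Fin 2) R →ₐ[R] S, ψ (X 0) = u ∧ ψ (X 1) = v ∧ Function.Surjective ψ ∧
      (∀ r, ψ (C r) = algebraMap R S r) ∧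
      ψ (C a * X 0 ^ 2 + C b * X 0 * X 1 + C c * X 1 ^ 2 - C t) = 0 := by
  obtain ⟨ψ, hψ0, hψ1, hψs, hψC⟩ := exists_surj0 hres u v hu hv hgen
  refine ⟨ψ, hψ0, hψ1, hψs, hψC, ?_⟩
  simp only [map_sub, map_add, map_mul, map_pow, hψ0, hψ1, hψC]
  rw [← huv]
  ring

end approxQ

section completeFlat

theorem exists_algEquiv_of_flat_complete {Λ S k : Type*} [CommRing Λ] [IsLocalRing Λ]
    [IsNoetherianRing Λ] [IsAdicComplete (maximalIdeal Λ) Λ] [CommRing S] [IsLocalRing S]
    [IsNoetherianRing S] [IsAdicComplete (maximalIdeal S) S] [Algebra Λ S]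
    [IsLocalHom (algebraMap Λ S)] [Module.Flat Λ S] [Field k]
    (ρ : Λ →+* k) (hρ : Function.Surjective ρ) (a b c dinv : Λ)
    (hd : (b * b - 4 * a * c) * dinv = 1)
    (qb : MvPowerSeries (Fin 2) k)
    (hqb : qb = C (ρ a) * X 0 ^ 2 + C (ρ b) * X 0 * X 1 + C (ρ c) * X 1 ^ 2)
    (Φ : S →+* (MvPowerSeries (Fin 2) k ⧸ Ideal.span {qb}))
    (hΦs : Function.Surjective Φ)
    (hΦk : RingHom.ker Φ = (maximalIdeal Λ).map (algebraMap Λ S))
    (hΦc : ∀ r : Λ, Φ (algebraMap Λ S r) = Ideal.Quotient.mk _ (C (ρ r))) :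
    ∃ h ∈ maximalIdeal Λ, Nonempty ((MvPowerSeries (Fin 2) Λ ⧸ Ideal.span
      {(C a * X 0 ^ 2 + C b * X 0 * X 1 + C c * X 1 ^ 2 - C h : MvPowerSeries (Fin 2) Λ)})
        ≃ₐ[Λ] S) := by
  classical
  have hX0 : (X 0 : MvPowerSeries (Fin 2) k) ∈ maximalIdeal (MvPowerSeries (Fin 2) k) :=
    X_mem_maximalIdeal 0
  have hX1 : (X 1 : MvPowerSeries (Fin 2) k) ∈ maximalIdeal (MvPowerSeries (Fin 2) k) :=
    X_mem_maximalIdeal 1
  have hqbm : qb ∈ maximalIdeal (MvPowerSeries (Fin 2) k) := by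
    rw [hqb]
    exact Ideal.add_mem _ (Ideal.add_mem _
      (Ideal.mul_mem_left _ _ (Ideal.pow_mem_of_mem _ hX0 2 (by norm_num)))
      (Ideal.mul_mem_left _ _ hX1))
      (Ideal.mul_mem_left _ _ (Ideal.pow_mem_of_mem _ hX1 2 (by norm_num)))
  have hJkle : Ideal.span {qb} ≤ maximalIdeal (MvPowerSeries (Fin 2) k) := by
    rw [Ideal.span_le, Set.singleton_subset_iff]
    exact hqbm
  have hnonunit : ∀ w ∈ maximalIdeal (MvPowerSeries (Fin 2) k),
      ¬ IsUnit (Ideal.Quotient.mk (Ideal.span {qb}) w) := by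
    intro w hw hunit
    obtain ⟨z, hz⟩ := hunit.exists_right_inv
    obtain ⟨g, rfl⟩ := Ideal.Quotient.mk_surjective z
    rw [← map_mul, ← map_one (Ideal.Quotient.mk (Ideal.span {qb})), Ideal.Quotient.eq] at hz
    have h1 := hJkle hz
    have h2 : w * g ∈ maximalIdeal (MvPowerSeries (Fin 2) k) := Ideal.mul_mem_right _ _ hw
    have h3 := Ideal.sub_mem _ h2 h1
    rw [sub_sub_cancel] at h3
    exact (Ideal.ne_top_iff_one _).mp (maximalIdeal.isMaximal _).ne_top h3
  have hmem_of : ∀ s : S, ¬ IsUnit (Φ s) → s ∈ maximalIdeal S := by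
    intro s h
    rw [mem_maximalIdeal, mem_nonunits_iff]
    exact fun hu => h (hu.map Φ)
  have hkerle : RingHom.ker Φ ≤ maximalIdeal S := by
    rw [hΦk]
    exact map_maximalIdeal_le
  have hnonunit' : ∀ s ∈ maximalIdeal S, ¬ IsUnit (Φ s) := by
    intro s hs hunit
    obtain ⟨z, hz⟩ := hunit.exists_right_inv
    obtain ⟨w, rfl⟩ := hΦs z
    have h1 : s * w - 1 ∈ RingHom.ker Φ := by
      rw [RingHom.mem_ker, map_sub, map_mul, hz, map_one, sub_self]
    have h2 := hkerle h1
    have h3 := Ideal.sub_mem _ (Ideal.mul_mem_right w _ hs) h2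
    rw [sub_sub_cancel] at h3
    exact (Ideal.ne_top_iff_one _).mp (maximalIdeal.isMaximal _).ne_top h3
  obtain ⟨u₁, hΦu⟩ := hΦs (Ideal.Quotient.mk _ (X 0))
  obtain ⟨v₁, hΦv⟩ := hΦs (Ideal.Quotient.mk _ (X 1))
  have hu₁ : u₁ ∈ maximalIdeal S := hmem_of u₁ (by rw [hΦu]; exact hnonunit _ hX0)
  have hv₁ : v₁ ∈ maximalIdeal S := hmem_of v₁ (by rw [hΦv]; exact hnonunit _ hX1)
  have hres : ∀ s : S, ∃ r : Λ, s - algebraMap Λ S r ∈ maximalIdeal S := by
    intro s
    obtain ⟨g, hg⟩ := Ideal.Quotient.mk_surjective (Φ s)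
    obtain ⟨r, hr⟩ := hρ (constantCoeff g)
    refine ⟨r, hmem_of _ ?_⟩
    rw [map_sub, hΦc, hr, ← hg, ← map_sub]
    refine hnonunit _ ?_
    rw [mem_maximalIdeal_iff, map_sub, constantCoeff_C, sub_self]
    exact zero_mem _
  have hΦq : Φ (algebraMap Λ S a * u₁ ^ 2 + algebraMap Λ S b * (u₁ * v₁) +
      algebraMap Λ S c * v₁ ^ 2) = 0 := by
    have h2 := congrArg (Ideal.Quotient.mk (Ideal.span {qb})) hqb
    have h1 : Φ (algebraMap Λ S a * u₁ ^ 2 + algebraMap Λ S b * (u₁ * v₁) +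
        algebraMap Λ S c * v₁ ^ 2) = Ideal.Quotient.mk (Ideal.span {qb}) qb := by
      rw [h2]
      simp only [map_add, map_mul, map_pow, hΦc, hΦu, hΦv]
      ring
    rw [h1]
    exact Ideal.Quotient.eq_zero_iff_mem.mpr (Ideal.subset_span rfl)
  have huv : algebraMap Λ S a * u₁ ^ 2 + algebraMap Λ S b * (u₁ * v₁) +
      algebraMap Λ S c * v₁ ^ 2 ∈ (maximalIdeal Λ).map (algebraMap Λ S) := by
    rw [← hΦk, RingHom.mem_ker]
    exact hΦq
  have hgen : maximalIdeal S = Ideal.span {u₁, v₁} ⊔ (maximalIdeal Λ).map (algebraMap Λ S) := by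
    apply le_antisymm
    · intro s hs
      obtain ⟨g, hg⟩ := Ideal.Quotient.mk_surjective (Φ s)
      have hgm : g ∈ maximalIdeal (MvPowerSeries (Fin 2) k) := by
        by_contra hgn
        rw [mem_maximalIdeal, mem_nonunits_iff, not_not] at hgn
        exact hnonunit' s hs (by rw [← hg]; exact hgn.map _)
      rw [maximalIdeal_eq_sup, IsLocalRing.maximalIdeal_eq_bot, Ideal.map_bot, bot_sup_eq] at hgm
      have hgm' : g ∈ Ideal.span (Set.range (X : Fin 2 → MvPowerSeries (Fin 2) k)) := hgm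
      obtain ⟨cf, hcf⟩ := Ideal.mem_span_range_iff_exists_fun.mp hgm'
      rw [Fin.sum_univ_two] at hcf
      obtain ⟨w0, hw0⟩ := hΦs (Ideal.Quotient.mk _ (cf 0))
      obtain ⟨w1, hw1⟩ := hΦs (Ideal.Quotient.mk _ (cf 1))
      have hk : s - (w0 * u₁ + w1 * v₁) ∈ RingHom.ker Φ := by
        rw [RingHom.mem_ker, map_sub, map_add, map_mul, map_mul, hw0, hw1, hΦu, hΦv, ← hg,
          ← hcf]
        simp only [map_add, map_mul]
        ring
      rw [hΦk] at hk
      have h6 : w0 * u₁ + w1 * v₁ ∈ Ideal.span {u₁, v₁} :=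
        Ideal.mem_span_pair.mpr ⟨w0, w1, rfl⟩
      have := Submodule.add_mem_sup h6 hk
      rwa [add_sub_cancel] at this
    · refine sup_le (Ideal.span_le.mpr ?_) map_maximalIdeal_le
      intro x hx
      rcases hx with hx | hx
      · rw [hx]
        exact hu₁
      · rw [Set.mem_singleton_iff.mp hx]
        exact hv₁
  obtain ⟨u, v, t, hum, hvm, htm, huvt, hu1, hv1⟩ :=
    exists_uvQ hres a b c dinv hd u₁ v₁ hu₁ hv₁ huv hgen
  have hgen' : maximalIdeal S = Ideal.span {u, v} ⊔ (maximalIdeal Λ).map (algebraMap Λ S) := by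
    apply le_antisymm
    · rw [hgen]
      refine sup_le (Ideal.span_le.mpr ?_) le_sup_right
      intro x hx
      rcases hx with hx | hx
      · rw [hx]
        have h1 : u ∈ Ideal.span {u, v} ⊔ (maximalIdeal Λ).map (algebraMap Λ S) :=
          Ideal.mem_sup_left (Ideal.subset_span (Set.mem_insert _ _))
        have h2 : u - u₁ ∈ Ideal.span {u, v} ⊔ (maximalIdeal Λ).map (algebraMap Λ S) :=
          Ideal.mem_sup_right hu1
        have := Ideal.sub_mem _ h1 h2
        rwa [sub_sub_cancel] at this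
      · rw [Set.mem_singleton_iff.mp hx]
        have h1 : v ∈ Ideal.span {u, v} ⊔ (maximalIdeal Λ).map (algebraMap Λ S) :=
          Ideal.mem_sup_left (Ideal.subset_span (Set.mem_insert_of_mem _ rfl))
        have h2 : v - v₁ ∈ Ideal.span {u, v} ⊔ (maximalIdeal Λ).map (algebraMap Λ S) :=
          Ideal.mem_sup_right hv1
        have := Ideal.sub_mem _ h1 h2
        rwa [sub_sub_cancel] at this
    · refine sup_le (Ideal.span_le.mpr ?_) map_maximalIdeal_le
      intro x hx
      rcases hx with hx | hx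
      · rw [hx]
        exact hum
      · rw [Set.mem_singleton_iff.mp hx]
        exact hvm
  obtain ⟨ψ, hψ0, hψ1, hψs, hψC, hψk⟩ := exists_surjQ hres a b c u v t hum hvm huvt hgen'
  have hρker : RingHom.ker ρ = maximalIdeal Λ :=
    IsLocalRing.eq_maximalIdeal (RingHom.ker_isMaximal_of_surjective ρ hρ)
  have hρfg : (RingHom.ker ρ).FG := IsNoetherian.noetherian _
  have hρt : ρ t = 0 := by
    rw [← RingHom.mem_ker, hρker]
    exact htm
  let ψb : MvPowerSeries (Fin 2) Λ →+* (MvPowerSeries (Fin 2) k ⧸ Ideal.span {qb}) :=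
    Φ.comp (ψ : MvPowerSeries (Fin 2) Λ →+* S)
  have hψb : ∀ p, ψb p = Φ (ψ p) := fun p => rfl
  have hψbsurj : Function.Surjective ψb := by
    intro n
    obtain ⟨y, rfl⟩ := hΦs n
    obtain ⟨p, rfl⟩ := hψs y
    exact ⟨p, rfl⟩
  have hkerb : ∀ f, MvPowerSeries.map ρ f = 0 → ψb f = 0 := by
    intro f hf
    have h1 := mem_map_C_of_map_eq_zero ρ hρfg f hf
    have hle : (RingHom.ker ρ).map (C : Λ →+* MvPowerSeries (Fin 2) Λ) ≤ RingHom.ker ψb := by
      rw [Ideal.map_le_iff_le_comap]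
      intro m hm
      rw [Ideal.mem_comap, RingHom.mem_ker, hψb, hψC, hΦc, RingHom.mem_ker.mp hm, map_zero,
        map_zero]
    exact RingHom.mem_ker.mp (hle h1)
  have hp₀ : MvPowerSeries.map ρ (C a * X 0 ^ 2 + C b * X 0 * X 1 + C c * X 1 ^ 2 - C t :
      MvPowerSeries (Fin 2) Λ) = qb := by
    rw [hqb]
    simp only [map_sub, map_add, map_mul, map_pow, MvPowerSeries.map_X, MvPowerSeries.map_C,
      hρt, map_zero, sub_zero]
  have hψbp₀ : ψb (C a * X 0 ^ 2 + C b * X 0 * X 1 + C c * X 1 ^ 2 - C t) = 0 := by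
    rw [hψb, hψk, map_zero]
  have hfibre : ∀ f, ψ f = 0 →
      f ∈ (maximalIdeal Λ).map (C : Λ →+* MvPowerSeries (Fin 2) Λ) ⊔
        Ideal.span {(C a * X 0 ^ 2 + C b * X 0 * X 1 + C c * X 1 ^ 2 - C t :
          MvPowerSeries (Fin 2) Λ)} := by
    intro f hf
    obtain ⟨cc, hcc⟩ := ker_sub_of_surjective_endo qb (MvPowerSeries.map ρ)
      (map_surjective ρ hρ) (C a * X 0 ^ 2 + C b * X 0 * X 1 + C c * X 1 ^ 2 - C t) hp₀ ψb
      hψbsurj hkerb hψbp₀ f (by rw [hψb, hf, map_zero])
    have h1 := mem_map_C_of_map_eq_zero ρ hρfg _ hcc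
    rw [hρker] at h1
    have h2 := Submodule.add_mem_sup h1 (Ideal.mul_mem_left _ cc (Ideal.subset_span
      (Set.mem_singleton (C a * X 0 ^ 2 + C b * X 0 * X 1 + C c * X 1 ^ 2 - C t :
        MvPowerSeries (Fin 2) Λ))))
    rwa [sub_add_cancel] at h2
  have hJle : Ideal.span {(C a * X 0 ^ 2 + C b * X 0 * X 1 + C c * X 1 ^ 2 - C t :
      MvPowerSeries (Fin 2) Λ)} ≤ RingHom.ker ψ := by
    rw [Ideal.span_singleton_le_iff_mem, RingHom.mem_ker]
    exact hψk
  have hCeq : (maximalIdeal Λ).map (algebraMap Λ (MvPowerSeries (Fin 2) Λ)) =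
      (maximalIdeal Λ).map (C : Λ →+* MvPowerSeries (Fin 2) Λ) := by
    congr 1
  have hker : RingHom.ker ψ = Ideal.span {(C a * X 0 ^ 2 + C b * X 0 * X 1 + C c * X 1 ^ 2 -
      C t : MvPowerSeries (Fin 2) Λ)} := by
    refine ker_eq_of_flat ψ hψs (maximalIdeal Λ) (IsNoetherian.noetherian _) ?_ _ hJle ?_
    · rw [hCeq]
      exact map_C_maximalIdeal_le.trans (IsLocalRing.maximalIdeal_le_jacobson ⊥)
    · rw [hCeq]
      intro f hf
      exact hfibre f (RingHom.mem_ker.mp hf)
  exact ⟨t, htm, ⟨(Ideal.quotientEquivAlgOfEq Λ hker.symm).trans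
    (Ideal.quotientKerAlgEquivOfSurjective hψs)⟩⟩

end completeFlat

section fibre

open Groth.Agent.Lib.Helper63.CompletionNoeth

theorem of_mem_pow {R : Type*} [CommRing R] (I : Ideal R) (hI : I.FG) (y : R) (n : ℕ)
    (h : AdicCompletion.of I R y ∈ (I.map (algebraMap R (AdicCompletion I R))) ^ n) :
    y ∈ I ^ n := by
  rw [← Ideal.map_pow, ← Submodule.restrictScalars_mem R, ← Ideal.smul_top_eq_map,
    AdicCompletion.pow_smul_top_eq_ker_eval hI, LinearMap.mem_ker, AdicCompletion.eval_of,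
    Submodule.mkQ_apply, Submodule.Quotient.mk_eq_zero] at h
  simpa using h

theorem map_maximalIdeal_eq_of_surjective {B F : Type*} [CommRing B] [IsLocalRing B]
    [CommRing F] [IsLocalRing F] (q : B →+* F) (hq : Function.Surjective q) :
    (maximalIdeal B).map q = maximalIdeal F := by
  have hkerle : RingHom.ker q ≤ maximalIdeal B :=
    IsLocalRing.le_maximalIdeal (RingHom.ker_ne_top q)
  apply le_antisymm
  · rw [Ideal.map_le_iff_le_comap]
    intro m hm
    rw [Ideal.mem_comap, mem_maximalIdeal, mem_nonunits_iff]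
    intro hunit
    obtain ⟨z, hz⟩ := hunit.exists_right_inv
    obtain ⟨w, rfl⟩ := hq z
    have h1 : m * w - 1 ∈ RingHom.ker q := by
      rw [RingHom.mem_ker, map_sub, map_mul, hz, map_one, sub_self]
    have h3 := Ideal.sub_mem _ (Ideal.mul_mem_right w _ hm) (hkerle h1)
    rw [sub_sub_cancel] at h3
    exact (Ideal.ne_top_iff_one _).mp (maximalIdeal.isMaximal _).ne_top h3
  · intro y hy
    obtain ⟨b, rfl⟩ := hq y
    refine Ideal.mem_map_of_mem _ ?_
    rw [mem_maximalIdeal, mem_nonunits_iff]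
    intro hb
    exact (mem_nonunits_iff.mp ((mem_maximalIdeal _).mp hy)) (hb.map q)

theorem ker_map_completion {B F : Type*} [CommRing B] [IsLocalRing B] [IsNoetherianRing B]
    [CommRing F] [IsLocalRing F] [IsNoetherianRing F] (q : B →+* F)
    (hq : Function.Surjective q)
    (Ψ : AdicCompletion (maximalIdeal B) B →+* AdicCompletion (maximalIdeal F) F)
    (hΨ : ∀ b, Ψ (AdicCompletion.of _ B b) = AdicCompletion.of _ F (q b)) :
    RingHom.ker Ψ =
      (RingHom.ker q).map (algebraMap B (AdicCompletion (maximalIdeal B) B)) := by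
  haveI hNB : IsNoetherianRing (AdicCompletion (maximalIdeal B) B) :=
    isNoetherianRing_adicCompletion B _
  have hmB : maximalIdeal (AdicCompletion (maximalIdeal B) B) =
      (maximalIdeal B).map (algebraMap B (AdicCompletion (maximalIdeal B) B)) :=
    AdicCompletion.maximalIdeal_eq_map
  have hmF : maximalIdeal (AdicCompletion (maximalIdeal F) F) =
      (maximalIdeal F).map (algebraMap F (AdicCompletion (maximalIdeal F) F)) :=
    AdicCompletion.maximalIdeal_eq_map
  have hqm := map_maximalIdeal_eq_of_surjective q hq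
  have hofB : ∀ b, algebraMap B (AdicCompletion (maximalIdeal B) B) b =
      AdicCompletion.of _ B b := fun b => rfl
  have hofF : ∀ y, algebraMap F (AdicCompletion (maximalIdeal F) F) y =
      AdicCompletion.of _ F y := fun y => rfl
  have hΨm : ∀ n, (maximalIdeal (AdicCompletion (maximalIdeal B) B) ^ n).map Ψ ≤
      maximalIdeal (AdicCompletion (maximalIdeal F) F) ^ n := by
    intro n
    rw [Ideal.map_pow]
    refine Ideal.pow_right_mono ?_ n
    rw [hmB, Ideal.map_map, Ideal.map_le_iff_le_comap]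
    intro m hm
    rw [Ideal.mem_comap, RingHom.comp_apply, hofB, hΨ, hmF, ← hofF]
    refine Ideal.mem_map_of_mem _ ?_
    rw [← hqm]
    exact Ideal.mem_map_of_mem _ hm
  apply le_antisymm
  · intro x hx
    apply Groth.Agent.Lib.Helper76.ArLefPS.mem_of_forall_mem_sup_pow
    intro n
    obtain ⟨r, hr⟩ := Groth.Agent.Lib.Helper76.ComplDense.exists_of_sub_mem (maximalIdeal B)
      (IsNoetherian.noetherian _) x n
    rw [← hmB] at hr
    have h1 : Ψ (x - AdicCompletion.of _ B r) ∈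
        maximalIdeal (AdicCompletion (maximalIdeal F) F) ^ n :=
      hΨm n (Ideal.mem_map_of_mem _ hr)
    rw [map_sub, RingHom.mem_ker.mp hx, zero_sub, hΨ, neg_mem_iff, hmF] at h1
    have h2 : q r ∈ maximalIdeal F ^ n :=
      of_mem_pow (maximalIdeal F) (IsNoetherian.noetherian _) (q r) n h1
    rw [← hqm, ← Ideal.map_pow] at h2
    obtain ⟨m, hm, hmq⟩ := (Ideal.mem_map_iff_of_surjective q hq).mp h2
    have h3 : r - m ∈ RingHom.ker q := by
      rw [RingHom.mem_ker, map_sub, hmq, sub_self]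
    have h4 : AdicCompletion.of _ B m ∈
        maximalIdeal (AdicCompletion (maximalIdeal B) B) ^ n := by
      rw [hmB, ← Ideal.map_pow, ← hofB]
      exact Ideal.mem_map_of_mem _ hm
    have h5 : x = algebraMap B (AdicCompletion (maximalIdeal B) B) (r - m) +
        ((x - AdicCompletion.of _ B r) + AdicCompletion.of _ B m) := by
      rw [map_sub, hofB, hofB]
      ring
    rw [h5]
    exact Submodule.add_mem_sup (Ideal.mem_map_of_mem _ h3) (Ideal.add_mem _ hr h4)
  · rw [Ideal.map_le_iff_le_comap]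
    intro b hb
    rw [Ideal.mem_comap, RingHom.mem_ker, hofB, hΨ, RingHom.mem_ker.mp hb, map_zero]

theorem exists_rhoHat (A : Type*) [CommRing A] [IsLocalRing A] [IsNoetherianRing A]
    {K : Type*} [Field K] (ρK : A →+* K) (hρK : Function.Surjective ρK) :
    ∃ ρh : AdicCompletion (maximalIdeal A) A →+* K,
      (∀ r, ρh (algebraMap A (AdicCompletion (maximalIdeal A) A) r) = ρK r) ∧
      Function.Surjective ρh := by
  have hker : ∀ r ∈ maximalIdeal A, ρK r = 0 := by
    intro r hr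
    have : RingHom.ker ρK = maximalIdeal A :=
      IsLocalRing.eq_maximalIdeal (RingHom.ker_isMaximal_of_surjective ρK hρK)
    rw [← this] at hr
    exact RingHom.mem_ker.mp hr
  let ρ₁ : A ⧸ maximalIdeal A →+* K := Ideal.Quotient.lift (maximalIdeal A) ρK hker
  let ρh : AdicCompletion (maximalIdeal A) A →+* K :=
    ρ₁.comp (AdicCompletion.evalOneₐ (maximalIdeal A)).toRingHom
  have h1 : ∀ r, ρh (algebraMap A _ r) = ρK r := by
    intro r
    show ρ₁ (AdicCompletion.evalOneₐ (maximalIdeal A) (algebraMap A _ r)) = ρK r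
    rw [AlgHom.commutes]
    exact Ideal.Quotient.lift_mk _ _ _
  refine ⟨ρh, h1, ?_⟩
  intro y
  obtain ⟨r, rfl⟩ := hρK y
  exact ⟨algebraMap A _ r, h1 r⟩

variable (A B : Type u) [CommRing A] [IsLocalRing A] [IsNoetherianRing A]
  [CommRing B] [IsLocalRing B] [IsNoetherianRing B] [Algebra A B] [IsLocalHom (algebraMap A B)]

local notation "Â" => AdicCompletion (maximalIdeal A) A
local notation "B̂" => AdicCompletion (maximalIdeal B) B

theorem exists_equiv_of_flat_fibre [Module.Flat A B] {F K : Type*} [CommRing F] [IsLocalRing F]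
    [Field K] (q : B →+* F) (hq : Function.Surjective q)
    (hqk : RingHom.ker q = (maximalIdeal A).map (algebraMap A B))
    (ρh : Â →+* K) (hρh : Function.Surjective ρh) (ι : K →+* F)
    (hι : ∀ r : A, ι (ρh (algebraMap A Â r)) = q (algebraMap A B r))
    (a b c dinv : Â) (hd : (b * b - 4 * a * c) * dinv = 1)
    (qb : MvPowerSeries (Fin 2) K)
    (hqb : qb = C (ρh a) * X 0 ^ 2 + C (ρh b) * X 0 * X 1 + C (ρh c) * X 1 ^ 2)
    (e : AdicCompletion (maximalIdeal F) F ≃+* (MvPowerSeries (Fin 2) K ⧸ Ideal.span {qb}))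
    (he : ∀ r : K, e (algebraMap F (AdicCompletion (maximalIdeal F) F) (ι r)) =
      Ideal.Quotient.mk _ (C r)) :
    ∃ h ∈ maximalIdeal Â,
      ∃ e' : B̂ ≃+* (MvPowerSeries (Fin 2) Â ⧸ Ideal.span
          {(C a * X 0 ^ 2 + C b * X 0 * X 1 + C c * X 1 ^ 2 - C h : MvPowerSeries (Fin 2) Â)}),
        ∀ r : A, e' (algebraMap B B̂ (algebraMap A B r)) =
          Ideal.Quotient.mk _ (C (algebraMap A Â r)) := by
  classical
  haveI hNA : IsNoetherianRing Â := isNoetherianRing_adicCompletion A _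
  haveI hNB : IsNoetherianRing B̂ := isNoetherianRing_adicCompletion B _
  haveI hNF : IsNoetherianRing F := isNoetherianRing_of_surjective B F q hq
  obtain ⟨φh, hφh, -⟩ := exists_map_completion (algebraMap A B) (maximalIdeal A) (maximalIdeal B)
    map_maximalIdeal_le
  have hφh' : ∀ a, φh (algebraMap A Â a) = algebraMap A B̂ a := fun a => hφh a
  letI : Algebra Â B̂ := φh.toAlgebra
  have halg : ∀ r : Â, algebraMap Â B̂ r = φh r := fun r => rfl
  have hmA : maximalIdeal Â = (maximalIdeal A).map (algebraMap A Â) :=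
    AdicCompletion.maximalIdeal_eq_map
  have hmB : maximalIdeal B̂ = (maximalIdeal B).map (algebraMap B B̂) :=
    AdicCompletion.maximalIdeal_eq_map
  have hcomp : (algebraMap Â B̂).comp (algebraMap A Â) = algebraMap A B̂ := RingHom.ext hφh'
  have hcomp' : (algebraMap B B̂).comp (algebraMap A B) = algebraMap A B̂ :=
    RingHom.ext fun a => rfl
  have hK : (maximalIdeal Â).map (algebraMap Â B̂) = (maximalIdeal A).map (algebraMap A B̂) := by
    rw [hmA, Ideal.map_map, hcomp]
  have hK' : ((maximalIdeal A).map (algebraMap A B)).map (algebraMap B B̂) =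
      (maximalIdeal A).map (algebraMap A B̂) := by
    rw [Ideal.map_map, hcomp']
  haveI : IsLocalHom (algebraMap Â B̂) := by
    apply ((IsLocalRing.local_hom_TFAE _).out 0 2).mpr
    rw [hK, ← hK', hmB]
    exact Ideal.map_mono map_maximalIdeal_le
  haveI hflat : Module.Flat Â B̂ := by
    have := Groth.Agent.Lib.Helper83.FlatCompl.flat_of_map_adicCompletion
      (maximalIdeal A) (maximalIdeal B) (algebraMap A B) map_maximalIdeal_le
      (RingHom.flat_algebraMap_iff.mpr inferInstance) φh (fun a => hφh a)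
    exact this
  have hqm := map_maximalIdeal_eq_of_surjective q hq
  obtain ⟨Ψ, hΨof, hΨs⟩ := exists_map_completion q (maximalIdeal B) (maximalIdeal F)
    (le_of_eq hqm)
  have hΨsurj : Function.Surjective Ψ := hΨs hq hqm
  have hΨker := ker_map_completion q hq Ψ hΨof
  let Φ : B̂ →+* (MvPowerSeries (Fin 2) K ⧸ Ideal.span {qb}) :=
    (e : AdicCompletion (maximalIdeal F) F →+* _).comp Ψ
  have hΦ : ∀ x, Φ x = e (Ψ x) := fun x => rfl
  have hΦs : Function.Surjective Φ := by
    intro n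
    obtain ⟨y, rfl⟩ := e.surjective n
    obtain ⟨x, rfl⟩ := hΨsurj y
    exact ⟨x, rfl⟩
  have hΦk : RingHom.ker Φ = (maximalIdeal Â).map (algebraMap Â B̂) := by
    have h1 : RingHom.ker Φ = RingHom.ker Ψ := by
      ext x
      rw [RingHom.mem_ker, RingHom.mem_ker, hΦ]
      exact map_eq_zero_iff e e.injective
    rw [h1, hΨker, hqk, hK', hK]
  have hρker : RingHom.ker ρh = maximalIdeal Â :=
    IsLocalRing.eq_maximalIdeal (RingHom.ker_isMaximal_of_surjective ρh hρh)
  have hΦc0 : ∀ r : A, Φ (algebraMap Â B̂ (algebraMap A Â r)) =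
      Ideal.Quotient.mk _ (C (ρh (algebraMap A Â r))) := by
    intro r
    rw [halg, hφh', hΦ]
    have h2 : algebraMap A B̂ r = AdicCompletion.of (maximalIdeal B) B (algebraMap A B r) := rfl
    rw [h2, hΨof, ← hι r]
    exact he _
  have hΦc : ∀ r : Â, Φ (algebraMap Â B̂ r) = Ideal.Quotient.mk _ (C (ρh r)) := by
    intro r
    obtain ⟨r₀, hr₀⟩ := Groth.Agent.Lib.Helper76.ComplDense.exists_of_sub_mem (maximalIdeal A)
      (IsNoetherian.noetherian _) r 1
    rw [pow_one, ← hmA] at hr₀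
    have h1 : Φ (algebraMap Â B̂ (r - AdicCompletion.of _ A r₀)) = 0 := by
      rw [← RingHom.mem_ker, hΦk]
      exact Ideal.mem_map_of_mem _ hr₀
    have h2 : ρh (r - AdicCompletion.of _ A r₀) = 0 := by
      rw [← RingHom.mem_ker, hρker]
      exact hr₀
    have h3 := hΦc0 r₀
    have hof : algebraMap A Â r₀ = AdicCompletion.of _ A r₀ := rfl
    rw [hof] at h3
    rw [map_sub, map_sub, sub_eq_zero] at h1
    rw [map_sub, sub_eq_zero] at h2
    rw [h1, h3, h2]
  obtain ⟨h, hh, ⟨ψe⟩⟩ := exists_algEquiv_of_flat_complete ρh hρh a b c dinv hd qb hqb Φ hΦs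
    hΦk hΦc
  refine ⟨h, hh, ψe.symm.toRingEquiv, ?_⟩
  intro r
  have h1 : algebraMap B B̂ (algebraMap A B r) = algebraMap Â B̂ (algebraMap A Â r) := by
    rw [halg, hφh']
    rfl
  show ψe.symm (algebraMap B B̂ (algebraMap A B r)) = _
  rw [h1, AlgEquiv.commutes]
  show Ideal.Quotient.mk _ (algebraMap Â (MvPowerSeries (Fin 2) Â) (algebraMap A Â r)) = _
  rw [MvPowerSeries.algebraMap_apply, Algebra.algebraMap_self, RingHom.id_apply]

theorem exists_equiv_of_flat_fibre' [Module.Flat A B] {F K : Type*} [CommRing F]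
    [IsLocalRing F] [Field K] (q : B →+* F) (hq : Function.Surjective q)
    (hqk : RingHom.ker q = (maximalIdeal A).map (algebraMap A B))
    (ρK : A →+* K) (hρK : Function.Surjective ρK) (ι : K →+* F)
    (hι : ∀ r : A, ι (ρK r) = q (algebraMap A B r))
    (a' b' c' : K) (hdisc : b' ^ 2 - 4 * a' * c' ≠ 0)
    (e : AdicCompletion (maximalIdeal F) F ≃+* (MvPowerSeries (Fin 2) K ⧸ Ideal.span
      {(C a' * X 0 ^ 2 + C b' * X 0 * X 1 + C c' * X 1 ^ 2 : MvPowerSeries (Fin 2) K)}))
    (he : ∀ r : K, e (algebraMap F (AdicCompletion (maximalIdeal F) F) (ι r)) =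
      Ideal.Quotient.mk _ (C r)) :
    ∃ ρh : Â →+* K, Function.Surjective ρh ∧ (∀ r, ρh (algebraMap A Â r) = ρK r) ∧
      ∀ a b c : Â, ρh a = a' → ρh b = b' → ρh c = c' →
        IsUnit (b ^ 2 - 4 * a * c) ∧
        ∃ h ∈ maximalIdeal Â,
          ∃ e' : B̂ ≃+* (MvPowerSeries (Fin 2) Â ⧸ Ideal.span
              {(C a * X 0 ^ 2 + C b * X 0 * X 1 + C c * X 1 ^ 2 - C h :
                MvPowerSeries (Fin 2) Â)}),
            ∀ r : A, e' (algebraMap B B̂ (algebraMap A B r)) =
              Ideal.Quotient.mk _ (C (algebraMap A Â r)) := by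
  obtain ⟨ρh, hρh1, hρhs⟩ := exists_rhoHat A ρK hρK
  refine ⟨ρh, hρhs, hρh1, ?_⟩
  intro a b c ha hb hc
  haveI hNA : IsNoetherianRing Â := isNoetherianRing_adicCompletion A _
  have hρker : RingHom.ker ρh = maximalIdeal Â :=
    IsLocalRing.eq_maximalIdeal (RingHom.ker_isMaximal_of_surjective ρh hρhs)
  have hunit : IsUnit (b ^ 2 - 4 * a * c) := by
    by_contra hnu
    have h1 : b ^ 2 - 4 * a * c ∈ maximalIdeal Â := (mem_maximalIdeal _).mpr hnu
    rw [← hρker, RingHom.mem_ker, map_sub, map_pow, map_mul, map_mul, map_ofNat, ha, hb, hc]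
      at h1
    exact hdisc h1
  refine ⟨hunit, ?_⟩
  obtain ⟨dinv, hdinv⟩ := hunit.exists_right_inv
  have hd : (b * b - 4 * a * c) * dinv = 1 := by
    rw [← hdinv]
    ring
  subst ha hb hc
  exact exists_equiv_of_flat_fibre A B q hq hqk ρh hρhs ι
    (fun r => by rw [hρh1 r]; exact hι r) a b c dinv hd _ rfl e he

end fibre

end Groth.Agent.Lib.Helper76.NodeDef
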