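import Groth.Agent.Lib.Helper76.LTVec
import Groth.Agent.Lib.Helper76.PSDeriv

/-!
# The formal Morse lemma (helper76)
-/

set_option autoImplicit false
universe u v

namespace Groth.Agent.Lib.Helper76.PSInv

open MvPowerSeries
open Groth.Agent.Lib.Helper76.LT

variable {σ : Type*} [Fintype σ] [DecidableEq σ] {R : Type*} [CommRing R]

/-- the family of variables -/
noncomputable def XX : σ → MvPowerSeries σ R := fun s => X s

/-- the quadratic form with full coefficient matrix `c` evaluated on a family -/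
noncomputable def qev (c : Matrix σ σ R) (b : σ → MvPowerSeries σ R) : MvPowerSeries σ R :=
  ∑ i, ∑ j, C (c i j) * b i * b j

/-- a matrix acting on a family -/
noncomputable def mv (B : Matrix σ σ R) (b : σ → MvPowerSeries σ R) (i : σ) : MvPowerSeries σ R :=
  ∑ j, C (B i j) * b j

lemma mv_add (B : Matrix σ σ R) (b b' : σ → MvPowerSeries σ R) (i : σ) :
    mv B (b + b') i = mv B b i + mv B b' i := by
  simp only [mv, Pi.add_apply, mul_add, Finset.sum_add_distrib]

lemma mv_XX (B : Matrix σ σ R) (i : σ) : mv B (XX : σ → MvPowerSeries σ R) i = lin B i := rfl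

lemma qev_add (c : Matrix σ σ R) (b Δ : σ → MvPowerSeries σ R) :
    qev c (b + Δ) = qev c b + ∑ i, Δ i * mv (c + c.transpose) b i + qev c Δ := by
  have swap : ∑ i, ∑ j, C (c i j) * b i * Δ j = ∑ i, ∑ j, C (c j i) * Δ i * b j := by
    rw [Finset.sum_comm]
    exact Finset.sum_congr rfl fun i _ => Finset.sum_congr rfl fun j _ => by ring
  have e1 : qev c (b + Δ) = ∑ i, ∑ j, (C (c i j) * b i * b j + C (c i j) * b i * Δ j +
      C (c i j) * Δ i * b j + C (c i j) * Δ i * Δ j) := by
    refine Finset.sum_congr rfl fun i _ => Finset.sum_congr rfl fun j _ => ?_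
    simp only [Pi.add_apply]; ring
  have e2 : ∑ i, Δ i * mv (c + c.transpose) b i =
      ∑ i, ∑ j, C (c i j) * Δ i * b j + ∑ i, ∑ j, C (c j i) * Δ i * b j := by
    rw [← Finset.sum_add_distrib]
    refine Finset.sum_congr rfl fun i _ => ?_
    rw [mv, Finset.mul_sum, ← Finset.sum_add_distrib]
    refine Finset.sum_congr rfl fun j _ => ?_
    rw [Matrix.add_apply, Matrix.transpose_apply, map_add]; ring
  rw [e1, e2, ← swap]
  simp only [Finset.sum_add_distrib, qev]
  ring

omit [DecidableEq σ] in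
lemma ord_mv (B : Matrix σ σ R) {m : ℕ} {b : σ → MvPowerSeries σ R} (hb : OrdV m b) (i : σ) :
    Ord m (mv B b i) := by
  refine Finset.sum_induction _ (Ord m) (fun _ _ => Ord.add) (ord_zero _) fun j _ => ?_
  simpa using (ord_zero_all (C (B i j) : MvPowerSeries σ R)).mul (hb j)

omit [DecidableEq σ] in
lemma ord_qev (c : Matrix σ σ R) {m n : ℕ} {b : σ → MvPowerSeries σ R} (hb : OrdV m b)
    (hb' : OrdV n b) : Ord (m + n) (qev c b) := by
  refine Finset.sum_induction _ (Ord (m + n)) (fun _ _ => Ord.add) (ord_zero _) fun i _ => ?_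
  refine Finset.sum_induction _ (Ord (m + n)) (fun _ _ => Ord.add) (ord_zero _) fun j _ => ?_
  have := ((ord_zero_all (C (c i j) : MvPowerSeries σ R)).mul (hb i)).mul (hb' j)
  simpa using this

omit [DecidableEq σ] in
lemma ord_sum_mul {m n : ℕ} {Δ w : σ → MvPowerSeries σ R} (hΔ : OrdV m Δ) (hw : OrdV n w) :
    Ord (m + n) (∑ i, Δ i * w i) :=
  Finset.sum_induction _ (Ord (m + n)) (fun _ _ => Ord.add) (ord_zero _)
    fun i _ => (hΔ i).mul (hw i)

lemma sum_C_mul_lin (K B : Matrix σ σ R) (j : σ) :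
    ∑ i, C (K j i) * lin B i = (lin (K * B) j : MvPowerSeries σ R) := by
  simp only [lin, Finset.mul_sum, Matrix.mul_apply, map_sum, Finset.sum_mul]
  rw [Finset.sum_comm]
  refine Finset.sum_congr rfl fun t _ => Finset.sum_congr rfl fun i _ => ?_
  rw [map_mul]; ring

/-- every series of order `≥ r + 1` is a combination of the linear forms `B x` with coefficients
of order `≥ r`, if `B` is invertible -/
lemma exists_sum_mul_lin_eq {K B : Matrix σ σ R} (hK : K * B = 1) {r : ℕ} {E : MvPowerSeries σ R}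
    (hE : Ord (r + 1) E) :
    ∃ Δ : σ → MvPowerSeries σ R, OrdV r Δ ∧ ∑ i, Δ i * lin B i = E := by
  obtain ⟨g, hg, rfl⟩ := exists_eq_sum_X_mul hE
  refine ⟨fun i => ∑ j, C (K j i) * g j, fun i => ?_, ?_⟩
  · refine Finset.sum_induction _ (Ord r) (fun _ _ => Ord.add) (ord_zero _) fun j _ => ?_
    simpa using (ord_zero_all (C (K j i) : MvPowerSeries σ R)).mul (hg j)
  · have : ∑ i, (∑ j, C (K j i) * g j) * lin B i = ∑ j, g j * ∑ i, C (K j i) * lin B i := by
      simp only [Finset.sum_mul, Finset.mul_sum]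
      rw [Finset.sum_comm]
      refine Finset.sum_congr rfl fun j _ => Finset.sum_congr rfl fun i _ => by ring
    rw [this]
    refine Finset.sum_congr rfl fun j _ => ?_
    rw [sum_C_mul_lin, hK, lin_one, mul_comm]

/-- **Formal Morse lemma, form A**: a series agreeing with a nondegenerate quadratic form up to
order `m ≥ 2` is that quadratic form in new coordinates `x + ε`. -/
theorem morse_A {c : Matrix σ σ R} (hB : IsUnit (c + c.transpose).det) {m : ℕ} (hm : 2 ≤ m)
    {G : MvPowerSeries σ R} (hG : Ord (m + 1) (G - qev c XX)) :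
    ∃ ε : σ → MvPowerSeries σ R, OrdV m ε ∧ G = qev c (XX + ε) := by
  set B := c + c.transpose with hBdef
  have hK : B⁻¹ * B = 1 := Matrix.nonsing_inv_mul _ hB
  let T : (σ → MvPowerSeries σ R) → MvPowerSeries σ R := fun ε => qev c (XX + ε) - G
  have hdiff : ∀ H Δ : σ → MvPowerSeries σ R,
      T (H + Δ) - T H = ∑ i, Δ i * mv B (XX + H) i + qev c Δ := by
    intro H Δ
    simp only [T]
    rw [← add_assoc, qev_add]
    ring
  have hcont : ∀ (k : ℕ) (H Δ : σ → MvPowerSeries σ R), OrdV m (H - 0) → 1 ≤ k → OrdV k Δ →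
      Ord k (T (H + Δ) - T H) := by
    intro k H Δ _ _ hΔ
    rw [hdiff]
    refine Ord.add ?_ ((ord_qev c hΔ hΔ).mono (by omega))
    simpa using ord_sum_mul hΔ (fun i => ord_zero_all (mv B (XX + H) i))
  have hstep : ∀ (k : ℕ) (H : σ → MvPowerSeries σ R), OrdV m (H - 0) →
      Ord (k + (m + 1)) (T H) → ∃ Δ, OrdV (k + m) Δ ∧ Ord (k + 1 + (m + 1)) (T (H + Δ)) := by
    intro k H hH hTH
    rw [sub_zero] at hH
    obtain ⟨Δ, hΔ, hΔeq⟩ := exists_sum_mul_lin_eq hK (r := k + m) (E := -T H)
      (by simpa [add_assoc] using hTH.neg)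
    refine ⟨Δ, hΔ, ?_⟩
    have e : T (H + Δ) = ∑ i, Δ i * mv B H i + qev c Δ := by
      have h1 := hdiff H Δ
      have h2 : ∑ i, Δ i * mv B (XX + H) i = ∑ i, Δ i * lin B i + ∑ i, Δ i * mv B H i := by
        rw [← Finset.sum_add_distrib]
        refine Finset.sum_congr rfl fun i _ => ?_
        rw [mv_add, mv_XX, mul_add]
      rw [h2, hΔeq] at h1
      linear_combination h1
    rw [e]
    exact ((ord_sum_mul hΔ (fun i => ord_mv B hH i)).mono (by omega)).add
      ((ord_qev c hΔ hΔ).mono (by omega))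
  have h0 : Ord (m + 1) (T 0) := by
    simp only [T, add_zero]
    simpa using hG.neg
  obtain ⟨ε, hε, hTε⟩ := exists_limit_vec T (c₀ := m) (c₁ := m + 1) (by omega) 0 hcont hstep h0
  rw [sub_zero] at hε
  exact ⟨ε, hε, (sub_eq_zero.mp hTε).symm⟩

omit [DecidableEq σ] in
lemma subst_qev_XX {b : σ → MvPowerSeries σ R} (hb : HasSubst b) (c : Matrix σ σ R) :
    subst b (qev c (XX : σ → MvPowerSeries σ R)) = qev c b := by
  have hC : ∀ r : R, subst b (C r : MvPowerSeries σ R) = C r := fun r => subst_C r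
  rw [qev, ← coe_substAlgHom hb, map_sum]
  refine Finset.sum_congr rfl fun i _ => ?_
  rw [map_sum]
  refine Finset.sum_congr rfl fun j _ => ?_
  rw [map_mul, map_mul, coe_substAlgHom hb, hC]
  show C (c i j) * subst b (X i) * subst b (X j) = _
  rw [subst_X hb, subst_X hb]

/-- **Formal Morse lemma, form B**: a series agreeing with a nondegenerate quadratic form up to
order `m ≥ 2` becomes that quadratic form after the substitution `x ↦ x + h`. -/
theorem morse_B {c : Matrix σ σ R} (hB : IsUnit (c + c.transpose).det) {m : ℕ} (hm : 2 ≤ m)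
    {G : MvPowerSeries σ R} (hG : Ord (m + 1) (G - qev c XX)) :
    ∃ h : σ → MvPowerSeries σ R, OrdV m h ∧ subst (XX + h) G = qev c XX := by
  set B := c + c.transpose with hBdef
  have hK : B⁻¹ * B = 1 := Matrix.nonsing_inv_mul _ hB
  set R' := G - qev c XX with hR'
  have hGeq : G = qev c XX + R' := by rw [hR']; ring
  have hc0 : ∀ {H : σ → MvPowerSeries σ R}, OrdV m H → ∀ s, constantCoeff (((XX : σ → MvPowerSeries σ R) + H) s) = 0 := by
    intro H hH s
    rw [Pi.add_apply, map_add, XX, constantCoeff_X, zero_add]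
    exact (hH s).constantCoeff_eq_zero (by omega)
  have hsub : ∀ {H : σ → MvPowerSeries σ R}, OrdV m H →
      subst (XX + H) G = qev c (XX + H) + subst (XX + H) R' := by
    intro H hH
    have hs : HasSubst (XX + H) := hasSubst_of_constantCoeff_zero (hc0 hH)
    rw [hGeq, subst_add hs, subst_qev_XX hs]
  let T : (σ → MvPowerSeries σ R) → MvPowerSeries σ R := fun H => subst (XX + H) G - qev c XX
  have hdiff : ∀ H Δ : σ → MvPowerSeries σ R, OrdV m H → OrdV m Δ →
      T (H + Δ) - T H = ∑ i, Δ i * mv B (XX + H) i + qev c Δ +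
        (subst (XX + (H + Δ)) R' - subst (XX + H) R') := by
    intro H Δ hH hΔ
    simp only [T]
    rw [hsub hH, hsub (hH.add hΔ), ← add_assoc, qev_add]
    ring
  have hRpart : ∀ (k : ℕ) (H Δ : σ → MvPowerSeries σ R), OrdV m H → OrdV (k + 1) Δ → 1 ≤ m →
      Ord (m + 1 + k) (subst (XX + (H + Δ)) R' - subst (XX + H) R') := by
    intro k H Δ hH hΔ _
    have hΔm : OrdV 1 Δ := hΔ.mono (by omega)
    have h1 : ∀ s, constantCoeff (((XX : σ → MvPowerSeries σ R) + (H + Δ)) s) = 0 := by
      intro s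
      rw [Pi.add_apply, Pi.add_apply, map_add, map_add, XX, constantCoeff_X, zero_add,
        (hH s).constantCoeff_eq_zero (by omega), (hΔm s).constantCoeff_eq_zero le_rfl, add_zero]
    refine ord_subst_sub_subst h1 (hc0 hH) (k := k) (fun s => ?_) hG
    have : ((XX : σ → MvPowerSeries σ R) + (H + Δ)) s -
        ((XX : σ → MvPowerSeries σ R) + H) s = Δ s := by
      simp only [Pi.add_apply]; ring
    rw [this]
    exact hΔ s
  have hcont : ∀ (k : ℕ) (H Δ : σ → MvPowerSeries σ R), OrdV m (H - 0) → 1 ≤ k → OrdV k Δ →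
      Ord k (T (H + Δ) - T H) := by
    intro k H Δ hH hk hΔ
    rw [sub_zero] at hH
    -- here Δ need not have order m, so argue directly with continuity of substitution
    obtain ⟨k', rfl⟩ := Nat.exists_eq_add_of_le hk
    have hΔ1 : OrdV 1 Δ := hΔ.mono (by omega)
    have h1 : ∀ s, constantCoeff (((XX : σ → MvPowerSeries σ R) + (H + Δ)) s) = 0 := by
      intro s
      rw [Pi.add_apply, Pi.add_apply, map_add, map_add, XX, constantCoeff_X, zero_add,
        (hH s).constantCoeff_eq_zero (by omega), (hΔ1 s).constantCoeff_eq_zero le_rfl, add_zero]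
    have hG1 : Ord 1 G := by
      rw [hGeq]
      exact ((ord_qev c (fun s => ord_one_iff.mpr (constantCoeff_X s))
        (fun s => ord_zero_all _)).mono (by omega)).add (hG.mono (by omega))
    have := ord_subst_sub_subst h1 (hc0 hH) (k := k') (fun s => by
      have : ((XX : σ → MvPowerSeries σ R) + (H + Δ)) s -
          ((XX : σ → MvPowerSeries σ R) + H) s = Δ s := by
        simp only [Pi.add_apply]; ring
      rw [this, add_comm]
      exact hΔ s) hG1
    simp only [T]
    have e : subst (XX + (H + Δ)) G - qev c XX - (subst (XX + H) G - qev c XX) =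
        subst (XX + (H + Δ)) G - subst (XX + H) G := by ring
    rw [e]
    exact this.mono (by omega)
  have hstep : ∀ (k : ℕ) (H : σ → MvPowerSeries σ R), OrdV m (H - 0) →
      Ord (k + (m + 1)) (T H) → ∃ Δ, OrdV (k + m) Δ ∧ Ord (k + 1 + (m + 1)) (T (H + Δ)) := by
    intro k H hH hTH
    rw [sub_zero] at hH
    obtain ⟨Δ, hΔ, hΔeq⟩ := exists_sum_mul_lin_eq hK (r := k + m) (E := -T H)
      (by simpa [add_assoc] using hTH.neg)
    refine ⟨Δ, hΔ, ?_⟩
    have hΔm : OrdV m Δ := hΔ.mono (by omega)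
    have e : T (H + Δ) = ∑ i, Δ i * mv B H i + qev c Δ +
        (subst (XX + (H + Δ)) R' - subst (XX + H) R') := by
      have h1 := hdiff H Δ hH hΔm
      have h2 : ∑ i, Δ i * mv B (XX + H) i = ∑ i, Δ i * lin B i + ∑ i, Δ i * mv B H i := by
        rw [← Finset.sum_add_distrib]
        refine Finset.sum_congr rfl fun i _ => ?_
        rw [mv_add, mv_XX, mul_add]
      rw [h2, hΔeq] at h1
      linear_combination h1
    rw [e]
    refine (((ord_sum_mul hΔ (fun i => ord_mv B hH i)).mono (by omega)).add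
      ((ord_qev c hΔ hΔ).mono (by omega))).add ?_
    obtain ⟨r', hr'⟩ : ∃ r', k + m = r' + 1 := ⟨k + m - 1, by omega⟩
    have := hRpart r' H Δ hH (by rw [← hr']; exact hΔ) (by omega)
    exact this.mono (by omega)
  have h0 : Ord (m + 1) (T 0) := by
    simp only [T, add_zero]
    have : subst (XX : σ → MvPowerSeries σ R) G = G := congrFun subst_self G
    rw [this]
    exact hG
  obtain ⟨h, hh, hTh⟩ := exists_limit_vec T (c₀ := m) (c₁ := m + 1) (by omega) 0 hcont hstep h0
  rw [sub_zero] at hh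
  exact ⟨h, hh, sub_eq_zero.mp hTh⟩

end Groth.Agent.Lib.Helper76.PSInv
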