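import Groth.Agent.Lib.Helper76.NodeChar1
import Groth.Agent.Lib.Helper76.PSCohen
import Groth.Agent.Lib.Helper76.PSMorse
import Groth.Agent.Lib.Helper76.NodeDefD
import Mathlib

/-!
# Characterisation of nodes through the completion (helper76)

For a Noetherian local algebra `A` over a field `k` with residue field `κ` separable over `k`:

* `completion_equiv`: if `A` is reduced with two-dimensional cotangent space and a nondegenerate
  quadratic relation modulo `𝔪³`, the completion is `κ⟦u,v⟧/(q̄)`;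
* `of_completion_equiv`: conversely such a completion forces these properties.
-/

set_option autoImplicit false
universe u

namespace Groth.Agent.Lib.Helper76.NodeChar

open MvPowerSeries IsLocalRing
open Groth.Agent.Lib.Helper76.LT Groth.Agent.Lib.Helper76.PSInv
open Groth.Agent.Lib.Helper76.PSComplete Groth.Agent.Lib.Helper76.NodeNF
open Groth.Agent.Lib.Helper63.CompletionNoeth

section ordqf

variable {R : Type*} [CommRing R]

lemma ord_two_qf (a b c : R) : Ord 2 (qf a b c) := by
  have hX : ∀ s : Fin 2, Ord 1 (X s : MvPowerSeries (Fin 2) R) := fun s =>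
    ord_one_iff.mpr (constantCoeff_X s)
  have hXC : ∀ (r : R) (s : Fin 2), Ord 1 (C r * X s : MvPowerSeries (Fin 2) R) := fun r s =>
    ord_one_iff.mpr (by simp)
  have e : qf a b c = X 0 * (C a * X 0) + X 0 * (C b * X 1) + X 1 * (C c * X 1) := by
    unfold qf
    ring
  rw [e]
  exact (((hX 0).mul (hXC a 0)).add ((hX 0).mul (hXC b 1))).add ((hX 1).mul (hXC c 1))

end ordqf

section general

variable {A : Type*} [CommRing A] [IsLocalRing A] [IsNoetherianRing A]

theorem exists_nzd [IsReduced A] (hm : maximalIdeal A ≠ ⊥) :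
    ∃ z ∈ maximalIdeal A, z ∈ nonZeroDivisors A := by
  by_contra hcon
  have hdisj : Disjoint (maximalIdeal A : Set A) (nonZeroDivisors A) := by
    rw [Set.disjoint_left]
    intro z hz hz'
    exact hcon ⟨z, hz, hz'⟩
  have hlt := Ideal.bot_lt_annihilator_of_disjoint_nonZeroDivisors hdisj
  obtain ⟨x, hx, hx0⟩ := SetLike.exists_of_lt hlt
  rw [Module.mem_annihilator] at hx
  have hx0' : x ≠ 0 := fun h => hx0 (by rw [h]; exact Submodule.zero_mem _)
  by_cases hu : IsUnit x
  · apply hm
    rw [eq_bot_iff]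
    intro w hw
    have h1 := hx ⟨w, hw⟩
    have h2 : x * w = 0 := by
      have := congrArg Subtype.val h1
      simpa using this
    rw [Ideal.mem_bot]
    exact (hu.mul_right_eq_zero).mp h2
  · have hxm : x ∈ maximalIdeal A := (mem_maximalIdeal x).mpr (mem_nonunits_iff.mpr hu)
    have h1 := hx ⟨x, hxm⟩
    have h2 : x * x = 0 := by
      have := congrArg Subtype.val h1
      simpa using this
    apply hx0'
    exact IsReduced.eq_zero x ⟨2, by rw [sq]; exact h2⟩

theorem maximalIdeal_eq_span_pair {x y : A} (hx : x ∈ maximalIdeal A) (hy : y ∈ maximalIdeal A)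
    (hsp : Ideal.span {x, y} ⊔ maximalIdeal A ^ 2 = maximalIdeal A) :
    maximalIdeal A = Ideal.span {x, y} := by
  apply le_antisymm
  · apply Submodule.le_of_le_smul_of_le_jacobson_bot (IsNoetherian.noetherian _)
      (IsLocalRing.jacobson_eq_maximalIdeal ⊥ bot_ne_top).ge
    rw [smul_eq_mul, ← pow_two, hsp]
  · rw [Ideal.span_le]
    rintro z (rfl | rfl)
    · exact hx
    · exact hy

theorem linearIndependent_of_span_eq {d : ℕ} (b : Fin d → A) (hb : ∀ i, b i ∈ maximalIdeal A)
    (hgen : Ideal.span (Set.range b) = maximalIdeal A)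
    (hd : Module.finrank (ResidueField A) (CotangentSpace A) = d) :
    LinearIndependent (ResidueField A)
      (fun i => (maximalIdeal A).toCotangent ⟨b i, hb i⟩) := by
  apply linearIndependent_of_top_le_span_of_card_eq_finrank
  · rw [top_le_iff]
    have h1 : Set.range (fun i : Fin d => (maximalIdeal A).toCotangent ⟨b i, hb i⟩) =
        (maximalIdeal A).toCotangent ''
          Set.range (fun i : Fin d => (⟨b i, hb i⟩ : maximalIdeal A)) := by
      rw [← Set.range_comp]
      rfl
    rw [h1, CotangentSpace.span_image_eq_top_iff]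
    apply Submodule.map_injective_of_injective (maximalIdeal A).injective_subtype
    rw [Submodule.map_span, Submodule.map_top, Submodule.range_subtype, ← Set.range_comp]
    exact hgen
  · rw [Fintype.card_fin, hd]

end general

section forward

variable {k : Type*} [Field k] {A : Type*} [CommRing A] [IsLocalRing A] [IsNoetherianRing A]
  [Algebra k A]

local notation "Ah" => AdicCompletion (maximalIdeal A) A
local notation "P" => MvPowerSeries (Fin 2) (ResidueField A)

/-- a coefficient field in the completion, for a separable residue field extension -/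
theorem exists_coeffField [Algebra.IsSeparable k (ResidueField A)] :
    ∃ g : ResidueField A →ₐ[k] Ah,
      ∀ a : A, g (residue A a) - algebraMap A Ah a ∈ maximalIdeal Ah := by
  haveI : Algebra.FormallyEtale k (ResidueField A) := Algebra.FormallyEtale.of_isSeparable k _
  let ιₐ : A →ₐ[k] Ah := { algebraMap A Ah with commutes' := fun t => rfl }
  haveI : IsLocalHom ιₐ := ⟨fun a ha => isUnit_of_map_unit (algebraMap A Ah) a ha⟩
  let f : ResidueField A →ₐ[k] Ah ⧸ maximalIdeal Ah := IsLocalRing.ResidueField.mapAlgHom ιₐ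
  obtain ⟨g, hg⟩ := Algebra.FormallySmooth.exists_mkₐ_comp_eq_of_isAdicComplete
    (I := maximalIdeal Ah) f
  refine ⟨g, fun a => ?_⟩
  have h1 := DFunLike.congr_fun hg (residue A a)
  have h2 : f (residue A a) = Ideal.Quotient.mk (maximalIdeal Ah) (algebraMap A Ah a) := rfl
  rw [h2, AlgHom.comp_apply, Ideal.Quotient.mkₐ_eq_mk] at h1
  exact Ideal.Quotient.eq.mp h1

theorem completion_equiv_of_nzd [Algebra.IsSeparable k (ResidueField A)]
    (hznz : ∃ z ∈ maximalIdeal A, z ∈ nonZeroDivisors A)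
    (hfin : Module.finrank (ResidueField A) (CotangentSpace A) = 2)
    (x y a b c : A) (hx : x ∈ maximalIdeal A) (hy : y ∈ maximalIdeal A)
    (hsp : Ideal.span {x, y} ⊔ maximalIdeal A ^ 2 = maximalIdeal A)
    (hnd : residue A (4 * a * c - b ^ 2) ≠ 0)
    (hq : a * x ^ 2 + b * x * y + c * y ^ 2 ∈ maximalIdeal A ^ 3) :
    ∃ e : Ah ≃+* (P ⧸ Ideal.span {qf (residue A a) (residue A b) (residue A c)}),
      ∀ t : k, e (algebraMap A Ah (algebraMap k A t)) =
        Ideal.Quotient.mk _ (C (algebraMap A (ResidueField A) (algebraMap k A t))) := by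
  classical
  haveI hNoeth : IsNoetherianRing Ah := isNoetherianRing_adicCompletion A _
  have hmh : maximalIdeal Ah = (maximalIdeal A).map (algebraMap A Ah) :=
    AdicCompletion.maximalIdeal_eq_map
  have hm := maximalIdeal_eq_span_pair hx hy hsp
  have hι : ∀ {w : A}, w ∈ maximalIdeal A → algebraMap A Ah w ∈ maximalIdeal Ah := by
    intro w hw
    rw [hmh]
    exact Ideal.mem_map_of_mem _ hw
  have hιpow : ∀ {w : A} {n : ℕ}, w ∈ maximalIdeal A ^ n →
      algebraMap A Ah w ∈ maximalIdeal Ah ^ n := by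
    intro w n hw
    rw [hmh, ← Ideal.map_pow]
    exact Ideal.mem_map_of_mem _ hw
  have hnd' : 4 * residue A a * residue A c - residue A b ^ 2 ≠ 0 := by
    have e : 4 * residue A a * residue A c - residue A b ^ 2 =
        residue A (4 * a * c - b ^ 2) := by
      simp only [map_sub, map_mul, map_pow, map_ofNat]
    rw [e]
    exact hnd
  obtain ⟨g, hg⟩ := exists_coeffField (k := k) (A := A)
  letI : Algebra (ResidueField A) Ah := g.toRingHom.toAlgebra
  have halg : ∀ z : ResidueField A, algebraMap (ResidueField A) Ah z = g z := fun z => rfl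
  -- the evaluation map
  have hb : ∀ s, (![algebraMap A Ah x, algebraMap A Ah y] : Fin 2 → Ah) s ∈ maximalIdeal Ah := by
    intro s
    fin_cases s
    · exact hι hx
    · exact hι hy
  have hgen : Ideal.span (Set.range (![algebraMap A Ah x, algebraMap A Ah y] : Fin 2 → Ah)) =
      maximalIdeal Ah := by
    have hrange : Set.range (![algebraMap A Ah x, algebraMap A Ah y] : Fin 2 → Ah) =
        algebraMap A Ah '' {x, y} := by
      rw [Set.image_pair]
      ext z
      simp only [Set.mem_range, Fin.exists_fin_two, Set.mem_insert_iff, Set.mem_singleton_iff]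
      exact ⟨fun h => h.imp Eq.symm Eq.symm, fun h => h.imp Eq.symm Eq.symm⟩
    rw [hrange, ← Ideal.map_span, ← hm, hmh]
  have hR : Function.Surjective ((residue Ah).comp (algebraMap (ResidueField A) Ah)) := by
    intro w
    obtain ⟨z, hz⟩ := (AdicCompletion.residueField_map_bijective A).2 w
    obtain ⟨r, rfl⟩ := residue_surjective z
    refine ⟨residue A r, ?_⟩
    rw [RingHom.comp_apply, halg, ← hz, ResidueField.map_residue]
    exact Ideal.Quotient.eq.mpr (hg r)
  obtain ⟨ψ₀, hψ₀⟩ : ∃ ψ₀ : P →ₐ[ResidueField A] Ah, ψ₀ = evC (maximalIdeal Ah) _ hb := ⟨_, rfl⟩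
  have hψ₀X : ∀ s, ψ₀ (X s) = (![algebraMap A Ah x, algebraMap A Ah y] : Fin 2 → Ah) s := by
    intro s
    rw [hψ₀]
    exact evC_X _ _ hb s
  have hψ₀X0 : ψ₀ (X 0) = algebraMap A Ah x := hψ₀X 0
  have hψ₀X1 : ψ₀ (X 1) = algebraMap A Ah y := hψ₀X 1
  have hψ₀C : ∀ r : ResidueField A, ψ₀ (C r) = g r := fun r => by
    have := ψ₀.commutes r
    rwa [MvPowerSeries.algebraMap_apply, Algebra.algebraMap_self, RingHom.id_apply] at this
  have hψ₀surj : Function.Surjective ψ₀ := by
    rw [hψ₀]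
    exact evC_surjective (maximalIdeal Ah) _ hb hgen hR
  have hψ₀m : ∀ s, ψ₀ (X s) ∈ maximalIdeal Ah := fun s => by
    rw [hψ₀X]
    exact hb s
  have hmapvar : (varIdeal (Fin 2) (ResidueField A)).map (ψ₀ : P →+* Ah) = maximalIdeal Ah := by
    unfold varIdeal
    rw [Ideal.map_span, ← hgen]
    congr 1
    ext z
    constructor
    · rintro ⟨_, ⟨s, rfl⟩, rfl⟩
      exact ⟨s, (hψ₀X s).symm⟩
    · rintro ⟨s, rfl⟩
      exact ⟨X s, ⟨s, rfl⟩, hψ₀X s⟩
  -- the quadratic relation
  obtain ⟨q, hqdef⟩ : ∃ q : P, q = qf (residue A a) (residue A b) (residue A c) := ⟨_, rfl⟩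
  have hψ₀q : ψ₀ q ∈ maximalIdeal Ah ^ 3 := by
    have e1 : ψ₀ q = g (residue A a) * algebraMap A Ah x ^ 2 +
        g (residue A b) * algebraMap A Ah x * algebraMap A Ah y +
        g (residue A c) * algebraMap A Ah y ^ 2 := by
      rw [hqdef]
      unfold qf
      simp only [map_add, map_mul, map_pow, hψ₀C, hψ₀X0, hψ₀X1]
    have e2 : ψ₀ q = algebraMap A Ah (a * x ^ 2 + b * x * y + c * y ^ 2) +
        ((g (residue A a) - algebraMap A Ah a) * (algebraMap A Ah x * algebraMap A Ah x) +
          (g (residue A b) - algebraMap A Ah b) * (algebraMap A Ah x * algebraMap A Ah y) +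
          (g (residue A c) - algebraMap A Ah c) * (algebraMap A Ah y * algebraMap A Ah y)) := by
      rw [e1]
      simp only [map_add, map_mul, map_pow]
      ring
    rw [e2]
    have h3 : maximalIdeal Ah ^ 3 = maximalIdeal Ah * (maximalIdeal Ah * maximalIdeal Ah) := by
      ring
    have hmm : ∀ {u v w : Ah}, u ∈ maximalIdeal Ah → v ∈ maximalIdeal Ah →
        w ∈ maximalIdeal Ah → u * (v * w) ∈ maximalIdeal Ah ^ 3 := by
      intro u v w hu hv hw
      rw [h3]
      exact Ideal.mul_mem_mul hu (Ideal.mul_mem_mul hv hw)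
    exact Ideal.add_mem _ (hιpow hq) (Ideal.add_mem _ (Ideal.add_mem _
      (hmm (hg a) (hι hx) (hι hx)) (hmm (hg b) (hι hx) (hι hy))) (hmm (hg c) (hι hy) (hι hy)))
  obtain ⟨T, hT, hψT⟩ : ∃ T ∈ varIdeal (Fin 2) (ResidueField A) ^ 3, (ψ₀ : P →+* Ah) T = ψ₀ q := by
    have h1 : ψ₀ q ∈ (varIdeal (Fin 2) (ResidueField A) ^ 3).map (ψ₀ : P →+* Ah) := by
      rw [Ideal.map_pow, hmapvar]
      exact hψ₀q
    exact (Ideal.mem_map_iff_of_surjective (ψ₀ : P →+* Ah) hψ₀surj).mp h1
  have hTord : Ord 3 T := mem_varIdeal_pow_iff.mp hT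
  -- the Morse lemma
  obtain ⟨cm, h00, h01, h10, h11⟩ : ∃ cm : Matrix (Fin 2) (Fin 2) (ResidueField A),
      cm 0 0 = residue A a ∧ cm 0 1 = residue A b ∧ cm 1 0 = 0 ∧ cm 1 1 = residue A c :=
    ⟨!![residue A a, residue A b; 0, residue A c], rfl, rfl, rfl, rfl⟩
  have hqev : qev cm XX = q := by
    rw [hqdef]
    unfold qev XX qf
    rw [Fin.sum_univ_two, Fin.sum_univ_two, Fin.sum_univ_two, h00, h01, h10, h11, map_zero]
    ring
  have hB : IsUnit (cm + cm.transpose).det := by
    have hdet : (cm + cm.transpose).det =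
        4 * residue A a * residue A c - residue A b ^ 2 := by
      rw [Matrix.det_fin_two]
      simp only [Matrix.add_apply, Matrix.transpose_apply, h00, h01, h10, h11]
      ring
    rw [hdet, isUnit_iff_ne_zero]
    exact hnd'
  have hG : Ord (2 + 1) ((q - T) - qev cm XX) := by
    rw [hqev]
    have e : q - T - q = -T := by ring
    rw [e]
    exact hTord.neg
  obtain ⟨h, hh, hsub⟩ := morse_B hB (le_refl 2) hG
  have hy0 : ∀ i, constantCoeff ((fun i => X i + h i : Fin 2 → P) i) = 0 := by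
    intro i
    simp only [map_add, constantCoeff_X, zero_add]
    exact (hh i).constantCoeff_eq_zero (by norm_num)
  have hJ : IsUnit (jac (fun i => X i + h i : Fin 2 → P)).det := by
    have e : jac (fun i => X i + h i : Fin 2 → P) = 1 := by
      ext s t
      simp only [jac, map_add, coeff_index_single_X, Matrix.one_apply]
      rw [hh s _ (by simp), add_zero]
      by_cases hst : s = t
      · simp [hst]
      · rw [if_neg hst, if_neg (fun h' => hst h'.symm)]
    rw [e, Matrix.det_one]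
    exact isUnit_one
  obtain ⟨Φ, hΦdef⟩ : ∃ Φ : P ≃ₐ[ResidueField A] P, Φ = substEquiv hy0 hJ := ⟨_, rfl⟩
  have hΦapp : ∀ F, Φ F = subst (fun i => X i + h i : Fin 2 → P) F := fun F => by
    rw [hΦdef, substEquiv_apply]
  have hΦqT : Φ (q - T) = q := by
    rw [hΦapp]
    exact hsub.trans hqev
  have hΦord : ∀ {n : ℕ} {F : P}, Ord n F → Ord n (Φ F) := by
    intro n F hF
    rw [hΦapp]
    exact ord_subst hy0 hF
  -- the final surjection
  obtain ⟨ψ, hψdef⟩ : ∃ ψ : P →+* Ah, ψ = (ψ₀ : P →+* Ah).comp (Φ.symm : P →+* P) := ⟨_, rfl⟩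
  have hψ : ∀ F, ψ F = ψ₀ (Φ.symm F) := fun F => by rw [hψdef]; rfl
  have hψsurj : Function.Surjective ψ := by
    intro w
    obtain ⟨F, hF⟩ := hψ₀surj w
    exact ⟨Φ F, by rw [hψ, AlgEquiv.symm_apply_apply, hF]⟩
  have hqI : q ∈ RingHom.ker ψ := by
    rw [RingHom.mem_ker, hψ]
    have e : Φ.symm q = q - T := by
      apply Φ.injective
      rw [AlgEquiv.apply_symm_apply, hΦqT]
    rw [e, map_sub, sub_eq_zero]
    exact hψT.symm
  have hfinAh : Module.finrank (ResidueField Ah) (CotangentSpace Ah) = 2 := by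
    rw [← spanFinrank_maximalIdeal_eq_finrank_cotangentSpace Ah,
      AdicCompletion.spanFinrank_maximalIdeal_eq,
      spanFinrank_maximalIdeal_eq_finrank_cotangentSpace A, hfin]
  have hgen' : Ideal.span (Set.range fun s => ψ₀ (X s)) = maximalIdeal Ah := by
    have e : (fun s => ψ₀ (X s)) = (![algebraMap A Ah x, algebraMap A Ah y] : Fin 2 → Ah) :=
      funext hψ₀X
    rw [e]
    exact hgen
  have hlin := linearIndependent_of_span_eq (fun s => ψ₀ (X s)) hψ₀m hgen' hfinAh
  have hordI : ∀ G ∈ RingHom.ker ψ, Ord 2 G := by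
    intro G hG
    rw [RingHom.mem_ker, hψ] at hG
    have h1 : Ord 2 (Φ.symm G) := ord_two_of_mem_ker ψ₀ hψ₀m hlin hG
    have h2 := hΦord h1
    rwa [AlgEquiv.apply_symm_apply] at h2
  -- a non-zero-divisor
  obtain ⟨z, hzm, hznzd⟩ := hznz
  have hreg : IsSMulRegular Ah z :=
    Module.Flat.isSMulRegular_of_isRegular (isRegular_iff_mem_nonZeroDivisors.mpr hznzd)
  obtain ⟨Z, hZz⟩ := hψsurj (algebraMap A Ah z)
  have hZ0 : constantCoeff Z = 0 := by
    by_contra hne
    have hu : IsUnit Z := MvPowerSeries.isUnit_iff_constantCoeff.mpr (isUnit_iff_ne_zero.mpr hne)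
    have hu' : IsUnit (ψ Z) := hu.map ψ
    rw [hZz] at hu'
    exact (mem_nonunits_iff.mp ((mem_maximalIdeal _).mp (hι hzm))) hu'
  have hZ : ∀ W, Z * W ∈ RingHom.ker ψ → W ∈ RingHom.ker ψ := by
    intro W hW
    rw [RingHom.mem_ker] at hW ⊢
    have h1 : z • (ψ W) = z • (0 : Ah) := by
      rw [smul_zero, Algebra.smul_def, ← hZz, ← map_mul, hW]
    exact hreg h1
  have hker : RingHom.ker ψ = Ideal.span {q} := by
    apply le_antisymm
    · rw [hqdef] at hqI ⊢
      exact ker_le_span' hnd' _ hqI hordI Z hZ0 hZ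
    · rw [Ideal.span_le]
      rintro _ rfl
      exact hqI
  rw [← hqdef]
  refine ⟨(RingHom.quotientKerEquivOfSurjective hψsurj).symm.trans (Ideal.quotEquivOfEq hker),
    fun t => ?_⟩
  have h1 : algebraMap A Ah (algebraMap k A t) =
      ψ (C (algebraMap A (ResidueField A) (algebraMap k A t))) := by
    rw [hψ]
    have h2 : Φ.symm (C (algebraMap A (ResidueField A) (algebraMap k A t))) =
        C (algebraMap A (ResidueField A) (algebraMap k A t)) := by
      have := Φ.symm.commutes (algebraMap A (ResidueField A) (algebraMap k A t))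
      rwa [MvPowerSeries.algebraMap_apply, Algebra.algebraMap_self, RingHom.id_apply] at this
    rw [h2, hψ₀C, ← IsScalarTower.algebraMap_apply k A (ResidueField A), AlgHom.commutes]
    rfl
  rw [RingEquiv.trans_apply, h1, RingHom.quotientKerEquivOfSurjective_symm_apply,
    Ideal.quotEquivOfEq_mk]

theorem completion_equiv [Algebra.IsSeparable k (ResidueField A)] [IsReduced A]
    (hfin : Module.finrank (ResidueField A) (CotangentSpace A) = 2)
    (x y a b c : A) (hx : x ∈ maximalIdeal A) (hy : y ∈ maximalIdeal A)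
    (hsp : Ideal.span {x, y} ⊔ maximalIdeal A ^ 2 = maximalIdeal A)
    (hnd : residue A (4 * a * c - b ^ 2) ≠ 0)
    (hq : a * x ^ 2 + b * x * y + c * y ^ 2 ∈ maximalIdeal A ^ 3) :
    ∃ e : Ah ≃+* (P ⧸ Ideal.span {qf (residue A a) (residue A b) (residue A c)}),
      ∀ t : k, e (algebraMap A Ah (algebraMap k A t)) =
        Ideal.Quotient.mk _ (C (algebraMap A (ResidueField A) (algebraMap k A t))) := by
  have hm0 : maximalIdeal A ≠ ⊥ := by
    intro h0
    have h1 : (maximalIdeal A).IsPrincipal := by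
      rw [h0]
      infer_instance
    have h2 := finrank_cotangentSpace_le_one_iff.mpr h1
    omega
  exact completion_equiv_of_nzd (exists_nzd hm0) hfin x y a b c hx hy hsp hnd hq

end forward

section backward

variable {A : Type*} [CommRing A] [IsLocalRing A] [IsNoetherianRing A]

local notation "Ah" => AdicCompletion (maximalIdeal A) A
local notation "P" => MvPowerSeries (Fin 2) (ResidueField A)

theorem of_completion_equiv {a b c : ResidueField A} (h : 4 * a * c - b ^ 2 ≠ 0)
    (e : Ah ≃+* (P ⧸ Ideal.span {qf a b c})) :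
    IsReduced A ∧ Module.finrank (ResidueField A) (CotangentSpace A) = 2 ∧
      ∃ x y a' b' c' : A, x ∈ maximalIdeal A ∧ y ∈ maximalIdeal A ∧
        Ideal.span {x, y} ⊔ maximalIdeal A ^ 2 = maximalIdeal A ∧
        residue A (4 * a' * c' - b' ^ 2) ≠ 0 ∧
        a' * x ^ 2 + b' * x * y + c' * y ^ 2 ∈ maximalIdeal A ^ 3 := by
  classical
  have hfg : (maximalIdeal A).FG := IsNoetherian.noetherian _
  have hmh : maximalIdeal Ah = (maximalIdeal A).map (algebraMap A Ah) :=
    AdicCompletion.maximalIdeal_eq_map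
  have hι : ∀ {w : A}, w ∈ maximalIdeal A → algebraMap A Ah w ∈ maximalIdeal Ah := by
    intro w hw
    rw [hmh]
    exact Ideal.mem_map_of_mem _ hw
  -- the surjection
  obtain ⟨ψ, hψdef⟩ : ∃ ψ : P →+* Ah,
      ψ = (e.symm : _ →+* Ah).comp (Ideal.Quotient.mk (Ideal.span {qf a b c})) := ⟨_, rfl⟩
  have hψ : ∀ F, ψ F = e.symm (Ideal.Quotient.mk _ F) := fun F => by rw [hψdef]; rfl
  have hψsurj : Function.Surjective ψ := by
    intro w
    obtain ⟨F, hF⟩ := Ideal.Quotient.mk_surjective (e w)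
    exact ⟨F, by rw [hψ, hF, RingEquiv.symm_apply_apply]⟩
  have hψker : ∀ F, ψ F = 0 ↔ F ∈ Ideal.span {qf a b c} := by
    intro F
    rw [hψ, map_eq_zero_iff _ e.symm.injective, Ideal.Quotient.eq_zero_iff_mem]
  have hq0 : constantCoeff (qf a b c) = 0 := (ord_two_qf a b c).constantCoeff_eq_zero (by norm_num)
  have hunit : ∀ F : P, IsUnit (ψ F) → constantCoeff F ≠ 0 := by
    intro F hu hF0
    obtain ⟨w, hw⟩ := hu.exists_right_inv
    obtain ⟨U, rfl⟩ := hψsurj w
    have h1 : ψ (F * U - 1) = 0 := by rw [map_sub, map_mul, hw, map_one, sub_self]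
    rw [hψker, Ideal.mem_span_singleton'] at h1
    obtain ⟨V, hV⟩ := h1
    have h2 := congrArg constantCoeff hV
    rw [map_mul, hq0, mul_zero, map_sub, map_mul, hF0, zero_mul, map_one, zero_sub] at h2
    exact one_ne_zero (neg_eq_zero.mp h2.symm)
  have hmem : ∀ F : P, constantCoeff F = 0 → ψ F ∈ maximalIdeal Ah := by
    intro F hF
    rw [mem_maximalIdeal, mem_nonunits_iff]
    exact fun hu => hunit F hu hF
  have hunit' : ∀ F : P, constantCoeff F ≠ 0 → IsUnit (ψ F) := fun F hF =>
    (MvPowerSeries.isUnit_iff_constantCoeff.mpr (isUnit_iff_ne_zero.mpr hF)).map ψ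
  have hcc0 : ∀ {F : P} {w : A}, w ∈ maximalIdeal A → ψ F = algebraMap A Ah w →
      constantCoeff F = 0 := by
    intro F w hw hF
    by_contra hne
    have hu := hunit' F hne
    rw [hF] at hu
    exact (mem_nonunits_iff.mp ((mem_maximalIdeal _).mp (hι hw))) hu
  -- approximation
  have happ : ∀ (w : Ah), ∃ r : A, w - algebraMap A Ah r ∈ maximalIdeal Ah ^ 3 := by
    intro w
    obtain ⟨r, hr⟩ := Groth.Agent.Lib.Helper76.ComplDense.exists_of_sub_mem (maximalIdeal A)
      hfg w 3
    exact ⟨r, by rw [hmh]; exact hr⟩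
  have hback : ∀ (r : A) (n : ℕ), algebraMap A Ah r ∈ maximalIdeal Ah ^ n →
      r ∈ maximalIdeal A ^ n := by
    intro r n hr
    rw [hmh] at hr
    exact Groth.Agent.Lib.Helper76.NodeDef.of_mem_pow (maximalIdeal A) hfg r n hr
  have hπ : ∀ {u v : Ah}, u - v ∈ maximalIdeal Ah ^ 3 →
      Ideal.Quotient.mk (maximalIdeal Ah ^ 3) u = Ideal.Quotient.mk (maximalIdeal Ah ^ 3) v :=
    fun h => Ideal.Quotient.eq.mpr h
  have h31 : maximalIdeal Ah ^ 3 ≤ maximalIdeal Ah := Ideal.pow_le_self three_ne_zero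
  obtain ⟨x, hx⟩ := happ (ψ (X 0))
  obtain ⟨y, hy⟩ := happ (ψ (X 1))
  obtain ⟨a', ha'⟩ := happ (ψ (C a))
  obtain ⟨b', hb'⟩ := happ (ψ (C b))
  obtain ⟨c', hc'⟩ := happ (ψ (C c))
  have hmA : ∀ (s : Fin 2) (r : A), ψ (X s) - algebraMap A Ah r ∈ maximalIdeal Ah ^ 3 →
      r ∈ maximalIdeal A := by
    intro s r hr
    have h1 : algebraMap A Ah r ∈ maximalIdeal Ah ^ 1 := by
      have h2 : algebraMap A Ah r = ψ (X s) - (ψ (X s) - algebraMap A Ah r) := by ring
      rw [h2, pow_one]
      exact Ideal.sub_mem _ (hmem _ (constantCoeff_X s)) (h31 hr)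
    have h3 := hback r 1 h1
    rwa [pow_one] at h3
  have hxm : x ∈ maximalIdeal A := hmA 0 x hx
  have hym : y ∈ maximalIdeal A := hmA 1 y hy
  have hrel : a' * x ^ 2 + b' * x * y + c' * y ^ 2 ∈ maximalIdeal A ^ 3 := by
    apply hback
    rw [← Ideal.Quotient.eq_zero_iff_mem]
    have h0 : ψ (qf a b c) = 0 := (hψker _).mpr (Ideal.mem_span_singleton_self _)
    have h1 : Ideal.Quotient.mk (maximalIdeal Ah ^ 3) (ψ (qf a b c)) = 0 := by
      rw [h0, map_zero]
    rw [← h1]
    unfold qf
    simp only [map_add, map_mul, map_pow]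
    rw [hπ hx, hπ hy, hπ ha', hπ hb', hπ hc']
  have hnd : residue A (4 * a' * c' - b' ^ 2) ≠ 0 := by
    rw [Ne, residue_eq_zero_iff]
    intro hmem'
    have h2' : ψ (C (4 * a * c - b ^ 2)) - algebraMap A Ah (4 * a' * c' - b' ^ 2) ∈
        maximalIdeal Ah ^ 3 := by
      apply Ideal.Quotient.eq.mp
      simp only [map_sub, map_mul, map_pow, map_ofNat]
      rw [hπ ha', hπ hb', hπ hc']
    have h3 : ψ (C (4 * a * c - b ^ 2)) ∈ maximalIdeal Ah := by
      have := Ideal.add_mem _ (h31 h2') (hι hmem')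
      rwa [sub_add_cancel] at this
    exact (mem_nonunits_iff.mp ((mem_maximalIdeal _).mp h3))
      (hunit' _ (by rw [constantCoeff_C]; exact h))
  have hspan : Ideal.span {x, y} ⊔ maximalIdeal A ^ 2 = maximalIdeal A := by
    apply le_antisymm
    · refine sup_le ?_ (Ideal.pow_le_self two_ne_zero)
      rw [Ideal.span_le]
      rintro z (rfl | rfl)
      · exact hxm
      · exact hym
    · intro w hw
      obtain ⟨G, hG⟩ := hψsurj (algebraMap A Ah w)
      have hG0 : constantCoeff G = 0 := hcc0 hw hG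
      obtain ⟨gs, -, hgs⟩ := exists_eq_sum_X_mul (N := 0) (ord_one_iff.mpr hG0)
      rw [Fin.sum_univ_two] at hgs
      obtain ⟨u₀, hu₀⟩ := happ (ψ (gs 0))
      obtain ⟨u₁, hu₁⟩ := happ (ψ (gs 1))
      have h1 : w - (x * u₀ + y * u₁) ∈ maximalIdeal A ^ 2 := by
        apply hback
        apply Ideal.pow_le_pow_right (show 2 ≤ 3 by norm_num)
        rw [← Ideal.Quotient.eq_zero_iff_mem]
        simp only [map_sub, map_add, map_mul]
        rw [← hG, hgs]
        simp only [map_add, map_mul]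
        rw [hπ hx, hπ hy, hπ hu₀, hπ hu₁, sub_self]
      have h2 : w = (x * u₀ + y * u₁) + (w - (x * u₀ + y * u₁)) := by ring
      rw [h2]
      exact Submodule.add_mem_sup (Ideal.add_mem _
        (Ideal.mul_mem_right _ _ (Ideal.subset_span (by simp)))
        (Ideal.mul_mem_right _ _ (Ideal.subset_span (by simp)))) h1
  have hmA' : maximalIdeal A = Ideal.span {x, y} := maximalIdeal_eq_span_pair hxm hym hspan
  have hfin : Module.finrank (ResidueField A) (CotangentSpace A) = 2 := by
    apply le_antisymm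
    · rw [← spanFinrank_maximalIdeal_eq_finrank_cotangentSpace A]
      have h1 : (Ideal.span {x, y}).spanFinrank ≤ ({x, y} : Set A).ncard :=
        Submodule.spanFinrank_span_le_ncard_of_finite (Set.toFinite _)
      have h2 : ({x, y} : Set A).ncard ≤ 2 :=
        (Set.ncard_insert_le x {y}).trans (by rw [Set.ncard_singleton])
      rw [← hmA'] at h1
      exact h1.trans h2
    · by_contra hlt
      have h1 : Module.finrank (ResidueField A) (CotangentSpace A) ≤ 1 := by omega
      rw [finrank_cotangentSpace_le_one_iff] at h1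
      obtain ⟨z, hz⟩ := h1.principal
      have hzm : z ∈ maximalIdeal A := by
        rw [hz]
        exact Submodule.subset_span rfl
      have hmhz : maximalIdeal Ah = Ideal.span {algebraMap A Ah z} := by
        have e1 : maximalIdeal A = Ideal.span {z} := hz
        rw [hmh, e1, Ideal.map_span, Set.image_singleton]
      obtain ⟨Zz, hZz⟩ := hψsurj (algebraMap A Ah z)
      have hZz0 : constantCoeff Zz = 0 := hcc0 hzm hZz
      have key : ∀ s : Fin 2, ∃ U V : P, X s = Zz * U + qf a b c * V := by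
        intro s
        have h2 : ψ (X s) ∈ maximalIdeal Ah := hmem _ (constantCoeff_X s)
        rw [hmhz, Ideal.mem_span_singleton'] at h2
        obtain ⟨u, hu⟩ := h2
        obtain ⟨U, rfl⟩ := hψsurj u
        have h3 : ψ (X s - Zz * U) = 0 := by
          rw [map_sub, map_mul, hZz, ← hu]
          ring
        rw [hψker, Ideal.mem_span_singleton'] at h3
        obtain ⟨V, hV⟩ := h3
        exact ⟨U, V, by linear_combination (-1 : P) * hV⟩
      obtain ⟨U0, V0, h0⟩ := key 0
      obtain ⟨U1, V1, h1'⟩ := key 1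
      have hlin : ∀ (s t : Fin 2) (U V : P), X s = Zz * U + qf a b c * V →
          coeff (Finsupp.single t 1) (X s : P) =
            coeff (Finsupp.single t 1) Zz * constantCoeff U := by
        intro s t U V hX
        conv_lhs => rw [hX]
        rw [map_add, coeff_single_mul, hZz0, zero_mul, zero_add, coeff_single_mul, hq0,
          zero_mul, zero_add, (ord_two_iff.mp (ord_two_qf a b c)).2 t, zero_mul, add_zero]
      have e00 := hlin 0 0 U0 V0 h0
      have e01 := hlin 0 1 U0 V0 h0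
      have e11 := hlin 1 1 U1 V1 h1'
      rw [coeff_index_single_self_X] at e00 e11
      rw [coeff_index_single_X, if_neg (by decide)] at e01
      have hu0 : constantCoeff U0 ≠ 0 := by
        intro h'
        rw [h', mul_zero] at e00
        exact one_ne_zero e00
      have hl1 : coeff (Finsupp.single 1 1) Zz = 0 := by
        rcases mul_eq_zero.mp e01.symm with h' | h'
        · exact h'
        · exact absurd h' hu0
      rw [hl1, zero_mul] at e11
      exact one_ne_zero e11
  refine ⟨?_, hfin, x, y, a', b', c', hxm, hym, hspan, hnd, hrel⟩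
  haveI := isReduced_quot' h
  haveI : IsReduced Ah := isReduced_of_injective e e.injective
  exact isReduced_of_injective (algebraMap A Ah)
    (fun r s hrs => AdicCompletion.of_injective (maximalIdeal A) A hrs)

lemma degree_idx (i j : ℕ) : (idx i j).degree = i + j := by
  rw [idx, map_add, Finsupp.degree_single, Finsupp.degree_single]

lemma coeff_idx_zero_zero {κ : Type*} [Field κ] (H : MvPowerSeries (Fin 2) κ) :
    coeff (idx 0 0) H = constantCoeff H := by
  have h0 : idx 0 0 = 0 := by simp [idx]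
  rw [h0, coeff_zero_eq_constantCoeff_apply]

theorem ord_two_of_sq {κ : Type*} [Field κ] {a b c : κ} (h : 4 * a * c - b ^ 2 ≠ 0)
    (F V T : MvPowerSeries (Fin 2) κ)
    (hF0 : constantCoeff F = 0) (hT : Ord 3 T) (hFV : F ^ 2 = T + qf a b c * V) : Ord 2 F := by
  obtain ⟨gs, -, hgs⟩ := exists_eq_sum_X_mul (N := 0) (ord_one_iff.mpr hF0)
  rw [Fin.sum_univ_two] at hgs
  obtain ⟨p, hp⟩ : ∃ p, p = constantCoeff (gs 0) := ⟨_, rfl⟩
  obtain ⟨r, hr⟩ : ∃ r, r = constantCoeff (gs 1) := ⟨_, rfl⟩
  obtain ⟨v, hv⟩ : ∃ v, v = constantCoeff V := ⟨_, rfl⟩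
  have e1 : F ^ 2 = X 0 ^ 2 * X 1 ^ 0 * (gs 0 ^ 2) +
      (X 0 ^ 1 * X 1 ^ 1 * (gs 0 * gs 1) + X 0 ^ 1 * X 1 ^ 1 * (gs 0 * gs 1)) +
      X 0 ^ 0 * X 1 ^ 2 * (gs 1 ^ 2) := by
    rw [hgs]
    ring
  have e2 : qf a b c * V = C a * (X 0 ^ 2 * X 1 ^ 0 * V) + C b * (X 0 ^ 1 * X 1 ^ 1 * V) +
      C c * (X 0 ^ 0 * X 1 ^ 2 * V) := by
    unfold qf
    ring
  have hc : ∀ i j, i + j < 3 → coeff (idx i j) (F ^ 2) = coeff (idx i j) (qf a b c * V) := by
    intro i j hij
    rw [hFV, map_add, hT _ (by rw [degree_idx]; exact hij), zero_add]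
  have c20 := hc 2 0 (by norm_num)
  have c11 := hc 1 1 (by norm_num)
  have c02 := hc 0 2 (by norm_num)
  rw [e1, e2] at c20 c11 c02
  simp only [map_add, coeff_C_mul, coeff_mon_mul] at c20 c11 c02
  norm_num at c20 c11 c02
  rw [coeff_idx_zero_zero, coeff_idx_zero_zero, map_pow, ← hp, ← hv] at c20
  rw [coeff_idx_zero_zero, coeff_idx_zero_zero, map_mul, ← hp, ← hr, ← hv] at c11
  rw [coeff_idx_zero_zero, coeff_idx_zero_zero, map_pow, ← hr, ← hv] at c02
  have hv0 : v = 0 := by
    have h1 : (4 * a * c - b ^ 2) * v ^ 2 = 0 := by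
      linear_combination (-4 * c * v) * c20 + (2 * p * r + b * v) * c11 + (-4 * p ^ 2) * c02
    have h2 : v ^ 2 = 0 := (mul_eq_zero.mp h1).resolve_left h
    exact (pow_eq_zero_iff two_ne_zero).mp h2
  rw [hv0, mul_zero] at c20 c02
  have hp0 : p = 0 := (pow_eq_zero_iff two_ne_zero).mp c20
  have hr0 : r = 0 := (pow_eq_zero_iff two_ne_zero).mp c02
  rw [hgs]
  have o0 : Ord 1 (gs 0) := ord_one_iff.mpr (by rw [← hp, hp0])
  have o1 : Ord 1 (gs 1) := ord_one_iff.mpr (by rw [← hr, hr0])
  exact ((ord_one_iff.mpr (constantCoeff_X 0)).mul o0).add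
    ((ord_one_iff.mpr (constantCoeff_X 1)).mul o1)

theorem sq_mem_of_completion_equiv {a b c : ResidueField A} (h : 4 * a * c - b ^ 2 ≠ 0)
    (e : Ah ≃+* (P ⧸ Ideal.span {qf a b c})) (Z : A) (hZ : Z ∈ maximalIdeal A)
    (hZ2 : Z ^ 2 ∈ maximalIdeal A ^ 3) : Z ∈ maximalIdeal A ^ 2 := by
  classical
  have hfg : (maximalIdeal A).FG := IsNoetherian.noetherian _
  have hmh : maximalIdeal Ah = (maximalIdeal A).map (algebraMap A Ah) :=
    AdicCompletion.maximalIdeal_eq_map
  have hι : ∀ {w : A}, w ∈ maximalIdeal A → algebraMap A Ah w ∈ maximalIdeal Ah := by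
    intro w hw
    rw [hmh]
    exact Ideal.mem_map_of_mem _ hw
  obtain ⟨ψ, hψdef⟩ : ∃ ψ : P →+* Ah,
      ψ = (e.symm : _ →+* Ah).comp (Ideal.Quotient.mk (Ideal.span {qf a b c})) := ⟨_, rfl⟩
  have hψ : ∀ F, ψ F = e.symm (Ideal.Quotient.mk _ F) := fun F => by rw [hψdef]; rfl
  have hψsurj : Function.Surjective ψ := by
    intro w
    obtain ⟨F, hF⟩ := Ideal.Quotient.mk_surjective (e w)
    exact ⟨F, by rw [hψ, hF, RingEquiv.symm_apply_apply]⟩
  have hψker : ∀ F, ψ F = 0 ↔ F ∈ Ideal.span {qf a b c} := by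
    intro F
    rw [hψ, map_eq_zero_iff _ e.symm.injective, Ideal.Quotient.eq_zero_iff_mem]
  have hq0 : constantCoeff (qf a b c) = 0 := (ord_two_qf a b c).constantCoeff_eq_zero (by norm_num)
  have hunit : ∀ F : P, IsUnit (ψ F) → constantCoeff F ≠ 0 := by
    intro F hu hF0
    obtain ⟨w, hw⟩ := hu.exists_right_inv
    obtain ⟨U, rfl⟩ := hψsurj w
    have h1 : ψ (F * U - 1) = 0 := by rw [map_sub, map_mul, hw, map_one, sub_self]
    rw [hψker, Ideal.mem_span_singleton'] at h1
    obtain ⟨V, hV⟩ := h1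
    have h2 := congrArg constantCoeff hV
    rw [map_mul, hq0, mul_zero, map_sub, map_mul, hF0, zero_mul, map_one, zero_sub] at h2
    exact one_ne_zero (neg_eq_zero.mp h2.symm)
  have hmem : ∀ F : P, constantCoeff F = 0 → ψ F ∈ maximalIdeal Ah := by
    intro F hF
    rw [mem_maximalIdeal, mem_nonunits_iff]
    exact fun hu => hunit F hu hF
  have hunit' : ∀ F : P, constantCoeff F ≠ 0 → IsUnit (ψ F) := fun F hF =>
    (MvPowerSeries.isUnit_iff_constantCoeff.mpr (isUnit_iff_ne_zero.mpr hF)).map ψ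
  have hcc0' : ∀ {F : P}, ψ F ∈ maximalIdeal Ah → constantCoeff F = 0 := by
    intro F hF
    by_contra hne
    exact (mem_nonunits_iff.mp ((mem_maximalIdeal _).mp hF)) (hunit' F hne)
  have hback : ∀ (r : A) (n : ℕ), algebraMap A Ah r ∈ maximalIdeal Ah ^ n →
      r ∈ maximalIdeal A ^ n := by
    intro r n hr
    rw [hmh] at hr
    exact Groth.Agent.Lib.Helper76.NodeDef.of_mem_pow (maximalIdeal A) hfg r n hr
  have hmapvar : maximalIdeal Ah ≤ (varIdeal (Fin 2) (ResidueField A)).map ψ := by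
    intro w hw
    obtain ⟨G, rfl⟩ := hψsurj w
    have hG0 := hcc0' hw
    have hG1 : G ∈ varIdeal (Fin 2) (ResidueField A) ^ 1 :=
      mem_varIdeal_pow_iff.mpr (ord_one_iff.mpr hG0)
    rw [pow_one] at hG1
    exact Ideal.mem_map_of_mem ψ hG1
  have hvarmap : (varIdeal (Fin 2) (ResidueField A)).map ψ ≤ maximalIdeal Ah := by
    rw [Ideal.map_le_iff_le_comap]
    intro G hG
    have hG1 : G ∈ varIdeal (Fin 2) (ResidueField A) ^ 1 := by rwa [pow_one]
    exact hmem G (ord_one_iff.mp (mem_varIdeal_pow_iff.mp hG1))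
  obtain ⟨F, hF⟩ := hψsurj (algebraMap A Ah Z)
  have hF0 : constantCoeff F = 0 := hcc0' (by rw [hF]; exact hι hZ)
  have h1 : ψ (F ^ 2) ∈ (varIdeal (Fin 2) (ResidueField A) ^ 3).map ψ := by
    rw [map_pow, hF, ← map_pow, Ideal.map_pow]
    apply Ideal.pow_right_mono hmapvar 3
    rw [hmh, ← Ideal.map_pow]
    exact Ideal.mem_map_of_mem _ hZ2
  obtain ⟨T, hT, hψT⟩ := (Ideal.mem_map_iff_of_surjective ψ hψsurj).mp h1
  have h2 : ψ (F ^ 2 - T) = 0 := by rw [map_sub, hψT, sub_self]
  rw [hψker, Ideal.mem_span_singleton'] at h2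
  obtain ⟨V, hV⟩ := h2
  have hord : Ord 2 F := ord_two_of_sq h F V T hF0 (mem_varIdeal_pow_iff.mp hT)
    (by linear_combination (-1 : P) * hV)
  apply hback
  rw [← hF]
  have h3 : F ∈ varIdeal (Fin 2) (ResidueField A) ^ 2 := mem_varIdeal_pow_iff.mpr hord
  have h5 : ψ F ∈ (varIdeal (Fin 2) (ResidueField A) ^ 2).map ψ := Ideal.mem_map_of_mem ψ h3
  rw [Ideal.map_pow] at h5
  exact Ideal.pow_right_mono hvarmap 2 h5


end backward

end Groth.Agent.Lib.Helper76.NodeChar
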