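import Mathlib
import Groth.Agent.Lib.Helper76.NodeBC3
import Groth.Agent.Lib.Helper76.NodeChar2

/-!
# Derivations on localisations of `K ⊗[k] A` and separability of the residue field (helper76)

With `L = (K ⊗[k] A)_{P'}` as in `NodeBC3`:

* `exists_der` : every `k`-derivation `A → M` into an `L`-module extends to a `K`-derivation `L → M`;
* `der_ext` : a `K`-derivation on `L` vanishing on the image of `A` vanishes;
* `exists_der_dual` : when the residue field of `L` is `K`, every functional on the cotangent space of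
  `L` is induced by a `K`-derivation `L → L/𝔫`;
* `maximalIdeal_eq_map_of_node` : if `L` is formally a non-degenerate quadratic singularity, then
  `𝔪_A L = 𝔫`;
* `isSeparable_of_map_eq` : if `𝔪_A L = 𝔫` then the residue field of `A` is separable over `k`.
-/

set_option autoImplicit false
universe u

namespace Groth.Agent.Lib.Helper76.NodeBC

open TensorProduct IsLocalRing KaehlerDifferential
open Groth.Agent.Lib.Helper76.NodeChar

attribute [local instance] Algebra.TensorProduct.rightAlgebra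

section sectionLemma

theorem exists_section {A R : Type*} [CommRing A] [IsLocalRing A] [CommRing R] [Algebra A R]
    (J N : Ideal R) (hJN : J ≤ N) (hJ : (maximalIdeal A).map (algebraMap A R) ≤ J) :
    ∃ σ : (R ⧸ N) →ₗ[A] (R ⧸ J), ∀ z, Ideal.Quotient.factor hJN (σ z) = z := by
  have hJ' : ∀ a ∈ maximalIdeal A,
      ((Ideal.Quotient.mk J).comp (algebraMap A R)) a = 0 := fun a ha =>
    Ideal.Quotient.eq_zero_iff_mem.mpr (hJ (Ideal.mem_map_of_mem _ ha))
  have hN' : ∀ a ∈ maximalIdeal A,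
      ((Ideal.Quotient.mk N).comp (algebraMap A R)) a = 0 := fun a ha =>
    Ideal.Quotient.eq_zero_iff_mem.mpr (hJN (hJ (Ideal.mem_map_of_mem _ ha)))
  let fJ : ResidueField A →+* R ⧸ J :=
    Ideal.Quotient.lift (maximalIdeal A) ((Ideal.Quotient.mk J).comp (algebraMap A R)) hJ'
  let fN : ResidueField A →+* R ⧸ N :=
    Ideal.Quotient.lift (maximalIdeal A) ((Ideal.Quotient.mk N).comp (algebraMap A R)) hN'
  letI algJ : Algebra (ResidueField A) (R ⧸ J) := fJ.toAlgebra
  letI algN : Algebra (ResidueField A) (R ⧸ N) := fN.toAlgebra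
  let π : (R ⧸ J) →ₗ[ResidueField A] (R ⧸ N) :=
    { toFun := Ideal.Quotient.factor hJN
      map_add' := map_add _
      map_smul' := fun r z => by
        obtain ⟨a, rfl⟩ := residue_surjective r
        rw [Algebra.smul_def, Algebra.smul_def, map_mul, RingHom.id_apply]
        rfl }
  have hπs : Function.Surjective π := Ideal.Quotient.factor_surjective hJN
  obtain ⟨σ, hσ⟩ := π.exists_rightInverse_of_surjective (LinearMap.range_eq_top.mpr hπs)
  refine ⟨{ toFun := σ, map_add' := σ.map_add, map_smul' := fun a z => ?_ }, fun z => ?_⟩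
  · have e1 : a • z = (residue A a) • z := by
      rw [Algebra.smul_def, Algebra.smul_def]
      rfl
    have e2 : a • σ z = (residue A a) • σ z := by
      rw [Algebra.smul_def, Algebra.smul_def]
      rfl
    rw [RingHom.id_apply, e1, e2, σ.map_smul]
  · exact LinearMap.congr_fun hσ z

end sectionLemma

section der

variable {k K A : Type u} [Field k] [Field K] [Algebra k K] [CommRing A] [IsLocalRing A]
  [Algebra k A] (P' : Ideal (K ⊗[k] A)) [P'.IsPrime]

local notation "T" => K ⊗[k] A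
local notation "L" => Localization.AtPrime P'
local notation "𝔫" => maximalIdeal (Localization.AtPrime P')

theorem algebraMap_eq_phi : algebraMap A L = phi P' := by
  rw [IsScalarTower.algebraMap_eq A (K ⊗[k] A) (Localization.AtPrime P')]
  rfl

theorem algebraMap_apply_eq (a : A) :
    algebraMap A L a = algebraMap T L ((1 : K) ⊗ₜ[k] a) := by
  rw [IsScalarTower.algebraMap_apply A T L]
  rfl

theorem exists_der {M : Type*} [AddCommGroup M] [Module L M] [Module T M] [Module A M]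
    [Module K M] [Module k M] [IsScalarTower T L M] [IsScalarTower A T M] [IsScalarTower k A M]
    [IsScalarTower K L M] (δ : Derivation k A M) :
    ∃ Δ : Derivation K L M, ∀ a : A, Δ (algebraMap A L a) = δ a := by
  haveI : Algebra.FormallyEtale T L :=
    Algebra.FormallyEtale.of_isLocalization (Rₘ := L) P'.primeCompl
  obtain ⟨ℓ₀, hℓ₀⟩ : ∃ ℓ₀ : Ω[A⁄k] →ₗ[A] M, ∀ a, ℓ₀ (D k A a) = δ a :=
    ⟨δ.liftKaehlerDifferential, fun a => Derivation.liftKaehlerDifferential_comp_D δ a⟩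
  obtain ⟨ℓ₂, hℓ₂⟩ : ∃ ℓ₂ : Ω[T⁄K] →ₗ[T] M, ∀ a : A, ℓ₂ (D K T ((1 : K) ⊗ₜ[k] a)) = δ a := by
    refine ⟨(ℓ₀.liftBaseChange T) ∘ₗ (tensorKaehlerEquiv k K A T).symm.toLinearMap, fun a => ?_⟩
    rw [LinearMap.comp_apply, LinearEquiv.coe_coe, tensorKaehlerEquiv_symm_D_tmul, map_one,
      LinearMap.liftBaseChange_tmul, one_smul, hℓ₀]
  refine ⟨((ℓ₂.liftBaseChange L) ∘ₗ
    (tensorKaehlerEquivOfFormallyEtale K T L).symm.toLinearMap).compDer (D K L), fun a => ?_⟩
  show (ℓ₂.liftBaseChange L) ((tensorKaehlerEquivOfFormallyEtale K T L).symm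
    (D K L (algebraMap A L a))) = δ a
  rw [algebraMap_apply_eq, tensorKaehlerEquivOfFormallyEtale_symm_D_algebraMap,
    LinearMap.liftBaseChange_tmul, one_smul, hℓ₂]

theorem der_ext {M : Type*} [AddCommGroup M] [Module L M] [Module K M] [IsScalarTower K L M]
    (Δ : Derivation K L M) (h : ∀ a : A, Δ (algebraMap A L a) = 0) : Δ = 0 := by
  have hT : ∀ z : T, Δ (algebraMap T L z) = 0 := by
    intro z
    induction z using TensorProduct.induction_on with
    | zero => rw [map_zero, map_zero]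
    | tmul c a =>
      have e1 : c ⊗ₜ[k] a = c • ((1 : K) ⊗ₜ[k] a) := by
        rw [TensorProduct.smul_tmul', smul_eq_mul, mul_one]
      have e2 : algebraMap T L (c • ((1 : K) ⊗ₜ[k] a)) =
          c • algebraMap T L ((1 : K) ⊗ₜ[k] a) :=
        map_smul (IsScalarTower.toAlgHom K T L) c _
      rw [e1, e2, ← algebraMap_apply_eq, Δ.map_smul, h, smul_zero]
    | add x y hx hy => rw [map_add, map_add, hx, hy, add_zero]
  ext b
  obtain ⟨⟨u, s⟩, rfl⟩ := IsLocalization.mk'_surjective P'.primeCompl b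
  have h1 : IsLocalization.mk' L u s * algebraMap T L s = algebraMap T L u :=
    IsLocalization.mk'_spec _ _ _
  have h2 := congrArg Δ h1
  rw [Δ.leibniz, hT, hT, smul_zero, zero_add] at h2
  have hu : IsUnit (algebraMap T L (s : T)) := IsLocalization.map_units L s
  exact (hu.smul_eq_zero).mp h2

end der

section der2

variable {k K A : Type u} [Field k] [Field K] [Algebra k K] [CommRing A] [IsLocalRing A]
  [Algebra k A] (P' : Ideal (K ⊗[k] A)) [P'.IsPrime]

local notation "T" => K ⊗[k] A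
local notation "L" => Localization.AtPrime P'
local notation "𝔫" => maximalIdeal (Localization.AtPrime P')

theorem exists_der_dual (hbij : Function.Bijective (algebraMap K (ResidueField L)))
    (μ : CotangentSpace L →ₗ[ResidueField L] ResidueField L) :
    ∃ D : Derivation K L (L ⧸ 𝔫), ∀ (b : L) (hb : b ∈ 𝔫),
      D b = μ ((𝔫).toCotangent ⟨b, hb⟩) := by
  classical
  obtain ⟨c, hc⟩ : ∃ c : L → K, ∀ b, algebraMap K (ResidueField L) (c b) = residue L b :=
    ⟨fun b => (hbij.2 (residue L b)).choose, fun b => (hbij.2 (residue L b)).choose_spec⟩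
  have hres : ∀ t : K, residue L (algebraMap K L t) = algebraMap K (ResidueField L) t :=
    fun t => rfl
  have hcadd : ∀ b b', c (b + b') = c b + c b' := fun b b' =>
    hbij.1 (by rw [map_add, hc, hc, hc, map_add])
  have hcmul : ∀ b b', c (b * b') = c b * c b' := fun b b' =>
    hbij.1 (by rw [map_mul, hc, hc, hc, map_mul])
  have hcalg : ∀ t : K, c (algebraMap K L t) = t := fun t => hbij.1 (by rw [hc, hres])
  have hp : ∀ b : L, b - algebraMap K L (c b) ∈ 𝔫 := by
    intro b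
    rw [← residue_eq_zero_iff, map_sub, hres, hc, sub_self]
  obtain ⟨pp, hpp⟩ : ∃ pp : L → 𝔫, ∀ b, (pp b : L) = b - algebraMap K L (c b) :=
    ⟨fun b => ⟨_, hp b⟩, fun b => rfl⟩
  have hppadd : ∀ b b', pp (b + b') = pp b + pp b' := by
    intro b b'
    apply Subtype.ext
    rw [Submodule.coe_add, hpp, hpp, hpp, hcadd, map_add]
    ring
  have hppsmul : ∀ (t : K) (b : L), pp (t • b) = algebraMap K L t • pp b := by
    intro t b
    apply Subtype.ext
    rw [Submodule.coe_smul, hpp, hpp, Algebra.smul_def, hcmul, hcalg, map_mul, smul_eq_mul]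
    ring
  have hppmul : ∀ b b', ∃ w : 𝔫, (w : L) ∈ 𝔫 ^ 2 ∧
      pp (b * b') = b • pp b' + b' • pp b - w := by
    intro b b'
    refine ⟨⟨(pp b : L) * (pp b' : L), Ideal.mul_mem_left _ _ (pp b').2⟩, ?_, ?_⟩
    · rw [pow_two]
      exact Ideal.mul_mem_mul (pp b).2 (pp b').2
    · apply Subtype.ext
      simp only [Submodule.coe_sub, Submodule.coe_add, Submodule.coe_smul, smul_eq_mul, hpp,
        hcmul, map_mul]
      ring
  have hμ : ∀ (r : L) (v : CotangentSpace L), μ (r • v) = residue L r * μ v := by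
    intro r v
    rw [← algebraMap_smul (ResidueField L) r v, map_smul, smul_eq_mul]
    rfl
  have hsm : ∀ (r : L) (z : L ⧸ 𝔫), r • z = Ideal.Quotient.mk 𝔫 r * z :=
    fun r z => Algebra.smul_def r z
  let lin : L →ₗ[K] (L ⧸ 𝔫) :=
    { toFun := fun b => μ ((𝔫).toCotangent (pp b))
      map_add' := fun b b' => by
        show (μ ((𝔫).toCotangent (pp (b + b'))) : L ⧸ 𝔫) =
          μ ((𝔫).toCotangent (pp b)) + μ ((𝔫).toCotangent (pp b'))
        rw [hppadd, map_add, map_add]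
      map_smul' := fun t b => by
        show (μ ((𝔫).toCotangent (pp (t • b))) : L ⧸ 𝔫) =
          t • (μ ((𝔫).toCotangent (pp b)) : L ⧸ 𝔫)
        rw [hppsmul, map_smul, hμ]
        exact (Algebra.smul_def t _).symm }
  refine ⟨Derivation.mk' lin (fun b b' => ?_), fun b hb => ?_⟩
  · show (μ ((𝔫).toCotangent (pp (b * b'))) : L ⧸ 𝔫) =
      b • (μ ((𝔫).toCotangent (pp b')) : L ⧸ 𝔫) + b' • (μ ((𝔫).toCotangent (pp b)) : L ⧸ 𝔫)
    obtain ⟨w, hw2, hw⟩ := hppmul b b'
    have hw0 : (𝔫).toCotangent w = 0 := (Ideal.toCotangent_eq_zero _ w).mpr hw2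
    rw [hw, map_sub, map_add, map_smul, map_smul, hw0, sub_zero, map_add, hμ, hμ]
    have e1 := hsm b (μ ((𝔫).toCotangent (pp b')))
    have e2 := hsm b' (μ ((𝔫).toCotangent (pp b)))
    exact (congr (congrArg HAdd.hAdd e1) e2).symm
  · show (μ ((𝔫).toCotangent (pp b)) : L ⧸ 𝔫) = μ ((𝔫).toCotangent ⟨b, hb⟩)
    have hcb : c b = 0 := hbij.1 (by rw [hc, map_zero, (residue_eq_zero_iff b).mpr hb])
    have hppb : pp b = ⟨b, hb⟩ := Subtype.ext (by rw [hpp, hcb, map_zero, sub_zero])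
    rw [hppb]

theorem exists_lift_der (J : Ideal L) (hJn : J ≤ 𝔫)
    (hmJ : (maximalIdeal A).map (algebraMap A L) ≤ J) (D₀ : Derivation K L (L ⧸ 𝔫)) :
    ∃ Δ : Derivation K L (L ⧸ J), ∀ b, Ideal.Quotient.factor hJn (Δ b) = D₀ b := by
  obtain ⟨σ, hσ⟩ := exists_section (A := A) J 𝔫 hJn hmJ
  obtain ⟨δ, hδ⟩ : ∃ δ : Derivation k A (L ⧸ 𝔫), ∀ a, δ a = D₀ (algebraMap A L a) :=
    ⟨(D₀.restrictScalars k).compAlgebraMap A, fun a => rfl⟩
  obtain ⟨Δ, hΔ⟩ := exists_der P' (σ.compDer δ)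
  refine ⟨Δ, ?_⟩
  obtain ⟨π, hπ⟩ : ∃ π : (L ⧸ J) →ₗ[L] (L ⧸ 𝔫), ∀ z, π z = Ideal.Quotient.factor hJn z :=
    ⟨(Ideal.Quotient.factorₐ L hJn).toLinearMap, fun z => rfl⟩
  have h0 : π.compDer Δ - D₀ = 0 := by
    apply der_ext P'
    intro a
    show π (Δ (algebraMap A L a)) - D₀ (algebraMap A L a) = 0
    rw [hΔ]
    show π (σ (δ a)) - D₀ (algebraMap A L a) = 0
    rw [hπ, hσ, hδ, sub_self]
  intro b
  have h1 : π (Δ b) - D₀ b = 0 := DFunLike.congr_fun h0 b
  rw [← hπ]
  exact sub_eq_zero.mp h1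

end der2

section main

variable {k K A : Type u} [Field k] [Field K] [Algebra k K] [CommRing A] [IsLocalRing A]
  [Algebra k A] (P' : Ideal (K ⊗[k] A)) [P'.IsPrime]

local notation "T" => K ⊗[k] A
local notation "L" => Localization.AtPrime P'
local notation "𝔫" => maximalIdeal (Localization.AtPrime P')

set_option maxHeartbeats 2000000 in
theorem maximalIdeal_eq_map_of_node [IsNoetherianRing L]
    (hP' : P'.comap (Algebra.TensorProduct.includeRight : A →ₐ[k] K ⊗[k] A).toRingHom =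
      maximalIdeal A)
    (hbij : Function.Bijective (algebraMap K (ResidueField L)))
    (hfin : Module.finrank (ResidueField L) (CotangentSpace L) = 2)
    (x' y' a' b' c' : L) (hx' : x' ∈ 𝔫) (hy' : y' ∈ 𝔫)
    (hsp : Ideal.span {x', y'} ⊔ 𝔫 ^ 2 = 𝔫)
    (hnd : residue L (4 * a' * c' - b' ^ 2) ≠ 0)
    (hq : a' * x' ^ 2 + b' * x' * y' + c' * y' ^ 2 ∈ 𝔫 ^ 3) :
    𝔫 = (maximalIdeal A).map (phi P') := by
  classical
  rw [← algebraMap_eq_phi]
  obtain ⟨J₀, hJ₀⟩ : ∃ J₀ : Ideal L, J₀ = (maximalIdeal A).map (algebraMap A L) ⊔ 𝔫 ^ 2 :=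
    ⟨_, rfl⟩
  have hmL : (maximalIdeal A).map (algebraMap A L) ≤ 𝔫 := by
    rw [algebraMap_eq_phi]
    exact map_le_maximalIdeal P' hP'
  have hJ₀n : J₀ ≤ 𝔫 := by
    rw [hJ₀]
    exact sup_le hmL (Ideal.pow_le_self two_ne_zero)
  have hn2 : 𝔫 ^ 2 ≤ J₀ := by
    rw [hJ₀]
    exact le_sup_right
  have hmJ : (maximalIdeal A).map (algebraMap A L) ≤ J₀ := by
    rw [hJ₀]
    exact le_sup_left
  have hnn : ∀ {u v : L}, u ∈ 𝔫 → v ∈ 𝔫 → u * v ∈ J₀ := fun hu hv =>
    hn2 (by rw [pow_two]; exact Ideal.mul_mem_mul hu hv)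
  -- the dual basis
  have hm := maximalIdeal_eq_span_pair hx' hy' hsp
  have hb : ∀ i, (![x', y'] : Fin 2 → L) i ∈ 𝔫 := by
    intro i
    fin_cases i
    · exact hx'
    · exact hy'
  have hgen : Ideal.span (Set.range (![x', y'] : Fin 2 → L)) = 𝔫 := by
    rw [hm]
    congr 1
    ext z
    constructor
    · rintro ⟨i, rfl⟩
      fin_cases i
      · exact Or.inl rfl
      · exact Or.inr rfl
    · rintro (rfl | rfl)
      · exact ⟨0, rfl⟩
      · exact ⟨1, rfl⟩
  have hli := linearIndependent_of_span_eq (![x', y'] : Fin 2 → L) hb hgen hfin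
  obtain ⟨B, hB⟩ : ∃ B : Module.Basis (Fin 2) (ResidueField L) (CotangentSpace L),
      ∀ i, B i = (𝔫).toCotangent ⟨(![x', y'] : Fin 2 → L) i, hb i⟩ := by
    refine ⟨basisOfLinearIndependentOfCardEqFinrank hli (by rw [Fintype.card_fin, hfin]),
      fun i => ?_⟩
    rw [coe_basisOfLinearIndependentOfCardEqFinrank]
  have hB0 : B 0 = (𝔫).toCotangent ⟨x', hx'⟩ := hB 0
  have hB1 : B 1 = (𝔫).toCotangent ⟨y', hy'⟩ := hB 1
  -- derivations into `L ⧸ J₀`
  have hsm : ∀ (r : L) (z : L ⧸ J₀), r • z = Ideal.Quotient.mk J₀ r * z :=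
    fun r z => Algebra.smul_def r z
  have hleib : ∀ (Δ : Derivation K L (L ⧸ J₀)) (u v : L),
      Δ (u * v) = Ideal.Quotient.mk J₀ u * Δ v + Ideal.Quotient.mk J₀ v * Δ u := fun Δ u v =>
    (Δ.leibniz u v).trans (congr (congrArg HAdd.hAdd (hsm u (Δ v))) (hsm v (Δ u)))
  have hΔ2 : ∀ (Δ : Derivation K L (L ⧸ J₀)) (v : L), v ∈ 𝔫 ^ 2 →
      Ideal.Quotient.factor hJ₀n (Δ v) = 0 := by
    intro Δ v hv
    rw [pow_two] at hv
    refine Submodule.mul_induction_on hv (fun u₁ h₁ u₂ h₂ => ?_) (fun x y hx hy => ?_)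
    · rw [hleib, map_add, map_mul, map_mul, Ideal.Quotient.factor_mk, Ideal.Quotient.factor_mk,
        Ideal.Quotient.eq_zero_iff_mem.mpr h₁, Ideal.Quotient.eq_zero_iff_mem.mpr h₂, zero_mul,
        zero_mul, add_zero]
    · rw [map_add, map_add, hx, hy, add_zero]
  have h3 : 𝔫 ^ 3 = 𝔫 ^ 2 * 𝔫 := pow_succ _ 2
  have hΔ3 : ∀ (Δ : Derivation K L (L ⧸ J₀)) (z : L), z ∈ 𝔫 ^ 3 → Δ z = 0 := by
    intro Δ z hz
    rw [h3] at hz
    refine Submodule.mul_induction_on hz (fun v hv u hu => ?_) (fun x y hx hy => ?_)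
    · obtain ⟨w, hw⟩ := Ideal.Quotient.mk_surjective (Δ v)
      have hwn : w ∈ 𝔫 := by
        have h1 := hΔ2 Δ v hv
        rw [← hw, Ideal.Quotient.factor_mk] at h1
        exact Ideal.Quotient.eq_zero_iff_mem.mp h1
      rw [hleib, Ideal.Quotient.eq_zero_iff_mem.mpr (hn2 hv), zero_mul, zero_add, ← hw,
        ← map_mul]
      exact Ideal.Quotient.eq_zero_iff_mem.mpr (hnn hu hwn)
    · rw [map_add, hx, hy, add_zero]
  have hrel : ∀ (Δ : Derivation K L (L ⧸ J₀)),
      Ideal.Quotient.mk J₀ (2 * a' * x' + b' * y') * Δ x' +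
        Ideal.Quotient.mk J₀ (b' * x' + 2 * c' * y') * Δ y' = 0 := by
    intro Δ
    have h0 := hΔ3 Δ _ hq
    have e : a' * x' ^ 2 + b' * x' * y' + c' * y' ^ 2 =
        a' * (x' * x') + b' * (x' * y') + c' * (y' * y') := by ring
    rw [e, map_add, map_add, hleib, hleib, hleib, hleib, hleib, hleib] at h0
    have z1 : Ideal.Quotient.mk J₀ (x' * x') = 0 :=
      Ideal.Quotient.eq_zero_iff_mem.mpr (hnn hx' hx')
    have z2 : Ideal.Quotient.mk J₀ (x' * y') = 0 :=
      Ideal.Quotient.eq_zero_iff_mem.mpr (hnn hx' hy')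
    have z3 : Ideal.Quotient.mk J₀ (y' * y') = 0 :=
      Ideal.Quotient.eq_zero_iff_mem.mpr (hnn hy' hy')
    rw [z1, z2, z3] at h0
    simp only [map_add, map_mul, map_ofNat]
    linear_combination h0
  have key : ∀ (D₀ : Derivation K L (L ⧸ 𝔫)) (dx dy : L),
      D₀ x' = Ideal.Quotient.mk 𝔫 dx → D₀ y' = Ideal.Quotient.mk 𝔫 dy →
      (2 * a' * x' + b' * y') * dx + (b' * x' + 2 * c' * y') * dy ∈ J₀ := by
    intro D₀ dx dy hdx hdy
    obtain ⟨Δ, hΔ⟩ := exists_lift_der P' J₀ hJ₀n hmJ D₀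
    obtain ⟨wx, hwx⟩ := Ideal.Quotient.mk_surjective (Δ x')
    obtain ⟨wy, hwy⟩ := Ideal.Quotient.mk_surjective (Δ y')
    have h1 : wx - dx ∈ 𝔫 := by
      have h := hΔ x'
      rw [← hwx, Ideal.Quotient.factor_mk, hdx] at h
      exact Ideal.Quotient.eq.mp h
    have h2 : wy - dy ∈ 𝔫 := by
      have h := hΔ y'
      rw [← hwy, Ideal.Quotient.factor_mk, hdy] at h
      exact Ideal.Quotient.eq.mp h
    have h3 := hrel Δ
    rw [← hwx, ← hwy, ← map_mul, ← map_mul, ← map_add] at h3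
    have h4 := Ideal.Quotient.eq_zero_iff_mem.mp h3
    have hW1 : 2 * a' * x' + b' * y' ∈ 𝔫 :=
      Ideal.add_mem _ (Ideal.mul_mem_left _ _ hx') (Ideal.mul_mem_left _ _ hy')
    have hW2 : b' * x' + 2 * c' * y' ∈ 𝔫 :=
      Ideal.add_mem _ (Ideal.mul_mem_left _ _ hx') (Ideal.mul_mem_left _ _ hy')
    have e : (2 * a' * x' + b' * y') * dx + (b' * x' + 2 * c' * y') * dy =
        ((2 * a' * x' + b' * y') * wx + (b' * x' + 2 * c' * y') * wy) -
        ((2 * a' * x' + b' * y') * (wx - dx) + (b' * x' + 2 * c' * y') * (wy - dy)) := by ring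
    rw [e]
    exact Ideal.sub_mem _ h4 (Ideal.add_mem _ (hnn hW1 h1) (hnn hW2 h2))
  obtain ⟨D₁, hD₁⟩ := exists_der_dual P' hbij (B.coord 0)
  obtain ⟨D₂, hD₂⟩ := exists_der_dual P' hbij (B.coord 1)
  have h1x : D₁ x' = Ideal.Quotient.mk 𝔫 1 := by
    rw [hD₁ x' hx', ← hB0, Module.Basis.coord_apply, Module.Basis.repr_self, Finsupp.single_apply,
      if_pos rfl]
    rfl
  have h1y : D₁ y' = Ideal.Quotient.mk 𝔫 0 := by
    rw [hD₁ y' hy', ← hB1, Module.Basis.coord_apply, Module.Basis.repr_self, Finsupp.single_apply,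
      if_neg (by decide)]
    rfl
  have h2x : D₂ x' = Ideal.Quotient.mk 𝔫 0 := by
    rw [hD₂ x' hx', ← hB0, Module.Basis.coord_apply, Module.Basis.repr_self, Finsupp.single_apply,
      if_neg (by decide)]
    rfl
  have h2y : D₂ y' = Ideal.Quotient.mk 𝔫 1 := by
    rw [hD₂ y' hy', ← hB1, Module.Basis.coord_apply, Module.Basis.repr_self, Finsupp.single_apply,
      if_pos rfl]
    rfl
  have hW1 := key D₁ 1 0 h1x h1y
  have hW2 := key D₂ 0 1 h2x h2y
  rw [mul_one, mul_zero, add_zero] at hW1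
  rw [mul_zero, mul_one, zero_add] at hW2
  have hdisc : IsUnit (4 * a' * c' - b' ^ 2) := by
    rw [← residue_ne_zero_iff_isUnit]
    exact hnd
  have hxJ : x' ∈ J₀ := by
    have e : (4 * a' * c' - b' ^ 2) * x' =
        2 * c' * (2 * a' * x' + b' * y') - b' * (b' * x' + 2 * c' * y') := by ring
    have h5 : (4 * a' * c' - b' ^ 2) * x' ∈ J₀ := by
      rw [e]
      exact Ideal.sub_mem _ (Ideal.mul_mem_left _ _ hW1) (Ideal.mul_mem_left _ _ hW2)
    exact (Ideal.unit_mul_mem_iff_mem _ hdisc).mp h5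
  have hyJ : y' ∈ J₀ := by
    have e : (4 * a' * c' - b' ^ 2) * y' =
        2 * a' * (b' * x' + 2 * c' * y') - b' * (2 * a' * x' + b' * y') := by ring
    have h5 : (4 * a' * c' - b' ^ 2) * y' ∈ J₀ := by
      rw [e]
      exact Ideal.sub_mem _ (Ideal.mul_mem_left _ _ hW2) (Ideal.mul_mem_left _ _ hW1)
    exact (Ideal.unit_mul_mem_iff_mem _ hdisc).mp h5
  have hle : 𝔫 ≤ J₀ := by
    rw [hm, Ideal.span_le]
    rintro z (rfl | rfl)
    · exact hxJ
    · exact hyJ
  apply le_antisymm _ hmL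
  apply Submodule.le_of_le_smul_of_le_jacobson_bot (IsNoetherian.noetherian _)
    (IsLocalRing.jacobson_eq_maximalIdeal ⊥ bot_ne_top).ge
  rw [smul_eq_mul, ← pow_two, ← hJ₀]
  exact hle

theorem isSeparable_of_map_eq [Algebra.EssFiniteType k A]
    (hbij : Function.Bijective (algebraMap K (ResidueField L)))
    (hn : 𝔫 = (maximalIdeal A).map (phi P')) :
    Algebra.IsSeparable k (ResidueField A) := by
  classical
  rw [← algebraMap_eq_phi] at hn
  haveI : Algebra.EssFiniteType k (ResidueField A) :=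
    inferInstanceAs (Algebra.EssFiniteType k (A ⧸ maximalIdeal A))
  have hker : ∀ a ∈ maximalIdeal A,
      ((Ideal.Quotient.mk 𝔫).comp (algebraMap A L)) a = 0 := fun a ha =>
    Ideal.Quotient.eq_zero_iff_mem.mpr (by rw [hn]; exact Ideal.mem_map_of_mem _ ha)
  obtain ⟨θ, hθ⟩ : ∃ θ : ResidueField A →+* L ⧸ 𝔫,
      ∀ a, θ (residue A a) = Ideal.Quotient.mk 𝔫 (algebraMap A L a) :=
    ⟨Ideal.Quotient.lift (maximalIdeal A) ((Ideal.Quotient.mk 𝔫).comp (algebraMap A L)) hker,
      fun a => rfl⟩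
  haveI : Nontrivial (L ⧸ 𝔫) := Ideal.Quotient.nontrivial_iff.mpr (Ideal.IsPrime.ne_top inferInstance)
  have hθinj : Function.Injective θ := θ.injective
  obtain ⟨θl, hθl⟩ : ∃ θl : ResidueField A →ₗ[A] L ⧸ 𝔫, ∀ r, θl r = θ r := by
    refine ⟨{ toFun := θ, map_add' := map_add θ, map_smul' := fun a r => ?_ }, fun r => rfl⟩
    have e1 : a • r = residue A a * r := Algebra.smul_def a r
    have e2 : a • θ r = Ideal.Quotient.mk 𝔫 (algebraMap A L a) * θ r := Algebra.smul_def a (θ r)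
    rw [RingHom.id_apply, e1, map_mul, hθ, e2]
  have hsm : ∀ (r : L) (z : L ⧸ 𝔫), r • z = Ideal.Quotient.mk 𝔫 r * z :=
    fun r z => Algebra.smul_def r z
  have hder : ∀ d : Derivation k (ResidueField A) (ResidueField A), d = 0 := by
    intro d
    obtain ⟨δ, hδ⟩ : ∃ δ : Derivation k A (L ⧸ 𝔫), ∀ a, δ a = θ (d (residue A a)) :=
      ⟨θl.compDer (d.compAlgebraMap A), fun a => hθl _⟩
    obtain ⟨Δ, hΔ⟩ := exists_der P' δ
    have hleib : ∀ (u v : L),
        Δ (u * v) = Ideal.Quotient.mk 𝔫 u * Δ v + Ideal.Quotient.mk 𝔫 v * Δ u := fun u v =>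
      (Δ.leibniz u v).trans (congr (congrArg HAdd.hAdd (hsm u (Δ v))) (hsm v (Δ u)))
    have hΔm : ∀ z ∈ 𝔫, Δ z = 0 := by
      intro z hz
      have hz' := hz
      rw [hn] at hz'
      refine Submodule.span_induction (p := fun z _ => Δ z = 0) ?_ ?_ ?_ ?_ hz'
      · rintro _ ⟨a, ha, rfl⟩
        rw [hΔ, hδ, (residue_eq_zero_iff a).mpr ha, map_zero, map_zero]
      · exact map_zero Δ
      · intro x y _ _ hx hy
        rw [map_add, hx, hy, add_zero]
      · intro l x hx hΔx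
        have hxn : x ∈ 𝔫 := by
          rw [hn]
          exact hx
        rw [smul_eq_mul, hleib, hΔx, mul_zero, zero_add,
          Ideal.Quotient.eq_zero_iff_mem.mpr hxn, zero_mul]
    have hΔ0 : ∀ b, Δ b = 0 := by
      intro b
      obtain ⟨t, ht⟩ := hbij.2 (residue L b)
      have hbt : b - algebraMap K L t ∈ 𝔫 := by
        rw [← residue_eq_zero_iff, map_sub, ← ht, sub_eq_zero]
        rfl
      have h1 := hΔm _ hbt
      rw [map_sub, Derivation.map_algebraMap, sub_zero] at h1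
      exact h1
    ext r
    obtain ⟨a, rfl⟩ := residue_surjective r
    apply hθinj
    rw [← hδ, ← hΔ, hΔ0, Derivation.zero_apply, map_zero]
  haveI : Algebra.FormallyUnramified k (ResidueField A) := by
    refine ⟨subsingleton_of_forall_eq 0 fun v => ?_⟩
    rw [← Module.forall_dual_apply_eq_zero_iff (ResidueField A) v]
    intro ℓ
    have h1 := hder (ℓ.compDer (D k (ResidueField A)))
    have h2 : ℓ = 0 := by
      apply LinearMap.ext_on (KaehlerDifferential.span_range_derivation k (ResidueField A))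
      rintro _ ⟨r, rfl⟩
      exact DFunLike.congr_fun h1 r
    rw [h2]
    rfl
  exact Algebra.FormallyUnramified.isSeparable k (ResidueField A)

end main

end Groth.Agent.Lib.Helper76.NodeBC
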