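import Mathlib
import Groth.Agent.Lib.Helper76.NodeBC4

/-!
# Descent and ascent of the node structure along `A → (K ⊗[k] A)_{P'}` (helper76)

* `nondeg_of_rel` : in a local ring with algebraically closed residue field whose tangent cone has
  no nilpotents in degree one, every non-trivial quadratic relation between two generators of the
  maximal ideal is non-degenerate;
* `node_descent` : if `L = (K ⊗[k] A)_{P'}` carries a non-degenerate quadratic relation, then the
  residue field of `A` is separable over `k` and `A` carries such a relation;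
* `node_ascent` : conversely.
-/

set_option autoImplicit false
universe u

namespace Groth.Agent.Lib.Helper76.NodeBC

open TensorProduct IsLocalRing
open Groth.Agent.Lib.Helper76.NodeChar

section localLemmas

variable {R : Type*} [CommRing R] [IsLocalRing R] [IsNoetherianRing R]

theorem le_of_le_sup_sq (I : Ideal R) (h : maximalIdeal R ≤ I ⊔ maximalIdeal R ^ 2) :
    maximalIdeal R ≤ I := by
  apply Submodule.le_of_le_smul_of_le_jacobson_bot (IsNoetherian.noetherian _)
    (IsLocalRing.jacobson_eq_maximalIdeal ⊥ bot_ne_top).ge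
  rw [smul_eq_mul, ← pow_two]
  exact h

theorem mem_maximalIdeal_of_not_isUnit {r : R} (h : ¬ IsUnit r) : r ∈ maximalIdeal R :=
  (mem_maximalIdeal r).mpr (mem_nonunits_iff.mpr h)

theorem not_isUnit_of_mem_maximalIdeal {r : R} (h : r ∈ maximalIdeal R) : ¬ IsUnit r :=
  mem_nonunits_iff.mp ((mem_maximalIdeal r).mp h)

theorem mul_mul_mem_cube {u v w : R} (hu : u ∈ maximalIdeal R) (hv : v ∈ maximalIdeal R)
    (hw : w ∈ maximalIdeal R) : u * (v * w) ∈ maximalIdeal R ^ 3 := by
  have h3 : maximalIdeal R ^ 3 = maximalIdeal R * (maximalIdeal R * maximalIdeal R) := by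
    ring
  rw [h3]
  exact Ideal.mul_mem_mul hu (Ideal.mul_mem_mul hv hw)

theorem mul_mem_sq {u v : R} (hu : u ∈ maximalIdeal R) (hv : v ∈ maximalIdeal R) :
    u * v ∈ maximalIdeal R ^ 2 := by
  rw [pow_two]
  exact Ideal.mul_mem_mul hu hv

theorem finrank_eq_two {x y : R} (hxy : maximalIdeal R = Ideal.span {x, y})
    (hnp : ¬ (maximalIdeal R).IsPrincipal) :
    Module.finrank (ResidueField R) (CotangentSpace R) = 2 := by
  apply le_antisymm
  · rw [← spanFinrank_maximalIdeal_eq_finrank_cotangentSpace R]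
    have h1 : (Ideal.span {x, y}).spanFinrank ≤ ({x, y} : Set R).ncard :=
      Submodule.spanFinrank_span_le_ncard_of_finite (Set.toFinite _)
    have h2 : ({x, y} : Set R).ncard ≤ 2 :=
      (Set.ncard_insert_le x {y}).trans (by rw [Set.ncard_singleton])
    rw [← hxy] at h1
    exact h1.trans h2
  · by_contra hlt
    have h1 : Module.finrank (ResidueField R) (CotangentSpace R) ≤ 1 := by omega
    exact hnp (finrank_cotangentSpace_le_one_iff.mp h1)

theorem not_isPrincipal_of_finrank
    (hfin : Module.finrank (ResidueField R) (CotangentSpace R) = 2) :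
    ¬ (maximalIdeal R).IsPrincipal := fun h => by
  have h1 := finrank_cotangentSpace_le_one_iff.mpr h
  omega

theorem nondeg_of_rel [IsAlgClosed (ResidueField R)]
    (hsq : ∀ Z ∈ maximalIdeal R, Z ^ 2 ∈ maximalIdeal R ^ 3 → Z ∈ maximalIdeal R ^ 2)
    (hnp : ¬ (maximalIdeal R).IsPrincipal) (X Y : R)
    (hXY : maximalIdeal R = Ideal.span {X, Y})
    (α β γ : R) (hu : IsUnit α ∨ IsUnit β ∨ IsUnit γ)
    (hrel : α * X ^ 2 + β * X * Y + γ * Y ^ 2 ∈ maximalIdeal R ^ 3) :
    IsUnit (4 * α * γ - β ^ 2) := by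
  by_contra hD
  have hDm : 4 * α * γ - β ^ 2 ∈ maximalIdeal R := mem_maximalIdeal_of_not_isUnit hD
  have hX : X ∈ maximalIdeal R := by
    rw [hXY]
    exact Ideal.subset_span (by simp)
  have hY : Y ∈ maximalIdeal R := by
    rw [hXY]
    exact Ideal.subset_span (by simp)
  obtain ⟨μ, hμ⟩ := IsAlgClosed.exists_pow_nat_eq (residue R α) (n := 2) (by norm_num)
  obtain ⟨ν₀, hν₀⟩ := IsAlgClosed.exists_pow_nat_eq (residue R γ) (n := 2) (by norm_num)
  have hD0 : 4 * residue R α * residue R γ - residue R β ^ 2 = 0 := by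
    have h0 := (residue_eq_zero_iff _).mpr hDm
    simpa only [map_sub, map_mul, map_pow, map_ofNat] using h0
  obtain ⟨ν, hν, hμν⟩ : ∃ ν, ν ^ 2 = residue R γ ∧ 2 * μ * ν = residue R β := by
    have h1 : (2 * μ * ν₀ - residue R β) * (2 * μ * ν₀ + residue R β) = 0 := by
      linear_combination (4 * ν₀ ^ 2) * hμ + (4 * residue R α) * hν₀ + hD0
    rcases mul_eq_zero.mp h1 with h2 | h2
    · exact ⟨ν₀, hν₀, sub_eq_zero.mp h2⟩
    · refine ⟨-ν₀, by rw [neg_sq]; exact hν₀, ?_⟩
      linear_combination (-1 : ResidueField R) * h2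
  obtain ⟨m, rfl⟩ := residue_surjective μ
  obtain ⟨n, rfl⟩ := residue_surjective ν
  have h1 : m ^ 2 - α ∈ maximalIdeal R := by
    rw [← residue_eq_zero_iff, map_sub, map_pow, hμ, sub_self]
  have h2 : 2 * m * n - β ∈ maximalIdeal R := by
    rw [← residue_eq_zero_iff, map_sub, map_mul, map_mul, map_ofNat, hμν, sub_self]
  have h3 : n ^ 2 - γ ∈ maximalIdeal R := by
    rw [← residue_eq_zero_iff, map_sub, map_pow, hν, sub_self]
  have hZ : m * X + n * Y ∈ maximalIdeal R :=
    Ideal.add_mem _ (Ideal.mul_mem_left _ _ hX) (Ideal.mul_mem_left _ _ hY)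
  have hZ2 : (m * X + n * Y) ^ 2 ∈ maximalIdeal R ^ 3 := by
    have e : (m * X + n * Y) ^ 2 = (α * X ^ 2 + β * X * Y + γ * Y ^ 2) +
        ((m ^ 2 - α) * (X * X) + (2 * m * n - β) * (X * Y) + (n ^ 2 - γ) * (Y * Y)) := by ring
    rw [e]
    exact Ideal.add_mem _ hrel (Ideal.add_mem _ (Ideal.add_mem _
      (mul_mul_mem_cube h1 hX hX) (mul_mul_mem_cube h2 hX hY)) (mul_mul_mem_cube h3 hY hY))
  have hZ' := hsq _ hZ hZ2
  have hmn : IsUnit m ∨ IsUnit n := by
    by_contra hcon
    rw [not_or] at hcon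
    have hm0 : residue R m = 0 :=
      (residue_eq_zero_iff _).mpr (mem_maximalIdeal_of_not_isUnit hcon.1)
    have hn0 : residue R n = 0 :=
      (residue_eq_zero_iff _).mpr (mem_maximalIdeal_of_not_isUnit hcon.2)
    have hα : residue R α = 0 := by rw [← hμ, hm0, zero_pow two_ne_zero]
    have hγ : residue R γ = 0 := by rw [← hν, hn0, zero_pow two_ne_zero]
    have hβ : residue R β = 0 := by rw [← hμν, hm0, mul_zero, zero_mul]
    rcases hu with hu | hu | hu
    · exact ((residue_ne_zero_iff_isUnit α).mpr hu) hα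
    · exact ((residue_ne_zero_iff_isUnit β).mpr hu) hβ
    · exact ((residue_ne_zero_iff_isUnit γ).mpr hu) hγ
  apply hnp
  rcases hmn with hm | hn
  · obtain ⟨m', hm'⟩ := hm.exists_left_inv
    have hX' : X ∈ Ideal.span {Y} ⊔ maximalIdeal R ^ 2 := by
      have e : X = (-(m' * n)) * Y + m' * (m * X + n * Y) := by
        linear_combination (-X) * hm'
      rw [e]
      exact Submodule.add_mem_sup (Ideal.mul_mem_left _ _ (Ideal.mem_span_singleton_self Y))
        (Ideal.mul_mem_left _ _ hZ')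
    have hle : Ideal.span {X, Y} ≤ Ideal.span {Y} ⊔ maximalIdeal R ^ 2 := by
      rw [Ideal.span_le]
      rintro z (rfl | rfl)
      · exact hX'
      · exact (le_sup_left : Ideal.span {z} ≤ _) (Ideal.mem_span_singleton_self z)
    have h4 : maximalIdeal R ≤ Ideal.span {Y} := le_of_le_sup_sq _ (hXY.le.trans hle)
    exact ⟨⟨Y, le_antisymm h4 ((Ideal.span_singleton_le_iff_mem _).mpr hY)⟩⟩
  · obtain ⟨n', hn'⟩ := hn.exists_left_inv
    have hY' : Y ∈ Ideal.span {X} ⊔ maximalIdeal R ^ 2 := by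
      have e : Y = (-(n' * m)) * X + n' * (m * X + n * Y) := by
        linear_combination (-Y) * hn'
      rw [e]
      exact Submodule.add_mem_sup (Ideal.mul_mem_left _ _ (Ideal.mem_span_singleton_self X))
        (Ideal.mul_mem_left _ _ hZ')
    have hle : Ideal.span {X, Y} ≤ Ideal.span {X} ⊔ maximalIdeal R ^ 2 := by
      rw [Ideal.span_le]
      rintro z (rfl | rfl)
      · exact (le_sup_left : Ideal.span {z} ≤ _) (Ideal.mem_span_singleton_self z)
      · exact hY'
    have h4 : maximalIdeal R ≤ Ideal.span {X} := le_of_le_sup_sq _ (hXY.le.trans hle)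
    exact ⟨⟨X, le_antisymm h4 ((Ideal.span_singleton_le_iff_mem _).mpr hX)⟩⟩

end localLemmas

section main

variable {k K A : Type u} [Field k] [Field K] [Algebra k K] [CommRing A] [IsLocalRing A]
  [Algebra k A] (P' : Ideal (K ⊗[k] A)) [P'.IsPrime]

local notation "L" => Localization.AtPrime P'
local notation "𝔫" => maximalIdeal (Localization.AtPrime P')
local notation "φ" => phi P'

theorem node_descent [IsAlgClosed K] [Algebra.EssFiniteType k A]
    [Algebra.IsAlgebraic k (ResidueField A)] [IsReduced L]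
    (hP' : P'.comap (Algebra.TensorProduct.includeRight : A →ₐ[k] K ⊗[k] A).toRingHom =
      maximalIdeal A)
    (hsq : ∀ Z ∈ 𝔫, Z ^ 2 ∈ 𝔫 ^ 3 → Z ∈ 𝔫 ^ 2)
    (hfin : Module.finrank (ResidueField L) (CotangentSpace L) = 2)
    (x' y' a' b' c' : L) (hx' : x' ∈ 𝔫) (hy' : y' ∈ 𝔫)
    (hsp : Ideal.span {x', y'} ⊔ 𝔫 ^ 2 = 𝔫)
    (hnd : residue L (4 * a' * c' - b' ^ 2) ≠ 0)
    (hq : a' * x' ^ 2 + b' * x' * y' + c' * y' ^ 2 ∈ 𝔫 ^ 3) :
    Algebra.IsSeparable k (ResidueField A) ∧ IsReduced A ∧ IsNoetherianRing A ∧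
      Module.finrank (ResidueField A) (CotangentSpace A) = 2 ∧
      ∃ x y a b c : A, x ∈ maximalIdeal A ∧ y ∈ maximalIdeal A ∧
        Ideal.span {x, y} ⊔ maximalIdeal A ^ 2 = maximalIdeal A ∧
        residue A (4 * a * c - b ^ 2) ≠ 0 ∧
        a * x ^ 2 + b * x * y + c * y ^ 2 ∈ maximalIdeal A ^ 3 := by
  classical
  haveI hNL : IsNoetherianRing L := noeth P'
  haveI hNA : IsNoetherianRing A := Algebra.EssFiniteType.isNoetherianRing k A
  have hbij := residue_bijective P' hP'
  have hn := maximalIdeal_eq_map_of_node P' hP' hbij hfin x' y' a' b' c' hx' hy' hsp hnd hq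
  have hsep := isSeparable_of_map_eq P' hbij hn
  have hred : IsReduced A := isReduced_of_injective (phi P') (phi_injective P' hP')
  have hnp : ¬ (𝔫).IsPrincipal := not_isPrincipal_of_finrank hfin
  have hm' := maximalIdeal_eq_span_pair hx' hy' hsp
  -- first generator
  obtain ⟨x, hxm, hx2⟩ : ∃ x ∈ maximalIdeal A, φ x ∉ 𝔫 ^ 2 := by
    by_contra hcon
    have hall : ∀ x ∈ maximalIdeal A, φ x ∈ 𝔫 ^ 2 := fun x hx => by
      by_contra h
      exact hcon ⟨x, hx, h⟩
    have hle : 𝔫 ≤ 𝔫 ^ 2 := by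
      conv_lhs => rw [hn]
      rw [Ideal.map_le_iff_le_comap]
      exact fun x hx => hall x hx
    have h0 : 𝔫 ≤ (⊥ : Ideal L) := le_of_le_sup_sq ⊥ (by rw [bot_sup_eq]; exact hle)
    apply hnp
    rw [le_bot_iff.mp h0]
    infer_instance
  -- second generator
  obtain ⟨y, hym, hy2⟩ : ∃ y ∈ maximalIdeal A, φ y ∉ Ideal.span {φ x} ⊔ 𝔫 ^ 2 := by
    by_contra hcon
    have hall : ∀ y ∈ maximalIdeal A, φ y ∈ Ideal.span {φ x} ⊔ 𝔫 ^ 2 := fun y hy => by
      by_contra h
      exact hcon ⟨y, hy, h⟩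
    have hle : 𝔫 ≤ Ideal.span {φ x} ⊔ 𝔫 ^ 2 := by
      conv_lhs => rw [hn]
      rw [Ideal.map_le_iff_le_comap]
      exact fun y hy => hall y hy
    have h0 := le_of_le_sup_sq _ hle
    apply hnp
    exact ⟨⟨φ x, le_antisymm h0 ((Ideal.span_singleton_le_iff_mem _).mpr
      (phi_mem_maximalIdeal P' hP' hxm))⟩⟩
  have hXn : φ x ∈ 𝔫 := phi_mem_maximalIdeal P' hP' hxm
  have hYn : φ y ∈ 𝔫 := phi_mem_maximalIdeal P' hP' hym
  obtain ⟨p, q, hpq⟩ : ∃ p q, p * x' + q * y' = φ x := by
    have h1 : φ x ∈ Ideal.span {x', y'} := by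
      rw [← hm']
      exact hXn
    exact Ideal.mem_span_pair.mp h1
  obtain ⟨r, s, hrs⟩ : ∃ r s, r * x' + s * y' = φ y := by
    have h1 : φ y ∈ Ideal.span {x', y'} := by
      rw [← hm']
      exact hYn
    exact Ideal.mem_span_pair.mp h1
  -- the determinant is a unit
  have hdet : IsUnit (p * s - q * r) := by
    by_contra hd
    have hdm : p * s - q * r ∈ 𝔫 := mem_maximalIdeal_of_not_isUnit hd
    by_cases hp : IsUnit p
    · obtain ⟨p', hp'⟩ := hp.exists_left_inv
      apply hy2
      have e : φ y = (r * p') * φ x + p' * ((p * s - q * r) * y') := by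
        rw [← hpq, ← hrs]
        linear_combination (-(r * x' + s * y')) * hp'
      rw [e]
      exact Submodule.add_mem_sup (Ideal.mul_mem_left _ _ (Ideal.mem_span_singleton_self _))
        (Ideal.mul_mem_left _ _ (mul_mem_sq hdm hy'))
    · by_cases hq' : IsUnit q
      · obtain ⟨q', hq''⟩ := hq'.exists_left_inv
        apply hy2
        have e : φ y = (s * q') * φ x + (-q') * ((p * s - q * r) * x') := by
          rw [← hpq, ← hrs]
          linear_combination (-(r * x' + s * y')) * hq''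
        rw [e]
        exact Submodule.add_mem_sup (Ideal.mul_mem_left _ _ (Ideal.mem_span_singleton_self _))
          (Ideal.mul_mem_left _ _ (mul_mem_sq hdm hx'))
      · apply hx2
        rw [← hpq]
        exact Ideal.add_mem _ (mul_mem_sq (mem_maximalIdeal_of_not_isUnit hp) hx')
          (mul_mem_sq (mem_maximalIdeal_of_not_isUnit hq') hy')
  have hXY : 𝔫 = Ideal.span {φ x, φ y} := by
    apply le_antisymm
    · conv_lhs => rw [hm']
      rw [Ideal.span_le]
      have hx'mem : x' ∈ Ideal.span {φ x, φ y} := by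
        have e : (p * s - q * r) * x' = s * φ x + (-q) * φ y := by
          rw [← hpq, ← hrs]
          ring
        have h1 : (p * s - q * r) * x' ∈ Ideal.span {φ x, φ y} := by
          rw [e]
          exact Ideal.add_mem _ (Ideal.mul_mem_left _ _ (Ideal.subset_span (by simp)))
            (Ideal.mul_mem_left _ _ (Ideal.subset_span (by simp)))
        exact (Ideal.unit_mul_mem_iff_mem _ hdet).mp h1
      have hy'mem : y' ∈ Ideal.span {φ x, φ y} := by
        have e : (p * s - q * r) * y' = (-r) * φ x + p * φ y := by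
          rw [← hpq, ← hrs]
          ring
        have h1 : (p * s - q * r) * y' ∈ Ideal.span {φ x, φ y} := by
          rw [e]
          exact Ideal.add_mem _ (Ideal.mul_mem_left _ _ (Ideal.subset_span (by simp)))
            (Ideal.mul_mem_left _ _ (Ideal.subset_span (by simp)))
        exact (Ideal.unit_mul_mem_iff_mem _ hdet).mp h1
      rintro z (rfl | rfl)
      · exact hx'mem
      · exact hy'mem
    · rw [Ideal.span_le]
      rintro z (rfl | rfl)
      · exact hXn
      · exact hYn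
  have hmxy : maximalIdeal A = Ideal.span {x, y} := by
    apply le_antisymm
    · intro a ha
      apply phi_descent P' hP'
      rw [Ideal.map_span, Set.image_pair]
      have h1 := phi_mem_maximalIdeal P' hP' ha
      rw [hXY] at h1
      exact h1
    · rw [Ideal.span_le]
      rintro z (rfl | rfl)
      · exact hxm
      · exact hym
  have hnpA : ¬ (maximalIdeal A).IsPrincipal := by
    rintro ⟨⟨z, hz⟩⟩
    apply hnp
    refine ⟨⟨φ z, ?_⟩⟩
    have hz' : maximalIdeal A = Ideal.span {z} := hz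
    rw [hn, hz', Ideal.map_span, Set.image_singleton]
  have hfinA : Module.finrank (ResidueField A) (CotangentSpace A) = 2 :=
    finrank_eq_two hmxy hnpA
  -- the relation for the new generators
  obtain ⟨uu, huu⟩ : ∃ uu : L, uu = a' * s ^ 2 - b' * s * r + c' * r ^ 2 := ⟨_, rfl⟩
  obtain ⟨vv, hvv⟩ : ∃ vv : L, vv = -2 * a' * s * q + b' * (s * p + q * r) - 2 * c' * r * p :=
    ⟨_, rfl⟩
  obtain ⟨ww, hww⟩ : ∃ ww : L, ww = a' * q ^ 2 - b' * q * p + c' * p ^ 2 := ⟨_, rfl⟩
  have hrelXY : uu * φ x ^ 2 + vv * φ x * φ y + ww * φ y ^ 2 ∈ 𝔫 ^ 3 := by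
    have e : uu * φ x ^ 2 + vv * φ x * φ y + ww * φ y ^ 2 =
        (p * s - q * r) ^ 2 * (a' * x' ^ 2 + b' * x' * y' + c' * y' ^ 2) := by
      rw [← hpq, ← hrs, huu, hvv, hww]
      ring
    rw [e]
    exact Ideal.mul_mem_left _ _ hq
  have hdiscU : IsUnit (4 * uu * ww - vv ^ 2) := by
    have e : 4 * uu * ww - vv ^ 2 = (p * s - q * r) ^ 2 * (4 * a' * c' - b' ^ 2) := by
      rw [huu, hvv, hww]
      ring
    rw [e]
    exact (hdet.pow 2).mul ((residue_ne_zero_iff_isUnit _).mp hnd)
  haveI : IsAlgClosed (ResidueField L) :=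
    IsAlgClosed.of_ringEquiv K _ (RingEquiv.ofBijective _ hbij)
  have hnondeg : ∀ a b c : A, (IsUnit a ∨ IsUnit b ∨ IsUnit c) →
      a * x ^ 2 + b * x * y + c * y ^ 2 ∈ maximalIdeal A ^ 3 → IsUnit (4 * a * c - b ^ 2) := by
    intro a b c hu hrel
    have h1 : φ a * φ x ^ 2 + φ b * φ x * φ y + φ c * φ y ^ 2 ∈ 𝔫 ^ 3 := by
      have e : φ a * φ x ^ 2 + φ b * φ x * φ y + φ c * φ y ^ 2 =
          φ (a * x ^ 2 + b * x * y + c * y ^ 2) := by
        simp only [map_add, map_mul, map_pow]
      rw [e, hn, ← Ideal.map_pow]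
      exact Ideal.mem_map_of_mem _ hrel
    have h2 := nondeg_of_rel hsq hnp (φ x) (φ y) hXY (φ a) (φ b) (φ c)
      (hu.imp (fun h => (isUnit_phi_iff P' hP' a).mpr h)
        (Or.imp (fun h => (isUnit_phi_iff P' hP' b).mpr h)
          (fun h => (isUnit_phi_iff P' hP' c).mpr h))) h1
    have e : 4 * φ a * φ c - φ b ^ 2 = φ (4 * a * c - b ^ 2) := by
      simp only [map_sub, map_mul, map_pow, map_ofNat]
    rw [e, isUnit_phi_iff P' hP'] at h2
    exact h2
  have hdesc : ∀ (I : Ideal A) (w : A), φ w ∈ I.map φ ⊔ 𝔫 ^ 3 →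
      w ∈ I ⊔ maximalIdeal A ^ 3 := by
    intro I w hw
    apply phi_descent P' hP'
    rw [Ideal.map_sup, Ideal.map_pow, ← hn]
    exact hw
  obtain ⟨a, b, c, hu, hrel⟩ : ∃ a b c : A, (IsUnit a ∨ IsUnit b ∨ IsUnit c) ∧
      a * x ^ 2 + b * x * y + c * y ^ 2 ∈ maximalIdeal A ^ 3 := by
    by_cases hw : IsUnit ww
    · obtain ⟨w', hw'⟩ := hw.exists_left_inv
      have h1 : φ (y ^ 2) ∈ (Ideal.span {x ^ 2, x * y}).map φ ⊔ 𝔫 ^ 3 := by
        rw [Ideal.map_span, Set.image_pair]
        have e : φ (y ^ 2) = ((-(w' * uu)) * φ (x ^ 2) + (-(w' * vv)) * φ (x * y)) +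
            w' * (uu * φ x ^ 2 + vv * φ x * φ y + ww * φ y ^ 2) := by
          simp only [map_pow, map_mul]
          linear_combination (-(φ y ^ 2)) * hw'
        rw [e]
        exact Submodule.add_mem_sup (Ideal.add_mem _
          (Ideal.mul_mem_left _ _ (Ideal.subset_span (by simp)))
          (Ideal.mul_mem_left _ _ (Ideal.subset_span (by simp))))
          (Ideal.mul_mem_left _ _ hrelXY)
      have h2 := hdesc _ _ h1
      obtain ⟨g, hg, t, ht, hgt⟩ := Submodule.mem_sup.mp h2
      obtain ⟨a₁, b₁, hab⟩ := Ideal.mem_span_pair.mp hg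
      refine ⟨-a₁, -b₁, 1, Or.inr (Or.inr isUnit_one), ?_⟩
      have e : -a₁ * x ^ 2 + -b₁ * x * y + 1 * y ^ 2 = t := by
        linear_combination (-1 : A) * hgt + (-1 : A) * hab
      rw [e]
      exact ht
    · have hwm : ww ∈ 𝔫 := mem_maximalIdeal_of_not_isUnit hw
      by_cases hv : IsUnit vv
      · obtain ⟨v', hv'⟩ := hv.exists_left_inv
        have h1 : φ (x * y) ∈ (Ideal.span {x ^ 2}).map φ ⊔ 𝔫 ^ 3 := by
          rw [Ideal.map_span, Set.image_singleton]
          have e : φ (x * y) = (-(v' * uu)) * φ (x ^ 2) +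
              (v' * (uu * φ x ^ 2 + vv * φ x * φ y + ww * φ y ^ 2) +
                (-v') * (ww * (φ y * φ y))) := by
            simp only [map_pow, map_mul]
            linear_combination (-(φ x * φ y)) * hv'
          rw [e]
          exact Submodule.add_mem_sup
            (Ideal.mul_mem_left _ _ (Ideal.mem_span_singleton_self _))
            (Ideal.add_mem _ (Ideal.mul_mem_left _ _ hrelXY)
              (Ideal.mul_mem_left _ _ (mul_mul_mem_cube hwm hYn hYn)))
        have h2 := hdesc _ _ h1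
        obtain ⟨g, hg, t, ht, hgt⟩ := Submodule.mem_sup.mp h2
        obtain ⟨a₁, hab⟩ := Ideal.mem_span_singleton'.mp hg
        refine ⟨-a₁, 1, 0, Or.inr (Or.inl isUnit_one), ?_⟩
        have e : -a₁ * x ^ 2 + 1 * x * y + 0 * y ^ 2 = t := by
          linear_combination (-1 : A) * hgt + (-1 : A) * hab
        rw [e]
        exact ht
      · have hvm : vv ∈ 𝔫 := mem_maximalIdeal_of_not_isUnit hv
        have huuU : IsUnit uu := by
          by_contra huu'
          have hum : uu ∈ 𝔫 := mem_maximalIdeal_of_not_isUnit huu'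
          have h1 : 4 * uu * ww - vv ^ 2 ∈ 𝔫 :=
            Ideal.sub_mem _ (Ideal.mul_mem_left _ _ hwm)
              (by rw [pow_two]; exact Ideal.mul_mem_left _ _ hvm)
          exact not_isUnit_of_mem_maximalIdeal h1 hdiscU
        obtain ⟨u', hu'⟩ := huuU.exists_left_inv
        have h1 : φ (x ^ 2) ∈ (⊥ : Ideal A).map φ ⊔ 𝔫 ^ 3 := by
          rw [Ideal.map_bot, bot_sup_eq]
          have e : φ (x ^ 2) = u' * (uu * φ x ^ 2 + vv * φ x * φ y + ww * φ y ^ 2) +
              ((-u') * (vv * (φ x * φ y)) + (-u') * (ww * (φ y * φ y))) := by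
            simp only [map_pow]
            linear_combination (-(φ x ^ 2)) * hu'
          rw [e]
          exact Ideal.add_mem _ (Ideal.mul_mem_left _ _ hrelXY)
            (Ideal.add_mem _ (Ideal.mul_mem_left _ _ (mul_mul_mem_cube hvm hXn hYn))
              (Ideal.mul_mem_left _ _ (mul_mul_mem_cube hwm hYn hYn)))
        have h2 := hdesc _ _ h1
        rw [bot_sup_eq] at h2
        refine ⟨1, 0, 0, Or.inl isUnit_one, ?_⟩
        have e : (1 : A) * x ^ 2 + 0 * x * y + 0 * y ^ 2 = x ^ 2 := by ring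
        rw [e]
        exact h2
  have hdiscA := hnondeg a b c hu hrel
  refine ⟨hsep, hred, hNA, hfinA, x, y, a, b, c, hxm, hym, ?_,
    (residue_ne_zero_iff_isUnit _).mpr hdiscA, hrel⟩
  rw [← hmxy]
  exact sup_eq_left.mpr (Ideal.pow_le_self two_ne_zero)

theorem node_ascent [IsAlgClosed K] [Algebra.EssFiniteType k A]
    [Algebra.IsSeparable k (ResidueField A)] [IsReduced A]
    (hP' : P'.comap (Algebra.TensorProduct.includeRight : A →ₐ[k] K ⊗[k] A).toRingHom =
      maximalIdeal A)
    (hfin : Module.finrank (ResidueField A) (CotangentSpace A) = 2)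
    (x y a b c : A) (hx : x ∈ maximalIdeal A) (hy : y ∈ maximalIdeal A)
    (hsp : Ideal.span {x, y} ⊔ maximalIdeal A ^ 2 = maximalIdeal A)
    (hnd : residue A (4 * a * c - b ^ 2) ≠ 0)
    (hq : a * x ^ 2 + b * x * y + c * y ^ 2 ∈ maximalIdeal A ^ 3) :
    (∃ z ∈ 𝔫, z ∈ nonZeroDivisors L) ∧
      Module.finrank (ResidueField L) (CotangentSpace L) = 2 ∧
      φ x ∈ 𝔫 ∧ φ y ∈ 𝔫 ∧ Ideal.span {φ x, φ y} ⊔ 𝔫 ^ 2 = 𝔫 ∧
      residue L (4 * φ a * φ c - φ b ^ 2) ≠ 0 ∧
      φ a * φ x ^ 2 + φ b * φ x * φ y + φ c * φ y ^ 2 ∈ 𝔫 ^ 3 := by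
  classical
  haveI hNL : IsNoetherianRing L := noeth P'
  haveI hNA : IsNoetherianRing A := Algebra.EssFiniteType.isNoetherianRing k A
  have hn := maximalIdeal_eq_map_of_sep P' hP'
  have hmxy := maximalIdeal_eq_span_pair hx hy hsp
  have hXn : φ x ∈ 𝔫 := phi_mem_maximalIdeal P' hP' hx
  have hYn : φ y ∈ 𝔫 := phi_mem_maximalIdeal P' hP' hy
  have hXY : 𝔫 = Ideal.span {φ x, φ y} := by
    rw [hn, hmxy, Ideal.map_span, Set.image_pair]
  have hnpA : ¬ (maximalIdeal A).IsPrincipal := not_isPrincipal_of_finrank hfin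
  have hm0 : maximalIdeal A ≠ ⊥ := fun h0 => hnpA (by rw [h0]; infer_instance)
  obtain ⟨z, hzm, hz⟩ := exists_nzd hm0
  have hnpL : ¬ (𝔫).IsPrincipal := by
    rintro ⟨⟨w, hw⟩⟩
    have hw' : 𝔫 = Ideal.span {w} := hw
    have hXw : φ x ∈ Ideal.span {w} := by
      rw [← hw']
      exact hXn
    have hYw : φ y ∈ Ideal.span {w} := by
      rw [← hw']
      exact hYn
    obtain ⟨u, hu⟩ := Ideal.mem_span_singleton'.mp hXw
    obtain ⟨v, hv⟩ := Ideal.mem_span_singleton'.mp hYw
    have hwXY : w ∈ Ideal.span {φ x, φ y} := by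
      rw [← hXY, hw']
      exact Ideal.mem_span_singleton_self w
    obtain ⟨p, q, hpq⟩ := Ideal.mem_span_pair.mp hwXY
    by_cases hu' : IsUnit u
    · have h1 : φ y ∈ (Ideal.span {x}).map φ := by
        rw [Ideal.map_span, Set.image_singleton, Ideal.mem_span_singleton']
        obtain ⟨u₁, hu₁⟩ := hu'.exists_left_inv
        refine ⟨v * u₁, ?_⟩
        rw [← hu, ← hv]
        linear_combination (v * w) * hu₁
      have h2 := phi_descent P' hP' _ _ h1
      apply hnpA
      refine ⟨⟨x, ?_⟩⟩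
      show maximalIdeal A = Ideal.span {x}
      rw [hmxy]
      apply le_antisymm
      · rw [Ideal.span_le]
        rintro z (rfl | rfl)
        · exact Ideal.mem_span_singleton_self _
        · exact h2
      · exact Ideal.span_mono (by simp)
    · by_cases hv' : IsUnit v
      · have h1 : φ x ∈ (Ideal.span {y}).map φ := by
          rw [Ideal.map_span, Set.image_singleton, Ideal.mem_span_singleton']
          obtain ⟨v₁, hv₁⟩ := hv'.exists_left_inv
          refine ⟨u * v₁, ?_⟩
          rw [← hu, ← hv]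
          linear_combination (u * w) * hv₁
        have h2 := phi_descent P' hP' _ _ h1
        apply hnpA
        refine ⟨⟨y, ?_⟩⟩
        show maximalIdeal A = Ideal.span {y}
        rw [hmxy]
        apply le_antisymm
        · rw [Ideal.span_le]
          rintro z (rfl | rfl)
          · exact h2
          · exact Ideal.mem_span_singleton_self _
        · exact Ideal.span_mono (by simp)
      · have hum : u ∈ 𝔫 := mem_maximalIdeal_of_not_isUnit hu'
        have hvm : v ∈ 𝔫 := mem_maximalIdeal_of_not_isUnit hv'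
        have hunit : IsUnit (1 - (p * u + q * v)) := by
          have hmem : p * u + q * v ∈ 𝔫 :=
            Ideal.add_mem _ (Ideal.mul_mem_left _ _ hum) (Ideal.mul_mem_left _ _ hvm)
          by_contra hnu
          have h1 : 1 - (p * u + q * v) ∈ 𝔫 := mem_maximalIdeal_of_not_isUnit hnu
          have h2 : (1 : L) ∈ 𝔫 := by
            have h3 := Ideal.add_mem _ h1 hmem
            rwa [sub_add_cancel] at h3
          exact not_isUnit_of_mem_maximalIdeal h2 isUnit_one
        have hw0 : w = 0 := by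
          have e : (1 - (p * u + q * v)) * w = 0 := by
            linear_combination (-1 : L) * hpq - p * hu - q * hv
          exact (hunit.mul_right_eq_zero).mp e
        have hx0 : x = 0 := phi_injective P' hP' (by rw [map_zero, ← hu, hw0, mul_zero])
        have hy0 : y = 0 := phi_injective P' hP' (by rw [map_zero, ← hv, hw0, mul_zero])
        apply hm0
        rw [hmxy, hx0, hy0]
        simp
  have hfinL := finrank_eq_two hXY hnpL
  refine ⟨⟨φ z, phi_mem_maximalIdeal P' hP' hzm, phi_nzd P' hP' z hz⟩, hfinL, hXn, hYn, ?_, ?_,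
    ?_⟩
  · rw [← hXY]
    exact sup_eq_left.mpr (Ideal.pow_le_self two_ne_zero)
  · rw [residue_ne_zero_iff_isUnit]
    have e : 4 * φ a * φ c - φ b ^ 2 = φ (4 * a * c - b ^ 2) := by
      simp only [map_sub, map_mul, map_pow, map_ofNat]
    rw [e, isUnit_phi_iff P' hP']
    exact (residue_ne_zero_iff_isUnit _).mp hnd
  · have e : φ a * φ x ^ 2 + φ b * φ x * φ y + φ c * φ y ^ 2 =
        φ (a * x ^ 2 + b * x * y + c * y ^ 2) := by
      simp only [map_add, map_mul, map_pow]
    rw [e, hn, ← Ideal.map_pow]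
    exact Ideal.mem_map_of_mem _ hq

end main

end Groth.Agent.Lib.Helper76.NodeBC
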