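import Mathlib
import Groth.Prelude.Def_CurvBase
import Groth.Agent.Lib.Helper76.NodeBC5
import Groth.Agent.Lib.Helper76.ArCls2

/-!
# Ordinary double points and quadratic normal forms of completions (helper76)

* `completion_congr` : a ring isomorphism of local rings induces an isomorphism of completions;
* `isOrdDoublePt_of_algEquiv` : ordinary double points are invariant under algebra isomorphisms;
* `closed_form` : over an algebraically closed field every non-degenerate binary quadratic form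
  defines the same quotient of the power series ring as `X₀ X₁`;
* `alg_forward`, `alg_backward` : the algebraic core of the characterisation of nodes.
-/

set_option autoImplicit false
universe u

namespace Groth.Agent.Lib.Helper76.NodeBC

open TensorProduct IsLocalRing MvPowerSeries
open Groth.Agent.Lib.Helper76.NodeChar Groth.Agent.Lib.Helper76.PSInv
open Groth.Agent.Lib.Helper76.ArCls Groth.Agent.Lib.Helper63.CompletionNoeth

section completion

open AdicCompletion

theorem exists_map_completion_eval {A R : Type*} [CommRing A] [CommRing R] (φ : A →+* R)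
    (J : Ideal A) (I : Ideal R) (hle : ∀ n, J ^ n ≤ (I ^ n).comap φ) :
    ∃ Ψ : AdicCompletion J A →+* AdicCompletion I R,
      ∀ n x, evalₐ I n (Ψ x) = Ideal.quotientMap (I ^ n) φ (hle n) (evalₐ J n x) := by
  let f : (n : ℕ) → AdicCompletion J A →+* R ⧸ I ^ n := fun n =>
    (Ideal.quotientMap (I ^ n) φ (hle n)).comp ((evalₐ J n : AdicCompletion J A →ₐ[A] A ⧸ J ^ n) :
      AdicCompletion J A →+* A ⧸ J ^ n)
  have hf : ∀ {m n : ℕ} (hmn : m ≤ n), (Ideal.Quotient.factorPow I hmn).comp (f n) = f m := by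
    intro m n hmn
    ext x
    change Ideal.Quotient.factorPow I hmn (Ideal.quotientMap (I ^ n) φ (hle n) (evalₐ J n x)) =
      Ideal.quotientMap (I ^ m) φ (hle m) (evalₐ J m x)
    rw [← evalₐ_factorPow J hmn x]
    generalize evalₐ J n x = y
    obtain ⟨a, rfl⟩ := Ideal.Quotient.mk_surjective y
    rfl
  refine ⟨AdicCompletion.liftRingHom I f hf, fun n x => ?_⟩
  rw [evalₐ_liftRingHom]
  rfl

theorem pow_le_comap_of_equiv {R S : Type*} [CommRing R] [CommRing S] [IsLocalRing R]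
    [IsLocalRing S] (e : R ≃+* S) (n : ℕ) :
    maximalIdeal R ^ n ≤ (maximalIdeal S ^ n).comap (e : R →+* S) := by
  rw [← Ideal.map_le_iff_le_comap, Ideal.map_pow]
  apply Ideal.pow_right_mono
  rw [Ideal.map_le_iff_le_comap]
  intro a ha
  rw [Ideal.mem_comap, mem_maximalIdeal, mem_nonunits_iff]
  intro hu
  have h1 : IsUnit (e.symm (e a)) := hu.map e.symm
  rw [RingEquiv.symm_apply_apply] at h1
  exact (mem_nonunits_iff.mp ((mem_maximalIdeal a).mp ha)) h1

theorem completion_congr {R S : Type*} [CommRing R] [CommRing S] [IsLocalRing R] [IsLocalRing S]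
    (e : R ≃+* S) :
    ∃ ê : AdicCompletion (maximalIdeal R) R ≃+* AdicCompletion (maximalIdeal S) S,
      ∀ r, ê (algebraMap R (AdicCompletion (maximalIdeal R) R) r) =
        algebraMap S (AdicCompletion (maximalIdeal S) S) (e r) := by
  obtain ⟨Ψ, hΨ⟩ := exists_map_completion_eval (e : R →+* S) _ _ (pow_le_comap_of_equiv e)
  obtain ⟨Ψ', hΨ'⟩ := exists_map_completion_eval (e.symm : S →+* R) _ _ (pow_le_comap_of_equiv e.symm)
  have hl : ∀ x, Ψ' (Ψ x) = x := by
    intro x
    apply AdicCompletion.ext_evalₐ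
    intro n
    rw [hΨ', hΨ]
    generalize evalₐ (maximalIdeal R) n x = y
    obtain ⟨a, rfl⟩ := Ideal.Quotient.mk_surjective y
    rw [Ideal.quotientMap_mk, Ideal.quotientMap_mk]
    show Ideal.Quotient.mk _ (e.symm (e a)) = _
    rw [RingEquiv.symm_apply_apply]
  have hr : ∀ y, Ψ (Ψ' y) = y := by
    intro x
    apply AdicCompletion.ext_evalₐ
    intro n
    rw [hΨ, hΨ']
    generalize evalₐ (maximalIdeal S) n x = y
    obtain ⟨a, rfl⟩ := Ideal.Quotient.mk_surjective y
    rw [Ideal.quotientMap_mk, Ideal.quotientMap_mk]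
    show Ideal.Quotient.mk _ (e (e.symm a)) = _
    rw [RingEquiv.apply_symm_apply]
  refine ⟨RingEquiv.ofRingHom Ψ Ψ' (RingHom.ext hr) (RingHom.ext hl), fun r => ?_⟩
  show Ψ (AdicCompletion.of _ R r) = AdicCompletion.of _ S (e r)
  apply AdicCompletion.ext_evalₐ
  intro n
  rw [hΨ, evalₐ_of, evalₐ_of, Ideal.quotientMap_mk]
  rfl

theorem isOrdDoublePt_of_algEquiv {K B₁ B₂ : Type u} [Field K] [CommRing B₁] [CommRing B₂]
    [Algebra K B₁] [Algebra K B₂] [IsLocalRing B₁] [IsLocalRing B₂] (f : B₁ ≃ₐ[K] B₂)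
    (h : Curv2.IsOrdDoublePt K B₁) : Curv2.IsOrdDoublePt K B₂ := by
  obtain ⟨e, he⟩ := h
  obtain ⟨ê, hê⟩ := completion_congr (f.symm : B₂ ≃+* B₁)
  refine ⟨ê.trans e, fun c => ?_⟩
  rw [RingEquiv.trans_apply, hê]
  have h1 : (f.symm : B₂ ≃+* B₁) (algebraMap K B₂ c) = algebraMap K B₁ c := f.symm.commutes c
  rw [h1, he]

end completion

section powerSeries

/-- change of coefficient field -/
noncomputable def mapEquiv {σ R S : Type*} [CommRing R] [CommRing S] (ρ : R ≃+* S) :
    MvPowerSeries σ R ≃+* MvPowerSeries σ S :=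
  RingEquiv.ofRingHom (MvPowerSeries.map (ρ : R →+* S)) (MvPowerSeries.map (ρ.symm : S →+* R))
    (by rw [← MvPowerSeries.map_comp, RingEquiv.comp_symm, MvPowerSeries.map_id])
    (by rw [← MvPowerSeries.map_comp, RingEquiv.symm_comp, MvPowerSeries.map_id])

theorem mapEquiv_apply {σ R S : Type*} [CommRing R] [CommRing S] (ρ : R ≃+* S)
    (F : MvPowerSeries σ R) : mapEquiv ρ F = MvPowerSeries.map (ρ : R →+* S) F := rfl

theorem mapEquiv_qf {R S : Type*} [CommRing R] [CommRing S] (ρ : R ≃+* S) (a b c : R) :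
    mapEquiv ρ (qf a b c) = qf (ρ a) (ρ b) (ρ c) := by
  rw [mapEquiv_apply]
  unfold qf
  simp only [map_add, map_mul, map_pow, MvPowerSeries.map_C, MvPowerSeries.map_X]
  rfl

theorem closed_form {K : Type*} [Field K] [IsAlgClosed K] {a b c : K}
    (h : 4 * a * c - b ^ 2 ≠ 0) :
    Nonempty ((MvPowerSeries (Fin 2) K ⧸ Ideal.span {qf a b c}) ≃ₐ[K]
      (MvPowerSeries (Fin 2) K ⧸ Ideal.span {(X 0 * X 1 : MvPowerSeries (Fin 2) K)})) := by
  classical
  obtain ⟨Φ, u, β, γ, hu, hD, hΦ, -⟩ := exists_monic h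
  obtain ⟨e₁⟩ := quot_equiv Φ (qf a b c) (qf 1 β γ) u hu hΦ
  obtain ⟨t₁, ht₁⟩ : ∃ t₁ : K, 1 * t₁ ^ 2 + β * t₁ + γ = 0 := by
    have hdeg : (Polynomial.C (1 : K) * Polynomial.X ^ 2 + Polynomial.C β * Polynomial.X +
        Polynomial.C γ).degree ≠ 0 := by
      rw [Polynomial.degree_quadratic one_ne_zero]
      norm_num
    obtain ⟨t, ht⟩ := IsAlgClosed.exists_root _ hdeg
    refine ⟨t, ?_⟩
    have h1 := ht
    rw [Polynomial.IsRoot.def] at h1
    simpa only [Polynomial.eval_add, Polynomial.eval_mul, Polynomial.eval_C, Polynomial.eval_pow,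
      Polynomial.eval_X] using h1
  obtain ⟨t₂, ht₂⟩ : ∃ t₂ : K, t₂ = -β - t₁ := ⟨_, rfl⟩
  have hβ : β = -(t₁ + t₂) := by rw [ht₂]; ring
  have hγ : γ = t₁ * t₂ := by rw [ht₂]; linear_combination ht₁
  have hne : t₁ - t₂ ≠ 0 := by
    intro h0
    apply hD
    rw [hβ, hγ]
    have e : (-(t₁ + t₂)) ^ 2 - 4 * (t₁ * t₂) = (t₁ - t₂) ^ 2 := by ring
    rw [e, h0]
    ring
  have hy : ∀ s, constantCoeff ((![X 0 - C t₁ * X 1, X 0 - C t₂ * X 1] :
      Fin 2 → MvPowerSeries (Fin 2) K) s) = 0 := by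
    intro s
    fin_cases s <;> simp
  have hJ : IsUnit (jac (![X 0 - C t₁ * X 1, X 0 - C t₂ * X 1] :
      Fin 2 → MvPowerSeries (Fin 2) K)).det := by
    have hdet : (jac (![X 0 - C t₁ * X 1, X 0 - C t₂ * X 1] :
        Fin 2 → MvPowerSeries (Fin 2) K)).det = t₁ - t₂ := by
      rw [Matrix.det_fin_two]
      simp [jac, coeff_index_single_X, coeff_C_mul]
      ring
    rw [hdet]
    exact isUnit_iff_ne_zero.mpr hne
  have hsy : HasSubst (![X 0 - C t₁ * X 1, X 0 - C t₂ * X 1] :
      Fin 2 → MvPowerSeries (Fin 2) K) := hasSubst_of_constantCoeff_zero hy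
  have hΨ0 : substEquiv hy hJ (X 0) = X 0 - C t₁ * X 1 := by
    rw [substEquiv_apply, subst_X hsy]
    rfl
  have hΨ1 : substEquiv hy hJ (X 1) = X 0 - C t₂ * X 1 := by
    rw [substEquiv_apply, subst_X hsy]
    rfl
  obtain ⟨e₂⟩ := quot_equiv (substEquiv hy hJ) (X 0 * X 1) (qf 1 β γ) 1 isUnit_one (by
    rw [one_mul, map_mul, hΨ0, hΨ1, hβ, hγ]
    unfold qf
    simp only [map_neg, map_add, map_mul, map_one]
    ring)
  exact ⟨e₁.trans e₂.symm⟩

end powerSeries

section conversion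

variable {K B : Type u} [Field K] [CommRing B] [IsLocalRing B] [Algebra K B]

theorem isOrdDoublePt_of_qf [IsAlgClosed K]
    (hbij : Function.Bijective (algebraMap K (ResidueField B)))
    {a b c : ResidueField B} (h : 4 * a * c - b ^ 2 ≠ 0)
    (e₀ : AdicCompletion (maximalIdeal B) B ≃+*
      (MvPowerSeries (Fin 2) (ResidueField B) ⧸ Ideal.span {qf a b c}))
    (he₀ : ∀ t : K, e₀ (algebraMap B (AdicCompletion (maximalIdeal B) B) (algebraMap K B t)) =
      Ideal.Quotient.mk _ (C (algebraMap B (ResidueField B) (algebraMap K B t)))) :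
    Curv2.IsOrdDoublePt K B := by
  obtain ⟨ρ, hρ⟩ : ∃ ρ : ResidueField B ≃+* K,
      ∀ t : K, ρ (algebraMap B (ResidueField B) (algebraMap K B t)) = t :=
    ⟨(RingEquiv.ofBijective (algebraMap K (ResidueField B)) hbij).symm, fun t =>
      (RingEquiv.ofBijective (algebraMap K (ResidueField B)) hbij).symm_apply_apply t⟩
  have hmap : (Ideal.span {qf (ρ a) (ρ b) (ρ c)} : Ideal (MvPowerSeries (Fin 2) K)) =
      (Ideal.span {qf a b c}).map
        ((mapEquiv ρ : MvPowerSeries (Fin 2) (ResidueField B) ≃+* MvPowerSeries (Fin 2) K) :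
          MvPowerSeries (Fin 2) (ResidueField B) →+* MvPowerSeries (Fin 2) K) := by
    rw [Ideal.map_span, Set.image_singleton]
    congr 2
    exact (mapEquiv_qf ρ a b c).symm
  obtain ⟨e₁, he₁⟩ : ∃ e₁ : (MvPowerSeries (Fin 2) (ResidueField B) ⧸ Ideal.span {qf a b c}) ≃+*
      (MvPowerSeries (Fin 2) K ⧸ Ideal.span {qf (ρ a) (ρ b) (ρ c)}),
      ∀ F, e₁ (Ideal.Quotient.mk _ F) = Ideal.Quotient.mk _ (mapEquiv ρ F) :=
    ⟨Ideal.quotientEquiv _ _ (mapEquiv ρ) hmap, fun F => rfl⟩
  have hdisc : 4 * ρ a * ρ c - ρ b ^ 2 ≠ 0 := by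
    have e : 4 * ρ a * ρ c - ρ b ^ 2 = ρ (4 * a * c - b ^ 2) := by
      simp only [map_sub, map_mul, map_pow, map_ofNat]
    rw [e]
    exact (map_ne_zero_iff ρ ρ.injective).mpr h
  obtain ⟨e₂⟩ := closed_form hdisc
  refine ⟨(e₀.trans e₁).trans (e₂ : _ ≃+* _), fun t => ?_⟩
  rw [RingEquiv.trans_apply, RingEquiv.trans_apply, he₀, he₁, mapEquiv_apply,
    MvPowerSeries.map_C]
  have h1 : (ρ : ResidueField B →+* K) (algebraMap B (ResidueField B) (algebraMap K B t)) = t :=
    hρ t
  rw [h1]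
  have h2 : Ideal.Quotient.mk (Ideal.span {qf (ρ a) (ρ b) (ρ c)}) (C t) =
      algebraMap K (MvPowerSeries (Fin 2) K ⧸ Ideal.span {qf (ρ a) (ρ b) (ρ c)}) t := by
    show _ = Ideal.Quotient.mk _ (algebraMap K (MvPowerSeries (Fin 2) K) t)
    rw [MvPowerSeries.algebraMap_apply, Algebra.algebraMap_self, RingHom.id_apply]
  have h3 : Ideal.Quotient.mk (Ideal.span {(X 0 * X 1 : MvPowerSeries (Fin 2) K)}) (C t) =
      algebraMap K (MvPowerSeries (Fin 2) K ⧸ Ideal.span {(X 0 * X 1 : MvPowerSeries (Fin 2) K)})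
        t := by
    show _ = Ideal.Quotient.mk _ (algebraMap K (MvPowerSeries (Fin 2) K) t)
    rw [MvPowerSeries.algebraMap_apply, Algebra.algebraMap_self, RingHom.id_apply]
  rw [h2, h3]
  exact e₂.commutes t

theorem qf_of_isOrdDoublePt (hbij : Function.Bijective (algebraMap K (ResidueField B)))
    (h : Curv2.IsOrdDoublePt K B) :
    Nonempty (AdicCompletion (maximalIdeal B) B ≃+*
      (MvPowerSeries (Fin 2) (ResidueField B) ⧸ Ideal.span {qf (0 : ResidueField B) 1 0})) := by
  obtain ⟨e, -⟩ := h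
  obtain ⟨ι, -⟩ : ∃ ι : K ≃+* ResidueField B, True :=
    ⟨RingEquiv.ofBijective (algebraMap K (ResidueField B)) hbij, trivial⟩
  have hmap : (Ideal.span {qf (0 : ResidueField B) 1 0} :
      Ideal (MvPowerSeries (Fin 2) (ResidueField B))) =
      (Ideal.span {(X 0 * X 1 : MvPowerSeries (Fin 2) K)}).map
        ((mapEquiv ι : MvPowerSeries (Fin 2) K ≃+* MvPowerSeries (Fin 2) (ResidueField B)) :
          MvPowerSeries (Fin 2) K →+* MvPowerSeries (Fin 2) (ResidueField B)) := by
    rw [Ideal.map_span, Set.image_singleton]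
    congr 2
    show qf (0 : ResidueField B) 1 0 = mapEquiv ι (X 0 * X 1)
    rw [mapEquiv_apply, map_mul, MvPowerSeries.map_X, MvPowerSeries.map_X]
    unfold qf
    simp
  exact ⟨e.trans (Ideal.quotientEquiv _ _ (mapEquiv ι) hmap)⟩

end conversion

section core

variable {k K A : Type u} [Field k] [Field K] [Algebra k K] [CommRing A] [IsLocalRing A]
  [Algebra k A] (P' : Ideal (K ⊗[k] A)) [P'.IsPrime]

local notation "L" => Localization.AtPrime P'
local notation "φ" => phi P'

theorem alg_forward [IsAlgClosed K] [Algebra.EssFiniteType k A]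
    [Algebra.IsAlgebraic k (ResidueField A)]
    (hP' : P'.comap (Algebra.TensorProduct.includeRight : A →ₐ[k] K ⊗[k] A).toRingHom =
      maximalIdeal A)
    (h : Curv2.IsOrdDoublePt K L) :
    Algebra.IsSeparable k (ResidueField A) ∧
      ∃ a b c : ResidueField A, 4 * a * c - b ^ 2 ≠ 0 ∧
        ∃ e : AdicCompletion (maximalIdeal A) A ≃+*
            (MvPowerSeries (Fin 2) (ResidueField A) ⧸ Ideal.span {qf a b c}),
          ∀ t : k, e (algebraMap A (AdicCompletion (maximalIdeal A) A) (algebraMap k A t)) =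
            Ideal.Quotient.mk _ (C (algebraMap A (ResidueField A) (algebraMap k A t))) := by
  haveI hNL : IsNoetherianRing L := noeth P'
  have hbij := residue_bijective P' hP'
  obtain ⟨eL⟩ := qf_of_isOrdDoublePt hbij h
  have h010 : 4 * (0 : ResidueField L) * 0 - 1 ^ 2 ≠ 0 := by norm_num
  obtain ⟨hredL, hfinL, x', y', a', b', c', hx', hy', hsp, hnd, hq⟩ :=
    of_completion_equiv h010 eL
  have hsq := sq_mem_of_completion_equiv h010 eL
  haveI := hredL
  obtain ⟨hsep, hred, hNA, hfinA, x, y, a, b, c, hx, hy, hspA, hndA, hqA⟩ :=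
    node_descent P' hP' hsq hfinL x' y' a' b' c' hx' hy' hsp hnd hq
  haveI := hsep
  haveI := hred
  haveI := hNA
  obtain ⟨e, he⟩ := completion_equiv (k := k) hfinA x y a b c hx hy hspA hndA hqA
  refine ⟨hsep, residue A a, residue A b, residue A c, ?_, e, he⟩
  have e1 : 4 * residue A a * residue A c - residue A b ^ 2 = residue A (4 * a * c - b ^ 2) := by
    simp only [map_sub, map_mul, map_pow, map_ofNat]
  rw [e1]
  exact hndA

theorem alg_backward [IsAlgClosed K] [Algebra.EssFiniteType k A]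
    [Algebra.IsSeparable k (ResidueField A)]
    (hP' : P'.comap (Algebra.TensorProduct.includeRight : A →ₐ[k] K ⊗[k] A).toRingHom =
      maximalIdeal A)
    {a b c : ResidueField A} (h : 4 * a * c - b ^ 2 ≠ 0)
    (e : AdicCompletion (maximalIdeal A) A ≃+*
      (MvPowerSeries (Fin 2) (ResidueField A) ⧸ Ideal.span {qf a b c})) :
    Curv2.IsOrdDoublePt K L := by
  haveI hNA : IsNoetherianRing A := Algebra.EssFiniteType.isNoetherianRing k A
  haveI hNL : IsNoetherianRing L := noeth P'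
  haveI : Algebra.IsAlgebraic k (ResidueField A) := Algebra.IsSeparable.isAlgebraic k _
  obtain ⟨hred, hfinA, x, y, a', b', c', hx, hy, hsp, hnd, hq⟩ := of_completion_equiv h e
  haveI := hred
  obtain ⟨hz, hfinL, hXn, hYn, hspL, hndL, hqL⟩ :=
    node_ascent P' hP' hfinA x y a' b' c' hx hy hsp hnd hq
  have hbij := residue_bijective P' hP'
  haveI : Algebra.IsSeparable K (ResidueField L) := ⟨fun w => by
    obtain ⟨t, rfl⟩ := hbij.2 w
    exact isSeparable_algebraMap t⟩
  obtain ⟨eL, heL⟩ := completion_equiv_of_nzd (k := K) hz hfinL (φ x) (φ y) (φ a') (φ b') (φ c')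
    hXn hYn hspL hndL hqL
  refine isOrdDoublePt_of_qf hbij ?_ eL heL
  have e1 : 4 * residue L (φ a') * residue L (φ c') - residue L (φ b') ^ 2 =
      residue L (4 * φ a' * φ c' - φ b' ^ 2) := by
    simp only [map_sub, map_mul, map_pow, map_ofNat]
  rw [e1]
  exact hndL

end core

end Groth.Agent.Lib.Helper76.NodeBC
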