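import Mathlib
import Groth.Prelude.Def_CurvBase
import Groth.Agent.Lib.Helper76.NodeBC2
import Groth.Agent.Lib.Helper76.NodeBC6

/-!
# Nodes of schemes locally of finite type over a field (helper76)

Scheme-theoretic input for the characterisation of nodes:

* `stalkMap_essFiniteType` : local rings of a scheme locally of finite type over `k` are essentially
  of finite type over `k`;
* `resMap_isIntegral` : residue fields of closed points are integral over `k`;
* `exists_point_over` : every point lifts to the base change along a field extension;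
* `isNode_iff_aux` : a closed point is a node iff its residue field is separable and its completed
  local ring is a non-degenerate quadratic cone.
-/

set_option autoImplicit false
set_option backward.isDefEq.respectTransparency.types false
universe u

namespace Groth.Agent.Lib.Helper76.NodeBC

open TensorProduct IsLocalRing CategoryTheory CategoryTheory.Limits AlgebraicGeometry
open Groth.Agent.Lib.Helper76.NodeChar

theorem fromSpecResidueField_appTop (X : Scheme.{u}) (x : X) :
    (X.fromSpecResidueField x).appTop = X.presheaf.germ ⊤ x trivial ≫ X.residue x ≫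
      (Scheme.ΓSpecIso (X.residueField x)).inv := by
  rw [Scheme.fromSpecResidueField, Scheme.Hom.comp_appTop, Scheme.fromSpecStalk_appTop]
  simp only [Category.assoc]
  congr 1
  rw [Scheme.ΓSpecIso_inv_naturality]
  congr 1

section geom

variable (k : Type u) [Field k] (X : Scheme.{u}) [X.Over (Spec (CommRingCat.of k))]

local notation "ff" => (X ↘ Spec (CommRingCat.of k))

theorem stalkMap_essFiniteType [LocallyOfFiniteType ff] (x : X) :
    (Curv2.stalkMap k X x).EssFiniteType := by
  obtain ⟨U, hU, hxU, -⟩ := exists_isAffineOpen_mem_and_subset (x := x) (U := ⊤) trivial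
  have hUSX : U ≤ ff ⁻¹ᵁ ⊤ := fun _ _ => trivial
  letI algRA := X.presheaf.algebra_section_stalk ⟨x, hxU⟩
  haveI hlocA := hU.isLocalization_stalk ⟨x, hxU⟩
  have h1 : ((ff).appLE ⊤ U hUSX).hom.FiniteType :=
    HasRingHomProperty.appLE (P := @LocallyOfFiniteType) ff inferInstance
      ⟨⊤, isAffineOpen_top _⟩ ⟨U, hU⟩ hUSX
  have h0 : ((Scheme.ΓSpecIso (CommRingCat.of k)).inv.hom).FiniteType :=
    RingHom.FiniteType.of_surjective _ (fun s =>
      ⟨(Scheme.ΓSpecIso (CommRingCat.of k)).hom.hom s, ΓSpecIso_inv_hom _ s⟩)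
  have h2 : (((ff).appLE ⊤ U hUSX).hom.comp
      (Scheme.ΓSpecIso (CommRingCat.of k)).inv.hom).FiniteType := h1.comp h0
  have h3 : (X.presheaf.germ U x hxU).hom.EssFiniteType := by
    have h : Algebra.EssFiniteType Γ(X, U) (X.presheaf.stalk x) :=
      Algebra.EssFiniteType.of_isLocalization _ (hU.primeIdealOf ⟨x, hxU⟩).asIdeal.primeCompl
    exact RingHom.essFiniteType_algebraMap.mpr h
  have h4 := h2.essFiniteType.comp h3
  have e : (X.presheaf.germ U x hxU).hom.comp (((ff).appLE ⊤ U hUSX).hom.comp
      (Scheme.ΓSpecIso (CommRingCat.of k)).inv.hom) = Curv2.stalkMap k X x := by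
    refine RingHom.ext fun t => ?_
    have e := germ_appLE_top ff U x hxU hUSX
    exact congrArg (fun m => m.hom ((Scheme.ΓSpecIso (CommRingCat.of k)).inv.hom t)) e
  rw [e] at h4
  exact h4

theorem resMap_isIntegral [LocallyOfFiniteType ff] (x : X) (hx : IsClosed ({x} : Set X)) :
    (Curv2.resMap k X x).IsIntegral := by
  have hfin : IsFinite (X.fromSpecResidueField x ≫ ff) := by
    rw [isClosed_singleton_iff_isClosedImmersion] at hx
    rw [isFinite_iff_locallyOfFiniteType_of_jacobsonSpace]
    infer_instance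
  have h1 : IsIntegralHom (X.fromSpecResidueField x ≫ ff) := inferInstance
  have h2 : Spec.map (CommRingCat.ofHom (Curv2.resMap k X x)) =
      X.fromSpecResidueField x ≫ ff := by
    apply ext_to_Spec
    show (Scheme.ΓSpecIso (CommRingCat.of k)).inv ≫
        (Spec.map (CommRingCat.ofHom (Curv2.resMap k X x))).appTop =
      (Scheme.ΓSpecIso (CommRingCat.of k)).inv ≫ (X.fromSpecResidueField x ≫ ff).appTop
    rw [← Scheme.ΓSpecIso_inv_naturality, Scheme.Hom.comp_appTop, fromSpecResidueField_appTop]
    rfl
  rw [← h2, IsIntegralHom.SpecMap_iff] at h1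
  exact h1

theorem exists_point_over (K : Type u) [Field K] [Algebra k K] (x : X) :
    ∃ xb : Curv2.bc k X K, Curv2.bcFst k X K xb = x := by
  haveI : Surjective (Spec.map (CommRingCat.ofHom (algebraMap k K))) := by
    refine ⟨fun y => ⟨(⟨⊥, Ideal.bot_prime⟩ : PrimeSpectrum K), ?_⟩⟩
    exact Subsingleton.elim (α := PrimeSpectrum k) _ _
  exact (Curv2.bcFst k X K).surjective x

end geom

section main

variable (k : Type u) [Field k] (X : Scheme.{u}) [X.Over (Spec (CommRingCat.of k))]

local notation "ff" => (X ↘ Spec (CommRingCat.of k))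

/-- the quadratic-cone description of the completed local ring -/
def QuadCone (x : X) : Prop :=
  letI := Curv2.stalkAlgebra k X x
  Algebra.IsSeparable k (ResidueField (X.presheaf.stalk x)) ∧
    ∃ a b c : ResidueField (X.presheaf.stalk x), 4 * a * c - b ^ 2 ≠ 0 ∧
      ∃ e : AdicCompletion (maximalIdeal (X.presheaf.stalk x)) (X.presheaf.stalk x) ≃+*
          (MvPowerSeries (Fin 2) (ResidueField (X.presheaf.stalk x)) ⧸ Ideal.span {qf a b c}),
        ∀ t : k, e (algebraMap (X.presheaf.stalk x) _ (algebraMap k (X.presheaf.stalk x) t)) =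
          Ideal.Quotient.mk _ (MvPowerSeries.C (algebraMap (X.presheaf.stalk x)
            (ResidueField (X.presheaf.stalk x)) (algebraMap k (X.presheaf.stalk x) t)))

theorem quadCone_of_isOrdDoublePt [LocallyOfFiniteType ff]
    (xb : Curv2.bc k X (AlgebraicClosure k))
    (hx : IsClosed ({Curv2.bcFst k X (AlgebraicClosure k) xb} : Set X))
    (hodp : @Curv2.IsOrdDoublePt (AlgebraicClosure k) _
      ((Curv2.bc k X (AlgebraicClosure k)).presheaf.stalk xb) _
      (@Curv2.stalkAlgebra (AlgebraicClosure k) _ (Curv2.bc k X (AlgebraicClosure k))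
        ⟨Curv2.bcSnd k X (AlgebraicClosure k)⟩ xb) _) :
    QuadCone k X (Curv2.bcFst k X (AlgebraicClosure k) xb) := by
  letI instOver : (Curv2.bc k X (AlgebraicClosure k)).Over
      (Spec (CommRingCat.of (AlgebraicClosure k))) := ⟨Curv2.bcSnd k X (AlgebraicClosure k)⟩
  letI algA := Curv2.stalkAlgebra k X (Curv2.bcFst k X (AlgebraicClosure k) xb)
  letI algB := Curv2.stalkAlgebra (AlgebraicClosure k) (Curv2.bc k X (AlgebraicClosure k)) xb
  haveI hess : Algebra.EssFiniteType k
      (X.presheaf.stalk (Curv2.bcFst k X (AlgebraicClosure k) xb)) :=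
    stalkMap_essFiniteType k X _
  haveI hint : Algebra.IsIntegral k
      (ResidueField (X.presheaf.stalk (Curv2.bcFst k X (AlgebraicClosure k) xb))) :=
    ⟨fun z => resMap_isIntegral k X _ hx z⟩
  obtain ⟨P', hP'prime, hP', ⟨f⟩⟩ := bridge k X (AlgebraicClosure k) xb
  haveI := hP'prime
  have hL : Curv2.IsOrdDoublePt (AlgebraicClosure k) (Localization.AtPrime P') :=
    isOrdDoublePt_of_algEquiv f.symm hodp
  exact alg_forward P' hP' hL

theorem isOrdDoublePt_of_quadCone [LocallyOfFiniteType ff]
    (xb : Curv2.bc k X (AlgebraicClosure k))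
    (h : QuadCone k X (Curv2.bcFst k X (AlgebraicClosure k) xb)) :
    @Curv2.IsOrdDoublePt (AlgebraicClosure k) _
      ((Curv2.bc k X (AlgebraicClosure k)).presheaf.stalk xb) _
      (@Curv2.stalkAlgebra (AlgebraicClosure k) _ (Curv2.bc k X (AlgebraicClosure k))
        ⟨Curv2.bcSnd k X (AlgebraicClosure k)⟩ xb) _ := by
  letI instOver : (Curv2.bc k X (AlgebraicClosure k)).Over
      (Spec (CommRingCat.of (AlgebraicClosure k))) := ⟨Curv2.bcSnd k X (AlgebraicClosure k)⟩
  letI algA := Curv2.stalkAlgebra k X (Curv2.bcFst k X (AlgebraicClosure k) xb)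
  letI algB := Curv2.stalkAlgebra (AlgebraicClosure k) (Curv2.bc k X (AlgebraicClosure k)) xb
  haveI hess : Algebra.EssFiniteType k
      (X.presheaf.stalk (Curv2.bcFst k X (AlgebraicClosure k) xb)) :=
    stalkMap_essFiniteType k X _
  obtain ⟨hsep, a, b, c, hd, e, -⟩ := h
  haveI := hsep
  obtain ⟨P', hP'prime, hP', ⟨f⟩⟩ := bridge k X (AlgebraicClosure k) xb
  haveI := hP'prime
  exact isOrdDoublePt_of_algEquiv f (alg_backward P' hP' hd e)

theorem isNode_iff_quadCone [LocallyOfFiniteType ff] (x : X) (hx : IsClosed ({x} : Set X)) :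
    Curv2.IsNode k X x ↔ QuadCone k X x := by
  constructor
  · rintro ⟨-, xb, hxb, hodp⟩
    subst hxb
    exact quadCone_of_isOrdDoublePt k X xb hx hodp
  · intro h
    obtain ⟨xb, hxb⟩ := exists_point_over k X (AlgebraicClosure k) x
    refine ⟨hx, xb, hxb, ?_⟩
    subst hxb
    exact isOrdDoublePt_of_quadCone k X xb h

end main

end Groth.Agent.Lib.Helper76.NodeBC
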