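import Groth.Agent.Lib.Helper76.NodeNF
import Groth.Agent.Lib.Helper76.PSCont
import Mathlib

/-!
# Division by a monic binary quadratic form in `R⟦x,y⟧` (helper76)

* `qf a b c = a x² + b x y + c y²`;
* `exists_div`, `div_unique`: every series is uniquely `q W + g₀(y) + x g₁(y)` for
  `q = x² + β x y + γ y²`;
* `ker_le_span`: over a field, with `β² - 4γ ≠ 0`, an ideal containing `q`, consisting of series
  of order `≥ 2`, modulo which some series without constant term is a non-zero-divisor, is `(q)`;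
* `isReduced_quot`: `κ⟦x,y⟧/(q)` is reduced;
* `exists_monic`: every nondegenerate form is, up to a linear substitution and a unit, monic.
-/

set_option autoImplicit false
universe u

namespace Groth.Agent.Lib.Helper76.NodeChar

open MvPowerSeries
open Groth.Agent.Lib.Helper76.LT Groth.Agent.Lib.Helper76.PSInv
open Groth.Agent.Lib.Helper76.PSComplete Groth.Agent.Lib.Helper76.NodeNF

section W

variable {R : Type*} [CommRing R]

local notation "P" => MvPowerSeries (Fin 2) R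
local notation "tv" => PowerSeries.toMvPowerSeries (σ := Fin 2) (1 : Fin 2)

/-- the quadratic form `a x² + b x y + c y²` -/
noncomputable def qf (a b c : R) : P := C a * X 0 ^ 2 + C b * X 0 * X 1 + C c * X 1 ^ 2

lemma qf_one (β γ : R) : qf 1 β γ = X 0 ^ 2 + C β * X 0 * X 1 + C γ * X 1 ^ 2 := by
  unfold qf
  rw [map_one, one_mul]

lemma mon_eq (a b : ℕ) : (X 0 ^ a * X 1 ^ b : P) = monomial (idx a b) 1 := by
  rw [X_pow_eq, X_pow_eq, monomial_mul_monomial, one_mul]
  rfl

lemma coeff_mon_mul (a b : ℕ) (H : P) (i j : ℕ) :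
    coeff (idx i j) (X 0 ^ a * X 1 ^ b * H) =
      if a ≤ i ∧ b ≤ j then coeff (idx (i - a) (j - b)) H else 0 := by
  classical
  rw [mon_eq, coeff_monomial_mul, one_mul]
  have hle : idx a b ≤ idx i j ↔ a ≤ i ∧ b ≤ j := by
    rw [Finsupp.le_def, Fin.forall_fin_two]
    simp
  have hsub : idx i j - idx a b = idx (i - a) (j - b) := by
    ext s
    fin_cases s <;> simp [Finsupp.tsub_apply]
  by_cases h : a ≤ i ∧ b ≤ j
  · rw [if_pos (hle.mpr h), if_pos h, hsub]
  · rw [if_neg (fun h' => h (hle.mp h')), if_neg h]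

lemma coeff_X0_mul (H : P) (i j : ℕ) :
    coeff (idx i j) (X 0 * H) = if 1 ≤ i then coeff (idx (i - 1) j) H else 0 := by
  have e : (X 0 : P) * H = X 0 ^ 1 * X 1 ^ 0 * H := by ring
  rw [e, coeff_mon_mul]
  by_cases h : 1 ≤ i
  · rw [if_pos ⟨h, Nat.zero_le j⟩, if_pos h, Nat.sub_zero]
  · rw [if_neg (fun h' => h h'.1), if_neg h]

lemma coeff_q_mul (β γ : R) (W : P) (i j : ℕ) :
    coeff (idx (i + 2) j) (qf 1 β γ * W) =
      coeff (idx i j) W + β * (if 1 ≤ j then coeff (idx (i + 1) (j - 1)) W else 0) +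
        γ * (if 2 ≤ j then coeff (idx (i + 2) (j - 2)) W else 0) := by
  have e : qf 1 β γ * W = X 0 ^ 2 * X 1 ^ 0 * W + C β * (X 0 ^ 1 * X 1 ^ 1 * W) +
      C γ * (X 0 ^ 0 * X 1 ^ 2 * W) := by
    rw [qf_one]
    ring
  rw [e, map_add, map_add, coeff_C_mul, coeff_C_mul, coeff_mon_mul, coeff_mon_mul, coeff_mon_mul]
  have e1 : i + 2 - 2 = i := by omega
  have e2 : i + 2 - 1 = i + 1 := by omega
  have h0 : (if 2 ≤ i + 2 ∧ 0 ≤ j then coeff (idx (i + 2 - 2) (j - 0)) W else 0) =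
      coeff (idx i j) W := by
    rw [if_pos ⟨by omega, Nat.zero_le j⟩, e1, Nat.sub_zero]
  have h1 : (if 1 ≤ i + 2 ∧ 1 ≤ j then coeff (idx (i + 2 - 1) (j - 1)) W else 0) =
      (if 1 ≤ j then coeff (idx (i + 1) (j - 1)) W else 0) := by
    rw [e2]
    by_cases h : 1 ≤ j
    · rw [if_pos ⟨by omega, h⟩, if_pos h]
    · rw [if_neg (fun h' => h h'.2), if_neg h]
  have h3 : (if 0 ≤ i + 2 ∧ 2 ≤ j then coeff (idx (i + 2 - 0) (j - 2)) W else 0) =
      (if 2 ≤ j then coeff (idx (i + 2) (j - 2)) W else 0) := by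
    rw [Nat.sub_zero]
    by_cases h : 2 ≤ j
    · rw [if_pos ⟨Nat.zero_le _, h⟩, if_pos h]
    · rw [if_neg (fun h' => h h'.2), if_neg h]
  rw [h0, h1, h3]

/-- coefficients of the quotient in the division by `x² + β x y + γ y²` -/
noncomputable def wcoef (β γ : R) (F : P) : ℕ → ℕ → R
  | 0, i => coeff (idx (i + 2) 0) F
  | 1, i => coeff (idx (i + 2) 1) F - β * wcoef β γ F 0 (i + 1)
  | (j + 2), i => coeff (idx (i + 2) (j + 2)) F - β * wcoef β γ F (j + 1) (i + 1) -
      γ * wcoef β γ F j (i + 2)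

lemma wcoef_zero (β γ : R) (F : P) (i : ℕ) :
    wcoef β γ F 0 i = coeff (idx (i + 2) 0) F := by rw [wcoef]

lemma wcoef_one (β γ : R) (F : P) (i : ℕ) :
    wcoef β γ F 1 i = coeff (idx (i + 2) 1) F - β * wcoef β γ F 0 (i + 1) := by
  rw [wcoef.eq_2]

lemma wcoef_add_two (β γ : R) (F : P) (j i : ℕ) :
    wcoef β γ F (j + 2) i = coeff (idx (i + 2) (j + 2)) F - β * wcoef β γ F (j + 1) (i + 1) -
      γ * wcoef β γ F j (i + 2) := by
  rw [wcoef.eq_3]

theorem exists_div (β γ : R) (F : P) :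
    ∃ (W : P) (g₀ g₁ : PowerSeries R), F = qf 1 β γ * W + tv g₀ + X 0 * tv g₁ := by
  obtain ⟨W, hW⟩ : ∃ W : P, ∀ i j, coeff (idx i j) W = wcoef β γ F j i :=
    ⟨fun d => wcoef β γ F (d 1) (d 0), fun i j => by
      show wcoef β γ F ((idx i j) 1) ((idx i j) 0) = _
      simp only [idx_zero, idx_one]⟩
  obtain ⟨Rm, hRm⟩ : ∃ Rm : P, Rm = F - qf 1 β γ * W := ⟨_, rfl⟩
  have hR0 : ∀ i, coeff (idx (i + 2) 0) Rm = 0 := by
    intro i
    rw [hRm, map_sub, coeff_q_mul, hW, if_neg (show ¬ (1 ≤ 0) by omega),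
      if_neg (show ¬ (2 ≤ 0) by omega), wcoef_zero]
    ring
  have hR1 : ∀ i, coeff (idx (i + 2) 1) Rm = 0 := by
    intro i
    rw [hRm, map_sub, coeff_q_mul, hW, if_pos (le_refl 1),
      if_neg (show ¬ (2 ≤ 1) by omega), hW, wcoef_one, Nat.sub_self]
    ring
  have hR2' : ∀ i j, coeff (idx (i + 2) (j + 2)) Rm = 0 := by
    intro i j
    have e1 : j + 2 - 1 = j + 1 := by omega
    have e2 : j + 2 - 2 = j := by omega
    rw [hRm, map_sub, coeff_q_mul, hW, if_pos (show 1 ≤ j + 2 by omega),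
      if_pos (show 2 ≤ j + 2 by omega), hW, hW, e1, e2, wcoef_add_two]
    ring
  have hR2 : ∀ i j, coeff (idx (i + 2) j) Rm = 0 := by
    intro i j
    match j with
    | 0 => exact hR0 i
    | 1 => exact hR1 i
    | j + 2 => exact hR2' i j
  refine ⟨W, PowerSeries.mk fun j => coeff (idx 0 j) Rm,
    PowerSeries.mk fun j => coeff (idx 1 j) Rm, ?_⟩
  have hrep : Rm = tv (PowerSeries.mk fun j => coeff (idx 0 j) Rm) +
      X 0 * tv (PowerSeries.mk fun j => coeff (idx 1 j) Rm) := by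
    ext d
    obtain ⟨i, j, rfl⟩ : ∃ i j, d = idx i j := ⟨d 0, d 1, eq_idx d⟩
    rw [map_add, coeff_toMv1, coeff_X0_mul, coeff_toMv1, PowerSeries.coeff_mk,
      PowerSeries.coeff_mk]
    by_cases h0 : i = 0
    · subst h0
      simp
    by_cases h1 : i = 1
    · subst h1
      simp
    obtain ⟨i', rfl⟩ : ∃ i', i = i' + 2 := ⟨i - 2, by omega⟩
    rw [hR2, if_neg h0, if_pos (show 1 ≤ i' + 2 by omega),
      if_neg (show ¬ (i' + 2 - 1 = 0) by omega), add_zero]
  have hF : F = qf 1 β γ * W + Rm := by rw [hRm]; ring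
  rw [add_assoc, ← hrep]
  exact hF

theorem div_unique (β γ : R) (W : P) (g₀ g₁ : PowerSeries R)
    (h : qf 1 β γ * W + tv g₀ + X 0 * tv g₁ = 0) : W = 0 ∧ g₀ = 0 ∧ g₁ = 0 := by
  have hc : ∀ i j, coeff (idx i j) (qf 1 β γ * W) +
      (if i = 0 then PowerSeries.coeff j g₀ else 0) +
      (if 1 ≤ i then (if i - 1 = 0 then PowerSeries.coeff j g₁ else 0) else 0) = 0 := by
    intro i j
    have := congrArg (coeff (idx i j)) h
    rwa [map_add, map_add, coeff_toMv1, coeff_X0_mul, coeff_toMv1, map_zero] at this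
  have hW : ∀ j i, coeff (idx i j) W = 0 := by
    intro j
    induction j using Nat.strong_induction_on with
    | _ j ih =>
      intro i
      have h1 := hc (i + 2) j
      rw [coeff_q_mul, if_neg (show ¬ (i + 2 = 0) by omega), if_pos (show 1 ≤ i + 2 by omega),
        if_neg (show ¬ (i + 2 - 1 = 0) by omega)] at h1
      have h2 : (if 1 ≤ j then coeff (idx (i + 1) (j - 1)) W else 0) = 0 := by
        split_ifs with hj
        · exact ih (j - 1) (by omega) (i + 1)
        · rfl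
      have h3 : (if 2 ≤ j then coeff (idx (i + 2) (j - 2)) W else 0) = 0 := by
        split_ifs with hj
        · exact ih (j - 2) (by omega) (i + 2)
        · rfl
      rw [h2, h3] at h1
      linear_combination h1
  have hW0 : W = 0 := by
    ext d
    rw [eq_idx d, hW, map_zero]
  subst hW0
  refine ⟨rfl, ?_, ?_⟩
  · ext j
    have h1 := hc 0 j
    rw [mul_zero, map_zero, if_pos rfl, if_neg (show ¬ (1 ≤ 0) by omega)] at h1
    rw [map_zero]
    linear_combination h1
  · ext j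
    have h1 := hc 1 j
    rw [mul_zero, map_zero, if_neg (show ¬ ((1 : ℕ) = 0) by omega), if_pos (le_refl 1),
      if_pos (show 1 - 1 = 0 by omega)] at h1
    rw [map_zero]
    linear_combination h1

lemma norm_id (β γ : R) (g₀ g₁ : PowerSeries R) :
    tv (g₀ ^ 2 - PowerSeries.C β * PowerSeries.X * g₀ * g₁ +
        PowerSeries.C γ * PowerSeries.X ^ 2 * g₁ ^ 2) =
      (tv g₀ + X 0 * tv g₁) * (tv g₀ - C β * X 1 * tv g₁ - X 0 * tv g₁) +
        tv g₁ ^ 2 * qf 1 β γ := by
  rw [qf_one]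
  simp only [map_add, map_sub, map_mul, map_pow, PowerSeries.toMvPowerSeries_C,
    PowerSeries.toMvPowerSeries_X]
  ring

lemma exists_X0_pow (β γ : R) (n : ℕ) :
    ∃ s t : P, (X 0 : P) ^ (2 * n) = qf 1 β γ * s + X 1 ^ n * t := by
  induction n with
  | zero => exact ⟨0, 1, by simp⟩
  | succ n ih =>
    obtain ⟨s, t, h⟩ := ih
    refine ⟨X 0 ^ 2 * s + X 1 ^ n * t, - t * (C β * X 0 + C γ * X 1), ?_⟩
    have e : (X 0 : P) ^ (2 * (n + 1)) = X 0 ^ 2 * X 0 ^ (2 * n) := by
      rw [← pow_add]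
      congr 1
      ring
    rw [e, h, qf_one]
    ring

end W

section kernel

variable {κ : Type*} [Field κ]

local notation "P" => MvPowerSeries (Fin 2) κ
local notation "tv" => PowerSeries.toMvPowerSeries (σ := Fin 2) (1 : Fin 2)

lemma exists_X_pow_mul_unit {f : PowerSeries κ} (hf : f ≠ 0) :
    ∃ (n : ℕ) (w : PowerSeries κ), f = PowerSeries.X ^ n * w ∧ IsUnit w :=
  ⟨f.order.toNat, f.divXPowOrder, PowerSeries.X_pow_order_mul_divXPowOrder.symm,
    PowerSeries.isUnit_iff_constantCoeff.mpr (isUnit_iff_ne_zero.mpr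
      fun h => hf (PowerSeries.constantCoeff_divXPowOrder_eq_zero_iff.mp h))⟩

lemma of_pow_mul_mem {I : Ideal P} {Z : P} (hZ : ∀ W, Z * W ∈ I → W ∈ I) (m : ℕ) (W : P)
    (h : Z ^ m * W ∈ I) : W ∈ I := by
  induction m with
  | zero => rwa [pow_zero, one_mul] at h
  | succ m ih =>
    apply ih
    apply hZ
    rw [← mul_assoc, ← pow_succ']
    exact h

lemma eq_C_of_root {β γ : κ} (hD : β ^ 2 - 4 * γ ≠ 0) (s : PowerSeries κ)
    (hs : s ^ 2 - PowerSeries.C β * s + PowerSeries.C γ = 0) :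
    ∃ σ : κ, s = PowerSeries.C σ ∧ σ ^ 2 - β * σ + γ = 0 := by
  obtain ⟨σ, hσ⟩ : ∃ σ, PowerSeries.constantCoeff s = σ := ⟨_, rfl⟩
  have h0 : σ ^ 2 - β * σ + γ = 0 := by
    have := congrArg PowerSeries.constantCoeff hs
    rw [map_add, map_sub, map_pow, map_mul, PowerSeries.constantCoeff_C,
      PowerSeries.constantCoeff_C, hσ, map_zero] at this
    exact this
  refine ⟨σ, ?_, h0⟩
  have hr : (s - PowerSeries.C σ) * (s - PowerSeries.C σ + PowerSeries.C (2 * σ - β)) = 0 := by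
    have e : (s - PowerSeries.C σ) * (s - PowerSeries.C σ + PowerSeries.C (2 * σ - β)) =
        (s ^ 2 - PowerSeries.C β * s + PowerSeries.C γ) -
          PowerSeries.C (σ ^ 2 - β * σ + γ) := by
      simp only [map_sub, map_add, map_mul, map_pow, map_ofNat]
      ring
    rw [e, hs, h0, map_zero, sub_zero]
  rcases mul_eq_zero.mp hr with h | h
  · exact sub_eq_zero.mp h
  · exfalso
    have h1 := congrArg PowerSeries.constantCoeff h
    rw [map_add, map_sub, PowerSeries.constantCoeff_C, PowerSeries.constantCoeff_C, hσ,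
      map_zero] at h1
    apply hD
    linear_combination (2 * σ - β) * h1 - 4 * h0

lemma exists_mul_of_norm_zero (β γ : κ) (g₀ g₁ : PowerSeries κ) (hg₁ : g₁ ≠ 0)
    (hN : g₀ ^ 2 - PowerSeries.C β * PowerSeries.X * g₀ * g₁ +
      PowerSeries.C γ * PowerSeries.X ^ 2 * g₁ ^ 2 = 0) :
    ∃ s, g₀ = PowerSeries.X * g₁ * s ∧
      s ^ 2 - PowerSeries.C β * s + PowerSeries.C γ = 0 := by
  have hXg : PowerSeries.X * g₁ ≠ 0 := mul_ne_zero PowerSeries.X_ne_zero hg₁
  have hdvd : PowerSeries.X * g₁ ∣ g₀ := by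
    rcases ValuationRing.dvd_total (PowerSeries.X * g₁) g₀ with h | h
    · exact h
    · obtain ⟨r, hr⟩ := h
      have hg₀ : g₀ ≠ 0 := by
        rintro rfl
        rw [zero_mul] at hr
        exact hXg hr
      have h1 : g₀ ^ 2 * (1 - PowerSeries.C β * r + PowerSeries.C γ * r ^ 2) = 0 := by
        have e : g₀ ^ 2 * (1 - PowerSeries.C β * r + PowerSeries.C γ * r ^ 2) =
            g₀ ^ 2 - PowerSeries.C β * (g₀ * r) * g₀ + PowerSeries.C γ * (g₀ * r) ^ 2 := by
          ring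
        rw [e, ← hr, ← hN]
        ring
      have h2 : 1 - PowerSeries.C β * r + PowerSeries.C γ * r ^ 2 = 0 := by
        rcases mul_eq_zero.mp h1 with h | h
        · exact absurd ((pow_eq_zero_iff two_ne_zero).mp h) hg₀
        · exact h
      refine ⟨PowerSeries.C β - PowerSeries.C γ * r, ?_⟩
      have h3 : r * (PowerSeries.C β - PowerSeries.C γ * r) = 1 := by
        linear_combination (-1 : PowerSeries κ) * h2
      rw [hr, mul_assoc, h3, mul_one]
  obtain ⟨s, rfl⟩ := hdvd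
  refine ⟨s, rfl, ?_⟩
  have h1 : (PowerSeries.X * g₁) ^ 2 *
      (s ^ 2 - PowerSeries.C β * s + PowerSeries.C γ) = 0 := by
    rw [← hN]
    ring
  rcases mul_eq_zero.mp h1 with h | h
  · exact absurd ((pow_eq_zero_iff two_ne_zero).mp h) hXg
  · exact h

/-- the kernel criterion, monic case -/
theorem ker_le_span {β γ : κ} (hD : β ^ 2 - 4 * γ ≠ 0) (I : Ideal P) (hq : qf 1 β γ ∈ I)
    (hord : ∀ G ∈ I, Ord 2 G) (Z : P) (hZ0 : constantCoeff Z = 0)
    (hZ : ∀ W, Z * W ∈ I → W ∈ I) : I ≤ Ideal.span {qf 1 β γ} := by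
  intro G hG
  obtain ⟨W, g₀, g₁, hdiv⟩ := exists_div β γ G
  have h1I : (1 : P) ∉ I := by
    intro h
    have h1 := (hord 1 h).constantCoeff_eq_zero (by norm_num)
    rw [map_one] at h1
    exact one_ne_zero h1
  have hG' : tv g₀ + X 0 * tv g₁ ∈ I := by
    have e : tv g₀ + X 0 * tv g₁ = G - qf 1 β γ * W := by rw [hdiv]; ring
    rw [e]
    exact I.sub_mem hG (I.mul_mem_right _ hq)
  suffices h : g₀ = 0 ∧ g₁ = 0 by
    rw [hdiv, h.1, h.2, map_zero, mul_zero, add_zero, add_zero]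
    exact Ideal.mul_mem_right _ _ (Ideal.mem_span_singleton_self _)
  by_contra hne
  obtain ⟨zs, -, hzs⟩ := exists_eq_sum_X_mul (N := 0) (ord_one_iff.mpr hZ0)
  rw [Fin.sum_univ_two] at hzs
  obtain ⟨Nm, hNm⟩ : ∃ Nm : PowerSeries κ, Nm = g₀ ^ 2 - PowerSeries.C β * PowerSeries.X * g₀ * g₁ +
      PowerSeries.C γ * PowerSeries.X ^ 2 * g₁ ^ 2 := ⟨_, rfl⟩
  have hNmI : tv Nm ∈ I := by
    rw [hNm, norm_id]
    exact I.add_mem (I.mul_mem_right _ hG') (I.mul_mem_left _ hq)
  by_cases hN0 : Nm = 0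
  · have hN : g₀ ^ 2 - PowerSeries.C β * PowerSeries.X * g₀ * g₁ +
        PowerSeries.C γ * PowerSeries.X ^ 2 * g₁ ^ 2 = 0 := by
      rw [← hNm]
      exact hN0
    have hg₁ : g₁ ≠ 0 := by
      intro h0
      apply hne
      refine ⟨?_, h0⟩
      rw [h0] at hN
      have h2 : g₀ ^ 2 = 0 := by simpa using hN
      exact (pow_eq_zero_iff two_ne_zero).mp h2
    obtain ⟨s, hs, hroot⟩ := exists_mul_of_norm_zero β γ g₀ g₁ hg₁ hN
    obtain ⟨σ, rfl, hσ⟩ := eq_C_of_root hD s hroot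
    have hG'l : tv g₀ + X 0 * tv g₁ = tv g₁ * (X 0 + C σ * X 1) := by
      rw [hs, map_mul, map_mul, PowerSeries.toMvPowerSeries_X, PowerSeries.toMvPowerSeries_C]
      ring
    obtain ⟨n, w, hw, hwu⟩ := exists_X_pow_mul_unit hg₁
    have hwu' : IsUnit (tv w) := hwu.map tv
    have hX1l : (X 1 : P) ^ n * (X 0 + C σ * X 1) ∈ I := by
      rw [hG'l, hw, map_mul, map_pow, PowerSeries.toMvPowerSeries_X] at hG'
      have e : (X 1 : P) ^ n * tv w * (X 0 + C σ * X 1) =
          (X 1 ^ n * (X 0 + C σ * X 1)) * tv w := by ring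
      rw [e] at hG'
      exact (Ideal.mul_unit_mem_iff_mem I hwu').mp hG'
    have hql : qf 1 β γ = (X 0 + C σ * X 1) * (X 0 + C (β - σ) * X 1) := by
      rw [qf_one]
      have hγ : γ = σ * (β - σ) := by linear_combination hσ
      rw [hγ]
      simp only [map_sub, map_mul]
      ring
    have hZl : ∀ m : ℕ, ∃ S : P, Z ^ m * (X 0 + C σ * X 1) =
        qf 1 β γ * S + (X 1 * (zs 1 - C (β - σ) * zs 0)) ^ m * (X 0 + C σ * X 1) := by
      intro m
      induction m with
      | zero => exact ⟨0, by simp⟩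
      | succ m ih =>
        obtain ⟨S, hS⟩ := ih
        refine ⟨Z * S + zs 0 * (X 1 * (zs 1 - C (β - σ) * zs 0)) ^ m, ?_⟩
        have e1 : Z ^ (m + 1) * (X 0 + C σ * X 1) = Z * (Z ^ m * (X 0 + C σ * X 1)) := by ring
        rw [e1, hS, hql, pow_succ']
        generalize (X 1 * (zs 1 - C (β - σ) * zs 0)) ^ m = Bm
        rw [hzs]
        ring
    obtain ⟨S, hS⟩ := hZl n
    have hl : (X 0 + C σ * X 1 : P) ∈ I := by
      apply of_pow_mul_mem hZ n
      rw [hS]
      have e : (X 1 * (zs 1 - C (β - σ) * zs 0)) ^ n * (X 0 + C σ * X 1) =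
          (zs 1 - C (β - σ) * zs 0) ^ n * (X 1 ^ n * (X 0 + C σ * X 1)) := by
        rw [mul_pow]
        ring
      rw [e]
      exact I.add_mem (I.mul_mem_right _ hq) (I.mul_mem_left _ hX1l)
    have h5 := (ord_two_iff.mp (hord _ hl)).2 0
    rw [map_add, coeff_index_single_self_X, coeff_C_mul, coeff_index_single_X,
      if_neg (by decide), mul_zero, add_zero] at h5
    exact one_ne_zero h5
  · obtain ⟨n, w, hw, hwu⟩ := exists_X_pow_mul_unit hN0
    have hwu' : IsUnit (tv w) := hwu.map tv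
    have hX1 : (X 1 : P) ^ n ∈ I := by
      rw [hw, map_mul, map_pow, PowerSeries.toMvPowerSeries_X] at hNmI
      exact (Ideal.mul_unit_mem_iff_mem I hwu').mp hNmI
    have hX0 : (X 0 : P) ^ (2 * n) ∈ I := by
      obtain ⟨s, t, hst⟩ := exists_X0_pow β γ n
      rw [hst]
      exact I.add_mem (I.mul_mem_right _ hq) (I.mul_mem_right _ hX1)
    have hZp : Z ^ (3 * n) ∈ I := by
      rw [hzs]
      apply Ideal.add_pow_mem_of_pow_mem_of_le (m := 2 * n) (n := n)
      · rw [mul_pow]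
        exact I.mul_mem_right _ hX0
      · rw [mul_pow]
        exact I.mul_mem_right _ hX1
      · omega
    exact h1I (of_pow_mul_mem hZ (3 * n) 1 (by rwa [mul_one]))

/-- `κ⟦x,y⟧/(x² + β x y + γ y²)` is reduced when the discriminant is non-zero -/
theorem isReduced_quot {β γ : κ} (hD : β ^ 2 - 4 * γ ≠ 0) :
    IsReduced (P ⧸ Ideal.span {qf 1 β γ}) := by
  rw [isReduced_iff_pow_one_lt 2 (by norm_num)]
  intro x hx
  obtain ⟨F, rfl⟩ := Ideal.Quotient.mk_surjective x
  obtain ⟨W, h₀, h₁, hdiv⟩ := exists_div β γ F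
  rw [← map_pow, Ideal.Quotient.eq_zero_iff_mem, Ideal.mem_span_singleton'] at hx
  obtain ⟨V, hV⟩ := hx
  have hR2 : (tv h₀ + X 0 * tv h₁) ^ 2 = qf 1 β γ * tv (h₁ ^ 2) +
      tv (h₀ ^ 2 - PowerSeries.C γ * PowerSeries.X ^ 2 * h₁ ^ 2) +
      X 0 * tv (2 * h₀ * h₁ - PowerSeries.C β * PowerSeries.X * h₁ ^ 2) := by
    rw [qf_one]
    simp only [map_add, map_sub, map_mul, map_pow, PowerSeries.toMvPowerSeries_C,
      PowerSeries.toMvPowerSeries_X, map_ofNat]
    ring
  have hkey : qf 1 β γ *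
        (qf 1 β γ * W ^ 2 + 2 * W * (tv h₀ + X 0 * tv h₁) + tv (h₁ ^ 2) - V) +
      tv (h₀ ^ 2 - PowerSeries.C γ * PowerSeries.X ^ 2 * h₁ ^ 2) +
      X 0 * tv (2 * h₀ * h₁ - PowerSeries.C β * PowerSeries.X * h₁ ^ 2) = 0 := by
    have e1 : F ^ 2 = qf 1 β γ * (qf 1 β γ * W ^ 2 + 2 * W * (tv h₀ + X 0 * tv h₁)) +
        (tv h₀ + X 0 * tv h₁) ^ 2 := by
      rw [hdiv]
      ring
    rw [hR2, ← hV] at e1
    linear_combination (-1 : P) * e1
  obtain ⟨-, e0, e1⟩ := div_unique β γ _ _ _ hkey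
  have hz : h₀ = 0 ∧ h₁ = 0 := by
    have h1z : h₁ = 0 := by
      by_contra hne
      have e1' : 2 * h₀ = PowerSeries.C β * PowerSeries.X * h₁ := by
        have e : h₁ * (2 * h₀ - PowerSeries.C β * PowerSeries.X * h₁) = 0 := by
          rw [← e1]
          ring
        rcases mul_eq_zero.mp e with h | h
        · exact absurd h hne
        · exact sub_eq_zero.mp h
      have e2 : PowerSeries.C (β ^ 2 - 4 * γ) * (PowerSeries.X ^ 2 * h₁ ^ 2) = 0 := by
        simp only [map_sub, map_mul, map_pow, map_ofNat]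
        linear_combination 4 * e0 - (2 * h₀ + PowerSeries.C β * PowerSeries.X * h₁) * e1'
      have hC : PowerSeries.C (β ^ 2 - 4 * γ) ≠ 0 := (map_ne_zero PowerSeries.C).mpr hD
      exact mul_ne_zero hC
        (mul_ne_zero (pow_ne_zero 2 PowerSeries.X_ne_zero) (pow_ne_zero 2 hne)) e2
    refine ⟨?_, h1z⟩
    rw [h1z] at e0
    have h2 : h₀ ^ 2 = 0 := by simpa using e0
    exact (pow_eq_zero_iff two_ne_zero).mp h2
  rw [Ideal.Quotient.eq_zero_iff_mem, Ideal.mem_span_singleton']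
  refine ⟨W, ?_⟩
  rw [hdiv, hz.1, hz.2, map_zero, mul_zero, add_zero, add_zero, mul_comm]

/-- the value of a substitution automorphism on a binary quadratic form -/
lemma substEquiv_qf {y : Fin 2 → P} (hy : ∀ s, constantCoeff (y s) = 0)
    (hJ : IsUnit (jac y).det) (a b c : κ) :
    substEquiv hy hJ (qf a b c) = C a * y 0 ^ 2 + C b * y 0 * y 1 + C c * y 1 ^ 2 := by
  have hsy : HasSubst y := hasSubst_of_constantCoeff_zero hy
  have hX : ∀ s, substEquiv hy hJ (X s) = y s := fun s => by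
    rw [substEquiv_apply, subst_X hsy]
  have hC : ∀ r : κ, substEquiv hy hJ (C r) = C r := fun r => by
    rw [substEquiv_apply]
    exact subst_C r
  unfold qf
  simp only [map_add, map_mul, map_pow, hX, hC]

/-- every nondegenerate binary form becomes, after a linear substitution and up to a unit, a
monic one -/
theorem exists_monic {a b c : κ} (h : 4 * a * c - b ^ 2 ≠ 0) :
    ∃ (Φ : P ≃ₐ[κ] P) (u : P) (β γ : κ), IsUnit u ∧ β ^ 2 - 4 * γ ≠ 0 ∧
      Φ (qf a b c) = u * qf 1 β γ ∧ ∀ (n : ℕ) (F : P), Ord n F → Ord n (Φ F) := by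
  classical
  have hCu : ∀ r : κ, r ≠ 0 → IsUnit (C r : P) := fun r hr =>
    (isUnit_iff_ne_zero.mpr hr).map C
  by_cases ha : a = 0
  · have hb : b ≠ 0 := by
      intro hb0
      apply h
      rw [ha, hb0]
      ring
    by_cases hc : c = 0
    · have hy : ∀ s, constantCoeff ((![X 0, X 0 + X 1] : Fin 2 → P) s) = 0 := by
        intro s
        fin_cases s <;> simp
      have hJ : IsUnit (jac (![X 0, X 0 + X 1] : Fin 2 → P)).det := by
        have : (jac (![X 0, X 0 + X 1] : Fin 2 → P)).det = 1 := by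
          rw [Matrix.det_fin_two]
          simp [jac, coeff_index_single_X]
        rw [this]
        exact isUnit_one
      have y0 : (![X 0, X 0 + X 1] : Fin 2 → P) 0 = X 0 := rfl
      have y1 : (![X 0, X 0 + X 1] : Fin 2 → P) 1 = X 0 + X 1 := rfl
      refine ⟨substEquiv hy hJ, C b, 1, 0, hCu b hb, by norm_num, ?_, fun n F hF => ?_⟩
      · rw [substEquiv_qf, y0, y1, ha, hc, qf_one]
        simp only [map_zero, map_one]
        ring
      · rw [substEquiv_apply]
        exact ord_subst hy hF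
    · have hy : ∀ s, constantCoeff ((![X 1, X 0] : Fin 2 → P) s) = 0 := by
        intro s
        fin_cases s <;> simp
      have hJ : IsUnit (jac (![X 1, X 0] : Fin 2 → P)).det := by
        have : (jac (![X 1, X 0] : Fin 2 → P)).det = -1 := by
          rw [Matrix.det_fin_two]
          simp [jac, coeff_index_single_X]
        rw [this]
        exact isUnit_one.neg
      have y0 : (![X 1, X 0] : Fin 2 → P) 0 = X 1 := rfl
      have y1 : (![X 1, X 0] : Fin 2 → P) 1 = X 0 := rfl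
      have hbc : (C b : P) = C c * C (b / c) := by
        rw [← map_mul]
        congr 1
        field_simp
      refine ⟨substEquiv hy hJ, C c, b / c, 0, hCu c hc, ?_, ?_, fun n F hF => ?_⟩
      · have e : (b / c) ^ 2 - 4 * 0 = (b / c) ^ 2 := by ring
        rw [e]
        exact pow_ne_zero 2 (div_ne_zero hb hc)
      · rw [substEquiv_qf, y0, y1, ha, qf_one, hbc]
        simp only [map_zero]
        ring
      · rw [substEquiv_apply]
        exact ord_subst hy hF
  · have hba : (C b : P) = C a * C (b / a) := by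
      rw [← map_mul]
      congr 1
      field_simp
    have hca : (C c : P) = C a * C (c / a) := by
      rw [← map_mul]
      congr 1
      field_simp
    refine ⟨AlgEquiv.refl, C a, b / a, c / a, hCu a ha, ?_, ?_, fun n F hF => hF⟩
    · have e : (b / a) ^ 2 - 4 * (c / a) = -(4 * a * c - b ^ 2) / a ^ 2 := by
        field_simp
        ring
      rw [e]
      exact div_ne_zero (neg_ne_zero.mpr h) (pow_ne_zero 2 ha)
    · show qf a b c = C a * qf 1 (b / a) (c / a)
      rw [qf_one]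
      unfold qf
      rw [hba, hca]
      ring

/-- the kernel criterion for an arbitrary nondegenerate form -/
theorem ker_le_span' {a b c : κ} (h : 4 * a * c - b ^ 2 ≠ 0) (I : Ideal P) (hq : qf a b c ∈ I)
    (hord : ∀ G ∈ I, Ord 2 G) (Z : P) (hZ0 : constantCoeff Z = 0)
    (hZ : ∀ W, Z * W ∈ I → W ∈ I) : I ≤ Ideal.span {qf a b c} := by
  obtain ⟨Φ, u, β, γ, hu, hD, hΦ, hΦord⟩ := exists_monic h
  obtain ⟨v, hv⟩ := hu.exists_left_inv
  have hmonic : qf 1 β γ = v * Φ (qf a b c) := by rw [hΦ, ← mul_assoc, hv, one_mul]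
  have hJ : Ideal.comap (Φ.symm : P →+* P) I ≤ Ideal.span {qf 1 β γ} := by
    refine ker_le_span hD _ ?_ ?_ (Φ Z) ?_ ?_
    · rw [Ideal.mem_comap]
      show Φ.symm (qf 1 β γ) ∈ I
      rw [hmonic, map_mul, AlgEquiv.symm_apply_apply]
      exact I.mul_mem_left _ hq
    · intro G hG
      rw [Ideal.mem_comap] at hG
      have h2 := hΦord 2 _ (hord _ hG)
      rwa [show Φ ((Φ.symm : P →+* P) G) = G from Φ.apply_symm_apply G] at h2
    · exact ord_one_iff.mp (hΦord 1 Z (ord_one_iff.mpr hZ0))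
    · intro W hW
      rw [Ideal.mem_comap] at hW ⊢
      have e : (Φ.symm : P →+* P) (Φ Z * W) = Z * (Φ.symm : P →+* P) W := by
        rw [map_mul]
        congr 1
        exact Φ.symm_apply_apply Z
      rw [e] at hW
      exact hZ _ hW
  intro G hG
  have h1 : Φ G ∈ Ideal.comap (Φ.symm : P →+* P) I := by
    rw [Ideal.mem_comap]
    show Φ.symm (Φ G) ∈ I
    rw [AlgEquiv.symm_apply_apply]
    exact hG
  obtain ⟨V, hV⟩ := Ideal.mem_span_singleton'.mp (hJ h1)
  rw [Ideal.mem_span_singleton']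
  refine ⟨Φ.symm (V * v), ?_⟩
  apply Φ.injective
  rw [map_mul, AlgEquiv.apply_symm_apply, ← hV, hmonic]
  ring

/-- `κ⟦x,y⟧/(q)` is reduced for a nondegenerate binary quadratic form `q` -/
theorem isReduced_quot' {a b c : κ} (h : 4 * a * c - b ^ 2 ≠ 0) :
    IsReduced (P ⧸ Ideal.span {qf a b c}) := by
  obtain ⟨Φ, u, β, γ, hu, hD, hΦ, -⟩ := exists_monic h
  haveI := isReduced_quot hD
  have e : (P ⧸ Ideal.span {qf a b c}) ≃ₐ[κ] (P ⧸ Ideal.span {qf 1 β γ}) := by
    refine Ideal.quotientEquivAlg _ _ Φ ?_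
    rw [Ideal.map_span, Set.image_singleton]
    have h1 : ((Φ : P →+* P) (qf a b c)) = u * qf 1 β γ := hΦ
    rw [h1, Ideal.span_singleton_mul_left_unit hu]
  exact isReduced_of_injective e e.injective

end kernel

end Groth.Agent.Lib.Helper76.NodeChar

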