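import Mathlib
import Groth.Prelude.Def_Curv2
import Groth.Agent.Lib.Helper35.FiberStalk
import Groth.Agent.Lib.Helper76.NodeDefD

/-!
# Scheme-level glue for nodes in families (helper76)

* `germ_top_surjective_of_field`: germs at the point of the spectrum of a field come from
  global sections;
* `fibre_data`: for `f : T ⟶ S`, `s : S` and a point `x'` of the fibre over `s`, a surjection
  from the local ring of `S` at the image point onto `κ(s)` compatible with the `κ(s)`-algebra
  structure of the local ring of the fibre.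
-/

set_option autoImplicit false
set_option backward.isDefEq.respectTransparency.types false
universe u
open CategoryTheory CategoryTheory.Limits AlgebraicGeometry IsLocalRing

namespace Groth.Agent.Lib.Helper76.NodeDefE

theorem germ_top_surjective_of_field (K : Type u) [Field K] (y : Spec (CommRingCat.of K)) :
    Function.Surjective ((Spec (CommRingCat.of K)).presheaf.germ ⊤ y trivial).hom := by
  intro z
  obtain ⟨U, hyU, σ, rfl⟩ := (Spec (CommRingCat.of K)).presheaf.exists_germ_eq z
  haveI : Subsingleton (Spec (CommRingCat.of K)) :=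
    (inferInstance : Subsingleton (PrimeSpectrum K))
  have hU : U = ⊤ := by
    apply le_antisymm le_top
    intro w _
    have : w = y := Subsingleton.elim _ _
    rw [this]
    exact hyU
  subst hU
  exact ⟨σ, rfl⟩

theorem ΓSpecIso_inv_hom (R : CommRingCat.{u}) (σ : Γ(Spec R, ⊤)) :
    (Scheme.ΓSpecIso R).inv.hom ((Scheme.ΓSpecIso R).hom.hom σ) = σ := by
  rw [← CommRingCat.comp_apply, Iso.hom_inv_id]
  rfl

theorem fibre_data {T S : Scheme.{u}} (f : T ⟶ S) (s : S) (x' : f.fiber s) :
    letI : (f.fiber s).Over (Spec (CommRingCat.of (S.residueField s))) :=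
      ⟨f.fiberToSpecResidueField s⟩
    ∃ ρK : S.presheaf.stalk (f ((f.fiberι s) x')) →+* S.residueField s,
      Function.Surjective ρK ∧
      ∀ a, Curv2.stalkMap (S.residueField s) (f.fiber s) x' (ρK a) =
        ((f.fiberι s).stalkMap x').hom ((f.stalkMap ((f.fiberι s) x')).hom a) := by
  letI inst : (f.fiber s).Over (Spec (CommRingCat.of (S.residueField s))) :=
    ⟨f.fiberToSpecResidueField s⟩
  have key : ∀ (g : f.fiber s ⟶ S)
      (e : g = f.fiberToSpecResidueField s ≫ S.fromSpecResidueField s),
      ∃ ρK : S.presheaf.stalk (g x') →+* S.residueField s, Function.Surjective ρK ∧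
        ∀ a, Curv2.stalkMap (S.residueField s) (f.fiber s) x' (ρK a) = (g.stalkMap x').hom a := by
    rintro g rfl
    -- the identification of the stalk at the point of `Spec κ(s)` with `κ(s)`
    let j : S.residueField s →+* (Spec (S.residueField s)).presheaf.stalk
        ((f.fiberToSpecResidueField s) x') :=
      ((Spec (S.residueField s)).presheaf.germ ⊤ ((f.fiberToSpecResidueField s) x') trivial).hom.comp
        (Scheme.ΓSpecIso (S.residueField s)).inv.hom
    have hjs : Function.Surjective j := by
      intro z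
      obtain ⟨σ, hσ⟩ := germ_top_surjective_of_field (S.residueField s)
        ((f.fiberToSpecResidueField s) x') z
      refine ⟨(Scheme.ΓSpecIso (S.residueField s)).hom.hom σ, ?_⟩
      show ((Spec (S.residueField s)).presheaf.germ ⊤ ((f.fiberToSpecResidueField s) x')
        trivial).hom ((Scheme.ΓSpecIso (S.residueField s)).inv.hom
          ((Scheme.ΓSpecIso (S.residueField s)).hom.hom σ)) = z
      rw [ΓSpecIso_inv_hom]
      exact hσ
    have hji : Function.Injective j := RingHom.injective j
    let je : S.residueField s ≃+* (Spec (S.residueField s)).presheaf.stalk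
        ((f.fiberToSpecResidueField s) x') := RingEquiv.ofBijective j ⟨hji, hjs⟩
    have hje : ∀ z, j (je.symm z) = z := fun z => je.apply_symm_apply z
    let ρK : S.presheaf.stalk ((f.fiberToSpecResidueField s ≫ S.fromSpecResidueField s) x') →+*
        S.residueField s :=
      (je.symm : _ →+* _).comp
        ((S.fromSpecResidueField s).stalkMap ((f.fiberToSpecResidueField s) x')).hom
    have hρK : ∀ a, ρK a = je.symm
        (((S.fromSpecResidueField s).stalkMap ((f.fiberToSpecResidueField s) x')).hom a) :=
      fun a => rfl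
    have hsurj : Function.Surjective ρK := by
      intro c
      obtain ⟨a, ha⟩ := (S.fromSpecResidueField s).stalkMap_surjective
        ((f.fiberToSpecResidueField s) x') (je c)
      refine ⟨a, ?_⟩
      rw [hρK]
      have : ((S.fromSpecResidueField s).stalkMap ((f.fiberToSpecResidueField s) x')).hom a =
          je c := ha
      rw [this, RingEquiv.symm_apply_apply]
    have hcompat : ∀ c, Curv2.stalkMap (S.residueField s) (f.fiber s) x' c =
        ((f.fiberToSpecResidueField s).stalkMap x').hom (j c) := by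
      intro c
      have := Scheme.Hom.germ_stalkMap_apply (f.fiberToSpecResidueField s) ⊤ x' trivial
        ((Scheme.ΓSpecIso (S.residueField s)).inv.hom c)
      exact this.symm
    refine ⟨ρK, hsurj, fun a => ?_⟩
    rw [hcompat, hρK, hje, Scheme.Hom.stalkMap_comp]
    rfl
  obtain ⟨ρK, h1, h2⟩ := key (f.fiberι s ≫ f) (f.fiber_fac s)
  refine ⟨ρK, h1, fun a => ?_⟩
  have h3 := h2 a
  rw [Scheme.Hom.stalkMap_comp] at h3
  exact h3

open MvPowerSeries in
theorem goalQ_of_fibre {T S : Scheme.{u}} (f : T ⟶ S) [LocallyOfFiniteType f] (s : S)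
    (x' : f.fiber s) (τ : T) (hτ : (f.fiberι s) x' = τ)
    [IsNoetherianRing (S.presheaf.stalk (f τ))] (hfl : (f.stalkMap τ).hom.Flat)
    (a' b' c' : S.residueField s) (hdisc : b' ^ 2 - 4 * a' * c' ≠ 0)
    (e : Curv2.cpl ((f.fiber s).presheaf.stalk x') ≃+*
      (MvPowerSeries (Fin 2) (S.residueField s) ⧸ Ideal.span
        {(C a' * X 0 ^ 2 + C b' * X 0 * X 1 + C c' * X 1 ^ 2 :
          MvPowerSeries (Fin 2) (S.residueField s))}))
    (he : letI : (f.fiber s).Over (Spec (CommRingCat.of (S.residueField s))) :=
        ⟨f.fiberToSpecResidueField s⟩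
      ∀ r : S.residueField s, e (algebraMap ((f.fiber s).presheaf.stalk x') _
        (Curv2.stalkMap (S.residueField s) (f.fiber s) x' r)) = Ideal.Quotient.mk _ (C r)) :
    ∃ ρh : Curv2.cpl (S.presheaf.stalk (f τ)) →+* S.residueField s, Function.Surjective ρh ∧
      ∀ a b c : Curv2.cpl (S.presheaf.stalk (f τ)), ρh a = a' → ρh b = b' → ρh c = c' →
        IsUnit (b ^ 2 - 4 * a * c) ∧
        ∃ h ∈ maximalIdeal (Curv2.cpl (S.presheaf.stalk (f τ))),
          ∃ e' : Curv2.cpl (T.presheaf.stalk τ) ≃+*
              (MvPowerSeries (Fin 2) (Curv2.cpl (S.presheaf.stalk (f τ))) ⧸ Ideal.span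
                {(C a * X 0 ^ 2 + C b * X 0 * X 1 + C c * X 1 ^ 2 - C h :
                  MvPowerSeries (Fin 2) (Curv2.cpl (S.presheaf.stalk (f τ))))}),
            ∀ r : S.presheaf.stalk (f τ),
              e' (algebraMap (T.presheaf.stalk τ) (Curv2.cpl (T.presheaf.stalk τ))
                  ((f.stalkMap τ).hom r)) =
                Ideal.Quotient.mk _ (C (algebraMap (S.presheaf.stalk (f τ))
                  (Curv2.cpl (S.presheaf.stalk (f τ))) r)) := by
  subst hτ
  obtain ⟨ρK, hρKs, hρKc⟩ := fibre_data f s x'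
  letI : Algebra (S.presheaf.stalk (f ((f.fiberι s) x'))) (T.presheaf.stalk ((f.fiberι s) x')) :=
    (f.stalkMap ((f.fiberι s) x')).hom.toAlgebra
  haveI hloc : IsLocalHom (algebraMap (S.presheaf.stalk (f ((f.fiberι s) x')))
      (T.presheaf.stalk ((f.fiberι s) x'))) :=
    inferInstanceAs <| IsLocalHom (f.stalkMap ((f.fiberι s) x')).hom
  haveI hflat : Module.Flat (S.presheaf.stalk (f ((f.fiberι s) x')))
      (T.presheaf.stalk ((f.fiberι s) x')) := hfl
  haveI hess : Algebra.EssFiniteType (S.presheaf.stalk (f ((f.fiberι s) x')))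
      (T.presheaf.stalk ((f.fiberι s) x')) := by
    rw [← RingHom.essFiniteType_algebraMap, RingHom.algebraMap_toAlgebra]
    exact LocallyOfFiniteType.stalkMap f _
  haveI hNB : IsNoetherianRing (T.presheaf.stalk ((f.fiberι s) x')) :=
    Algebra.EssFiniteType.isNoetherianRing (S.presheaf.stalk (f ((f.fiberι s) x'))) _
  obtain ⟨ρh, hρhs, -, H⟩ := Groth.Agent.Lib.Helper76.NodeDef.exists_equiv_of_flat_fibre'
    (S.presheaf.stalk (f ((f.fiberι s) x'))) (T.presheaf.stalk ((f.fiberι s) x'))
    ((f.fiberι s).stalkMap x').hom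
    (Groth.Agent.Lib.Helper35.FiberStalk.stalkMap_fiberι_surjective f s x')
    (Groth.Agent.Lib.Helper35.FiberStalk.ker_stalkMap_fiberι f s x')
    ρK hρKs
    (@Curv2.stalkMap (S.residueField s) _ (f.fiber s) ⟨f.fiberToSpecResidueField s⟩ x')
    hρKc a' b' c' hdisc e he
  exact ⟨ρh, hρhs, H⟩

end Groth.Agent.Lib.Helper76.NodeDefE
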