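import Mathlib
import Groth.Agent.Lib.Helper76.NodeChar2
import Groth.Agent.Lib.Helper83.FlatLocalDim

/-!
# Nodes ascend along flat unramified local homomorphisms (helper76)
-/

set_option autoImplicit false
universe u

namespace Groth.Agent.Lib.Helper76.NodeEt

open MvPowerSeries IsLocalRing
open Groth.Agent.Lib.Helper76.NodeChar

section alg

/-- the completed local ring is a nondegenerate quadratic cone, compatibly with `k` -/
def IsQuad (k : Type*) [Field k] (A : Type*) [CommRing A] [IsLocalRing A] [Algebra k A] : Prop :=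
  Algebra.IsSeparable k (ResidueField A) ∧
    ∃ a b c : ResidueField A, 4 * a * c - b ^ 2 ≠ 0 ∧
      ∃ e : AdicCompletion (maximalIdeal A) A ≃+*
          (MvPowerSeries (Fin 2) (ResidueField A) ⧸ Ideal.span {qf a b c}),
        ∀ t : k, e (algebraMap A _ (algebraMap k A t)) =
          Ideal.Quotient.mk _ (MvPowerSeries.C (algebraMap A (ResidueField A) (algebraMap k A t)))

variable {k : Type*} [Field k] {A B : Type*} [CommRing A] [CommRing B] [IsLocalRing A]
  [IsLocalRing B] [IsNoetherianRing A] [IsNoetherianRing B] [Algebra k A] [Algebra k B]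
  [Algebra A B] [IsScalarTower k A B]

theorem isQuad_of_flat [Module.Flat A B]
    (hm : (maximalIdeal A).map (algebraMap A B) = maximalIdeal B)
    [Algebra.IsSeparable k (ResidueField B)]
    (h : IsQuad k A) : IsQuad k B := by
  obtain ⟨hsep, a, b, c, hnd, e, -⟩ := h
  haveI := hsep
  obtain ⟨hred, hfin, x, y, a', b', c', hx, hy, hsp, hnd', hq⟩ := of_completion_equiv hnd e
  haveI := hred
  haveI hloc : IsLocalHom (algebraMap A B) :=
    Groth.Agent.Lib.Helper83.isLocalHom_of_map_maximalIdeal hm
  have hm0 : maximalIdeal A ≠ ⊥ := by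
    intro h0
    have h1 : (maximalIdeal A).IsPrincipal := by
      rw [h0]
      infer_instance
    have h2 := finrank_cotangentSpace_le_one_iff.mpr h1
    omega
  obtain ⟨z, hz, hznz⟩ := exists_nzd hm0
  set φ := algebraMap A B with hφ
  have hmem : ∀ {w : A}, w ∈ maximalIdeal A → φ w ∈ maximalIdeal B := by
    intro w hw
    rw [← hm]
    exact Ideal.mem_map_of_mem _ hw
  have hznzB : φ z ∈ nonZeroDivisors B := by
    have hreg : IsSMulRegular B z := Module.Flat.isSMulRegular_of_nonZeroDivisors hznz
    rw [mem_nonZeroDivisors_iff_right]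
    intro w hw
    apply hreg
    simp only [smul_zero]
    rw [Algebra.smul_def, mul_comm]
    exact hw
  have hfinB : Module.finrank (ResidueField B) (CotangentSpace B) = 2 := by
    rw [← spanFinrank_maximalIdeal_eq_finrank_cotangentSpace,
      Groth.Agent.Lib.Helper83.spanFinrank_maximalIdeal_eq_of_flat_of_map_maximalIdeal hm,
      spanFinrank_maximalIdeal_eq_finrank_cotangentSpace, hfin]
  have hspB : Ideal.span {φ x, φ y} ⊔ maximalIdeal B ^ 2 = maximalIdeal B := by
    have := congrArg (Ideal.map φ) hsp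
    rw [Ideal.map_sup, Ideal.map_span, Ideal.map_pow, hm, Set.image_pair] at this
    exact this
  have hndB : residue B (4 * φ a' * φ c' - φ b' ^ 2) ≠ 0 := by
    have h1 : (4 * φ a' * φ c' - φ b' ^ 2) = φ (4 * a' * c' - b' ^ 2) := by
      simp only [map_sub, map_mul, map_pow, map_ofNat]
    rw [h1, ← IsLocalRing.ResidueField.map_residue]
    exact (map_ne_zero _).mpr hnd'
  have hqB : φ a' * φ x ^ 2 + φ b' * φ x * φ y + φ c' * φ y ^ 2 ∈ maximalIdeal B ^ 3 := by
    have h1 : φ a' * φ x ^ 2 + φ b' * φ x * φ y + φ c' * φ y ^ 2 =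
        φ (a' * x ^ 2 + b' * x * y + c' * y ^ 2) := by simp
    rw [h1, ← hm, ← Ideal.map_pow]
    exact Ideal.mem_map_of_mem _ hq
  obtain ⟨eB, heB⟩ := completion_equiv_of_nzd (k := k) ⟨φ z, hmem hz, hznzB⟩ hfinB (φ x) (φ y)
    (φ a') (φ b') (φ c') (hmem hx) (hmem hy) hspB hndB hqB
  refine ⟨inferInstance, residue B (φ a'), residue B (φ b'), residue B (φ c'), ?_, eB, heB⟩
  have e' : 4 * residue B (φ a') * residue B (φ c') - residue B (φ b') ^ 2 =
      residue B (4 * φ a' * φ c' - φ b' ^ 2) := by
    simp only [map_sub, map_mul, map_pow, map_ofNat]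
  rw [e']
  exact hndB

end alg

end Groth.Agent.Lib.Helper76.NodeEt
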