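import Mathlib
import Groth.Prelude.Def_CurvBase
import Groth.Agent.Lib.Helper76.NodeEt1
import Groth.Agent.Lib.Helper76.NodeBC7

/-!
# Nodes ascend along étale morphisms of schemes locally of finite type over a field (helper76)
-/

set_option autoImplicit false
set_option backward.isDefEq.respectTransparency.types false
universe u

namespace Groth.Agent.Lib.Helper76.NodeEt

open IsLocalRing CategoryTheory CategoryTheory.Limits AlgebraicGeometry
open Groth.Agent.Lib.Helper76.NodeChar Groth.Agent.Lib.Helper76.NodeBC

section sch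

variable (k : Type u) [Field k] {X Y : Scheme.{u}} [X.Over (Spec (CommRingCat.of k))]
  [Y.Over (Spec (CommRingCat.of k))] (π : Y ⟶ X)
  (hπ : π ≫ (X ↘ Spec (CommRingCat.of k)) = Y ↘ Spec (CommRingCat.of k))

include hπ in
theorem stalkMap_comp (y : Y) :
    (π.stalkMap y).hom.comp (Curv2.stalkMap k X (π y)) = Curv2.stalkMap k Y y := by
  ext t
  have h1 := ConcreteCategory.congr_hom (Scheme.Hom.germ_stalkMap π ⊤ y trivial)
    (Coh.toGlobal (X ↘ Spec (CommRingCat.of k)) t)
  have h2 : Coh.toGlobal (Y ↘ Spec (CommRingCat.of k)) t =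
      (π.app ⊤).hom (Coh.toGlobal (X ↘ Spec (CommRingCat.of k)) t) := by
    unfold Coh.toGlobal
    rw [← hπ, Scheme.Hom.comp_appTop]
    rfl
  exact h1.trans (congrArg (Y.presheaf.germ ⊤ y trivial).hom h2.symm)

include hπ in
theorem quadCone_of_etale [Etale π] [LocallyOfFiniteType (X ↘ Spec (CommRingCat.of k))] (y : Y)
    (h : QuadCone k X (π y)) : QuadCone k Y y := by
  haveI : IsLocallyNoetherian X :=
    LocallyOfFiniteType.isLocallyNoetherian (X ↘ Spec (CommRingCat.of k))
  haveI : IsLocallyNoetherian Y := LocallyOfFiniteType.isLocallyNoetherian π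
  letI algA := Curv2.stalkAlgebra k X (π y)
  letI algB := Curv2.stalkAlgebra k Y y
  algebraize [(π.stalkMap y).hom]
  have hloc : IsLocalHom (algebraMap (X.presheaf.stalk (π y)) (Y.presheaf.stalk y)) :=
    inferInstanceAs <| IsLocalHom (π.stalkMap y).hom
  have hflat : Module.Flat (X.presheaf.stalk (π y)) (Y.presheaf.stalk y) := by
    rw [← RingHom.flat_algebraMap_iff, RingHom.algebraMap_toAlgebra]
    exact Flat.stalkMap π y
  have hess : Algebra.EssFiniteType (X.presheaf.stalk (π y)) (Y.presheaf.stalk y) := by
    rw [← RingHom.essFiniteType_algebraMap, RingHom.algebraMap_toAlgebra]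
    exact LocallyOfFiniteType.stalkMap π y
  have hunr : Algebra.FormallyUnramified (X.presheaf.stalk (π y)) (Y.presheaf.stalk y) := by
    rw [← RingHom.formallyUnramified_algebraMap, RingHom.algebraMap_toAlgebra]
    exact FormallyUnramified.stalkMap π y
  haveI tower : IsScalarTower k (X.presheaf.stalk (π y)) (Y.presheaf.stalk y) :=
    IsScalarTower.of_algebraMap_eq' (stalkMap_comp k π hπ y).symm
  have hm := Algebra.FormallyUnramified.map_maximalIdeal (R := X.presheaf.stalk (π y))
    (S := Y.presheaf.stalk y)
  have hA : IsQuad k (X.presheaf.stalk (π y)) := h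
  haveI := hA.1
  haveI : Algebra.IsSeparable (ResidueField (X.presheaf.stalk (π y)))
      (ResidueField (Y.presheaf.stalk y)) := inferInstance
  haveI : Algebra.IsSeparable k (ResidueField (Y.presheaf.stalk y)) :=
    Algebra.IsSeparable.trans k (ResidueField (X.presheaf.stalk (π y))) _
  exact isQuad_of_flat hm hA

end sch

end Groth.Agent.Lib.Helper76.NodeEt
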