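import Mathlib

/-!
# Normality from a reduced principal divisor and normality away from it

`A` Noetherian local, `π` a nonzerodivisor with `A/πA` reduced, and all localizations of `A` at primes
not containing `π` normal domains: then `A` is a normal domain.
-/

set_option autoImplicit false

namespace Groth.Agent.Lib.Helper76.NormPi

open IsLocalRing

section dom

variable {A : Type*} [CommRing A]

/-- simultaneous killing of finitely many elements away from a prime -/
theorem exists_kill (𝔮 : Ideal A) [h𝔮 : 𝔮.IsPrime] (S : Finset A)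
    (h : ∀ y ∈ S, ∃ m : A, m ∉ 𝔮 ∧ m * y = 0) : ∃ m : A, m ∉ 𝔮 ∧ ∀ y ∈ S, m * y = 0 := by
  classical
  induction S using Finset.induction_on with
  | empty =>
    exact ⟨1, fun h1 => h𝔮.ne_top ((Ideal.eq_top_iff_one _).mpr h1), by simp⟩
  | insert a S ha ih =>
    obtain ⟨m₀, hm₀, h₀⟩ := ih (fun y hy => h y (Finset.mem_insert_of_mem hy))
    obtain ⟨m₁, hm₁, h₁⟩ := h a (Finset.mem_insert_self a S)
    refine ⟨m₀ * m₁, fun hmem => ?_, ?_⟩
    · rcases h𝔮.mem_or_mem hmem with h' | h'
      · exact hm₀ h'
      · exact hm₁ h'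
    · intro y hy
      rcases Finset.mem_insert.mp hy with rfl | hy
      · rw [mul_assoc, h₁, mul_zero]
      · rw [mul_comm m₀ m₁, mul_assoc, h₀ y hy, mul_zero]

theorem isDomain_of_pi [IsLocalRing A] [IsNoetherianRing A] (π : A)
    (hreg : ∀ y : A, π * y = 0 → y = 0)
    (hred : ∀ (a : A) (n : ℕ), π ∣ a ^ n → π ∣ a)
    (hloc : ∀ (𝔮 : Ideal A) [𝔮.IsPrime], π ∉ 𝔮 → IsDomain (Localization.AtPrime 𝔮)) :
    IsDomain A := by
  classical
  haveI : NoZeroDivisors A := by
    refine ⟨fun {a b} hab => ?_⟩
    by_contra hcon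
    rw [not_or] at hcon
    obtain ⟨ha, hb⟩ := hcon
    set I : Ideal A := (Ideal.span {a}).annihilator with hI
    set J : Ideal A := I.annihilator with hJ
    have memI : ∀ y : A, y ∈ I ↔ y * a = 0 := by
      intro y
      rw [hI, Submodule.mem_annihilator_span_singleton, smul_eq_mul]
    have memJ : ∀ v : A, v ∈ J ↔ ∀ y ∈ I, v * y = 0 := by
      intro v
      rw [hJ, Submodule.mem_annihilator]
      simp only [smul_eq_mul]
    have hbI : b ∈ I := (memI b).mpr (by rw [mul_comm]; exact hab)
    have hIm : I ≤ maximalIdeal A := by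
      apply IsLocalRing.le_maximalIdeal
      intro htop
      have h1 : (1 : A) ∈ I := htop ▸ Submodule.mem_top
      rw [memI, one_mul] at h1
      exact ha h1
    have hJm : J ≤ maximalIdeal A := by
      apply IsLocalRing.le_maximalIdeal
      intro htop
      have h1 : (1 : A) ∈ J := htop ▸ Submodule.mem_top
      rw [memJ] at h1
      have h2 := h1 b hbI
      rw [one_mul] at h2
      exact hb h2
    have claim2 : ∀ n : ℕ, π ^ n ∈ I ⊔ J → False := by
      intro n
      induction n with
      | zero =>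
        intro h
        rw [pow_zero] at h
        have h1 : (1 : A) ∈ maximalIdeal A := (sup_le hIm hJm) h
        exact (Ideal.ne_top_iff_one _).mp (IsLocalRing.maximalIdeal.isMaximal A).ne_top h1
      | succ n ih =>
        intro h
        apply ih
        obtain ⟨u, hu, v, hv, huv⟩ := Submodule.mem_sup.mp h
        have hvu : v * u = 0 := (memJ v).mp hv u hu
        have hu2 : u ^ 2 = π * (π ^ n * u) := by
          have h1 : u ^ 2 = (u + v) * u - v * u := by ring
          rw [h1, huv, hvu, pow_succ]; ring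
        have hv2 : v ^ 2 = π * (π ^ n * v) := by
          have h1 : v ^ 2 = (u + v) * v - v * u := by ring
          rw [h1, huv, hvu, pow_succ]; ring
        obtain ⟨u', rfl⟩ := hred u 2 ⟨_, hu2⟩
        obtain ⟨v', rfl⟩ := hred v 2 ⟨_, hv2⟩
        have hu' : u' ∈ I := by
          rw [memI]
          apply hreg
          rw [← mul_assoc]
          exact (memI _).mp hu
        have hv' : v' ∈ J := by
          rw [memJ]
          intro y hy
          apply hreg
          rw [← mul_assoc]
          exact (memJ _).mp hv y hy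
        have h3 : π ^ n = u' + v' := by
          have h1 : π * (π ^ n - (u' + v')) = 0 := by
            have h2 : π * (π ^ n - (u' + v')) = π ^ (n + 1) - (π * u' + π * v') := by ring
            rw [h2, huv, sub_self]
          exact sub_eq_zero.mp (hreg _ h1)
        rw [h3]
        exact Submodule.add_mem_sup hu' hv'
    have claim1 : π ∈ (I ⊔ J).radical := by
      rw [Ideal.radical_eq_sInf, Submodule.mem_sInf]
      rintro 𝔮 ⟨hle, hprime⟩
      haveI := hprime
      by_contra hπ
      haveI := hloc 𝔮 hπ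
      have hIq : I ≤ 𝔮 := le_sup_left.trans hle
      have hJq : J ≤ 𝔮 := le_sup_right.trans hle
      have ha0 : algebraMap A (Localization.AtPrime 𝔮) a ≠ 0 := by
        intro h0
        obtain ⟨m, hm⟩ := (IsLocalization.map_eq_zero_iff (Ideal.primeCompl 𝔮) _ a).mp h0
        exact m.2 (hIq ((memI _).mpr hm))
      have hkill : ∀ y ∈ I, ∃ m : A, m ∉ 𝔮 ∧ m * y = 0 := by
        intro y hy
        have h1 : algebraMap A (Localization.AtPrime 𝔮) y *
            algebraMap A (Localization.AtPrime 𝔮) a = 0 := by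
          rw [← map_mul, (memI y).mp hy, map_zero]
        have h2 : algebraMap A (Localization.AtPrime 𝔮) y = 0 :=
          (mul_eq_zero.mp h1).resolve_right ha0
        obtain ⟨m, hm⟩ := (IsLocalization.map_eq_zero_iff (Ideal.primeCompl 𝔮) _ y).mp h2
        exact ⟨m, m.2, hm⟩
      obtain ⟨S, hS⟩ : I.FG := IsNoetherian.noetherian I
      obtain ⟨m, hm, hmS⟩ := exists_kill 𝔮 S (fun y hy => hkill y (hS ▸ Ideal.subset_span hy))
      have hmJ : m ∈ J := by
        rw [memJ]
        intro y hy
        rw [← hS] at hy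
        refine Submodule.span_induction (p := fun y _ => m * y = 0) ?_ ?_ ?_ ?_ hy
        · intro y hy; exact hmS y hy
        · exact mul_zero m
        · intro x y _ _ hx hy; rw [mul_add, hx, hy, add_zero]
        · intro c x _ hx; rw [smul_eq_mul, mul_left_comm, hx, mul_zero]
      exact hm (hJq hmJ)
    obtain ⟨n, hn⟩ := claim1
    exact claim2 n hn
  exact NoZeroDivisors.to_isDomain A

theorem isIntegrallyClosed_of_pi [IsDomain A] (π : A) (hπ0 : π ≠ 0)
    (hred : ∀ (a : A) (n : ℕ), π ∣ a ^ n → π ∣ a)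
    (hloc : ∀ (𝔮 : Ideal A) [𝔮.IsPrime], π ∉ 𝔮 → IsIntegrallyClosed (Localization.AtPrime 𝔮)) :
    IsIntegrallyClosed A := by
  classical
  rw [isIntegrallyClosed_iff (FractionRing A)]
  intro z hz
  have hinj : Function.Injective (algebraMap A (FractionRing A)) :=
    IsFractionRing.injective A (FractionRing A)
  let C : Ideal A :=
    { carrier := {s | ∃ a : A, algebraMap A (FractionRing A) a = algebraMap A (FractionRing A) s * z}
      add_mem' := by
        rintro s t ⟨a, ha⟩ ⟨b, hb⟩
        exact ⟨a + b, by rw [map_add, map_add, add_mul, ha, hb]⟩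
      zero_mem' := ⟨0, by rw [map_zero, zero_mul]⟩
      smul_mem' := by
        rintro c s ⟨a, ha⟩
        exact ⟨c * a, by rw [smul_eq_mul, map_mul, map_mul, mul_assoc, ha]⟩ }
  have memC : ∀ s : A, s ∈ C ↔
      ∃ a : A, algebraMap A (FractionRing A) a = algebraMap A (FractionRing A) s * z :=
    fun s => Iff.rfl
  have claim2 : ∀ n : ℕ, π ^ n ∈ C → (1 : A) ∈ C := by
    intro n
    induction n with
    | zero => intro h; rwa [pow_zero] at h
    | succ n ih =>
      intro h
      apply ih
      obtain ⟨a, ha⟩ := (memC _).mp h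
      have hwint : IsIntegral A (algebraMap A (FractionRing A) (π ^ n) * z) :=
        IsIntegral.mul isIntegral_algebraMap hz
      have hπw : algebraMap A (FractionRing A) π * (algebraMap A (FractionRing A) (π ^ n) * z) =
          algebraMap A (FractionRing A) a := by
        rw [ha, ← mul_assoc, ← map_mul, pow_succ']
      obtain ⟨p, hmonic, hp⟩ := hwint
      have hdvd : π ∣ a ^ p.natDegree :=
        Polynomial.dvd_pow_natDegree_of_eval₂_eq_zero hinj hmonic π a _ hp hπw
      obtain ⟨a', rfl⟩ := hred a _ hdvd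
      refine (memC _).mpr ⟨a', ?_⟩
      have hπK : algebraMap A (FractionRing A) π ≠ 0 := fun h0 =>
        hπ0 (hinj (by rw [h0, map_zero]))
      apply mul_left_cancel₀ hπK
      rw [← map_mul, ← hπw]
  have claim1 : π ∈ C.radical := by
    rw [Ideal.radical_eq_sInf, Submodule.mem_sInf]
    rintro 𝔮 ⟨hle, hprime⟩
    haveI := hprime
    by_contra hπ
    haveI := hloc 𝔮 hπ
    have hzL : IsIntegral (Localization.AtPrime 𝔮) z := hz.tower_top
    obtain ⟨l, hl⟩ := (isIntegrallyClosed_iff (FractionRing A)).mp (hloc 𝔮 hπ) hzL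
    obtain ⟨a, m, rfl⟩ := IsLocalization.exists_mk'_eq (Ideal.primeCompl 𝔮) l
    apply m.2
    apply hle
    refine (memC _).mpr ⟨a, ?_⟩
    rw [← hl, IsScalarTower.algebraMap_apply A (Localization.AtPrime 𝔮) (FractionRing A),
      IsScalarTower.algebraMap_apply A (Localization.AtPrime 𝔮) (FractionRing A) (m : A),
      ← map_mul, IsLocalization.mk'_spec']
  obtain ⟨n, hn⟩ := claim1
  obtain ⟨a, ha⟩ := (memC _).mp (claim2 n hn)
  exact ⟨a, by rw [ha, map_one, one_mul]⟩

end dom

/-- `A` Noetherian local, `π` a nonzerodivisor, `A/πA` reduced (given by a ring map `ψ` to a reduced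
ring with kernel `(π)`), and the localizations at the primes not containing `π` are normal domains:
then `A` is a normal domain. -/
theorem normal_of_pi {A B : Type*} [CommRing A] [CommRing B] [IsLocalRing A] [IsNoetherianRing A]
    [IsReduced B] (ψ : A →+* B) (π : A) (hreg : IsSMulRegular A π)
    (hker : RingHom.ker ψ = Ideal.span {π})
    (hloc : ∀ (𝔮 : Ideal A) [𝔮.IsPrime], π ∉ 𝔮 →
      IsDomain (Localization.AtPrime 𝔮) ∧ IsIntegrallyClosed (Localization.AtPrime 𝔮)) :
    IsDomain A ∧ IsIntegrallyClosed A := by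
  have hreg' : ∀ y : A, π * y = 0 → y = 0 := by
    intro y hy
    apply hreg
    simp only [smul_eq_mul, mul_zero]
    exact hy
  have hred : ∀ (a : A) (n : ℕ), π ∣ a ^ n → π ∣ a := by
    intro a n hdiv
    have h1 : a ^ n ∈ RingHom.ker ψ := by rw [hker]; exact Ideal.mem_span_singleton.mpr hdiv
    have h2 : IsNilpotent (ψ a) := ⟨n, by rw [← map_pow]; exact h1⟩
    have h3 : ψ a = 0 := h2.eq_zero
    have h4 : a ∈ Ideal.span {π} := by rw [← hker]; exact h3
    exact Ideal.mem_span_singleton.mp h4
  haveI hdom : IsDomain A := isDomain_of_pi π hreg' hred (fun 𝔮 _ h => (hloc 𝔮 h).1)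
  have hπ0 : π ≠ 0 := by
    intro h0
    have h1 : (1 : A) = 0 := hreg' 1 (by rw [h0, zero_mul])
    exact one_ne_zero h1
  exact ⟨hdom, isIntegrallyClosed_of_pi π hπ0 hred (fun 𝔮 _ h => (hloc 𝔮 h).2)⟩

/-- `R'` a local domain with principal maximal ideal `(ϖ)`, `ϖ ≠ 0`; `A` a Noetherian local ring,
flat over `R'`; the fibre ring `A/𝔪_{R'}A` reduced; the localizations of `A` at primes not containing
`ϖ` normal domains. Then `A` is a normal domain. -/
theorem normal_of_flat {R' A B : Type*} [CommRing R'] [IsDomain R'] [IsLocalRing R']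
    [CommRing A] [CommRing B] [IsLocalRing A] [IsNoetherianRing A] [IsReduced B]
    (ϖ : R') (hϖ : maximalIdeal R' = Ideal.span {ϖ}) (hϖ0 : ϖ ≠ 0)
    (φ : R' →+* A) (hflat : φ.Flat) (ψ : A →+* B)
    (hker : RingHom.ker ψ = (maximalIdeal R').map φ)
    (hloc : ∀ (𝔮 : Ideal A) [𝔮.IsPrime], φ ϖ ∉ 𝔮 →
      IsDomain (Localization.AtPrime 𝔮) ∧ IsIntegrallyClosed (Localization.AtPrime 𝔮)) :
    IsDomain A ∧ IsIntegrallyClosed A := by
  have hker' : RingHom.ker ψ = Ideal.span {φ ϖ} := by
    rw [hker, hϖ, Ideal.map_span, Set.image_singleton]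
  have hreg : IsSMulRegular A (φ ϖ) := by
    letI := φ.toAlgebra
    haveI : Module.Flat R' A := hflat
    have h1 : IsSMulRegular R' ϖ := (IsRegular.of_ne_zero hϖ0).left.isSMulRegular
    exact IsSMulRegular.of_flat h1
  exact normal_of_pi ψ (φ ϖ) hreg hker' hloc

end Groth.Agent.Lib.Helper76.NormPi
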