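import Mathlib
import Groth.Prelude.Def_CurvBase
import Groth.Agent.Lib.Helper76.NodeBC7
import Groth.Agent.Lib.Helper76.NodeChar2
import Groth.Agent.Lib.Helper76.NormPi
import Groth.Agent.Lib.Helper69.ReducedSmoothLocal
import Groth.Agent.Lib.Helper91.GenPrime2
import Groth.Agent.Lib.Helper35.FiberStalk

/-!
# Reducedness of at-worst-nodal curves; normality of the total space of a nodal family over a
Dedekind base with normal generic fibre
-/

set_option autoImplicit false
set_option backward.isDefEq.respectTransparency.types false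

universe u

open AlgebraicGeometry CategoryTheory CategoryTheory.Limits IsLocalRing

namespace Groth.Agent.Lib.Helper76.NormNodal

/-- the local rings of an at-worst-nodal scheme locally of finite type over a field are reduced -/
theorem isReduced_stalk_of_atWorstNodal (k : Type u) [Field k] (C : Scheme.{u})
    [C.Over (Spec (CommRingCat.of k))] [LocallyOfFiniteType (C ↘ Spec (CommRingCat.of k))]
    (hnod : Curv2.AtWorstNodal k C) (x : C) : _root_.IsReduced (C.presheaf.stalk x) := by
  haveI hJ : JacobsonSpace C := LocallyOfFiniteType.jacobsonSpace (C ↘ Spec (CommRingCat.of k))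
  haveI : IsLocallyNoetherian C :=
    LocallyOfFiniteType.isLocallyNoetherian (C ↘ Spec (CommRingCat.of k))
  have hclosed : ∀ z : C, IsClosed ({z} : Set C) → _root_.IsReduced (C.presheaf.stalk z) := by
    intro z hz
    rcases hnod z hz with ⟨U, hzU, hsm⟩ | hnode
    · haveI := hsm
      haveI : IsReduced (U : Scheme.{u}) :=
        Groth.Agent.Lib.Helper69.ReducedSmoothLocal.isReduced_of_smooth
          (U.ι ≫ (C ↘ Spec (CommRingCat.of k)))
      have h1 : _root_.IsReduced ((U : Scheme.{u}).presheaf.stalk ⟨z, hzU⟩) := inferInstance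
      have hinj : Function.Injective (U.stalkIso ⟨z, hzU⟩).inv.hom := by
        intro a b hab
        have := congrArg (U.stalkIso ⟨z, hzU⟩).hom.hom hab
        simpa using this
      exact isReduced_of_injective (U.stalkIso ⟨z, hzU⟩).inv.hom hinj
    · obtain ⟨-, a, b, c, hd, e, -⟩ :=
        (Groth.Agent.Lib.Helper76.NodeBC.isNode_iff_quadCone k C z hz).mp hnode
      exact (Groth.Agent.Lib.Helper76.NodeChar.of_completion_equiv hd e).1
  obtain ⟨z, hzx, hz⟩ : ∃ z, z ∈ closure ({x} : Set C) ∧ z ∈ closedPoints C := by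
    have hne : (closure ({x} : Set C)).Nonempty := ⟨x, subset_closure rfl⟩
    obtain ⟨z, hz1, hz2⟩ := nonempty_inter_closedPoints hne isClosed_closure.isLocallyClosed
    exact ⟨z, hz1, hz2⟩
  have hspec : x ⤳ z := specializes_iff_mem_closure.mpr hzx
  haveI := hclosed z (mem_closedPoints_iff.mp hz)
  letI := (C.presheaf.stalkSpecializes hspec).hom.toAlgebra
  haveI := Groth.Agent.Lib.Helper91.GenPrime.isLocalization_stalkSpecializes hspec
  exact isReduced_localizationPreserves
    (Groth.Agent.Lib.Helper91.GenPrime.primeOf hspec).primeCompl (C.presheaf.stalk x) inferInstance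

open Groth.Agent.Lib.Helper91.GenPrime in
/-- the local ring of `X` at a point of a fibre with reduced local ring, for `X` flat over a Dedekind
base with normal generic fibre, is a normal domain -/
theorem stalk_normal {R : Type u} [CommRing R] [IsDedekindDomain R]
    {X : Scheme.{u}} [IsLocallyNoetherian X] (f : X ⟶ Spec (CommRingCat.of R)) [Flat f]
    (hgen : ∀ x : X, (f.base x).asIdeal = ⊥ →
      IsDomain (X.presheaf.stalk x) ∧ IsIntegrallyClosed (X.presheaf.stalk x))
    (s : Spec (CommRingCat.of R))
    (x' : f.fiber s) [hred : _root_.IsReduced ((f.fiber s).presheaf.stalk x')] :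
    IsDomain (X.presheaf.stalk ((f.fiberι s).base x')) ∧
      IsIntegrallyClosed (X.presheaf.stalk ((f.fiberι s).base x')) := by
  set x := (f.fiberι s).base x' with hx
  by_cases hs : (f.base x).asIdeal = ⊥
  · exact hgen x hs
  letI alg : Algebra R ((Spec (CommRingCat.of R)).presheaf.stalk (f.base x)) :=
    StructureSheaf.stalkAlgebra R (f.base x)
  haveI hloc : IsLocalization.AtPrime ((Spec (CommRingCat.of R)).presheaf.stalk (f.base x))
      (f.base x).asIdeal := StructureSheaf.IsLocalization.to_stalk R (f.base x)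
  haveI : IsDomain ((Spec (CommRingCat.of R)).presheaf.stalk (f.base x)) :=
    IsLocalization.isDomain_of_le_nonZeroDivisors (M := (f.base x).asIdeal.primeCompl)
      ((Spec (CommRingCat.of R)).presheaf.stalk (f.base x))
      (Ideal.primeCompl_le_nonZeroDivisors _)
  haveI : IsDiscreteValuationRing ((Spec (CommRingCat.of R)).presheaf.stalk (f.base x)) :=
    IsLocalization.AtPrime.isDiscreteValuationRing_of_dedekind_domain R hs _
  obtain ⟨ϖ₁, hirr⟩ := IsDiscreteValuationRing.exists_irreducible
    ((Spec (CommRingCat.of R)).presheaf.stalk (f.base x))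
  have hϖ₁ : maximalIdeal ((Spec (CommRingCat.of R)).presheaf.stalk (f.base x)) =
      Ideal.span {ϖ₁} := hirr.maximalIdeal_eq
  obtain ⟨r₀, t, hrt⟩ := IsLocalization.exists_mk'_eq (f.base x).asIdeal.primeCompl ϖ₁
  have hassoc : Associated ϖ₁
      (algebraMap R ((Spec (CommRingCat.of R)).presheaf.stalk (f.base x)) r₀) := by
    have hunit : IsUnit (algebraMap R ((Spec (CommRingCat.of R)).presheaf.stalk (f.base x)) t) :=
      IsLocalization.map_units _ t
    refine ⟨hunit.unit, ?_⟩
    rw [IsUnit.unit_spec, ← hrt, IsLocalization.mk'_spec]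
  have hϖ : maximalIdeal ((Spec (CommRingCat.of R)).presheaf.stalk (f.base x)) =
      Ideal.span {algebraMap R ((Spec (CommRingCat.of R)).presheaf.stalk (f.base x)) r₀} := by
    rw [hϖ₁]
    exact Ideal.span_singleton_eq_span_singleton.mpr hassoc
  have hϖ0 : algebraMap R ((Spec (CommRingCat.of R)).presheaf.stalk (f.base x)) r₀ ≠ 0 :=
    hassoc.ne_zero_iff.mp hirr.ne_zero
  have hr₀ : r₀ ∈ (f.base x).asIdeal := by
    rw [← IsLocalization.AtPrime.to_map_mem_maximal_iff
      ((Spec (CommRingCat.of R)).presheaf.stalk (f.base x)) (f.base x).asIdeal r₀, hϖ]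
    exact Ideal.mem_span_singleton_self _
  refine Groth.Agent.Lib.Helper76.NormPi.normal_of_flat _ hϖ hϖ0 (f.stalkMap x).hom
    (Flat.stalkMap f x) ((f.fiberι s).stalkMap x').hom
    (Groth.Agent.Lib.Helper35.FiberStalk.ker_stalkMap_fiberι f s x') ?_
  intro 𝔮 h𝔮 hπ
  obtain ⟨ζ, hζ, hprime⟩ := exists_specializes_primeOf_eq x 𝔮
  subst hprime
  have hζ0 : (f.base ζ).asIdeal = ⊥ := by
    by_contra hne
    apply hπ
    have hle : (f.base ζ).asIdeal ≤ (f.base x).asIdeal :=
      (PrimeSpectrum.asIdeal_le_asIdeal _ _).mpr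
        ((PrimeSpectrum.le_iff_specializes _ _).mpr (f.base.hom.map_specializes hζ))
    have hmax : (f.base ζ).asIdeal.IsMaximal := (f.base ζ).isPrime.isMaximal hne
    have heq : (f.base ζ).asIdeal = (f.base x).asIdeal :=
      hmax.eq_of_le (f.base x).isPrime.ne_top hle
    unfold primeOf
    rw [Ideal.mem_comap]
    have h1 := Scheme.Hom.stalkSpecializes_stalkMap_apply f ζ x hζ
      (algebraMap R ((Spec (CommRingCat.of R)).presheaf.stalk (f.base x)) r₀)
    have h2 : (X.presheaf.stalkSpecializes hζ).hom ((f.stalkMap x).hom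
        (algebraMap R ((Spec (CommRingCat.of R)).presheaf.stalk (f.base x)) r₀)) =
        (f.stalkMap ζ).hom (((Spec (CommRingCat.of R)).presheaf.stalkSpecializes
          (f.base.hom.map_specializes hζ)).hom
          (algebraMap R ((Spec (CommRingCat.of R)).presheaf.stalk (f.base x)) r₀)) := h1.symm
    rw [h2]
    apply map_nonunit (f.stalkMap ζ).hom
    have h3 : ((Spec (CommRingCat.of R)).presheaf.stalkSpecializes
          (f.base.hom.map_specializes hζ)).hom
          (algebraMap R ((Spec (CommRingCat.of R)).presheaf.stalk (f.base x)) r₀) =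
        StructureSheaf.toStalk R (f.base ζ) r₀ :=
      StructureSheaf.toStalk_stalkSpecializes_apply (f.base.hom.map_specializes hζ) r₀
    rw [h3]
    letI alg' : Algebra R ((Spec (CommRingCat.of R)).presheaf.stalk (f.base ζ)) :=
      StructureSheaf.stalkAlgebra R (f.base ζ)
    haveI hloc' : IsLocalization.AtPrime ((Spec (CommRingCat.of R)).presheaf.stalk (f.base ζ))
        (f.base ζ).asIdeal := StructureSheaf.IsLocalization.to_stalk R (f.base ζ)
    exact (IsLocalization.AtPrime.to_map_mem_maximal_iff
      ((Spec (CommRingCat.of R)).presheaf.stalk (f.base ζ)) (f.base ζ).asIdeal r₀).mpr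
      (heq ▸ hr₀)
  obtain ⟨hdom, hic⟩ := hgen ζ hζ0
  letI algζ := (X.presheaf.stalkSpecializes hζ).hom.toAlgebra
  haveI := isLocalization_stalkSpecializes hζ
  let e : X.presheaf.stalk ζ ≃ₐ[X.presheaf.stalk x] Localization.AtPrime (primeOf hζ) :=
    IsLocalization.algEquiv (primeOf hζ).primeCompl _ _
  exact ⟨MulEquiv.isDomain (X.presheaf.stalk ζ) e.symm.toMulEquiv,
    IsIntegrallyClosed.of_equiv e.toRingEquiv⟩

theorem locallyOfFiniteType_fiberToSpecResidueField {X Y : Scheme.{u}} (f : X ⟶ Y)
    [LocallyOfFiniteType f] (y : Y) : LocallyOfFiniteType (f.fiberToSpecResidueField y) :=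
  MorphismProperty.pullback_snd _ _ inferInstance

end Groth.Agent.Lib.Helper76.NormNodal
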