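import Mathlib
import Groth.Prelude.Def_CurvBase
import Groth.Agent.Lib.Helper76.NodeEt2
import Groth.Agent.Lib.Helper76.NormNodal
import Groth.Agent.Lib.Helper21.EtaleTrdeg
import Groth.Agent.Lib.Helper21.FieldDimPts
import Groth.Agent.Lib.Helper21.MaximalPoints

/-!
# Étale morphisms onto at-worst-nodal curves (helper76)
-/

set_option autoImplicit false
set_option backward.isDefEq.respectTransparency.types false
universe u

namespace Groth.Agent.Lib.Helper76.NodeEt

open IsLocalRing CategoryTheory CategoryTheory.Limits AlgebraicGeometry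
open Groth.Agent.Lib.Helper76.NodeBC Groth.Agent.Lib.Helper21 Groth.Agent.Lib.Helper21.FieldDim

section field

variable {k : Type u} [Field k] {X Y : Scheme.{u}} (p : X ⟶ Spec (CommRingCat.of k))
  (q : Y ⟶ Spec (CommRingCat.of k)) (π : Y ⟶ X) (hπ : π ≫ p = q) [Etale π]
  [LocallyOfFiniteType p] [LocallyOfFiniteType q]

include hπ in
theorem td_eq (y : Y) : td p (π.base y) = td q y := by
  have comm : q ≫ 𝟙 _ = π ≫ p := by rw [Category.comp_id, hπ]
  have h1 := trdegAt_eq_of_etale_square p q π (𝟙 _) comm y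
  exact td_eq_of_trdegAt_eq p (h1.trans (trdegAt_eq_td q y))

include hπ in
theorem isClosed_image {y : Y} (hy : IsClosed ({y} : Set Y)) : IsClosed ({π.base y} : Set X) := by
  rw [← td_eq_zero_iff p, td_eq p q π hπ y, td_eq_zero_iff q]
  exact hy

include hπ in
theorem dim_components (hX : ∀ Z ∈ irreducibleComponents (X : Type u), topologicalKrullDim Z = 1) :
    ∀ Z ∈ irreducibleComponents (Y : Type u), topologicalKrullDim Z = 1 := by
  intro Z hZ
  have hZcl : IsClosed Z := isClosed_of_mem_irreducibleComponents Z hZ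
  have hgen : IsGenericPoint hZ.1.genericPoint Z := by
    have := hZ.1.isGenericPoint_genericPoint_closure
    rwa [hZcl.closure_eq] at this
  set η := hZ.1.genericPoint with hη
  have hmax : ∀ z, z ⤳ η → η ⤳ z := by
    apply maximal_of_closure_singleton_mem_irreducibleComponents
    rw [hgen.def]
    exact hZ
  have hmaxX : ∀ z, z ⤳ π.base η → π.base η ⤳ z := by
    intro z hz
    obtain ⟨η', hη', rfl⟩ := (Flat.generalizingMap (f := π)) hz
    exact (hmax η' hη').map π.base.hom.continuous
  have hW : closure ({π.base η} : Set X) ∈ irreducibleComponents (X : Type u) :=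
    closure_singleton_mem_irreducibleComponents_of_maximal hmaxX
  have h1 := dim_eq_td_of_isGenericPoint q hgen
  have h2 := dim_eq_td_of_isGenericPoint p (isGenericPoint_closure (x := π.base η))
  rw [h1, ← td_eq p q π hπ η, ← h2]
  exact hX _ hW

end field

section overk

variable (k : Type u) [Field k] {X Y : Scheme.{u}} [X.Over (Spec (CommRingCat.of k))]
  [Y.Over (Spec (CommRingCat.of k))] (π : Y ⟶ X)
  (hπ : π ≫ (X ↘ Spec (CommRingCat.of k)) = Y ↘ Spec (CommRingCat.of k)) [Etale π]
  [LocallyOfFiniteType (X ↘ Spec (CommRingCat.of k))]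

include hπ in
theorem atWorstNodal_of_etale (hX : Curv2.AtWorstNodal k X) : Curv2.AtWorstNodal k Y := by
  haveI : LocallyOfFiniteType (Y ↘ Spec (CommRingCat.of k)) := by
    rw [← hπ]
    infer_instance
  intro y hy
  have hx : IsClosed ({π.base y} : Set X) :=
    isClosed_image (X ↘ Spec (CommRingCat.of k)) (Y ↘ Spec (CommRingCat.of k)) π hπ hy
  rcases hX (π.base y) hx with ⟨U, hxU, hsm⟩ | hnode
  · left
    refine ⟨π ⁻¹ᵁ U, hxU, ?_⟩
    haveI := hsm
    have e : (π ⁻¹ᵁ U).ι ≫ (Y ↘ Spec (CommRingCat.of k)) =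
        (π ∣_ U) ≫ (U.ι ≫ (X ↘ Spec (CommRingCat.of k))) := by
      rw [← hπ, ← Category.assoc, ← Category.assoc, morphismRestrict_ι]
    rw [e]
    infer_instance
  · right
    rw [isNode_iff_quadCone k Y y hy]
    exact quadCone_of_etale k π hπ y ((isNode_iff_quadCone k X (π.base y) hx).mp hnode)

end overk

section fibre

variable {X Y S : Scheme.{u}} (f : X ⟶ S) (g : Y ⟶ X) (s : S)

/-- the induced morphism on fibres -/
noncomputable def fibMap : (g ≫ f).fiber s ⟶ f.fiber s :=
  (IsPullback.of_hasPullback f (S.fromSpecResidueField s)).lift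
    ((g ≫ f).fiberι s ≫ g) ((g ≫ f).fiberToSpecResidueField s)
    (by rw [Category.assoc]; exact (g ≫ f).fiber_fac s)

theorem fibMap_snd : fibMap f g s ≫ f.fiberToSpecResidueField s =
    (g ≫ f).fiberToSpecResidueField s :=
  (IsPullback.of_hasPullback f (S.fromSpecResidueField s)).lift_snd _ _ _

theorem fibMap_isPullback :
    IsPullback ((g ≫ f).fiberι s) (fibMap f g s) g (f.fiberι s) :=
  IsPullback.of_bot' (IsPullback.of_hasPullback (g ≫ f) (S.fromSpecResidueField s))
    (IsPullback.of_hasPullback f (S.fromSpecResidueField s))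

instance [Etale g] : Etale (fibMap f g s) :=
  MorphismProperty.of_isPullback (fibMap_isPullback f g s) inferInstance

end fibre

theorem isNodalFamily_comp_etale {X Y S : Scheme.{u}} (f : X ⟶ S) (hf : Curv2.IsNodalFamily f)
    (g : Y ⟶ X) [Etale g] : Curv2.IsNodalFamily (g ≫ f) := by
  obtain ⟨hflat, hlfp, hfib⟩ := hf
  haveI := hflat
  haveI := hlfp
  refine ⟨inferInstance, inferInstance, fun s => ?_⟩
  obtain ⟨hdim, hnod⟩ := hfib s
  letI instX : (f.fiber s).Over (Spec (S.residueField s)) := ⟨f.fiberToSpecResidueField s⟩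
  letI instY : ((g ≫ f).fiber s).Over (Spec (S.residueField s)) :=
    ⟨(g ≫ f).fiberToSpecResidueField s⟩
  haveI h1 : LocallyOfFiniteType (f.fiberToSpecResidueField s) :=
    Groth.Agent.Lib.Helper76.NormNodal.locallyOfFiniteType_fiberToSpecResidueField f s
  haveI h2 : LocallyOfFiniteType ((g ≫ f).fiberToSpecResidueField s) :=
    Groth.Agent.Lib.Helper76.NormNodal.locallyOfFiniteType_fiberToSpecResidueField (g ≫ f) s
  haveI : LocallyOfFiniteType ((f.fiber s) ↘ Spec (CommRingCat.of (S.residueField s))) := h1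
  refine ⟨?_, ?_⟩
  · exact dim_components (k := S.residueField s) (f.fiberToSpecResidueField s)
      ((g ≫ f).fiberToSpecResidueField s) (fibMap f g s) (fibMap_snd f g s) hdim
  · exact atWorstNodal_of_etale (S.residueField s) (fibMap f g s) (fibMap_snd f g s) hnod

end Groth.Agent.Lib.Helper76.NodeEt
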