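import Mathlib
import Groth.Prelude.Def_CurvBase
import Groth.Agent.Lib.Helper76.NodeEt3
import Groth.Agent.Lib.Helper9.AdicComplEquiv
import Groth.Agent.Lib.Helper84.LocalIsoPow

/-!
# Nodes descend along étale morphisms of schemes locally of finite type over a field (helper76)
-/

set_option autoImplicit false
set_option backward.isDefEq.respectTransparency.types false
universe u

namespace Groth.Agent.Lib.Helper76.NodeEt

open IsLocalRing CategoryTheory CategoryTheory.Limits AlgebraicGeometry
open Groth.Agent.Lib.Helper76.NodeBC Groth.Agent.Lib.Helper21 Groth.Agent.Lib.Helper21.FieldDim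

section alg3

theorem exists_sub_mem_of_isOrdDoublePt {K B : Type u} [Field K] [CommRing B] [IsLocalRing B]
    [Algebra K B] (h : Curv2.IsOrdDoublePt K B) (y : B) :
    ∃ c : K, y - algebraMap K B c ∈ maximalIdeal B := by
  obtain ⟨e, he⟩ := h
  let ε : (MvPowerSeries (Fin 2) K ⧸ Ideal.span
      {(MvPowerSeries.X 0 * MvPowerSeries.X 1 : MvPowerSeries (Fin 2) K)}) →+* K :=
    Ideal.Quotient.lift _ (MvPowerSeries.constantCoeff (σ := Fin 2) (R := K)) (by
      intro a ha
      obtain ⟨w, rfl⟩ := Ideal.mem_span_singleton.mp ha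
      simp)
  refine ⟨ε (e (algebraMap B (AdicCompletion (maximalIdeal B) B) y)), ?_⟩
  by_contra hcon
  have hu : IsUnit (y - algebraMap K B
      (ε (e (algebraMap B (AdicCompletion (maximalIdeal B) B) y)))) := by
    by_contra hnu
    exact hcon ((IsLocalRing.mem_maximalIdeal _).mpr hnu)
  have hu2 := ((hu.map (algebraMap B (AdicCompletion (maximalIdeal B) B))).map e).map ε
  have h0 : ε (e (algebraMap B (AdicCompletion (maximalIdeal B) B) (y - algebraMap K B
      (ε (e (algebraMap B (AdicCompletion (maximalIdeal B) B) y)))))) = 0 := by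
    rw [map_sub, map_sub, map_sub, he, Ideal.Quotient.lift_mk, MvPowerSeries.constantCoeff_C,
      sub_self]
  rw [h0] at hu2
  exact not_isUnit_zero hu2

theorem isOrdDoublePt_descend {K A B : Type u} [Field K] [CommRing A] [CommRing B]
    [IsLocalRing A] [IsLocalRing B] [Algebra K A] [Algebra K B] [Algebra A B]
    [IsScalarTower K A B] [IsLocalHom (algebraMap A B)] [Module.Flat A B]
    (hm : (maximalIdeal A).map (algebraMap A B) = maximalIdeal B)
    (h : Curv2.IsOrdDoublePt K B) : Curv2.IsOrdDoublePt K A := by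
  have hres : ∀ y : B, ∃ x : A, y - algebraMap A B x ∈ maximalIdeal B := by
    intro y
    obtain ⟨c, hc⟩ := exists_sub_mem_of_isOrdDoublePt h y
    exact ⟨algebraMap K A c, by rwa [← IsScalarTower.algebraMap_apply K A B]⟩
  obtain ⟨eB, heB⟩ := h
  have core := fun n => Groth.Agent.Lib.Helper84.LocalIsoPow.local_core hm hres n
  let Φ : A →ₐ[K] B := IsScalarTower.toAlgHom K A B
  have hΦ : maximalIdeal A ≤ (maximalIdeal B).comap Φ := fun a ha => by
    have := Ideal.map_le_iff_le_comap.mp hm.le ha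
    exact this
  have hinj : ∀ n a, Φ a ∈ maximalIdeal B ^ n → a ∈ maximalIdeal A ^ n := by
    intro n a ha
    have h1 : a ∈ Ideal.comap (algebraMap A B) (maximalIdeal B ^ n) := ha
    rwa [(core n).2] at h1
  have hsurj : ∀ n b, ∃ a, b - Φ a ∈ maximalIdeal B ^ n := by
    intro n b
    obtain ⟨a, ha⟩ := (core n).1 (Ideal.Quotient.mk _ b)
    refine ⟨a, ?_⟩
    rw [RingHom.comp_apply] at ha
    have h1 := Ideal.Quotient.eq.mp ha
    rw [← neg_sub]
    exact neg_mem h1
  obtain ⟨ê⟩ := Groth.Agent.Lib.Helper9.AdicComplEquiv.exists_algEquiv (R := K)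
    (maximalIdeal A) (maximalIdeal B) Φ hΦ hinj hsurj
  refine ⟨ê.toRingEquiv.trans eB, fun c => ?_⟩
  have h1 : algebraMap A (AdicCompletion (maximalIdeal A) A) (algebraMap K A c) =
      algebraMap K (AdicCompletion (maximalIdeal A) A) c := rfl
  have h2 : algebraMap K (AdicCompletion (maximalIdeal B) B) c =
      algebraMap B (AdicCompletion (maximalIdeal B) B) (algebraMap K B c) := rfl
  rw [h1]
  show eB (ê (algebraMap K _ c)) = _
  rw [ê.commutes, h2]
  exact heB c

end alg3

section sch3

theorem isOrdDoublePt_of_etale (K : Type u) [Field K] {X Y : Scheme.{u}}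
    [X.Over (Spec (CommRingCat.of K))] [Y.Over (Spec (CommRingCat.of K))] (π : Y ⟶ X)
    (hπ : π ≫ (X ↘ Spec (CommRingCat.of K)) = Y ↘ Spec (CommRingCat.of K)) [Etale π] (y : Y)
    (h : @Curv2.IsOrdDoublePt K _ (Y.presheaf.stalk y) _ (Curv2.stalkAlgebra K Y y) _) :
    @Curv2.IsOrdDoublePt K _ (X.presheaf.stalk (π y)) _ (Curv2.stalkAlgebra K X (π y)) _ := by
  letI algA := Curv2.stalkAlgebra K X (π y)
  letI algB := Curv2.stalkAlgebra K Y y
  algebraize [(π.stalkMap y).hom]
  have hloc : IsLocalHom (algebraMap (X.presheaf.stalk (π y)) (Y.presheaf.stalk y)) :=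
    inferInstanceAs <| IsLocalHom (π.stalkMap y).hom
  have hflat : Module.Flat (X.presheaf.stalk (π y)) (Y.presheaf.stalk y) := by
    rw [← RingHom.flat_algebraMap_iff, RingHom.algebraMap_toAlgebra]
    exact Flat.stalkMap π y
  have hess : Algebra.EssFiniteType (X.presheaf.stalk (π y)) (Y.presheaf.stalk y) := by
    rw [← RingHom.essFiniteType_algebraMap, RingHom.algebraMap_toAlgebra]
    exact LocallyOfFiniteType.stalkMap π y
  have hunr : Algebra.FormallyUnramified (X.presheaf.stalk (π y)) (Y.presheaf.stalk y) := by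
    rw [← RingHom.formallyUnramified_algebraMap, RingHom.algebraMap_toAlgebra]
    exact FormallyUnramified.stalkMap π y
  haveI tower : IsScalarTower K (X.presheaf.stalk (π y)) (Y.presheaf.stalk y) :=
    IsScalarTower.of_algebraMap_eq' (stalkMap_comp K π hπ y).symm
  have hm := Algebra.FormallyUnramified.map_maximalIdeal (R := X.presheaf.stalk (π y))
    (S := Y.presheaf.stalk y)
  exact isOrdDoublePt_descend hm h

variable (k : Type u) [Field k] {X Y : Scheme.{u}} [X.Over (Spec (CommRingCat.of k))]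
  [Y.Over (Spec (CommRingCat.of k))] (π : Y ⟶ X)
  (hπ : π ≫ (X ↘ Spec (CommRingCat.of k)) = Y ↘ Spec (CommRingCat.of k))
  (K : Type u) [Field K] [Algebra k K]

/-- the base change of a `k`-morphism to an extension field -/
noncomputable def bcMap : Curv2.bc k Y K ⟶ Curv2.bc k X K :=
  pullback.lift (Curv2.bcFst k Y K ≫ π) (Curv2.bcSnd k Y K)
    (by rw [Category.assoc, hπ]; exact pullback.condition)

theorem bcMap_fst : bcMap k π hπ K ≫ Curv2.bcFst k X K = Curv2.bcFst k Y K ≫ π :=
  pullback.lift_fst _ _ _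

theorem bcMap_snd : bcMap k π hπ K ≫ Curv2.bcSnd k X K = Curv2.bcSnd k Y K :=
  pullback.lift_snd _ _ _

theorem bcMap_isPullback :
    IsPullback (Curv2.bcFst k Y K) (bcMap k π hπ K) π (Curv2.bcFst k X K) := by
  refine IsPullback.of_bot ?_ (bcMap_fst k π hπ K).symm (IsPullback.of_hasPullback _ _)
  rw [bcMap_snd, hπ]
  exact IsPullback.of_hasPullback _ _

instance [Etale π] : Etale (bcMap k π hπ K) :=
  MorphismProperty.of_isPullback (bcMap_isPullback k π hπ K) inferInstance

variable [Etale π] [LocallyOfFiniteType (X ↘ Spec (CommRingCat.of k))]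

include hπ in
theorem isNode_of_etale (y : Y) (h : Curv2.IsNode k X (π y)) : Curv2.IsNode k Y y := by
  haveI : LocallyOfFiniteType (Y ↘ Spec (CommRingCat.of k)) := by
    rw [← hπ]
    infer_instance
  have hx := h.1
  have hy : IsClosed ({y} : Set Y) := by
    rw [← td_eq_zero_iff (Y ↘ Spec (CommRingCat.of k)),
      ← td_eq (X ↘ Spec (CommRingCat.of k)) (Y ↘ Spec (CommRingCat.of k)) π hπ y,
      td_eq_zero_iff (X ↘ Spec (CommRingCat.of k))]
    exact hx
  rw [isNode_iff_quadCone k Y y hy]
  exact quadCone_of_etale k π hπ y ((isNode_iff_quadCone k X (π y) hx).mp h)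

include hπ in
theorem isNode_image_of_etale (y : Y) (h : Curv2.IsNode k Y y) : Curv2.IsNode k X (π y) := by
  haveI : LocallyOfFiniteType (Y ↘ Spec (CommRingCat.of k)) := by
    rw [← hπ]
    infer_instance
  obtain ⟨hy, yb, hyb, hodp⟩ := h
  have hx : IsClosed ({π y} : Set X) :=
    isClosed_image (X ↘ Spec (CommRingCat.of k)) (Y ↘ Spec (CommRingCat.of k)) π hπ hy
  refine ⟨hx, bcMap k π hπ (AlgebraicClosure k) yb, ?_, ?_⟩
  · rw [← hyb, ← Scheme.Hom.comp_apply, bcMap_fst, Scheme.Hom.comp_apply]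
  · letI : (Curv2.bc k X (AlgebraicClosure k)).Over (Spec (CommRingCat.of (AlgebraicClosure k))) :=
      ⟨Curv2.bcSnd k X (AlgebraicClosure k)⟩
    letI : (Curv2.bc k Y (AlgebraicClosure k)).Over (Spec (CommRingCat.of (AlgebraicClosure k))) :=
      ⟨Curv2.bcSnd k Y (AlgebraicClosure k)⟩
    exact isOrdDoublePt_of_etale (AlgebraicClosure k) (bcMap k π hπ (AlgebraicClosure k))
      (bcMap_snd k π hπ (AlgebraicClosure k)) yb hodp

end sch3

end Groth.Agent.Lib.Helper76.NodeEt
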