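import Mathlib
import Groth.Prelude.Def_CurvBase
import Groth.Agent.Lib.Helper76.NodeEt5
import Groth.Agent.Lib.Helper40.FlatDescentSrc
import Groth.Agent.S2805
import Groth.Agent.S0114

/-!
# Nodal families: descent along étale covers of the source (helper76)
-/

set_option autoImplicit false
set_option backward.isDefEq.respectTransparency.types false
universe u

namespace Groth.Agent.Lib.Helper76.NodeEt

open IsLocalRing CategoryTheory CategoryTheory.Limits AlgebraicGeometry
open Groth.Agent.Lib.Helper76.NodeBC Groth.Agent.Lib.Helper21 Groth.Agent.Lib.Helper21.FieldDim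

theorem exists_of_isPullback {P X Y Z : Scheme.{u}} {fst : P ⟶ X} {snd : P ⟶ Y} {f : X ⟶ Z}
    {g : Y ⟶ Z} (h : IsPullback fst snd f g) (x : X) (y : Y) (hxy : f x = g y) :
    ∃ p : P, fst p = x ∧ snd p = y := by
  obtain ⟨p0, h1, h2⟩ := Scheme.Pullback.exists_preimage_pullback x y hxy
  refine ⟨h.isoPullback.inv p0, ?_, ?_⟩
  · rw [← Scheme.Hom.comp_apply, IsPullback.isoPullback_inv_fst]
    exact h1
  · rw [← Scheme.Hom.comp_apply, IsPullback.isoPullback_inv_snd]
    exact h2

section cover

variable {X S : Scheme.{u}} (f : X ⟶ S) (ι : Type u) (U : ι → Scheme.{u}) (g : ∀ i, U i ⟶ X)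
  [∀ i, Etale (g i)] (hsurj : ∀ x : X, ∃ i, x ∈ Set.range (g i).base)

include hsurj in
theorem exists_fibMap_eq (s : S) (z : f.fiber s) :
    ∃ (i : ι) (w : (g i ≫ f).fiber s), fibMap f (g i) s w = z := by
  obtain ⟨i, u, hu⟩ := hsurj (f.fiberι s z)
  obtain ⟨w, -, hw⟩ := exists_of_isPullback (fibMap_isPullback f (g i) s) u z hu
  exact ⟨i, w, hw⟩

include hsurj in
theorem flat_lfp_of_etale_cover (hfl : ∀ i, Flat (g i ≫ f))
    (hlfp : ∀ i, LocallyOfFinitePresentation (g i ≫ f)) :
    Flat f ∧ LocallyOfFinitePresentation f := by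
  haveI : Etale (Sigma.desc g) :=
    IsZariskiLocalAtSource.sigmaDesc (P := @Etale) (fun i => inferInstance)
  haveI : Surjective (Sigma.desc g) := ⟨fun x => by
    obtain ⟨i, u, hu⟩ := hsurj x
    refine ⟨Sigma.ι U i u, ?_⟩
    rw [← Scheme.Hom.comp_apply, Sigma.ι_desc]
    exact hu⟩
  have hG : Sigma.desc g ≫ f = Sigma.desc (fun i => g i ≫ f) := by
    apply Sigma.hom_ext
    intro i
    rw [← Category.assoc, Sigma.ι_desc, Sigma.ι_desc]
  haveI : LocallyOfFinitePresentation (Sigma.desc g ≫ f) := by
    rw [hG]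
    exact IsZariskiLocalAtSource.sigmaDesc hlfp
  haveI : Flat (Sigma.desc g ≫ f) := by
    rw [hG]
    exact IsZariskiLocalAtSource.sigmaDesc hfl
  exact ⟨Groth.Agent.Lib.Helper40.FlatDescentSrc.flat_of_comp_of_flat_surjective (Sigma.desc g) f,
    Groth.Agent.S0114.result (Sigma.desc g) f⟩

include hsurj in
theorem isNodalFamily_of_etale_cover (h : ∀ i, Curv2.IsNodalFamily (g i ≫ f)) :
    Curv2.IsNodalFamily f := by
  obtain ⟨hflat, hlfp⟩ := flat_lfp_of_etale_cover f ι U g hsurj (fun i => (h i).1)
    (fun i => (h i).2.1)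
  haveI := hflat
  haveI := hlfp
  refine ⟨hflat, hlfp, fun s => ?_⟩
  letI instX : (f.fiber s).Over (Spec (S.residueField s)) := ⟨f.fiberToSpecResidueField s⟩
  haveI h1 : LocallyOfFiniteType (f.fiberToSpecResidueField s) :=
    Groth.Agent.Lib.Helper76.NormNodal.locallyOfFiniteType_fiberToSpecResidueField f s
  haveI : LocallyOfFiniteType ((f.fiber s) ↘ Spec (CommRingCat.of (S.residueField s))) := h1
  haveI hp : LocallyOfFinitePresentation (f.fiberToSpecResidueField s) :=
    MorphismProperty.pullback_snd _ _ inferInstance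
  refine ⟨?_, ?_⟩
  · intro Z hZ
    have hZcl : IsClosed Z := isClosed_of_mem_irreducibleComponents Z hZ
    have hgen : IsGenericPoint hZ.1.genericPoint Z := by
      have := hZ.1.isGenericPoint_genericPoint_closure
      rwa [hZcl.closure_eq] at this
    have hmax : ∀ z, z ⤳ hZ.1.genericPoint → hZ.1.genericPoint ⤳ z := by
      apply maximal_of_closure_singleton_mem_irreducibleComponents
      rw [hgen.def]
      exact hZ
    obtain ⟨i, w0, hw0⟩ := exists_fibMap_eq f ι U g hsurj s hZ.1.genericPoint
    haveI := (h i).1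
    haveI := (h i).2.1
    haveI h2 : LocallyOfFiniteType ((g i ≫ f).fiberToSpecResidueField s) :=
      Groth.Agent.Lib.Helper76.NormNodal.locallyOfFiniteType_fiberToSpecResidueField (g i ≫ f) s
    obtain ⟨w, hwmax, hw⟩ := exists_maximal_specializes w0
    have e1 : fibMap f (g i) s w = hZ.1.genericPoint := by
      have h3 : fibMap f (g i) s w ⤳ hZ.1.genericPoint := by
        rw [← hw0]
        exact hw.map (fibMap f (g i) s).continuous
      exact (h3.antisymm (hmax _ h3)).eq
    have hW := closure_singleton_mem_irreducibleComponents_of_maximal hwmax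
    have d1 := ((h i).2.2 s).1 _ hW
    have d2 := dim_eq_td_of_isGenericPoint (k := S.residueField s)
      ((g i ≫ f).fiberToSpecResidueField s) (isGenericPoint_closure (x := w))
    have d3 := dim_eq_td_of_isGenericPoint (k := S.residueField s)
      (f.fiberToSpecResidueField s) hgen
    have d4 := td_eq (k := S.residueField s) (f.fiberToSpecResidueField s)
      ((g i ≫ f).fiberToSpecResidueField s) (fibMap f (g i) s) (fibMap_snd f (g i) s) w
    have key : td (k := S.residueField s) (f.fiberToSpecResidueField s) hZ.1.genericPoint =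
        td (k := S.residueField s) ((g i ≫ f).fiberToSpecResidueField s) w := by
      rw [← e1]
      exact d4
    rw [d3, key, ← d2]
    exact d1
  · intro z hz
    obtain ⟨i, w0, rfl⟩ := exists_fibMap_eq f ι U g hsurj s z
    haveI := (h i).1
    haveI := (h i).2.1
    letI instY : ((g i ≫ f).fiber s).Over (Spec (S.residueField s)) :=
      ⟨(g i ≫ f).fiberToSpecResidueField s⟩
    haveI h2 : LocallyOfFiniteType ((g i ≫ f).fiberToSpecResidueField s) :=
      Groth.Agent.Lib.Helper76.NormNodal.locallyOfFiniteType_fiberToSpecResidueField (g i ≫ f) s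
    haveI hq : LocallyOfFinitePresentation ((g i ≫ f).fiberToSpecResidueField s) :=
      MorphismProperty.pullback_snd _ _ inferInstance
    have hw0 : IsClosed ({w0} : Set ((g i ≫ f).fiber s)) := by
      rw [← td_eq_zero_iff (k := S.residueField s) ((g i ≫ f).fiberToSpecResidueField s),
        ← td_eq (k := S.residueField s) (f.fiberToSpecResidueField s)
          ((g i ≫ f).fiberToSpecResidueField s) (fibMap f (g i) s) (fibMap_snd f (g i) s) w0,
        td_eq_zero_iff (k := S.residueField s) (f.fiberToSpecResidueField s)]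
      exact hz
    rcases ((h i).2.2 s).2 w0 hw0 with ⟨U', hU', hsm⟩ | hnode
    · left
      exact Groth.Agent.S2805.result (f.fiberToSpecResidueField s)
        ((g i ≫ f).fiberToSpecResidueField s) (fibMap f (g i) s) (fibMap_snd f (g i) s) w0
        (Flat.stalkMap _ w0) ⟨U', hU', hsm⟩
    · right
      exact isNode_image_of_etale (S.residueField s) (fibMap f (g i) s) (fibMap_snd f (g i) s)
        w0 hnode

end cover

end Groth.Agent.Lib.Helper76.NodeEt
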