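import Mathlib
import Groth.Prelude.Def_CurvBase
import Groth.Agent.Lib.Helper76.NodeEt6
import Groth.Agent.S2757
import Groth.Agent.Lib.Helper21.FieldDimBC

/-!
# Nodal families: descent along fpqc base change (helper76)
-/

set_option autoImplicit false
set_option backward.isDefEq.respectTransparency.types false
universe u

namespace Groth.Agent.Lib.Helper76.NodeEt

open IsLocalRing CategoryTheory CategoryTheory.Limits AlgebraicGeometry
open Groth.Agent.Lib.Helper76.NodeBC Groth.Agent.Lib.Helper21 Groth.Agent.Lib.Helper21.FieldDim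

section gen

variable (k : Type u) [Field k] (X : Scheme.{u}) [X.Over (Spec (CommRingCat.of k))]
  (K : Type u) [Field K] [Algebra k K] [IsAlgClosed K]

theorem quadCone_of_isOrdDoublePt_gen [LocallyOfFiniteType (X ↘ Spec (CommRingCat.of k))]
    (xb : Curv2.bc k X K)
    (hx : IsClosed ({Curv2.bcFst k X K xb} : Set X))
    (hodp : @Curv2.IsOrdDoublePt K _ ((Curv2.bc k X K).presheaf.stalk xb) _
      (@Curv2.stalkAlgebra K _ (Curv2.bc k X K) ⟨Curv2.bcSnd k X K⟩ xb) _) :
    QuadCone k X (Curv2.bcFst k X K xb) := by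
  letI instOver : (Curv2.bc k X K).Over (Spec (CommRingCat.of K)) := ⟨Curv2.bcSnd k X K⟩
  letI algA := Curv2.stalkAlgebra k X (Curv2.bcFst k X K xb)
  letI algB := Curv2.stalkAlgebra K (Curv2.bc k X K) xb
  haveI hess : Algebra.EssFiniteType k (X.presheaf.stalk (Curv2.bcFst k X K xb)) :=
    stalkMap_essFiniteType k X _
  haveI hint : Algebra.IsIntegral k (ResidueField (X.presheaf.stalk (Curv2.bcFst k X K xb))) :=
    ⟨fun z => resMap_isIntegral k X _ hx z⟩
  obtain ⟨P', hP'prime, hP', ⟨f⟩⟩ := bridge k X K xb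
  haveI := hP'prime
  have hL : Curv2.IsOrdDoublePt K (Localization.AtPrime P') :=
    isOrdDoublePt_of_algEquiv f.symm hodp
  exact alg_forward P' hP' hL

end gen

section fieldbc

variable {k K : Type u} [Field k] [Field K] {Y : Scheme.{u}} (p : Y ⟶ Spec (CommRingCat.of k))
  (ρ : CommRingCat.of k ⟶ CommRingCat.of K) [LocallyOfFinitePresentation p]

theorem dim_components_of_bc
    (h : ∀ Z ∈ irreducibleComponents (↥(pullback p (Spec.map ρ)) : Type u),
      topologicalKrullDim Z = 1) :
    ∀ Z ∈ irreducibleComponents (Y : Type u), topologicalKrullDim Z = 1 := by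
  intro Z hZ
  have h1 : topologicalKrullDim Z ∈
      (fun Z : Set Y => topologicalKrullDim ↥Z) '' irreducibleComponents Y := ⟨Z, hZ, rfl⟩
  rw [← image_dim_irreducibleComponents_bc p (Spec.map ρ)] at h1
  obtain ⟨W, hW, hWd⟩ := h1
  have hWd' : topologicalKrullDim ↥W = topologicalKrullDim ↥Z := hWd
  rw [← hWd']
  exact h W hW

theorem atWorstNodal_of_bc
    (h : letI : (pullback p (Spec.map ρ)).Over (Spec (CommRingCat.of K)) :=
        ⟨pullback.snd p (Spec.map ρ)⟩
      Curv2.AtWorstNodal K (pullback p (Spec.map ρ))) :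
    letI : Y.Over (Spec (CommRingCat.of k)) := ⟨p⟩
    Curv2.AtWorstNodal k Y := by
  letI instY : Y.Over (Spec (CommRingCat.of k)) := ⟨p⟩
  letI instYK : (pullback p (Spec.map ρ)).Over (Spec (CommRingCat.of K)) :=
    ⟨pullback.snd p (Spec.map ρ)⟩
  haveI hpft : LocallyOfFiniteType p := inferInstance
  haveI : LocallyOfFiniteType (Y ↘ Spec (CommRingCat.of k)) := hpft
  haveI hpK : LocallyOfFinitePresentation (pullback.snd p (Spec.map ρ)) := inferInstance
  haveI hpKft : LocallyOfFiniteType (pullback.snd p (Spec.map ρ)) := inferInstance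
  haveI hsub : Subsingleton ↥(Spec (CommRingCat.of k)) :=
    inferInstanceAs (Subsingleton (PrimeSpectrum k))
  haveI hflatρ : Flat (Spec.map ρ) := inferInstance
  haveI hsurjρ : Surjective (Spec.map ρ) :=
    ⟨fun a => ⟨(⟨⊥, Ideal.bot_prime⟩ : PrimeSpectrum K), Subsingleton.elim _ _⟩⟩
  intro y hy
  obtain ⟨y0, hy0⟩ := (pullback.fst p (Spec.map ρ)).surjective y
  obtain ⟨y', hsp, hy'⟩ := exists_isClosed_specializes (pullback.snd p (Spec.map ρ)) y0
  have hy'y : (pullback.fst p (Spec.map ρ)).base y' = y := by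
    have h1 : (pullback.fst p (Spec.map ρ)).base y0 ⤳ (pullback.fst p (Spec.map ρ)).base y' :=
      hsp.map (pullback.fst p (Spec.map ρ)).continuous
    have h2 : (pullback.fst p (Spec.map ρ)).base y' ∈
        closure ({(pullback.fst p (Spec.map ρ)).base y0} : Set Y) :=
      specializes_iff_mem_closure.mp h1
    have hy0' : (pullback.fst p (Spec.map ρ)).base y0 = y := hy0
    rw [hy0', hy.closure_eq] at h2
    exact h2
  rcases h y' hy' with ⟨U', hy'U', hsm⟩ | hnode
  · left
    obtain ⟨U, hU, hUsm⟩ := Groth.Agent.S2757.result p (Spec.map ρ) y'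
      (Flat.stalkMap (Spec.map ρ) _) ⟨U', hy'U', hsm⟩
    refine ⟨U, ?_, hUsm⟩
    rw [← hy'y]
    exact hU
  · right
    obtain ⟨-, yb, hyb, hodp⟩ := hnode
    letI algkK : Algebra k K := ρ.hom.toAlgebra
    have e0 : ρ ≫ CommRingCat.ofHom (algebraMap K (AlgebraicClosure K)) =
        CommRingCat.ofHom (algebraMap k (AlgebraicClosure K)) := by
      ext t
      exact (IsScalarTower.algebraMap_apply k K (AlgebraicClosure K) t).symm
    have hC : IsPullback
        (Curv2.bcFst K (pullback p (Spec.map ρ)) (AlgebraicClosure K) ≫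
          pullback.fst p (Spec.map ρ))
        (Curv2.bcSnd K (pullback p (Spec.map ρ)) (AlgebraicClosure K)) p
        (Spec.map (CommRingCat.ofHom (algebraMap k (AlgebraicClosure K)))) := by
      have h1 := (IsPullback.of_hasPullback
        ((pullback p (Spec.map ρ)) ↘ Spec (CommRingCat.of K))
        (Spec.map (CommRingCat.ofHom (algebraMap K (AlgebraicClosure K))))).paste_horiz
          (IsPullback.of_hasPullback p (Spec.map ρ))
      rw [← Spec.map_comp, e0] at h1
      exact h1
    have hD := IsPullback.of_hasPullback (Y ↘ Spec (CommRingCat.of k))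
      (Spec.map (CommRingCat.ofHom (algebraMap k (AlgebraicClosure K))))
    have hφ1 : (hC.isoIsPullback _ _ hD).hom ≫ Curv2.bcFst k Y (AlgebraicClosure K) =
        Curv2.bcFst K (pullback p (Spec.map ρ)) (AlgebraicClosure K) ≫
          pullback.fst p (Spec.map ρ) := IsPullback.isoIsPullback_hom_fst _ _ hC hD
    have hφ2 : (hC.isoIsPullback _ _ hD).hom ≫ Curv2.bcSnd k Y (AlgebraicClosure K) =
        Curv2.bcSnd K (pullback p (Spec.map ρ)) (AlgebraicClosure K) :=
      IsPullback.isoIsPullback_hom_snd _ _ hC hD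
    letI instA : (Curv2.bc K (pullback p (Spec.map ρ)) (AlgebraicClosure K)).Over
        (Spec (CommRingCat.of (AlgebraicClosure K))) :=
      ⟨Curv2.bcSnd K (pullback p (Spec.map ρ)) (AlgebraicClosure K)⟩
    letI instB : (Curv2.bc k Y (AlgebraicClosure K)).Over
        (Spec (CommRingCat.of (AlgebraicClosure K))) :=
      ⟨Curv2.bcSnd k Y (AlgebraicClosure K)⟩
    have hodp' := isOrdDoublePt_of_etale (AlgebraicClosure K) (hC.isoIsPullback _ _ hD).hom hφ2
      yb hodp
    have hfst : (Curv2.bcFst k Y (AlgebraicClosure K)).base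
        ((hC.isoIsPullback _ _ hD).hom.base yb) = y := by
      rw [← Scheme.Hom.comp_apply, hφ1, Scheme.Hom.comp_apply, hyb]
      exact hy'y
    have hq := quadCone_of_isOrdDoublePt_gen k Y (AlgebraicClosure K)
      ((hC.isoIsPullback _ _ hD).hom.base yb) (by rw [hfst]; exact hy) hodp'
    rw [hfst] at hq
    exact (isNode_iff_quadCone k Y y hy).mpr hq

end fieldbc

section fpqc

theorem isNodalFamily_of_fpqc_baseChange {X S S' : Scheme.{u}} (f : X ⟶ S) (g : S' ⟶ S)
    [Flat g] [QuasiCompact g] [Surjective g]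
    (h : Curv2.IsNodalFamily (pullback.snd f g)) : Curv2.IsNodalFamily f := by
  obtain ⟨hflat', hlfp', hfib'⟩ := h
  haveI := hflat'
  haveI := hlfp'
  have hQ : (@Surjective ⊓ @Flat ⊓ @QuasiCompact : MorphismProperty Scheme.{u}) g :=
    ⟨⟨inferInstance, inferInstance⟩, inferInstance⟩
  haveI hlfp : LocallyOfFinitePresentation f :=
    MorphismProperty.of_pullback_snd_of_descendsAlong (P := @LocallyOfFinitePresentation)
      (Q := @Surjective ⊓ @Flat ⊓ @QuasiCompact) hQ hlfp'
  haveI hflat : Flat f := by
    haveI : Flat (pullback.fst f g ≫ f) := by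
      rw [pullback.condition]
      infer_instance
    exact Groth.Agent.Lib.Helper40.FlatDescentSrc.flat_of_comp_of_flat_surjective
      (pullback.fst f g) f
  refine ⟨hflat, hlfp, fun s => ?_⟩
  obtain ⟨s', rfl⟩ := g.surjective s
  obtain ⟨hdim', hnod'⟩ := hfib' s'
  have hpb := isPullback_fiberToSpecResidueField_of_isPullback (IsPullback.of_hasPullback f g) s'
  haveI hp : LocallyOfFinitePresentation (f.fiberToSpecResidueField (g s')) :=
    MorphismProperty.pullback_snd _ _ inferInstance
  haveI hp' : LocallyOfFiniteType ((pullback.snd f g).fiberToSpecResidueField s') :=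
    Groth.Agent.Lib.Helper76.NormNodal.locallyOfFiniteType_fiberToSpecResidueField _ s'
  letI instY' : ((pullback.snd f g).fiber s').Over (Spec (S'.residueField s')) :=
    ⟨(pullback.snd f g).fiberToSpecResidueField s'⟩
  haveI : LocallyOfFiniteType (((pullback.snd f g).fiber s') ↘
      Spec (CommRingCat.of (S'.residueField s'))) := hp'
  letI instPB : (pullback (f.fiberToSpecResidueField (g s'))
      (Spec.map (g.residueFieldMap s'))).Over (Spec (CommRingCat.of (S'.residueField s'))) :=
    ⟨pullback.snd (f.fiberToSpecResidueField (g s')) (Spec.map (g.residueFieldMap s'))⟩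
  haveI : LocallyOfFiniteType (pullback.snd (f.fiberToSpecResidueField (g s'))
      (Spec.map (g.residueFieldMap s'))) := inferInstance
  let φinv : pullback (f.fiberToSpecResidueField (g s')) (Spec.map (g.residueFieldMap s')) ⟶
      (pullback.snd f g).fiber s' := hpb.isoPullback.inv
  haveI hφet : Etale φinv := inferInstanceAs (Etale hpb.isoPullback.inv)
  have hπ : φinv ≫ (pullback.snd f g).fiberToSpecResidueField s' =
      pullback.snd (f.fiberToSpecResidueField (g s')) (Spec.map (g.residueFieldMap s')) :=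
    hpb.isoPullback_inv_snd
  have hdimPB := dim_components (k := S'.residueField s')
    ((pullback.snd f g).fiberToSpecResidueField s')
    (pullback.snd (f.fiberToSpecResidueField (g s')) (Spec.map (g.residueFieldMap s')))
    φinv hπ hdim'
  have hnodPB := atWorstNodal_of_etale (S'.residueField s') φinv hπ hnod'
  exact ⟨dim_components_of_bc (k := S.residueField (g s')) (K := S'.residueField s')
      (f.fiberToSpecResidueField (g s')) (g.residueFieldMap s') hdimPB,
    atWorstNodal_of_bc (k := S.residueField (g s')) (K := S'.residueField s')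
      (f.fiberToSpecResidueField (g s')) (g.residueFieldMap s') hnodPB⟩

end fpqc

end Groth.Agent.Lib.Helper76.NodeEt
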