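import Mathlib
import Groth.Prelude.Def_CurvBase
import Groth.Agent.Lib.Helper76.NodeEt7
import Groth.Agent.Lib.Helper91.GenPrime

/-!
# Nodal curves: non-closed points are smooth points (helper76)

* `specializes_of_not_isClosed` : in a space whose irreducible components have dimension `≤ 1`
  a non-closed point has no proper generization;
* `isReduced_of_isOrdDoublePt` : the local ring of an ordinary double point is reduced;
* `mem_smoothLocus_of_isField` : over a perfect field, a point whose local ring is a field lies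
  in the smooth locus;
* `smooth_bc` : smooth neighbourhoods pull back along base change;
* `exists_smooth_nhd_of_not_isClosed` : on an at-worst-nodal curve every non-closed point has a
  smooth neighbourhood.
-/

set_option autoImplicit false
set_option backward.isDefEq.respectTransparency.types false
universe u

namespace Groth.Agent.Lib.Helper76.NodeEt

open IsLocalRing CategoryTheory CategoryTheory.Limits AlgebraicGeometry
open Groth.Agent.Lib.Helper76.NodeChar Groth.Agent.Lib.Helper76.NodeBC
open Groth.Agent.Lib.Helper21 Groth.Agent.Lib.Helper21.FieldDim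

section top

/-- in a T0 space all of whose irreducible components have dimension `≤ 1`, a non-closed point
has no proper generization -/
theorem specializes_of_not_isClosed {T : Type*} [TopologicalSpace T] [T0Space T]
    (hdim : ∀ Z ∈ irreducibleComponents T, topologicalKrullDim Z ≤ 1)
    {y z : T} (hy : ¬ IsClosed ({y} : Set T)) (hz : z ⤳ y) : y ⤳ z := by
  by_contra hyz
  obtain ⟨w, hw, hwy⟩ : ∃ w ∈ closure ({y} : Set T), w ≠ y := by
    by_contra hcon
    apply hy
    have hcl : closure ({y} : Set T) = {y} := by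
      apply Set.Subset.antisymm
      · intro w hw
        by_contra hwy
        exact hcon ⟨w, hw, hwy⟩
      · exact subset_closure
    rw [← hcl]
    exact isClosed_closure
  have hyw : y ⤳ w := specializes_iff_mem_closure.2 hw
  have hwy' : ¬ w ⤳ y := fun h => hwy ((h.antisymm hyw).eq)
  have hCmem : irreducibleComponent z ∈ irreducibleComponents T :=
    irreducibleComponent_mem_irreducibleComponents z
  have hCclosed : IsClosed (irreducibleComponent z) := isClosed_irreducibleComponent
  have hzC : z ∈ irreducibleComponent z := mem_irreducibleComponent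
  have hyC : y ∈ irreducibleComponent z := hz.mem_closed hCclosed hzC
  have hwC : w ∈ irreducibleComponent z := hyw.mem_closed hCclosed hyC
  have hzy' : (⟨z, hzC⟩ : irreducibleComponent z) ⤳ ⟨y, hyC⟩ :=
    (subtype_specializes_iff _ _).2 hz
  have hyw' : (⟨y, hyC⟩ : irreducibleComponent z) ⤳ ⟨w, hwC⟩ :=
    (subtype_specializes_iff _ _).2 hyw
  have hyz' : ¬ (⟨y, hyC⟩ : irreducibleComponent z) ⤳ ⟨z, hzC⟩ := fun h =>
    hyz ((subtype_specializes_iff _ _).1 h)
  have hwy'' : ¬ (⟨w, hwC⟩ : irreducibleComponent z) ⤳ ⟨y, hyC⟩ := fun h =>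
    hwy' ((subtype_specializes_iff _ _).1 h)
  let mk : irreducibleComponent z → TopologicalSpace.IrreducibleCloseds (irreducibleComponent z) :=
    fun a => ⟨closure {a}, isIrreducible_singleton.closure, isClosed_closure⟩
  have hlt1 : mk ⟨w, hwC⟩ < mk ⟨y, hyC⟩ := by
    refine SetLike.lt_iff_le_and_exists.2 ⟨?_, ⟨⟨y, hyC⟩, subset_closure rfl, fun hmem => ?_⟩⟩
    · intro a ha
      exact specializes_iff_closure_subset.1 hyw' ha
    · exact hwy'' (specializes_iff_mem_closure.2 hmem)
  have hlt2 : mk ⟨y, hyC⟩ < mk ⟨z, hzC⟩ := by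
    refine SetLike.lt_iff_le_and_exists.2 ⟨?_, ⟨⟨z, hzC⟩, subset_closure rfl, fun hmem => ?_⟩⟩
    · intro a ha
      exact specializes_iff_closure_subset.1 hzy' ha
    · exact hyz' (specializes_iff_mem_closure.2 hmem)
  have h1 := Order.coheight_add_one_le hlt1
  have h2 := Order.coheight_add_one_le hlt2
  have h3 : (2 : ℕ∞) ≤ Order.coheight (mk ⟨w, hwC⟩) := by
    calc (2 : ℕ∞) = 0 + 1 + 1 := by norm_num
      _ ≤ Order.coheight (mk ⟨z, hzC⟩) + 1 + 1 := by gcongr; exact zero_le
      _ ≤ Order.coheight (mk ⟨y, hyC⟩) + 1 := by gcongr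
      _ ≤ Order.coheight (mk ⟨w, hwC⟩) := h1
  have h4 : ((Order.coheight (mk ⟨w, hwC⟩) : ℕ∞) : WithBot ℕ∞) ≤
      topologicalKrullDim (irreducibleComponent z) := Order.coheight_le_krullDim _
  have h5 := h4.trans (hdim _ hCmem)
  have h6 : ((2 : ℕ∞) : WithBot ℕ∞) ≤ 1 := (WithBot.coe_le_coe.2 h3).trans h5
  have h7 : (2 : ℕ∞) ≤ 1 := by exact_mod_cast h6
  exact absurd h7 (by norm_num)

end top

section alg

theorem isReduced_of_isOrdDoublePt {K B : Type u} [Field K] [CommRing B] [IsLocalRing B]
    [IsNoetherianRing B] [Algebra K B]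
    (hbij : Function.Bijective (algebraMap K (ResidueField B)))
    (h : Curv2.IsOrdDoublePt K B) : IsReduced B := by
  obtain ⟨eL⟩ := qf_of_isOrdDoublePt hbij h
  have h010 : 4 * (0 : ResidueField B) * 0 - 1 ^ 2 ≠ 0 := by norm_num
  exact (of_completion_equiv h010 eL).1

end alg

section sm

set_option backward.isDefEq.respectTransparency false in
/-- over a perfect field, a point whose local ring is a field lies in the smooth locus -/
theorem mem_smoothLocus_of_isField {K : Type u} [Field K] [PerfectField K] {X : Scheme.{u}}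
    (f : X ⟶ Spec (.of K)) [LocallyOfFinitePresentation f] (x : X)
    (hx : IsField (X.presheaf.stalk x)) : x ∈ f.smoothLocus := by
  have := LocallyOfFiniteType.stalkMap f x
  rw [Scheme.Hom.mem_smoothLocus]
  algebraize [(f.stalkMap x).hom]
  let K' := (Spec.structureSheaf K).presheaf.stalk (f x)
  let e : K ≃ₐ[K] K' := IsLocalization.atUnits _ (f x).asIdeal.primeCompl
      (fun x hx ↦ by aesop (add simp IsUnit.mem_submonoid_iff))
  have : Algebra.IsAlgebraic K K' :=
    .of_injective e.symm.toAlgHom e.symm.injective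
  let : Field K' := (e.toRingEquiv.symm.isField (Field.toIsField K)).toField
  let : Field ((Spec (.of K)).presheaf.stalk (f x)) := this
  let : Field (X.presheaf.stalk x) := hx.toField
  have : PerfectField ((Spec (.of K)).presheaf.stalk (f x)) :=
    Algebra.IsAlgebraic.perfectField (K := K)
      (L := (Spec.structureSheaf K).presheaf.stalk (f x))
  exact Algebra.FormallySmooth.of_perfectField

theorem exists_smooth_nhd_of_mem_smoothLocus {X Y : Scheme.{u}} (f : X ⟶ Y)
    [LocallyOfFinitePresentation f] (x : X) (hx : x ∈ f.smoothLocus) :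
    ∃ U : X.Opens, x ∈ U ∧ Smooth (U.ι ≫ f) := by
  refine ⟨f.smoothLocus, hx, ?_⟩
  rw [← Scheme.Hom.smoothLocus_eq_top_iff, ← Scheme.Hom.preimage_smoothLocus_eq]
  exact Scheme.Opens.ι_preimage_self _

theorem smooth_bc {X S T : Scheme.{u}} (p : X ⟶ S) (g : T ⟶ S) (U : X.Opens)
    (hU : Smooth (U.ι ≫ p)) :
    Smooth ((pullback.fst p g ⁻¹ᵁ U).ι ≫ pullback.snd p g) := by
  have h1 := isPullback_morphismRestrict (pullback.fst p g) U
  have h2 := IsPullback.of_hasPullback p g
  have h3 := h1.paste_vert h2
  exact MorphismProperty.of_isPullback (P := @Smooth) h3 hU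

end sm

section fieldbc2

variable {k K : Type u} [Field k] [Field K] {Y : Scheme.{u}} (p : Y ⟶ Spec (CommRingCat.of k))
  (ρ : CommRingCat.of k ⟶ CommRingCat.of K) [LocallyOfFinitePresentation p]

theorem dim_components_bc
    (h : ∀ Z ∈ irreducibleComponents (Y : Type u), topologicalKrullDim Z = 1) :
    ∀ Z ∈ irreducibleComponents (↥(pullback p (Spec.map ρ)) : Type u),
      topologicalKrullDim Z = 1 := by
  intro Z hZ
  have h1 : topologicalKrullDim Z ∈
      (fun Z : Set ↥(pullback p (Spec.map ρ)) => topologicalKrullDim ↥Z) ''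
        irreducibleComponents ↥(pullback p (Spec.map ρ)) := ⟨Z, hZ, rfl⟩
  rw [image_dim_irreducibleComponents_bc p (Spec.map ρ)] at h1
  obtain ⟨W, hW, hWd⟩ := h1
  have hWd' : topologicalKrullDim ↥W = topologicalKrullDim ↥Z := hWd
  rw [← hWd']
  exact h W hW

end fieldbc2

section N

variable (k : Type u) [Field k] (Y : Scheme.{u}) [Y.Over (Spec (CommRingCat.of k))]
  [LocallyOfFiniteType (Y ↘ Spec (CommRingCat.of k))]

theorem exists_smooth_nhd_of_not_isClosed
    (hdim : ∀ Z ∈ irreducibleComponents (Y : Type u), topologicalKrullDim Z = 1)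
    (h : Curv2.AtWorstNodal k Y) (y : Y) (hy : ¬ IsClosed ({y} : Set Y)) :
    ∃ U : Y.Opens, y ∈ U ∧ Smooth (U.ι ≫ (Y ↘ Spec (CommRingCat.of k))) := by
  classical
  letI instOver : (Curv2.bc k Y (AlgebraicClosure k)).Over
      (Spec (CommRingCat.of (AlgebraicClosure k))) := ⟨Curv2.bcSnd k Y (AlgebraicClosure k)⟩
  haveI hlfp : LocallyOfFinitePresentation (Y ↘ Spec (CommRingCat.of k)) := inferInstance
  haveI hlfp2 : LocallyOfFinitePresentation (Curv2.bcSnd k Y (AlgebraicClosure k)) :=
    inferInstance
  haveI hlft2 : LocallyOfFiniteType (Curv2.bcSnd k Y (AlgebraicClosure k)) := inferInstance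
  haveI : LocallyOfFiniteType ((Curv2.bc k Y (AlgebraicClosure k)) ↘
      Spec (CommRingCat.of (AlgebraicClosure k))) := hlft2
  haveI : IsLocallyNoetherian (Curv2.bc k Y (AlgebraicClosure k)) :=
    LocallyOfFiniteType.isLocallyNoetherian (Curv2.bcSnd k Y (AlgebraicClosure k))
  have hint : (algebraMap k (AlgebraicClosure k)).IsIntegral := fun z =>
    Algebra.IsIntegral.isIntegral z
  haveI : IsIntegralHom (Spec.map (CommRingCat.ofHom (algebraMap k (AlgebraicClosure k)))) :=
    IsIntegralHom.SpecMap_iff.2 hint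
  haveI : IsIntegralHom (Curv2.bcFst k Y (AlgebraicClosure k)) := inferInstance
  have hclosedmap : IsClosedMap (Curv2.bcFst k Y (AlgebraicClosure k)).base :=
    (Curv2.bcFst k Y (AlgebraicClosure k)).isClosedMap
  obtain ⟨yb, hyb⟩ := exists_point_over k Y (AlgebraicClosure k) y
  obtain ⟨y1b, hsp, hy1b⟩ :=
    exists_isClosed_specializes (Curv2.bcSnd k Y (AlgebraicClosure k)) yb
  have hy1 : IsClosed ({(Curv2.bcFst k Y (AlgebraicClosure k)).base y1b} : Set Y) := by
    have := hclosedmap _ hy1b
    rwa [Set.image_singleton] at this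
  have hsp1 : y ⤳ (Curv2.bcFst k Y (AlgebraicClosure k)).base y1b := by
    rw [← hyb]
    exact hsp.map (Curv2.bcFst k Y (AlgebraicClosure k)).continuous
  rcases h _ hy1 with ⟨U, hU, hsm⟩ | hnode
  · exact ⟨U, hsp1.mem_open U.isOpen hU, hsm⟩
  · have hq : QuadCone k Y ((Curv2.bcFst k Y (AlgebraicClosure k)).base y1b) :=
      (isNode_iff_quadCone k Y _ hy1).1 hnode
    have hodp := isOrdDoublePt_of_quadCone k Y y1b hq
    letI algB := Curv2.stalkAlgebra (AlgebraicClosure k) (Curv2.bc k Y (AlgebraicClosure k)) y1b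
    haveI hintB : Algebra.IsIntegral (AlgebraicClosure k)
        (ResidueField ((Curv2.bc k Y (AlgebraicClosure k)).presheaf.stalk y1b)) :=
      ⟨fun z => resMap_isIntegral (AlgebraicClosure k) (Curv2.bc k Y (AlgebraicClosure k))
        y1b hy1b z⟩
    have hbij : Function.Bijective (algebraMap (AlgebraicClosure k)
        (ResidueField ((Curv2.bc k Y (AlgebraicClosure k)).presheaf.stalk y1b))) :=
      IsAlgClosed.algebraMap_bijective_of_isIntegral
    haveI hred1 : IsReduced ((Curv2.bc k Y (AlgebraicClosure k)).presheaf.stalk y1b) :=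
      isReduced_of_isOrdDoublePt hbij hodp
    haveI hredb : IsReduced ((Curv2.bc k Y (AlgebraicClosure k)).presheaf.stalk yb) := by
      letI := ((Curv2.bc k Y (AlgebraicClosure k)).presheaf.stalkSpecializes hsp).hom.toAlgebra
      haveI := Groth.Agent.Lib.Helper91.GenPrime.isLocalization_stalkSpecializes hsp
      exact isReduced_localizationPreserves
        (Groth.Agent.Lib.Helper91.GenPrime.primeOf hsp).primeCompl _ hred1
    have hybnc : ¬ IsClosed ({yb} : Set (Curv2.bc k Y (AlgebraicClosure k))) := fun hc => hy (by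
      have := hclosedmap _ hc
      rwa [Set.image_singleton, hyb] at this)
    have hdimb : ∀ Z ∈ irreducibleComponents (↥(Curv2.bc k Y (AlgebraicClosure k)) : Type u),
        topologicalKrullDim Z ≤ 1 := fun Z hZ =>
      (dim_components_bc (Y ↘ Spec (CommRingCat.of k))
        (CommRingCat.ofHom (algebraMap k (AlgebraicClosure k))) hdim Z hZ).le
    have hmax : IsMax yb := fun z hz => specializes_of_not_isClosed hdimb hybnc hz
    have hd0 : ringKrullDim ((Curv2.bc k Y (AlgebraicClosure k)).presheaf.stalk yb) = 0 := by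
      rw [ringKrullDim_stalk_eq_coheight, Order.coheight_eq_zero.2 hmax]
      rfl
    haveI : Ring.KrullDimLE 0 ((Curv2.bc k Y (AlgebraicClosure k)).presheaf.stalk yb) :=
      Ring.krullDimLE_iff.2 (by rw [hd0]; rfl)
    have hfield : IsField ((Curv2.bc k Y (AlgebraicClosure k)).presheaf.stalk yb) :=
      Ring.KrullDimLE.isField_of_isReduced
    have hmem := mem_smoothLocus_of_isField (Curv2.bcSnd k Y (AlgebraicClosure k)) yb hfield
    obtain ⟨U', hU', hsm'⟩ :=
      exists_smooth_nhd_of_mem_smoothLocus (Curv2.bcSnd k Y (AlgebraicClosure k)) yb hmem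
    obtain ⟨U, hU, hUsm⟩ := Groth.Agent.S2757.result (Y ↘ Spec (CommRingCat.of k))
      (Spec.map (CommRingCat.ofHom (algebraMap k (AlgebraicClosure k)))) yb
      (Flat.stalkMap _ _) ⟨U', hU', hsm'⟩
    exact ⟨U, by rw [← hyb]; exact hU, hUsm⟩

end N

end Groth.Agent.Lib.Helper76.NodeEt
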