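import Mathlib
import Groth.Prelude.Def_CurvBase
import Groth.Agent.Lib.Helper76.NodeEt8

/-!
# Nodal families are stable under arbitrary base change (helper76)
-/

set_option autoImplicit false
set_option backward.isDefEq.respectTransparency.types false
universe u

namespace Groth.Agent.Lib.Helper76.NodeEt

open IsLocalRing CategoryTheory CategoryTheory.Limits AlgebraicGeometry
open Groth.Agent.Lib.Helper76.NodeChar Groth.Agent.Lib.Helper76.NodeBC
open Groth.Agent.Lib.Helper21 Groth.Agent.Lib.Helper21.FieldDim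

section gen2

variable (k : Type u) [Field k] (X : Scheme.{u}) [X.Over (Spec (CommRingCat.of k))]
  (K : Type u) [Field K] [Algebra k K] [IsAlgClosed K]

theorem isOrdDoublePt_of_quadCone_gen [LocallyOfFiniteType (X ↘ Spec (CommRingCat.of k))]
    (xb : Curv2.bc k X K)
    (h : QuadCone k X (Curv2.bcFst k X K xb)) :
    @Curv2.IsOrdDoublePt K _ ((Curv2.bc k X K).presheaf.stalk xb) _
      (@Curv2.stalkAlgebra K _ (Curv2.bc k X K) ⟨Curv2.bcSnd k X K⟩ xb) _ := by
  letI instOver : (Curv2.bc k X K).Over (Spec (CommRingCat.of K)) := ⟨Curv2.bcSnd k X K⟩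
  letI algA := Curv2.stalkAlgebra k X (Curv2.bcFst k X K xb)
  letI algB := Curv2.stalkAlgebra K (Curv2.bc k X K) xb
  haveI hess : Algebra.EssFiniteType k (X.presheaf.stalk (Curv2.bcFst k X K xb)) :=
    stalkMap_essFiniteType k X _
  obtain ⟨hsep, a, b, c, hd, e, -⟩ := h
  haveI := hsep
  obtain ⟨P', hP'prime, hP', ⟨f⟩⟩ := bridge k X K xb
  haveI := hP'prime
  exact isOrdDoublePt_of_algEquiv f (alg_backward P' hP' hd e)

end gen2

section fieldbc3

variable {k K : Type u} [Field k] [Field K] {Y : Scheme.{u}} (p : Y ⟶ Spec (CommRingCat.of k))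
  (ρ : CommRingCat.of k ⟶ CommRingCat.of K) [LocallyOfFinitePresentation p]

theorem isNode_bc (y' : ↥(pullback p (Spec.map ρ)))
    (hy' : IsClosed ({y'} : Set ↥(pullback p (Spec.map ρ))))
    (hy : IsClosed ({(pullback.fst p (Spec.map ρ)).base y'} : Set Y))
    (hnode : letI : Y.Over (Spec (CommRingCat.of k)) := ⟨p⟩
      Curv2.IsNode k Y ((pullback.fst p (Spec.map ρ)).base y')) :
    letI : (pullback p (Spec.map ρ)).Over (Spec (CommRingCat.of K)) :=
      ⟨pullback.snd p (Spec.map ρ)⟩
    Curv2.IsNode K (pullback p (Spec.map ρ)) y' := by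
  letI instY : Y.Over (Spec (CommRingCat.of k)) := ⟨p⟩
  letI instYK : (pullback p (Spec.map ρ)).Over (Spec (CommRingCat.of K)) :=
    ⟨pullback.snd p (Spec.map ρ)⟩
  haveI hpft : LocallyOfFiniteType p := inferInstance
  haveI : LocallyOfFiniteType (Y ↘ Spec (CommRingCat.of k)) := hpft
  have hq : QuadCone k Y ((pullback.fst p (Spec.map ρ)).base y') :=
    (isNode_iff_quadCone k Y _ hy).1 hnode
  letI algkK : Algebra k K := ρ.hom.toAlgebra
  have e0 : ρ ≫ CommRingCat.ofHom (algebraMap K (AlgebraicClosure K)) =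
      CommRingCat.ofHom (algebraMap k (AlgebraicClosure K)) := by
    ext t
    exact (IsScalarTower.algebraMap_apply k K (AlgebraicClosure K) t).symm
  have hC : IsPullback
      (Curv2.bcFst K (pullback p (Spec.map ρ)) (AlgebraicClosure K) ≫
        pullback.fst p (Spec.map ρ))
      (Curv2.bcSnd K (pullback p (Spec.map ρ)) (AlgebraicClosure K)) p
      (Spec.map (CommRingCat.ofHom (algebraMap k (AlgebraicClosure K)))) := by
    have h1 := (IsPullback.of_hasPullback
      ((pullback p (Spec.map ρ)) ↘ Spec (CommRingCat.of K))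
      (Spec.map (CommRingCat.ofHom (algebraMap K (AlgebraicClosure K))))).paste_horiz
        (IsPullback.of_hasPullback p (Spec.map ρ))
    rw [← Spec.map_comp, e0] at h1
    exact h1
  have hD := IsPullback.of_hasPullback (Y ↘ Spec (CommRingCat.of k))
    (Spec.map (CommRingCat.ofHom (algebraMap k (AlgebraicClosure K))))
  have hφ1 : (hC.isoIsPullback _ _ hD).hom ≫ Curv2.bcFst k Y (AlgebraicClosure K) =
      Curv2.bcFst K (pullback p (Spec.map ρ)) (AlgebraicClosure K) ≫
        pullback.fst p (Spec.map ρ) := IsPullback.isoIsPullback_hom_fst _ _ hC hD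
  have hφ2 : (hC.isoIsPullback _ _ hD).hom ≫ Curv2.bcSnd k Y (AlgebraicClosure K) =
      Curv2.bcSnd K (pullback p (Spec.map ρ)) (AlgebraicClosure K) :=
    IsPullback.isoIsPullback_hom_snd _ _ hC hD
  have hψ1 : (hC.isoIsPullback _ _ hD).inv ≫
      Curv2.bcFst K (pullback p (Spec.map ρ)) (AlgebraicClosure K) ≫
        pullback.fst p (Spec.map ρ) = Curv2.bcFst k Y (AlgebraicClosure K) :=
    (Iso.inv_comp_eq _).2 hφ1.symm
  have hψ2 : (hC.isoIsPullback _ _ hD).inv ≫
      Curv2.bcSnd K (pullback p (Spec.map ρ)) (AlgebraicClosure K) =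
        Curv2.bcSnd k Y (AlgebraicClosure K) :=
    (Iso.inv_comp_eq _).2 hφ2.symm
  letI instA : (Curv2.bc K (pullback p (Spec.map ρ)) (AlgebraicClosure K)).Over
      (Spec (CommRingCat.of (AlgebraicClosure K))) :=
    ⟨Curv2.bcSnd K (pullback p (Spec.map ρ)) (AlgebraicClosure K)⟩
  letI instB : (Curv2.bc k Y (AlgebraicClosure K)).Over
      (Spec (CommRingCat.of (AlgebraicClosure K))) :=
    ⟨Curv2.bcSnd k Y (AlgebraicClosure K)⟩
  obtain ⟨yb, hyb⟩ := exists_point_over K (pullback p (Spec.map ρ)) (AlgebraicClosure K) y'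
  obtain ⟨z, hz⟩ : ∃ z, (hC.isoIsPullback _ _ hD).inv.base z = yb :=
    ⟨(hC.isoIsPullback _ _ hD).hom.base yb, by
      rw [← Scheme.Hom.comp_apply, Iso.hom_inv_id]
      rfl⟩
  subst hz
  refine ⟨hy', _, hyb, ?_⟩
  have hfst : (Curv2.bcFst k Y (AlgebraicClosure K)).base z =
      (pullback.fst p (Spec.map ρ)).base y' := by
    rw [← hψ1, Scheme.Hom.comp_apply, Scheme.Hom.comp_apply, hyb]
  have hodpz := isOrdDoublePt_of_quadCone_gen k Y (AlgebraicClosure K) z
    (by rw [hfst]; exact hq)
  haveI : Etale (hC.isoIsPullback _ _ hD).inv := inferInstance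
  exact isOrdDoublePt_of_etale (AlgebraicClosure K) (hC.isoIsPullback _ _ hD).inv hψ2 z hodpz

theorem atWorstNodal_bc
    (hdim : ∀ Z ∈ irreducibleComponents (Y : Type u), topologicalKrullDim Z = 1)
    (h : letI : Y.Over (Spec (CommRingCat.of k)) := ⟨p⟩
      Curv2.AtWorstNodal k Y) :
    letI : (pullback p (Spec.map ρ)).Over (Spec (CommRingCat.of K)) :=
      ⟨pullback.snd p (Spec.map ρ)⟩
    Curv2.AtWorstNodal K (pullback p (Spec.map ρ)) := by
  letI instY : Y.Over (Spec (CommRingCat.of k)) := ⟨p⟩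
  letI instYK : (pullback p (Spec.map ρ)).Over (Spec (CommRingCat.of K)) :=
    ⟨pullback.snd p (Spec.map ρ)⟩
  haveI hpft : LocallyOfFiniteType p := inferInstance
  haveI : LocallyOfFiniteType (Y ↘ Spec (CommRingCat.of k)) := hpft
  intro y' hy'
  by_cases hy : IsClosed ({(pullback.fst p (Spec.map ρ)).base y'} : Set Y)
  · rcases h _ hy with ⟨U, hU, hsm⟩ | hnode
    · left
      exact ⟨pullback.fst p (Spec.map ρ) ⁻¹ᵁ U, hU, smooth_bc p (Spec.map ρ) U hsm⟩
    · right
      exact isNode_bc p ρ y' hy' hy hnode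
  · left
    obtain ⟨U, hU, hsm⟩ := exists_smooth_nhd_of_not_isClosed k Y hdim h _ hy
    exact ⟨pullback.fst p (Spec.map ρ) ⁻¹ᵁ U, hU, smooth_bc p (Spec.map ρ) U hsm⟩

end fieldbc3

section family

theorem isNodalFamily_baseChange {X S S' : Scheme.{u}} (f : X ⟶ S)
    (hf : Curv2.IsNodalFamily f) (g : S' ⟶ S) :
    Curv2.IsNodalFamily (pullback.snd f g) := by
  obtain ⟨hflat, hlfp, hfib⟩ := hf
  haveI := hflat
  haveI := hlfp
  refine ⟨inferInstance, inferInstance, fun s' => ?_⟩
  obtain ⟨hdim, hnod⟩ := hfib (g s')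
  have hpb := isPullback_fiberToSpecResidueField_of_isPullback (IsPullback.of_hasPullback f g) s'
  haveI hp : LocallyOfFinitePresentation (f.fiberToSpecResidueField (g s')) :=
    MorphismProperty.pullback_snd _ _ inferInstance
  haveI hp' : LocallyOfFiniteType ((pullback.snd f g).fiberToSpecResidueField s') :=
    Groth.Agent.Lib.Helper76.NormNodal.locallyOfFiniteType_fiberToSpecResidueField _ s'
  letI instY' : ((pullback.snd f g).fiber s').Over (Spec (S'.residueField s')) :=
    ⟨(pullback.snd f g).fiberToSpecResidueField s'⟩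
  haveI : LocallyOfFiniteType (((pullback.snd f g).fiber s') ↘
      Spec (CommRingCat.of (S'.residueField s'))) := hp'
  letI instPB : (pullback (f.fiberToSpecResidueField (g s'))
      (Spec.map (g.residueFieldMap s'))).Over (Spec (CommRingCat.of (S'.residueField s'))) :=
    ⟨pullback.snd (f.fiberToSpecResidueField (g s')) (Spec.map (g.residueFieldMap s'))⟩
  haveI hpPB : LocallyOfFiniteType (pullback.snd (f.fiberToSpecResidueField (g s'))
      (Spec.map (g.residueFieldMap s'))) := inferInstance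
  haveI : LocallyOfFiniteType ((pullback (f.fiberToSpecResidueField (g s'))
      (Spec.map (g.residueFieldMap s'))) ↘ Spec (CommRingCat.of (S'.residueField s'))) := hpPB
  have hdimPB := dim_components_bc (k := S.residueField (g s')) (K := S'.residueField s')
    (f.fiberToSpecResidueField (g s')) (g.residueFieldMap s') hdim
  have hnodPB := atWorstNodal_bc (k := S.residueField (g s')) (K := S'.residueField s')
    (f.fiberToSpecResidueField (g s')) (g.residueFieldMap s') hdim hnod
  let φ : (pullback.snd f g).fiber s' ⟶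
      pullback (f.fiberToSpecResidueField (g s')) (Spec.map (g.residueFieldMap s')) :=
    hpb.isoPullback.hom
  haveI hφet : Etale φ := inferInstanceAs (Etale hpb.isoPullback.hom)
  have hπ : φ ≫ pullback.snd (f.fiberToSpecResidueField (g s'))
      (Spec.map (g.residueFieldMap s')) =
      (pullback.snd f g).fiberToSpecResidueField s' := hpb.isoPullback_hom_snd
  exact ⟨dim_components (k := S'.residueField s')
      (pullback.snd (f.fiberToSpecResidueField (g s')) (Spec.map (g.residueFieldMap s')))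
      ((pullback.snd f g).fiberToSpecResidueField s') φ hπ hdimPB,
    atWorstNodal_of_etale (S'.residueField s') φ hπ hnodPB⟩

end family

end Groth.Agent.Lib.Helper76.NodeEt
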