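import Mathlib
import Groth.Agent.Lib.Helper76.NodeChar2

/-!
# A node is not a regular point (helper76)

If the maximal ideal of a Noetherian local ring `A` is generated by `x, y` subject to a
non-degenerate quadratic relation modulo the cube of the maximal ideal, then the square of the
maximal ideal lies in a principal ideal, so `A` has Krull dimension at most one (principal ideal
theorem) while its embedding dimension is two.
-/

set_option autoImplicit false

namespace Groth.Agent.Lib.Helper76.NodeReg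

open IsLocalRing
open Groth.Agent.Lib.Helper76.NodeChar

variable {A : Type*} [CommRing A] [IsLocalRing A]

theorem sq_le_span (z w γ : A) (hm : maximalIdeal A = Ideal.span {z, w}) (hγ : IsUnit γ)
    (h : γ * w ^ 2 ∈ Ideal.span {z} ⊔ maximalIdeal A ^ 3) :
    maximalIdeal A ^ 2 ≤ Ideal.span {z} := by
  have hsq : maximalIdeal A ^ 2 ≤ Ideal.span {z} ⊔ Ideal.span {w ^ 2} := by
    rw [hm, pow_two, Ideal.span_pair_mul_span_pair, Ideal.span_le]
    intro t ht
    simp only [Set.mem_insert_iff, Set.mem_singleton_iff] at ht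
    rcases ht with ht | ht | ht | ht
    · rw [ht]; exact Ideal.mem_sup_left (Ideal.mem_span_singleton'.mpr ⟨z, rfl⟩)
    · rw [ht]; exact Ideal.mem_sup_left (Ideal.mem_span_singleton'.mpr ⟨w, by ring⟩)
    · rw [ht]; exact Ideal.mem_sup_left (Ideal.mem_span_singleton'.mpr ⟨w, rfl⟩)
    · rw [ht]; exact Ideal.mem_sup_right (Ideal.mem_span_singleton'.mpr ⟨1, by ring⟩)
  have hcube : maximalIdeal A ^ 3 ≤ Ideal.span {z} ⊔ maximalIdeal A * Ideal.span {w ^ 2} := by
    calc maximalIdeal A ^ 3 = maximalIdeal A * maximalIdeal A ^ 2 := by rw [pow_succ']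
      _ ≤ maximalIdeal A * (Ideal.span {z} ⊔ Ideal.span {w ^ 2}) := Ideal.mul_mono_right hsq
      _ = maximalIdeal A * Ideal.span {z} ⊔ maximalIdeal A * Ideal.span {w ^ 2} :=
        Ideal.mul_sup _ _ _
      _ ≤ Ideal.span {z} ⊔ maximalIdeal A * Ideal.span {w ^ 2} :=
        sup_le_sup_right Ideal.mul_le_right _
  have h' : γ * w ^ 2 ∈ Ideal.span {z} ⊔ maximalIdeal A * Ideal.span {w ^ 2} :=
    (sup_le le_sup_left hcube) h
  obtain ⟨p, hp, t, ht, hpt⟩ := Submodule.mem_sup.mp h'
  obtain ⟨s, rfl⟩ := Ideal.mem_span_singleton'.mp hp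
  obtain ⟨μ, hμ, rfl⟩ := Ideal.mem_mul_span_singleton.mp ht
  have hu : IsUnit (γ - μ) := by
    by_contra hnu
    have h1 : γ - μ ∈ maximalIdeal A := (mem_maximalIdeal _).mpr hnu
    have h2 : γ ∈ maximalIdeal A := by
      have := Ideal.add_mem _ h1 hμ
      simpa using this
    exact ((mem_maximalIdeal _).mp h2) hγ
  have hw : w ^ 2 ∈ Ideal.span {z} := by
    obtain ⟨v, hv⟩ := hu.exists_left_inv
    refine Ideal.mem_span_singleton'.mpr ⟨v * s, ?_⟩
    have e1 : (γ - μ) * w ^ 2 = s * z := by linear_combination -hpt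
    calc v * s * z = v * (s * z) := by ring
      _ = v * ((γ - μ) * w ^ 2) := by rw [e1]
      _ = (v * (γ - μ)) * w ^ 2 := by ring
      _ = w ^ 2 := by rw [hv, one_mul]
  exact hsq.trans (sup_le le_rfl ((Ideal.span_singleton_le_iff_mem _).mpr hw))

theorem dim_le_one_of_sq_le [IsNoetherianRing A] (z : A) (hz : z ∈ maximalIdeal A)
    (h : maximalIdeal A ^ 2 ≤ Ideal.span {z}) : ringKrullDim A ≤ 1 := by
  have hmin : maximalIdeal A ∈ (Ideal.span {z}).minimalPrimes := by
    refine ⟨⟨inferInstance, (Ideal.span_singleton_le_iff_mem _).mpr hz⟩, ?_⟩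
    rintro q ⟨hq, hzq⟩ -
    intro t ht
    have h2 : t ^ 2 ∈ q := hzq (h (Ideal.pow_mem_pow ht 2))
    exact hq.mem_of_pow_mem 2 h2
  have h3 := Ideal.height_le_one_of_isPrincipal_of_mem_minimalPrimes_of_isLocalRing
    (Ideal.span {z}) hmin
  rw [← IsLocalRing.maximalIdeal_height_eq_ringKrullDim]
  exact_mod_cast h3

theorem dim_le_one_of_rel [IsNoetherianRing A] (x y a b c : A) (hx : x ∈ maximalIdeal A)
    (hy : y ∈ maximalIdeal A)
    (hsp : Ideal.span {x, y} ⊔ maximalIdeal A ^ 2 = maximalIdeal A)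
    (hnd : residue A (4 * a * c - b ^ 2) ≠ 0)
    (hq : a * x ^ 2 + b * x * y + c * y ^ 2 ∈ maximalIdeal A ^ 3) :
    ringKrullDim A ≤ 1 := by
  have hm := maximalIdeal_eq_span_pair hx hy hsp
  by_cases hc : IsUnit c
  · refine dim_le_one_of_sq_le x hx (sq_le_span x y c hm hc ?_)
    have e1 : c * y ^ 2 = (a * x ^ 2 + b * x * y + c * y ^ 2) + (-(a * x + b * y)) * x := by ring
    rw [e1]
    exact Ideal.add_mem _ (Ideal.mem_sup_right hq)
      (Ideal.mem_sup_left (Ideal.mem_span_singleton'.mpr ⟨_, rfl⟩))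
  · by_cases ha : IsUnit a
    · have hm' : maximalIdeal A = Ideal.span {y, x} := by rw [hm, Set.pair_comm]
      refine dim_le_one_of_sq_le y hy (sq_le_span y x a hm' ha ?_)
      have e1 : a * x ^ 2 = (a * x ^ 2 + b * x * y + c * y ^ 2) + (-(b * x + c * y)) * y := by ring
      rw [e1]
      exact Ideal.add_mem _ (Ideal.mem_sup_right hq)
        (Ideal.mem_sup_left (Ideal.mem_span_singleton'.mpr ⟨_, rfl⟩))
    · have hcm : c ∈ maximalIdeal A := (mem_maximalIdeal _).mpr hc
      have ham : a ∈ maximalIdeal A := (mem_maximalIdeal _).mpr ha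
      have hb : IsUnit b := by
        by_contra hb
        have hbm : b ∈ maximalIdeal A := (mem_maximalIdeal _).mpr hb
        apply hnd
        rw [residue_eq_zero_iff]
        have e1 : 4 * a * c - b ^ 2 = (4 * a) * c - b * b := by ring
        rw [e1]
        exact Ideal.sub_mem _ (Ideal.mul_mem_left _ _ hcm) (Ideal.mul_mem_left _ _ hbm)
      have hγ : IsUnit (a + b + c) := by
        by_contra hnu
        have h1 : a + b + c ∈ maximalIdeal A := (mem_maximalIdeal _).mpr hnu
        have e1 : b = (a + b + c) - a - c := by ring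
        have h2 : b ∈ maximalIdeal A := by
          rw [e1]; exact Ideal.sub_mem _ (Ideal.sub_mem _ h1 ham) hcm
        exact ((mem_maximalIdeal _).mp h2) hb
      have hzm : x - y ∈ maximalIdeal A := Ideal.sub_mem _ hx hy
      have hm' : maximalIdeal A = Ideal.span {x - y, y} := by
        rw [hm]
        have hy' : y ∈ Ideal.span {x - y, y} :=
          Ideal.subset_span (Set.mem_insert_of_mem _ (Set.mem_singleton _))
        have hz' : x - y ∈ Ideal.span {x - y, y} := Ideal.subset_span (Set.mem_insert _ _)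
        have hx' : x ∈ Ideal.span {x - y, y} := by
          have h := Ideal.add_mem _ hz' hy'
          rwa [sub_add_cancel] at h
        have hx'' : x ∈ Ideal.span {x, y} := Ideal.subset_span (Set.mem_insert _ _)
        have hy'' : y ∈ Ideal.span {x, y} :=
          Ideal.subset_span (Set.mem_insert_of_mem _ (Set.mem_singleton _))
        apply le_antisymm
        · rw [Ideal.span_le]
          intro t ht
          rcases ht with ht | ht
          · rw [ht]; exact hx'
          · rw [Set.mem_singleton_iff] at ht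
            rw [ht]; exact hy'
        · rw [Ideal.span_le]
          intro t ht
          rcases ht with ht | ht
          · rw [ht]; exact Ideal.sub_mem _ hx'' hy''
          · rw [Set.mem_singleton_iff] at ht
            rw [ht]; exact hy''
      refine dim_le_one_of_sq_le (x - y) hzm (sq_le_span (x - y) y (a + b + c) hm' hγ ?_)
      have e1 : (a + b + c) * y ^ 2 = (a * x ^ 2 + b * x * y + c * y ^ 2) +
          (-(a * (x - y) + 2 * a * y + b * y)) * (x - y) := by ring
      rw [e1]
      exact Ideal.add_mem _ (Ideal.mem_sup_right hq)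
        (Ideal.mem_sup_left (Ideal.mem_span_singleton'.mpr ⟨_, rfl⟩))

theorem not_regular_of_completion_equiv [IsNoetherianRing A] {a b c : ResidueField A}
    (h : 4 * a * c - b ^ 2 ≠ 0)
    (e : AdicCompletion (maximalIdeal A) A ≃+*
      (MvPowerSeries (Fin 2) (ResidueField A) ⧸ Ideal.span {qf a b c})) :
    ¬ IsRegularLocalRing A := by
  intro hreg
  obtain ⟨-, hfin, x, y, a', b', c', hx, hy, hsp, hnd, hq⟩ := of_completion_equiv h e
  have h1 := dim_le_one_of_rel x y a' b' c' hx hy hsp hnd hq
  have h2 := (IsRegularLocalRing.iff_finrank_cotangentSpace A).mp hreg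
  rw [hfin] at h2
  rw [← h2] at h1
  have h3 : (2 : ℕ) ≤ 1 := by exact_mod_cast h1
  omega

end Groth.Agent.Lib.Helper76.NodeReg
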