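import Mathlib
import Groth.Prelude.Def_CurvBase
import Groth.Agent.Lib.Helper76.NodeEt9
import Groth.Agent.Lib.Helper76.NodeReg
import Groth.Agent.Lib.Helper62.SmoothStalk
import Groth.Agent.Lib.Helper21.FieldDimPts

/-!
# Nodes and extension of the base field: a point is a node iff a point above it is (helper76)

* `isNode_of_bc` : a point of `Y` which is closed and lies under a node of `Y_K` is a node;
* `isClosed_fst_of_isNode` : on a scheme of dimension `≤ 1` the image of a node of `Y_K` is closed;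
* `isClosed_of_isClosed_fst` : a point of `Y_K` over a closed point of `Y` is closed;
* `isNode_bc_iff` : the equivalence.
-/

set_option autoImplicit false
set_option backward.isDefEq.respectTransparency.types false
universe u

namespace Groth.Agent.Lib.Helper76.NodeEt

open IsLocalRing CategoryTheory CategoryTheory.Limits AlgebraicGeometry
open Groth.Agent.Lib.Helper76.NodeChar Groth.Agent.Lib.Helper76.NodeBC
open Groth.Agent.Lib.Helper21 Groth.Agent.Lib.Helper21.FieldDim

section fieldbc4

variable {k K : Type u} [Field k] [Field K] {Y : Scheme.{u}} (p : Y ⟶ Spec (CommRingCat.of k))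
  (ρ : CommRingCat.of k ⟶ CommRingCat.of K) [LocallyOfFinitePresentation p]

theorem isNode_of_bc (y' : ↥(pullback p (Spec.map ρ)))
    (hy : IsClosed ({(pullback.fst p (Spec.map ρ)).base y'} : Set Y))
    (hnode : letI : (pullback p (Spec.map ρ)).Over (Spec (CommRingCat.of K)) :=
        ⟨pullback.snd p (Spec.map ρ)⟩
      Curv2.IsNode K (pullback p (Spec.map ρ)) y') :
    letI : Y.Over (Spec (CommRingCat.of k)) := ⟨p⟩
    Curv2.IsNode k Y ((pullback.fst p (Spec.map ρ)).base y') := by
  letI instY : Y.Over (Spec (CommRingCat.of k)) := ⟨p⟩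
  letI instYK : (pullback p (Spec.map ρ)).Over (Spec (CommRingCat.of K)) :=
    ⟨pullback.snd p (Spec.map ρ)⟩
  haveI hpft : LocallyOfFiniteType p := inferInstance
  haveI : LocallyOfFiniteType (Y ↘ Spec (CommRingCat.of k)) := hpft
  obtain ⟨-, yb, hyb, hodp⟩ := hnode
  letI algkK : Algebra k K := ρ.hom.toAlgebra
  have e0 : ρ ≫ CommRingCat.ofHom (algebraMap K (AlgebraicClosure K)) =
      CommRingCat.ofHom (algebraMap k (AlgebraicClosure K)) := by
    ext t
    exact (IsScalarTower.algebraMap_apply k K (AlgebraicClosure K) t).symm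
  have hC : IsPullback
      (Curv2.bcFst K (pullback p (Spec.map ρ)) (AlgebraicClosure K) ≫
        pullback.fst p (Spec.map ρ))
      (Curv2.bcSnd K (pullback p (Spec.map ρ)) (AlgebraicClosure K)) p
      (Spec.map (CommRingCat.ofHom (algebraMap k (AlgebraicClosure K)))) := by
    have h1 := (IsPullback.of_hasPullback
      ((pullback p (Spec.map ρ)) ↘ Spec (CommRingCat.of K))
      (Spec.map (CommRingCat.ofHom (algebraMap K (AlgebraicClosure K))))).paste_horiz
        (IsPullback.of_hasPullback p (Spec.map ρ))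
    rw [← Spec.map_comp, e0] at h1
    exact h1
  have hD := IsPullback.of_hasPullback (Y ↘ Spec (CommRingCat.of k))
    (Spec.map (CommRingCat.ofHom (algebraMap k (AlgebraicClosure K))))
  have hφ1 : (hC.isoIsPullback _ _ hD).hom ≫ Curv2.bcFst k Y (AlgebraicClosure K) =
      Curv2.bcFst K (pullback p (Spec.map ρ)) (AlgebraicClosure K) ≫
        pullback.fst p (Spec.map ρ) := IsPullback.isoIsPullback_hom_fst _ _ hC hD
  have hφ2 : (hC.isoIsPullback _ _ hD).hom ≫ Curv2.bcSnd k Y (AlgebraicClosure K) =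
      Curv2.bcSnd K (pullback p (Spec.map ρ)) (AlgebraicClosure K) :=
    IsPullback.isoIsPullback_hom_snd _ _ hC hD
  letI instA : (Curv2.bc K (pullback p (Spec.map ρ)) (AlgebraicClosure K)).Over
      (Spec (CommRingCat.of (AlgebraicClosure K))) :=
    ⟨Curv2.bcSnd K (pullback p (Spec.map ρ)) (AlgebraicClosure K)⟩
  letI instB : (Curv2.bc k Y (AlgebraicClosure K)).Over
      (Spec (CommRingCat.of (AlgebraicClosure K))) :=
    ⟨Curv2.bcSnd k Y (AlgebraicClosure K)⟩
  have hodp' := isOrdDoublePt_of_etale (AlgebraicClosure K) (hC.isoIsPullback _ _ hD).hom hφ2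
    yb hodp
  have hfst : (Curv2.bcFst k Y (AlgebraicClosure K)).base
      ((hC.isoIsPullback _ _ hD).hom.base yb) = (pullback.fst p (Spec.map ρ)).base y' := by
    rw [← Scheme.Hom.comp_apply, hφ1, Scheme.Hom.comp_apply, hyb]
  have hq := quadCone_of_isOrdDoublePt_gen k Y (AlgebraicClosure K)
    ((hC.isoIsPullback _ _ hD).hom.base yb) (by rw [hfst]; exact hy) hodp'
  rw [hfst] at hq
  exact (isNode_iff_quadCone k Y _ hy).mpr hq

theorem isClosed_of_isClosed_fst (y' : ↥(pullback p (Spec.map ρ)))
    (hx : IsClosed ({(pullback.fst p (Spec.map ρ)).base y'} : Set Y)) :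
    IsClosed ({y'} : Set ↥(pullback p (Spec.map ρ))) := by
  haveI hpft : LocallyOfFiniteType p := inferInstance
  haveI hpKft : LocallyOfFiniteType (pullback.snd p (Spec.map ρ)) := inferInstance
  apply isClosed_singleton_of_td_eq_zero (pullback.snd p (Spec.map ρ))
  have h1 := td_bc_le p (Spec.map ρ) y'
  have h2 := td_eq_zero_of_isClosed_singleton p hx
  omega

theorem isClosed_fst_of_isNode (hdim : topologicalKrullDim Y ≤ 1)
    (y' : ↥(pullback p (Spec.map ρ)))
    (hnode : letI : (pullback p (Spec.map ρ)).Over (Spec (CommRingCat.of K)) :=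
        ⟨pullback.snd p (Spec.map ρ)⟩
      Curv2.IsNode K (pullback p (Spec.map ρ)) y') :
    IsClosed ({(pullback.fst p (Spec.map ρ)).base y'} : Set Y) := by
  classical
  letI instY : Y.Over (Spec (CommRingCat.of k)) := ⟨p⟩
  letI instYK : (pullback p (Spec.map ρ)).Over (Spec (CommRingCat.of K)) :=
    ⟨pullback.snd p (Spec.map ρ)⟩
  haveI hpft : LocallyOfFiniteType p := inferInstance
  haveI : LocallyOfFiniteType (Y ↘ Spec (CommRingCat.of k)) := hpft
  haveI hpK : LocallyOfFinitePresentation (pullback.snd p (Spec.map ρ)) := inferInstance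
  haveI hpKft : LocallyOfFiniteType (pullback.snd p (Spec.map ρ)) := inferInstance
  haveI : LocallyOfFiniteType ((pullback p (Spec.map ρ)) ↘ Spec (CommRingCat.of K)) := hpKft
  haveI : LocallyOfFinitePresentation ((pullback p (Spec.map ρ)) ↘ Spec (CommRingCat.of K)) :=
    hpK
  haveI hflatρ : Flat (Spec.map ρ) := inferInstance
  by_contra hx
  -- the image point is a maximal point
  have hxmax : ∀ z : Y, z ⤳ (pullback.fst p (Spec.map ρ)).base y' →
      (pullback.fst p (Spec.map ρ)).base y' ⤳ z := by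
    intro z hz
    by_contra hzx
    have hne : z ≠ (pullback.fst p (Spec.map ρ)).base y' := fun h => hzx (by
      rw [h])
    have h1 := td_lt_of_specializes p hz hne
    have h2 := td_le_dim p z
    have h3 : ((td p z : ℕ) : WithBot ℕ∞) ≤ 1 := h2.trans hdim
    have h4 : td p z ≤ 1 := by exact_mod_cast h3
    have h5 : td p ((pullback.fst p (Spec.map ρ)).base y') = 0 := by omega
    exact hx (isClosed_singleton_of_td_eq_zero p h5)
  have hy'cl : IsClosed ({y'} : Set ↥(pullback p (Spec.map ρ))) := hnode.1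
  have hq : QuadCone K (pullback p (Spec.map ρ)) y' :=
    (isNode_iff_quadCone K (pullback p (Spec.map ρ)) y' hy'cl).1 hnode
  letI instW : (Curv2.bc K (pullback p (Spec.map ρ)) (AlgebraicClosure K)).Over
      (Spec (CommRingCat.of (AlgebraicClosure K))) :=
    ⟨Curv2.bcSnd K (pullback p (Spec.map ρ)) (AlgebraicClosure K)⟩
  haveI hlfpW : LocallyOfFinitePresentation
      (Curv2.bcSnd K (pullback p (Spec.map ρ)) (AlgebraicClosure K)) := inferInstance
  haveI hlftW : LocallyOfFiniteType
      (Curv2.bcSnd K (pullback p (Spec.map ρ)) (AlgebraicClosure K)) := inferInstance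
  haveI : LocallyOfFiniteType ((Curv2.bc K (pullback p (Spec.map ρ)) (AlgebraicClosure K)) ↘
      Spec (CommRingCat.of (AlgebraicClosure K))) := hlftW
  haveI : IsLocallyNoetherian (Curv2.bc K (pullback p (Spec.map ρ)) (AlgebraicClosure K)) :=
    LocallyOfFiniteType.isLocallyNoetherian
      (Curv2.bcSnd K (pullback p (Spec.map ρ)) (AlgebraicClosure K))
  obtain ⟨yb, hyb⟩ := exists_point_over K (pullback p (Spec.map ρ)) (AlgebraicClosure K) y'
  obtain ⟨y1b, hsp, hy1b⟩ := exists_isClosed_specializes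
    (Curv2.bcSnd K (pullback p (Spec.map ρ)) (AlgebraicClosure K)) yb
  have hy1 : (Curv2.bcFst K (pullback p (Spec.map ρ)) (AlgebraicClosure K)).base y1b = y' := by
    have h1 : (Curv2.bcFst K (pullback p (Spec.map ρ)) (AlgebraicClosure K)).base yb ⤳
        (Curv2.bcFst K (pullback p (Spec.map ρ)) (AlgebraicClosure K)).base y1b :=
      hsp.map (Curv2.bcFst K (pullback p (Spec.map ρ)) (AlgebraicClosure K)).continuous
    have h2 := specializes_iff_mem_closure.mp h1
    have hyb' : (Curv2.bcFst K (pullback p (Spec.map ρ)) (AlgebraicClosure K)).base yb = y' :=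
      hyb
    rw [hyb', hy'cl.closure_eq] at h2
    exact h2
  have hq' : QuadCone K (pullback p (Spec.map ρ))
      ((Curv2.bcFst K (pullback p (Spec.map ρ)) (AlgebraicClosure K)).base y1b) := by
    rw [hy1]; exact hq
  have hodp := isOrdDoublePt_of_quadCone K (pullback p (Spec.map ρ)) y1b hq'
  letI algB := Curv2.stalkAlgebra (AlgebraicClosure K)
    (Curv2.bc K (pullback p (Spec.map ρ)) (AlgebraicClosure K)) y1b
  haveI hintB : Algebra.IsIntegral (AlgebraicClosure K)
      (ResidueField ((Curv2.bc K (pullback p (Spec.map ρ))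
        (AlgebraicClosure K)).presheaf.stalk y1b)) :=
    ⟨fun z => resMap_isIntegral (AlgebraicClosure K)
      (Curv2.bc K (pullback p (Spec.map ρ)) (AlgebraicClosure K)) y1b hy1b z⟩
  have hbij : Function.Bijective (algebraMap (AlgebraicClosure K)
      (ResidueField ((Curv2.bc K (pullback p (Spec.map ρ))
        (AlgebraicClosure K)).presheaf.stalk y1b))) :=
    IsAlgClosed.algebraMap_bijective_of_isIntegral
  haveI hred1 : IsReduced ((Curv2.bc K (pullback p (Spec.map ρ))
      (AlgebraicClosure K)).presheaf.stalk y1b) :=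
    isReduced_of_isOrdDoublePt hbij hodp
  -- a maximal generization of `y1b`
  obtain ⟨w, hwmax, hwsp⟩ := exists_maximal_specializes y1b
  haveI hredw : IsReduced ((Curv2.bc K (pullback p (Spec.map ρ))
      (AlgebraicClosure K)).presheaf.stalk w) := by
    letI := ((Curv2.bc K (pullback p (Spec.map ρ))
      (AlgebraicClosure K)).presheaf.stalkSpecializes hwsp).hom.toAlgebra
    haveI := Groth.Agent.Lib.Helper91.GenPrime.isLocalization_stalkSpecializes hwsp
    exact isReduced_localizationPreserves
      (Groth.Agent.Lib.Helper91.GenPrime.primeOf hwsp).primeCompl _ hred1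
  have hmax : IsMax w := fun z hz => hwmax z hz
  have hd0 : ringKrullDim ((Curv2.bc K (pullback p (Spec.map ρ))
      (AlgebraicClosure K)).presheaf.stalk w) = 0 := by
    rw [ringKrullDim_stalk_eq_coheight, Order.coheight_eq_zero.2 hmax]
    rfl
  haveI : Ring.KrullDimLE 0 ((Curv2.bc K (pullback p (Spec.map ρ))
      (AlgebraicClosure K)).presheaf.stalk w) :=
    Ring.krullDimLE_iff.2 (by rw [hd0]; rfl)
  have hfield : IsField ((Curv2.bc K (pullback p (Spec.map ρ))
      (AlgebraicClosure K)).presheaf.stalk w) :=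
    Ring.KrullDimLE.isField_of_isReduced
  have hmem := mem_smoothLocus_of_isField
    (Curv2.bcSnd K (pullback p (Spec.map ρ)) (AlgebraicClosure K)) w hfield
  obtain ⟨U', hU', hsm'⟩ := exists_smooth_nhd_of_mem_smoothLocus
    (Curv2.bcSnd K (pullback p (Spec.map ρ)) (AlgebraicClosure K)) w hmem
  -- descend the smooth neighbourhood twice
  obtain ⟨U1, hU1, hsm1⟩ := Groth.Agent.S2757.result
    ((pullback p (Spec.map ρ)) ↘ Spec (CommRingCat.of K))
    (Spec.map (CommRingCat.ofHom (algebraMap K (AlgebraicClosure K)))) w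
    (Flat.stalkMap _ _) ⟨U', hU', hsm'⟩
  obtain ⟨U, hU, hsm⟩ := Groth.Agent.S2757.result p (Spec.map ρ)
    ((Curv2.bcFst K (pullback p (Spec.map ρ)) (AlgebraicClosure K)).base w)
    (Flat.stalkMap (Spec.map ρ) _) ⟨U1, hU1, hsm1⟩
  have hspw : (Curv2.bcFst K (pullback p (Spec.map ρ)) (AlgebraicClosure K)).base w ⤳ y' := by
    rw [← hy1]
    exact hwsp.map (Curv2.bcFst K (pullback p (Spec.map ρ)) (AlgebraicClosure K)).continuous
  have hspx : (pullback.fst p (Spec.map ρ)).base
      ((Curv2.bcFst K (pullback p (Spec.map ρ)) (AlgebraicClosure K)).base w) ⤳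
        (pullback.fst p (Spec.map ρ)).base y' :=
    hspw.map (pullback.fst p (Spec.map ρ)).continuous
  have hxU : (pullback.fst p (Spec.map ρ)).base y' ∈ U :=
    (hxmax _ hspx).mem_open U.isOpen hU
  -- hence `y'` has a smooth neighbourhood, so its local ring is regular
  have hsmV := smooth_bc p (Spec.map ρ) U hsm
  have hyV : y' ∈ (pullback.fst p (Spec.map ρ)) ⁻¹ᵁ U := hxU
  haveI := hsmV
  have hreg := Groth.Agent.Lib.Helper62.SmoothStalk.isRegularLocalRing_stalk
    (((pullback.fst p (Spec.map ρ)) ⁻¹ᵁ U).ι ≫ pullback.snd p (Spec.map ρ)) ⟨y', hyV⟩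
  have hreg' : IsRegularLocalRing ((pullback p (Spec.map ρ)).presheaf.stalk y') := by
    haveI := hreg
    haveI : IsIso (((pullback.fst p (Spec.map ρ)) ⁻¹ᵁ U).ι.stalkMap ⟨y', hyV⟩) := inferInstance
    exact IsRegularLocalRing.of_ringEquiv
      (asIso (((pullback.fst p (Spec.map ρ)) ⁻¹ᵁ U).ι.stalkMap
        ⟨y', hyV⟩)).commRingCatIsoToRingEquiv.symm
  obtain ⟨-, a, b, c, hd, e, -⟩ := hq
  haveI : IsNoetherianRing ((pullback p (Spec.map ρ)).presheaf.stalk y') := by
    haveI := hreg'
    infer_instance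
  exact Groth.Agent.Lib.Helper76.NodeReg.not_regular_of_completion_equiv hd e hreg'

theorem isNode_bc_iff (hdim : topologicalKrullDim Y ≤ 1) (y' : ↥(pullback p (Spec.map ρ))) :
    (@Curv2.IsNode k _ Y ⟨p⟩ ((pullback.fst p (Spec.map ρ)).base y')) ↔
    (@Curv2.IsNode K _ (pullback p (Spec.map ρ)) ⟨pullback.snd p (Spec.map ρ)⟩ y') := by
  constructor
  · intro hnode
    have hx : IsClosed ({(pullback.fst p (Spec.map ρ)).base y'} : Set Y) := hnode.1
    exact isNode_bc p ρ y' (isClosed_of_isClosed_fst p ρ y' hx) hx hnode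
  · intro hnode
    exact isNode_of_bc p ρ y' (isClosed_fst_of_isNode p ρ hdim y' hnode) hnode

end fieldbc4

end Groth.Agent.Lib.Helper76.NodeEt
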