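import Mathlib
import Groth.Prelude.Def_CurvBase
import Groth.Agent.Lib.Helper76.NodeEt3

/-!
# Nodal families and étale morphisms on the base (helper76)
-/

set_option autoImplicit false
set_option backward.isDefEq.respectTransparency.types false
universe u

namespace Groth.Agent.Lib.Helper76.NodeEt

open IsLocalRing CategoryTheory CategoryTheory.Limits AlgebraicGeometry
open Groth.Agent.Lib.Helper76.NodeBC Groth.Agent.Lib.Helper21 Groth.Agent.Lib.Helper21.FieldDim

section alg2

theorem isQuad_restrictScalars {k k' : Type*} [Field k] [Field k'] [Algebra k k'] {B : Type*}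
    [CommRing B] [IsLocalRing B] [Algebra k B] [Algebra k' B] [IsScalarTower k k' B]
    [Algebra.IsSeparable k k'] (h : IsQuad k' B) : IsQuad k B := by
  obtain ⟨hsep, a, b, c, hnd, e, he⟩ := h
  haveI := hsep
  refine ⟨Algebra.IsSeparable.trans k k' _, a, b, c, hnd, e, fun t => ?_⟩
  rw [IsScalarTower.algebraMap_apply k k' B]
  exact he _

theorem isQuad_of_bijective {k : Type*} [Field k] {A B : Type*} [CommRing A] [CommRing B]
    [IsLocalRing A] [IsLocalRing B] [IsNoetherianRing A] [IsNoetherianRing B] [Algebra k A]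
    [Algebra k B] (φ : A →+* B) (hφ : Function.Bijective φ)
    (hc : ∀ t : k, φ (algebraMap k A t) = algebraMap k B t) (h : IsQuad k B) : IsQuad k A := by
  let ψ : B ≃+* A := (RingEquiv.ofBijective φ hφ).symm
  letI : Algebra B A := ψ.toRingHom.toAlgebra
  haveI : IsScalarTower k B A := IsScalarTower.of_algebraMap_eq' (by
    ext t
    show algebraMap k A t = ψ (algebraMap k B t)
    rw [← hc t]
    exact ((RingEquiv.ofBijective φ hφ).symm_apply_apply _).symm)
  haveI : Module.Flat B A := by
    rw [← RingHom.flat_algebraMap_iff, RingHom.algebraMap_toAlgebra]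
    exact RingHom.Flat.of_bijective ψ.bijective
  have hm : (maximalIdeal B).map (algebraMap B A) = maximalIdeal A :=
    IsLocalRing.map_ringEquiv_maximalIdeal ψ
  haveI := h.1
  haveI : IsLocalHom φ := IsLocalHom.of_surjective φ hφ.2
  haveI : Algebra.IsSeparable k (ResidueField A) := by
    let g : ResidueField A →ₐ[k] ResidueField B :=
      { ResidueField.map φ with
        commutes' := fun t => by
          show ResidueField.map φ (residue A (algebraMap k A t)) = residue B (algebraMap k B t)
          rw [ResidueField.map_residue, hc] }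
    exact Algebra.IsSeparable.of_algHom k (ResidueField B) g
  exact isQuad_of_flat hm h

end alg2

section sch2

variable {k k' : Type u} [Field k] [Field k'] {X Y : Scheme.{u}}

theorem toGlobal_comp (p : X ⟶ Spec (CommRingCat.of k)) (q : Y ⟶ Spec (CommRingCat.of k'))
    (π : Y ⟶ X) (ρ : CommRingCat.of k ⟶ CommRingCat.of k') (comm : q ≫ Spec.map ρ = π ≫ p)
    (t : k) : (π.appTop).hom (Coh.toGlobal p t) = Coh.toGlobal q (ρ.hom t) := by
  have h : (Scheme.ΓSpecIso (CommRingCat.of k)).inv ≫ p.appTop ≫ π.appTop =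
      ρ ≫ (Scheme.ΓSpecIso (CommRingCat.of k')).inv ≫ q.appTop := by
    rw [← Scheme.Hom.comp_appTop, ← comm, Scheme.Hom.comp_appTop, ← Category.assoc,
      ← Category.assoc, Scheme.ΓSpecIso_inv_naturality]
  exact ConcreteCategory.congr_hom h t

variable [X.Over (Spec (CommRingCat.of k))] [Y.Over (Spec (CommRingCat.of k'))]

theorem stalkMap_comp' (π : Y ⟶ X) (ρ : CommRingCat.of k ⟶ CommRingCat.of k')
    (comm : (Y ↘ Spec (CommRingCat.of k')) ≫ Spec.map ρ = π ≫ (X ↘ Spec (CommRingCat.of k)))
    (y : Y) (t : k) :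
    (π.stalkMap y).hom (Curv2.stalkMap k X (π y) t) = Curv2.stalkMap k' Y y (ρ.hom t) := by
  have h1 := ConcreteCategory.congr_hom (Scheme.Hom.germ_stalkMap π ⊤ y trivial)
    (Coh.toGlobal (X ↘ Spec (CommRingCat.of k)) t)
  have h2 := toGlobal_comp (X ↘ Spec (CommRingCat.of k)) (Y ↘ Spec (CommRingCat.of k')) π ρ comm t
  exact h1.trans (congrArg (Y.presheaf.germ ⊤ y trivial).hom h2)

theorem quadCone_descend [LocallyOfFiniteType (X ↘ Spec (CommRingCat.of k))]
    [LocallyOfFiniteType (Y ↘ Spec (CommRingCat.of k'))]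
    (π : Y ⟶ X) (ρ : CommRingCat.of k ⟶ CommRingCat.of k')
    (comm : (Y ↘ Spec (CommRingCat.of k')) ≫ Spec.map ρ = π ≫ (X ↘ Spec (CommRingCat.of k)))
    (hsep : letI := ρ.hom.toAlgebra; Algebra.IsSeparable k k')
    (y : Y) [IsIso (π.stalkMap y)] (h : QuadCone k' Y y) : QuadCone k X (π y) := by
  haveI : IsLocallyNoetherian X :=
    LocallyOfFiniteType.isLocallyNoetherian (X ↘ Spec (CommRingCat.of k))
  haveI : IsLocallyNoetherian Y :=
    LocallyOfFiniteType.isLocallyNoetherian (Y ↘ Spec (CommRingCat.of k'))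
  letI algk : Algebra k k' := ρ.hom.toAlgebra
  haveI := hsep
  letI algA := Curv2.stalkAlgebra k X (π y)
  letI algB' := Curv2.stalkAlgebra k' Y y
  letI algB : Algebra k (Y.presheaf.stalk y) :=
    ((Curv2.stalkMap k' Y y).comp ρ.hom).toAlgebra
  haveI : IsScalarTower k k' (Y.presheaf.stalk y) := IsScalarTower.of_algebraMap_eq' rfl
  have hB' : IsQuad k' (Y.presheaf.stalk y) := h
  have hB : IsQuad k (Y.presheaf.stalk y) := isQuad_restrictScalars hB'
  have hbij : Function.Bijective (π.stalkMap y).hom :=
    ConcreteCategory.bijective_of_isIso (π.stalkMap y)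
  exact isQuad_of_bijective (π.stalkMap y).hom hbij (fun t => stalkMap_comp' π ρ comm y t) hB

end sch2

section tdsq

variable {k k' : Type u} [Field k] [Field k'] {X Y : Scheme.{u}}
  (p : X ⟶ Spec (CommRingCat.of k)) (q : Y ⟶ Spec (CommRingCat.of k')) (π : Y ⟶ X)
  (b : Spec (CommRingCat.of k') ⟶ Spec (CommRingCat.of k)) [Etale π] [Etale b]
  [LocallyOfFiniteType p] [LocallyOfFiniteType q]

theorem td_eq_of_square (comm : q ≫ b = π ≫ p) (y : Y) : td p (π.base y) = td q y := by
  have h1 := trdegAt_eq_of_etale_square p q π b comm y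
  exact td_eq_of_trdegAt_eq p (h1.trans (trdegAt_eq_td q y))

end tdsq

section base

variable {X S S' : Scheme.{u}} (e : S' ⟶ S) (f : X ⟶ S') (s' : S')

theorem etale_residueFieldMap [Etale e] : Etale (Spec.map (e.residueFieldMap s')) := by
  letI := (e.residueFieldMap s').hom.toAlgebra
  haveI fin : Module.Finite (S.residueField (e s')) (S'.residueField s') :=
    Groth.Agent.Lib.Helper70.GeomPts.finite_residueFieldMap e s'
  haveI sep : Algebra.IsSeparable (S.residueField (e s')) (S'.residueField s') := inferInstance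
  haveI : Algebra.FormallyEtale (S.residueField (e s')) (S'.residueField s') :=
    Algebra.FormallyEtale.of_isSeparable _ _
  haveI : Algebra.FinitePresentation (S.residueField (e s')) (S'.residueField s') :=
    Algebra.FinitePresentation.of_finiteType.mp inferInstance
  rw [HasRingHomProperty.Spec_iff (P := @Etale)]
  show RingHom.Etale (algebraMap (S.residueField (e s')) (S'.residueField s'))
  rw [RingHom.etale_algebraMap]
  exact {}

theorem isOpenImmersion_asFiberHom [Etale e] : IsOpenImmersion (e.asFiberHom s') := by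
  haveI h1 : Etale (e.asFiberHom s' ≫ e.fiberToSpecResidueField (e s')) := by
    rw [Scheme.Hom.asFiberHom_fiberToSpecResidueField]
    exact etale_residueFieldMap e s'
  haveI h2 : Etale (e.fiberToSpecResidueField (e s')) :=
    MorphismProperty.pullback_snd _ _ inferInstance
  haveI : Etale (e.asFiberHom s') :=
    Etale.of_comp (e.asFiberHom s') (e.fiberToSpecResidueField (e s'))
  exact IsOpenImmersion.of_flat_of_mono _

/-- the comparison of fibres -/
noncomputable def fibIncl : f.fiber s' ⟶ (f ≫ e).fiber (e s') :=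
  (IsPullback.of_hasPullback (f ≫ e) (S.fromSpecResidueField (e s'))).lift
    (f.fiberι s') (f.fiberToSpecResidueField s' ≫ Spec.map (e.residueFieldMap s'))
    (by
      rw [Category.assoc, Scheme.Hom.SpecMap_residueFieldMap_fromSpecResidueField,
        ← Category.assoc, ← Category.assoc]
      congr 1
      exact f.fiber_fac s')

theorem fibIncl_fst : fibIncl e f s' ≫ (f ≫ e).fiberι (e s') = f.fiberι s' :=
  (IsPullback.of_hasPullback (f ≫ e) (S.fromSpecResidueField (e s'))).lift_fst _ _ _

theorem fibIncl_snd : fibIncl e f s' ≫ (f ≫ e).fiberToSpecResidueField (e s') =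
    f.fiberToSpecResidueField s' ≫ Spec.map (e.residueFieldMap s') :=
  (IsPullback.of_hasPullback (f ≫ e) (S.fromSpecResidueField (e s'))).lift_snd _ _ _

theorem fibIncl_isPullback :
    IsPullback (fibIncl e f s') (f.fiberToSpecResidueField s') (fibMap e f (e s'))
      (e.asFiberHom s') := by
  refine IsPullback.of_right ?_ ?_ (fibMap_isPullback e f (e s'))
  · rw [fibIncl_fst, Scheme.Hom.asFiberHom_fiberι]
    exact IsPullback.of_hasPullback f (S'.fromSpecResidueField s')
  · refine (IsPullback.of_hasPullback e (S.fromSpecResidueField (e s'))).hom_ext ?_ ?_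
    · show (fibIncl e f s' ≫ fibMap e f (e s')) ≫ e.fiberι (e s') =
        (f.fiberToSpecResidueField s' ≫ e.asFiberHom s') ≫ e.fiberι (e s')
      rw [Category.assoc, ← (fibMap_isPullback e f (e s')).w, ← Category.assoc, fibIncl_fst,
        Category.assoc, Scheme.Hom.asFiberHom_fiberι]
      exact f.fiber_fac s'
    · show (fibIncl e f s' ≫ fibMap e f (e s')) ≫ e.fiberToSpecResidueField (e s') =
        (f.fiberToSpecResidueField s' ≫ e.asFiberHom s') ≫ e.fiberToSpecResidueField (e s')
      rw [Category.assoc, fibMap_snd, fibIncl_snd, Category.assoc,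
        Scheme.Hom.asFiberHom_fiberToSpecResidueField]

instance [Etale e] : IsOpenImmersion (fibIncl e f s') :=
  MorphismProperty.of_isPullback (fibIncl_isPullback e f s').flip
    (isOpenImmersion_asFiberHom e s')

theorem exists_fibIncl_eq (z : (f ≫ e).fiber (e s'))
    (hz : f ((f ≫ e).fiberι (e s') z) = s') : ∃ z' : f.fiber s', fibIncl e f s' z' = z := by
  refine ⟨(f.fiberHomeo s').symm ⟨(f ≫ e).fiberι (e s') z, hz⟩, ?_⟩
  apply ((f ≫ e).fiberι (e s')).isEmbedding.injective
  rw [← Scheme.Hom.comp_apply, fibIncl_fst]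
  exact f.fiberι_fiberHomeo_symm s' _

end base

section main

variable {X S S' : Scheme.{u}} (e : S' ⟶ S) [Etale e] (f : X ⟶ S')

instance etale_SpecMap_residueFieldMap (s' : S') : Etale (Spec.map (e.residueFieldMap s')) :=
  etale_residueFieldMap e s'

/-- local instance: fibres of a morphism locally of finite type -/
theorem lft_fiber {X S : Scheme.{u}} (f : X ⟶ S) [LocallyOfFiniteType f] (s : S) :
    LocallyOfFiniteType (f.fiberToSpecResidueField s) :=
  Groth.Agent.Lib.Helper76.NormNodal.locallyOfFiniteType_fiberToSpecResidueField f s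

attribute [local instance] lft_fiber

omit [Etale e] in
theorem exists_point (s : S) (z : (f ≫ e).fiber s) :
    ∃ s' : S', e s' = s ∧ f ((f ≫ e).fiberι s z) = s' := by
  refine ⟨f ((f ≫ e).fiberι s z), ?_, rfl⟩
  have h1 : (f ≫ e).fiberι s z ∈ Set.range ((f ≫ e).fiberι s) := ⟨z, rfl⟩
  rw [Scheme.Hom.range_fiberι] at h1
  have h2 : (f ≫ e) ((f ≫ e).fiberι s z) = s := h1
  rwa [Scheme.Hom.comp_apply] at h2

theorem td_fibIncl [LocallyOfFiniteType f] (s' : S') (z' : f.fiber s') :
    td (k := S.residueField (e s')) ((f ≫ e).fiberToSpecResidueField (e s'))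
        (fibIncl e f s' z') =
      td (k := S'.residueField s') (f.fiberToSpecResidueField s') z' :=
  td_eq_of_square (k := S.residueField (e s')) (k' := S'.residueField s')
    ((f ≫ e).fiberToSpecResidueField (e s')) (f.fiberToSpecResidueField s') (fibIncl e f s')
    (Spec.map (e.residueFieldMap s')) (fibIncl_snd e f s').symm z'

theorem td_of_maximal [LocallyOfFiniteType f] (s' : S')
    (hdim : ∀ Z ∈ irreducibleComponents (f.fiber s' : Type u), topologicalKrullDim Z = 1)
    (η' : f.fiber s') (hmax : ∀ z, z ⤳ fibIncl e f s' η' → fibIncl e f s' η' ⤳ z) :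
    td (k := S.residueField (e s')) ((f ≫ e).fiberToSpecResidueField (e s'))
      (fibIncl e f s' η') = 1 := by
  have hmax' : ∀ z', z' ⤳ η' → η' ⤳ z' := by
    intro z' hz'
    have h1 := hmax _ (hz'.map (fibIncl e f s').continuous)
    exact (fibIncl e f s').isOpenEmbedding.isInducing.specializes_iff.mp h1
  have hW : closure ({η'} : Set (f.fiber s')) ∈ irreducibleComponents (f.fiber s' : Type u) :=
    closure_singleton_mem_irreducibleComponents_of_maximal hmax'
  have h2 := dim_eq_td_of_isGenericPoint (k := S'.residueField s')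
    (f.fiberToSpecResidueField s') (isGenericPoint_closure (x := η'))
  have h3 := hdim _ hW
  rw [td_fibIncl]
  rw [h2] at h3
  exact_mod_cast h3

theorem dim_components_base [LocallyOfFiniteType f]
    (hdim : ∀ s' : S', ∀ Z ∈ irreducibleComponents (f.fiber s' : Type u),
      topologicalKrullDim Z = 1) (s : S) :
    ∀ Z ∈ irreducibleComponents ((f ≫ e).fiber s : Type u), topologicalKrullDim Z = 1 := by
  intro Z hZ
  have hZcl : IsClosed Z := isClosed_of_mem_irreducibleComponents Z hZ
  have hgen : IsGenericPoint hZ.1.genericPoint Z := by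
    have := hZ.1.isGenericPoint_genericPoint_closure
    rwa [hZcl.closure_eq] at this
  have hmax : ∀ z, z ⤳ hZ.1.genericPoint → hZ.1.genericPoint ⤳ z := by
    apply maximal_of_closure_singleton_mem_irreducibleComponents
    rw [hgen.def]
    exact hZ
  rw [dim_eq_td_of_isGenericPoint (k := S.residueField s)
    ((f ≫ e).fiberToSpecResidueField s) hgen]
  clear hgen
  generalize hZ.1.genericPoint = η at hmax ⊢
  obtain ⟨s', hs', hfη⟩ := exists_point e f s η
  subst hs'
  obtain ⟨η', rfl⟩ := exists_fibIncl_eq e f s' η hfη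
  rw [td_of_maximal e f s' (hdim s') η' hmax]
  norm_num

theorem atWorstNodal_base [LocallyOfFiniteType f]
    (hnod : ∀ s' : S',
      letI : (f.fiber s').Over (Spec (S'.residueField s')) := ⟨f.fiberToSpecResidueField s'⟩
      Curv2.AtWorstNodal (S'.residueField s') (f.fiber s')) (s : S) :
    letI : ((f ≫ e).fiber s).Over (Spec (S.residueField s)) :=
      ⟨(f ≫ e).fiberToSpecResidueField s⟩
    Curv2.AtWorstNodal (S.residueField s) ((f ≫ e).fiber s) := by
  intro z hz
  obtain ⟨s', hs', hfz⟩ := exists_point e f s z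
  subst hs'
  obtain ⟨z', rfl⟩ := exists_fibIncl_eq e f s' z hfz
  letI instX : ((f ≫ e).fiber (e s')).Over (Spec (S.residueField (e s'))) :=
    ⟨(f ≫ e).fiberToSpecResidueField (e s')⟩
  letI instY : (f.fiber s').Over (Spec (S'.residueField s')) := ⟨f.fiberToSpecResidueField s'⟩
  haveI : LocallyOfFiniteType
      (((f ≫ e).fiber (e s')) ↘ Spec (CommRingCat.of (S.residueField (e s')))) :=
    (inferInstance : LocallyOfFiniteType ((f ≫ e).fiberToSpecResidueField (e s')))
  haveI : LocallyOfFiniteType ((f.fiber s') ↘ Spec (CommRingCat.of (S'.residueField s'))) :=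
    (inferInstance : LocallyOfFiniteType (f.fiberToSpecResidueField s'))
  have hz' : IsClosed ({z'} : Set (f.fiber s')) := by
    have : ({z'} : Set (f.fiber s')) = (fibIncl e f s') ⁻¹' {fibIncl e f s' z'} := by
      ext w
      simp only [Set.mem_singleton_iff, Set.mem_preimage]
      exact ⟨fun h => by rw [h], fun h => (fibIncl e f s').isOpenEmbedding.injective h⟩
    rw [this]
    exact hz.preimage (fibIncl e f s').continuous
  rcases hnod s' z' hz' with ⟨U', hz'U', hsm⟩ | hnode
  · left
    refine ⟨(fibIncl e f s') ''ᵁ U', ⟨z', hz'U', rfl⟩, ?_⟩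
    haveI hsm' : Smooth (U'.ι ≫ f.fiberToSpecResidueField s') := hsm
    have e1 : ((fibIncl e f s') ''ᵁ U').ι ≫ (f ≫ e).fiberToSpecResidueField (e s') =
        ((fibIncl e f s').isoImage U').inv ≫
          ((U'.ι ≫ f.fiberToSpecResidueField s') ≫ Spec.map (e.residueFieldMap s')) := by
      rw [← Scheme.Hom.isoImage_inv_ι, Category.assoc, Category.assoc, fibIncl_snd,
        Category.assoc]
    show Smooth (((fibIncl e f s') ''ᵁ U').ι ≫ (f ≫ e).fiberToSpecResidueField (e s'))
    rw [e1]
    infer_instance
  · right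
    rw [isNode_iff_quadCone (S.residueField (e s')) ((f ≫ e).fiber (e s')) _ hz]
    have hq := (isNode_iff_quadCone (S'.residueField s') (f.fiber s') z' hz').mp hnode
    exact quadCone_descend (k := S.residueField (e s')) (k' := S'.residueField s')
      (fibIncl e f s') (e.residueFieldMap s') (fibIncl_snd e f s').symm inferInstance z' hq

theorem isNodalFamily_comp_etale_base (hf : Curv2.IsNodalFamily f) :
    Curv2.IsNodalFamily (f ≫ e) := by
  obtain ⟨hflat, hlfp, hfib⟩ := hf
  haveI := hflat
  haveI := hlfp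
  exact ⟨inferInstance, inferInstance, fun s =>
    ⟨dim_components_base e f (fun s' => (hfib s').1) s,
      atWorstNodal_base e f (fun s' => (hfib s').2) s⟩⟩

end main

end Groth.Agent.Lib.Helper76.NodeEt
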