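import Mathlib
import Groth.Prelude.Def_W4c5spincurvestfNode
import Groth.Agent.Lib.Helper76.NodeDefA

/-!
# Normal form in `R[[x, y]]/(xy - π)` (helper76)

Every element of `R[[x,y]]/(xy - π)` (with `π` in an ideal for which `R` is adically complete) is
the class of `f(x) + y g(y)`, and such a representation is unique.
-/

set_option autoImplicit false
universe u

namespace Groth.Agent.Lib.Helper76.NodeNF

open MvPowerSeries

section limit

variable {R : Type*} [CommRing R]

/-- an operator "`a ↦ ∑ a n π ^ n`" with its functional equation -/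
theorem exists_L (I : Ideal R) [IsAdicComplete I R] (π : R) (hπ : π ∈ I) :
    ∃ L : (ℕ → R) → R, ∀ a : ℕ → R, L a = a 0 + π * L (fun n => a (n + 1)) := by
  have hpow : ∀ n, π ^ n ∈ I ^ n := fun n => Ideal.pow_mem_pow hπ n
  have hex : ∀ a : ℕ → R, ∃ l : R, ∀ N, l - ∑ n ∈ Finset.range N, a n * π ^ n ∈ I ^ N := by
    intro a
    apply NodeDef.exists_limit I (fun N => ∑ n ∈ Finset.range N, a n * π ^ n)
    intro N
    rw [Finset.sum_range_succ, add_sub_cancel_left]
    exact Ideal.mul_mem_left _ _ (hpow N)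
  choose L hL using hex
  refine ⟨L, fun a => ?_⟩
  apply NodeDef.eq_of_forall_sub_mem_pow I
  intro N
  have h1 := Ideal.pow_le_pow_right (Nat.le_succ N) (hL a (N + 1))
  have h2 : π * (L (fun n => a (n + 1)) - ∑ n ∈ Finset.range N, a (n + 1) * π ^ n) ∈ I ^ N :=
    Ideal.mul_mem_left _ _ (hL (fun n => a (n + 1)) N)
  have h3 : ∑ n ∈ Finset.range (N + 1), a n * π ^ n =
      π * (∑ n ∈ Finset.range N, a (n + 1) * π ^ n) + a 0 := by
    rw [Finset.sum_range_succ', pow_zero, mul_one, Finset.mul_sum]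
    congr 1
    apply Finset.sum_congr rfl
    intro n _
    ring
  have h4 := (I ^ N).sub_mem h1 h2
  rw [h3] at h4
  convert h4 using 1
  ring

end limit

section coeffs

variable {R : Type*} [CommRing R]

local notation "P" => MvPowerSeries (Fin 2) R

/-- the exponent vector `(i, j)` -/
noncomputable def idx (i j : ℕ) : Fin 2 →₀ ℕ := Finsupp.single 0 i + Finsupp.single 1 j

@[simp] lemma idx_zero (i j : ℕ) : idx i j 0 = i := by simp [idx]

@[simp] lemma idx_one (i j : ℕ) : idx i j 1 = j := by simp [idx]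

lemma eq_idx (d : Fin 2 →₀ ℕ) : d = idx (d 0) (d 1) := by
  ext s
  fin_cases s <;> simp [idx]

lemma X0X1 : (X 0 * X 1 : P) = monomial (idx 1 1) 1 := by
  rw [X_def, X_def, monomial_mul_monomial, one_mul]
  rfl

lemma coeff_XX_mul (H : P) (d : Fin 2 →₀ ℕ) :
    coeff d (X 0 * X 1 * H) =
      if 1 ≤ d 0 ∧ 1 ≤ d 1 then coeff (idx (d 0 - 1) (d 1 - 1)) H else 0 := by
  rw [X0X1, coeff_monomial_mul, one_mul]
  have hle : idx 1 1 ≤ d ↔ 1 ≤ d 0 ∧ 1 ≤ d 1 := by
    rw [Finsupp.le_def, Fin.forall_fin_two]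
    simp
  have hsub : d - idx 1 1 = idx (d 0 - 1) (d 1 - 1) := by
    ext s
    fin_cases s <;> simp [Finsupp.tsub_apply]
  by_cases h : 1 ≤ d 0 ∧ 1 ≤ d 1
  · rw [if_pos (hle.mpr h), if_pos h, hsub]
  · rw [if_neg (fun h' => h (hle.mp h')), if_neg h]

lemma coeff_toMv (s : Fin 2) (f : PowerSeries R) (n : ℕ) :
    coeff (Finsupp.single s n) (PowerSeries.toMvPowerSeries (σ := Fin 2) s f) =
      PowerSeries.coeff n f := by
  have h := coeff_embDomain_rename (R := R) (Function.Embedding.punit s) f (Finsupp.single () n)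
  rw [Finsupp.embDomain_single] at h
  exact h

lemma coeff_toMv_eq_zero (s : Fin 2) (f : PowerSeries R) (d : Fin 2 →₀ ℕ) (t : Fin 2)
    (hts : t ≠ s) (hd : d t ≠ 0) :
    coeff d (PowerSeries.toMvPowerSeries (σ := Fin 2) s f) = 0 := by
  rw [PowerSeries.toMvPowerSeries_apply]
  apply coeff_rename_eq_zero
  rintro ⟨x, rfl⟩
  apply hd
  apply Finsupp.mapDomain_of_notMem_range
  rintro ⟨u, hu⟩
  exact hts hu.symm

lemma coeff_toMv0 (f : PowerSeries R) (i j : ℕ) :
    coeff (idx i j) (PowerSeries.toMvPowerSeries (σ := Fin 2) 0 f) =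
      if j = 0 then PowerSeries.coeff i f else 0 := by
  by_cases hj : j = 0
  · subst hj
    rw [if_pos rfl]
    have : idx i 0 = Finsupp.single 0 i := by simp [idx]
    rw [this, coeff_toMv]
  · rw [if_neg hj]
    exact coeff_toMv_eq_zero 0 f _ 1 (by decide) (by simpa using hj)

lemma coeff_toMv1 (g : PowerSeries R) (i j : ℕ) :
    coeff (idx i j) (PowerSeries.toMvPowerSeries (σ := Fin 2) 1 g) =
      if i = 0 then PowerSeries.coeff j g else 0 := by
  by_cases hi : i = 0
  · subst hi
    rw [if_pos rfl]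
    have : idx 0 j = Finsupp.single 1 j := by simp [idx]
    rw [this, coeff_toMv]
  · rw [if_neg hi]
    exact coeff_toMv_eq_zero 1 g _ 0 (by decide) (by simpa using hi)

/-- existence of the normal form -/
theorem exists_nf (L : (ℕ → R) → R) (π : R)
    (hL : ∀ a : ℕ → R, L a = a 0 + π * L (fun n => a (n + 1))) (Φ : P) :
    ∃ (f g : PowerSeries R) (H : P),
      Φ = PowerSeries.toMvPowerSeries 0 f + X 1 * PowerSeries.toMvPowerSeries 1 g
        + (X 0 * X 1 - C π) * H := by
  obtain ⟨c, hc⟩ : ∃ c : ℕ → ℕ → R, ∀ i j, c i j = coeff (idx i j) Φ := ⟨_, fun _ _ => rfl⟩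
  have hL' : ∀ a b : ℕ → R, (∀ n, b n = a (n + 1)) → L a = a 0 + π * L b := by
    intro a b hab
    have : b = fun n => a (n + 1) := funext hab
    rw [this]
    exact hL a
  obtain ⟨f, hf⟩ : ∃ f : PowerSeries R, ∀ i, PowerSeries.coeff i f = L fun n => c (i + n) n :=
    ⟨PowerSeries.mk _, fun i => PowerSeries.coeff_mk _ _⟩
  obtain ⟨g, hg⟩ : ∃ g : PowerSeries R, ∀ j, PowerSeries.coeff j g = L fun n => c n (j + 1 + n) :=
    ⟨PowerSeries.mk _, fun j => PowerSeries.coeff_mk _ _⟩
  obtain ⟨H, hH⟩ : ∃ H : P, ∀ i j, coeff (idx i j) H = L fun n => c (i + 1 + n) (j + 1 + n) :=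
    ⟨fun d => L fun n => c (d 0 + 1 + n) (d 1 + 1 + n), fun i j => by
      show (L fun n => c ((idx i j) 0 + 1 + n) ((idx i j) 1 + 1 + n)) = _
      simp only [idx_zero, idx_one]⟩
  have hA : ∀ i j, L (fun n => c (i + 1 + n) (j + 1 + n)) =
      c (i + 1) (j + 1) + π * L (fun n => c (i + 1 + 1 + n) (j + 1 + 1 + n)) := fun i j =>
    hL' _ _ (fun n => by
      show c _ _ = c _ _
      congr 1 <;> omega)
  have hB : ∀ i, L (fun n => c (i + n) n) = c i 0 + π * L (fun n => c (i + 1 + n) (0 + 1 + n)) :=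
    fun i => hL' _ _ (fun n => by
      show c _ _ = c _ _
      congr 1 <;> omega)
  have hC : ∀ j, L (fun n => c n (j + 1 + n)) =
      c 0 (j + 1) + π * L (fun n => c (0 + 1 + n) (j + 1 + 1 + n)) :=
    fun j => hL' _ _ (fun n => by
      show c _ _ = c _ _
      congr 1 <;> omega)
  refine ⟨f, g, H, ?_⟩
  ext d
  obtain ⟨i, j, rfl⟩ : ∃ i j, d = idx i j := ⟨d 0, d 1, eq_idx d⟩
  have e1 : (X 1 : P) * PowerSeries.toMvPowerSeries 1 g =
      PowerSeries.toMvPowerSeries 1 (PowerSeries.X * g) := by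
    rw [map_mul, PowerSeries.toMvPowerSeries_X]
  rw [e1, map_add, map_add, coeff_toMv0, coeff_toMv1, sub_mul, map_sub, coeff_XX_mul, coeff_C_mul,
    ← hc]
  simp only [idx_zero, idx_one]
  rcases i with _ | i <;> rcases j with _ | j
  · rw [if_pos rfl, if_pos rfl, if_neg (by omega), PowerSeries.coeff_zero_X_mul, hf, hH]
    linear_combination -(hB 0)
  · rw [if_neg (Nat.succ_ne_zero j), if_pos rfl, if_neg (by omega), PowerSeries.coeff_succ_X_mul,
      hg, hH]
    linear_combination -(hC j)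
  · rw [if_pos rfl, if_neg (Nat.succ_ne_zero i), if_neg (by omega), hf, hH]
    linear_combination -(hB (i + 1))
  · rw [if_neg (Nat.succ_ne_zero j), if_neg (Nat.succ_ne_zero i), if_pos (by omega),
      Nat.add_sub_cancel, Nat.add_sub_cancel, hH, hH]
    linear_combination -(hA i j)

/-- uniqueness of the normal form -/
theorem unique_nf (I : Ideal R) [IsHausdorff I R] (π : R) (hπ : π ∈ I) (F G : PowerSeries R)
    (H : P)
    (h : PowerSeries.toMvPowerSeries 0 F + PowerSeries.toMvPowerSeries 1 G =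
      (X 0 * X 1 - C π) * H) :
    (∀ n, PowerSeries.coeff (n + 1) F = 0) ∧ (∀ n, PowerSeries.coeff (n + 1) G = 0) := by
  have hstep : ∀ i j, coeff (idx i j) H = π * coeff (idx (i + 1) (j + 1)) H := by
    intro i j
    have h1 := congrArg (coeff (idx (i + 1) (j + 1))) h
    rw [map_add, coeff_toMv0, coeff_toMv1, if_neg (Nat.succ_ne_zero j),
      if_neg (Nat.succ_ne_zero i), add_zero, sub_mul, map_sub, coeff_XX_mul, coeff_C_mul] at h1
    simp only [idx_zero, idx_one, Nat.add_sub_cancel] at h1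
    rw [if_pos ⟨Nat.le_add_left 1 i, Nat.le_add_left 1 j⟩] at h1
    linear_combination -h1
  have hpow : ∀ n i j, coeff (idx i j) H = π ^ n * coeff (idx (i + n) (j + n)) H := by
    intro n
    induction n with
    | zero =>
      intro i j
      simp
    | succ n ih =>
      intro i j
      rw [ih i j, hstep (i + n) (j + n), pow_succ, mul_assoc]
      rfl
  have hH : H = 0 := by
    ext d
    obtain ⟨i, j, rfl⟩ : ∃ i j, d = idx i j := ⟨d 0, d 1, eq_idx d⟩
    rw [map_zero]
    apply NodeDef.eq_of_forall_sub_mem_pow I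
    intro n
    rw [sub_zero, hpow n i j]
    exact Ideal.mul_mem_right _ _ (Ideal.pow_mem_pow hπ n)
  rw [hH, mul_zero] at h
  constructor
  · intro n
    have h1 := congrArg (coeff (idx (n + 1) 0)) h
    rw [map_add, coeff_toMv0, coeff_toMv1, if_pos rfl, if_neg (Nat.succ_ne_zero n), add_zero,
      map_zero] at h1
    exact h1
  · intro n
    have h1 := congrArg (coeff (idx 0 (n + 1))) h
    rw [map_add, coeff_toMv0, coeff_toMv1, if_neg (Nat.succ_ne_zero n), if_pos rfl, zero_add,
      map_zero] at h1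
    exact h1

end coeffs

section alpha

variable (R : Type u) [CommRing R] (p q : R)

local notation "A" => SpinCurv.NodeRing R (p * q)
local notation "xA" => SpinCurv.NodeRing.x R (p * q)
local notation "yA" => SpinCurv.NodeRing.y R (p * q)
local notation "oX" => SpinCurv.NodeRing.ofX R (p * q)
local notation "oY" => SpinCurv.NodeRing.ofY R (p * q)

lemma x_mul_y : xA * yA = algebraMap R A p * algebraMap R A q := by
  rw [← map_mul (algebraMap R A)]
  show Ideal.Quotient.mk _ (X 0) * Ideal.Quotient.mk _ (X 1) = Ideal.Quotient.mk _ (C (p * q))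
  rw [← map_mul, Ideal.Quotient.eq]
  exact Ideal.subset_span rfl

lemma alpha_mulVec (v : Fin 2 → A) :
    Matrix.mulVec (SpinCurv.nodeAlpha R p q) v =
      ![xA * v 0 + algebraMap R A p * v 1, algebraMap R A q * v 0 + yA * v 1] := by
  ext i
  fin_cases i <;> simp [SpinCurv.nodeAlpha, Matrix.mulVec, dotProduct, Fin.sum_univ_two]

theorem alpha_gen1 :
    Matrix.mulVec (SpinCurv.nodeAlpha R p q) ![algebraMap R A p, -xA] = 0 := by
  rw [alpha_mulVec]
  funext i
  fin_cases i
  · show xA * algebraMap R A p + algebraMap R A p * (-xA) = 0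
    ring
  · show algebraMap R A q * algebraMap R A p + yA * (-xA) = 0
    linear_combination -(x_mul_y R p q)

theorem alpha_gen2 :
    Matrix.mulVec (SpinCurv.nodeAlpha R p q) ![yA, -algebraMap R A q] = 0 := by
  rw [alpha_mulVec]
  funext i
  fin_cases i
  · show xA * yA + algebraMap R A p * (-algebraMap R A q) = 0
    linear_combination (x_mul_y R p q)
  · show algebraMap R A q * yA + yA * (-algebraMap R A q) = 0
    ring

variable [IsLocalRing R] [IsAdicComplete (IsLocalRing.maximalIdeal R) R]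

theorem alpha_injective (hq : q ∈ IsLocalRing.maximalIdeal R) (f g : PowerSeries R)
    (h : Matrix.mulVec (SpinCurv.nodeAlpha R p q) ![oX f, oY g] = 0) :
    f = 0 ∧ g = 0 := by
  have hπ : p * q ∈ IsLocalRing.maximalIdeal R := Ideal.mul_mem_left _ p hq
  rw [alpha_mulVec] at h
  have h0 : xA * oX f + algebraMap R A p * oY g = 0 := congrFun h 0
  have h1 : algebraMap R A q * oX f + yA * oY g = 0 := congrFun h 1
  have hf : f = 0 := by
    have e : xA * oX f + algebraMap R A p * oY g =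
        Ideal.Quotient.mk _ (PowerSeries.toMvPowerSeries 0 (PowerSeries.X * f) +
          PowerSeries.toMvPowerSeries 1 (PowerSeries.C p * g)) := by
      simp only [map_add, map_mul, PowerSeries.toMvPowerSeries_X, PowerSeries.toMvPowerSeries_C]
      rfl
    rw [e, Ideal.Quotient.eq_zero_iff_mem, Ideal.mem_span_singleton] at h0
    obtain ⟨H, hH⟩ := h0
    have h2 := (unique_nf (IsLocalRing.maximalIdeal R) (p * q) hπ _ _ H hH).1
    ext n
    have h3 := h2 n
    rw [PowerSeries.coeff_succ_X_mul] at h3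
    rw [h3, map_zero]
  subst hf
  have hg : g = 0 := by
    have e : algebraMap R A q * oX 0 + yA * oY g =
        Ideal.Quotient.mk _ (PowerSeries.toMvPowerSeries 0 (0 : PowerSeries R) +
          PowerSeries.toMvPowerSeries 1 (PowerSeries.X * g)) := by
      have hz : oX 0 = 0 := by
        show Ideal.Quotient.mk _ (PowerSeries.toMvPowerSeries 0 (0 : PowerSeries R)) = 0
        rw [map_zero, map_zero]
      have hm : PowerSeries.toMvPowerSeries (σ := Fin 2) 0 (0 : PowerSeries R) +
          PowerSeries.toMvPowerSeries 1 (PowerSeries.X * g) =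
          X 1 * PowerSeries.toMvPowerSeries 1 g := by
        rw [map_zero, zero_add, map_mul, PowerSeries.toMvPowerSeries_X]
      rw [hz, mul_zero, zero_add, hm]
      exact (map_mul (Ideal.Quotient.mk _) _ _).symm
    rw [e, Ideal.Quotient.eq_zero_iff_mem, Ideal.mem_span_singleton] at h1
    obtain ⟨H, hH⟩ := h1
    have h2 := (unique_nf (IsLocalRing.maximalIdeal R) (p * q) hπ _ _ H hH).2
    ext n
    have h3 := h2 n
    rw [PowerSeries.coeff_succ_X_mul] at h3
    rw [h3, map_zero]
  exact ⟨rfl, hg⟩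

theorem alpha_reduce (hq : q ∈ IsLocalRing.maximalIdeal R) (v : Fin 2 → A) :
    ∃ (f g : PowerSeries R) (a b : A),
      v = ![oX f, oY g] + a • ![yA, -algebraMap R A q] + b • ![algebraMap R A p, -xA] := by
  have hπ : p * q ∈ IsLocalRing.maximalIdeal R := Ideal.mul_mem_left _ p hq
  obtain ⟨L, hL⟩ := exists_L (IsLocalRing.maximalIdeal R) (p * q) hπ
  obtain ⟨Φ₀, hΦ₀⟩ := Ideal.Quotient.mk_surjective (v 0)
  obtain ⟨Φ₁, hΦ₁⟩ := Ideal.Quotient.mk_surjective (v 1)
  obtain ⟨a₁, a₂, H₀, h₀⟩ := exists_nf L (p * q) hL Φ₀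
  obtain ⟨β, γ, H₁, h₁⟩ := exists_nf L (p * q) hL Φ₁
  obtain ⟨β', β₀, rfl⟩ : ∃ (β' : PowerSeries R) (β₀ : R),
      β = β' * PowerSeries.X + PowerSeries.C β₀ :=
    ⟨_, _, PowerSeries.eq_shift_mul_X_add_const β⟩
  have hrel : ∀ H : MvPowerSeries (Fin 2) R,
      Ideal.Quotient.mk (Ideal.span {(X 0 * X 1 - C (p * q) : MvPowerSeries (Fin 2) R)})
        ((X 0 * X 1 - C (p * q)) * H) = 0 := fun H =>
    Ideal.Quotient.eq_zero_iff_mem.mpr (Ideal.mul_mem_right _ _ (Ideal.subset_span rfl))
  have hv0 : v 0 = oX a₁ + yA * oY a₂ := by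
    rw [← hΦ₀, h₀, map_add, map_add, hrel, add_zero]
    congr 1
  have hβ : PowerSeries.toMvPowerSeries (σ := Fin 2) 0 (β' * PowerSeries.X + PowerSeries.C β₀) =
      PowerSeries.toMvPowerSeries 0 β' * X 0 + C β₀ := by
    rw [map_add, map_mul, PowerSeries.toMvPowerSeries_X, PowerSeries.toMvPowerSeries_C]
  have hv1 : v 1 = oX β' * xA + algebraMap R A β₀ + yA * oY γ := by
    rw [← hΦ₁, h₁, map_add, map_add, hrel, add_zero, hβ]
    congr 1
  have hX : oX (a₁ + PowerSeries.C p * β') = oX a₁ + algebraMap R A p * oX β' := by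
    have : PowerSeries.toMvPowerSeries (σ := Fin 2) 0 (a₁ + PowerSeries.C p * β') =
        PowerSeries.toMvPowerSeries 0 a₁ + C p * PowerSeries.toMvPowerSeries 0 β' := by
      rw [map_add, map_mul, PowerSeries.toMvPowerSeries_C]
    show Ideal.Quotient.mk _ (PowerSeries.toMvPowerSeries 0 (a₁ + PowerSeries.C p * β')) = _
    rw [this, map_add]
    congr 1
  have hY : oY (PowerSeries.C β₀ + PowerSeries.X * γ + PowerSeries.C q * a₂) =
      algebraMap R A β₀ + yA * oY γ + algebraMap R A q * oY a₂ := by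
    have : PowerSeries.toMvPowerSeries (σ := Fin 2) 1
        (PowerSeries.C β₀ + PowerSeries.X * γ + PowerSeries.C q * a₂) =
        C β₀ + X 1 * PowerSeries.toMvPowerSeries 1 γ + C q * PowerSeries.toMvPowerSeries 1 a₂ := by
      rw [map_add, map_add, map_mul, map_mul, PowerSeries.toMvPowerSeries_C,
        PowerSeries.toMvPowerSeries_C, PowerSeries.toMvPowerSeries_X]
    show Ideal.Quotient.mk _ (PowerSeries.toMvPowerSeries 1
      (PowerSeries.C β₀ + PowerSeries.X * γ + PowerSeries.C q * a₂)) = _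
    rw [this, map_add, map_add]
    congr 1
  refine ⟨a₁ + PowerSeries.C p * β', PowerSeries.C β₀ + PowerSeries.X * γ + PowerSeries.C q * a₂,
    oY a₂, -oX β', ?_⟩
  funext i
  fin_cases i
  · show v 0 = oX (a₁ + PowerSeries.C p * β') + oY a₂ * yA + (-oX β') * algebraMap R A p
    rw [hv0, hX]
    ring
  · show v 1 = oY (PowerSeries.C β₀ + PowerSeries.X * γ + PowerSeries.C q * a₂) +
      oY a₂ * (-algebraMap R A q) + (-oX β') * (-xA)
    rw [hv1, hY]
    ring

end alpha

section ofXY

variable (R : Type u) [CommRing R] (π : R)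

lemma ofX_sub (f g : PowerSeries R) : SpinCurv.NodeRing.ofX R π (f - g) =
    SpinCurv.NodeRing.ofX R π f - SpinCurv.NodeRing.ofX R π g := by
  show Ideal.Quotient.mk (Ideal.span {(X 0 * X 1 - C π : MvPowerSeries (Fin 2) R)}) _ = _
  rw [map_sub, map_sub]

lemma ofY_sub (f g : PowerSeries R) : SpinCurv.NodeRing.ofY R π (f - g) =
    SpinCurv.NodeRing.ofY R π f - SpinCurv.NodeRing.ofY R π g := by
  show Ideal.Quotient.mk (Ideal.span {(X 0 * X 1 - C π : MvPowerSeries (Fin 2) R)}) _ = _
  rw [map_sub, map_sub]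

lemma ofX_zero : SpinCurv.NodeRing.ofX R π 0 = 0 := by
  show Ideal.Quotient.mk (Ideal.span {(X 0 * X 1 - C π : MvPowerSeries (Fin 2) R)}) _ = _
  rw [map_zero, map_zero]

lemma ofY_zero : SpinCurv.NodeRing.ofY R π 0 = 0 := by
  show Ideal.Quotient.mk (Ideal.span {(X 0 * X 1 - C π : MvPowerSeries (Fin 2) R)}) _ = _
  rw [map_zero, map_zero]

end ofXY

end Groth.Agent.Lib.Helper76.NodeNF
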