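import Mathlib
import Groth.Agent.Lib.Helper76.NodeNF

/-!
# The node `k[[x,y]]/(xy)` over a field: quotients by `(x^u, w y^v)` (helper76)
-/

set_option autoImplicit false
universe u

namespace Groth.Agent.Lib.Helper76.NodeNF

open MvPowerSeries

section finrank

variable (k : Type u) [Field k]

local notation "P" => MvPowerSeries (Fin 2) k
local notation "A" => SpinCurv.NodeRing k 0
local notation "I0" => Ideal.span {(X 0 * X 1 - C (0 : k) : MvPowerSeries (Fin 2) k)}

lemma coeff_X_pow_mul_of_lt {R : Type*} [CommRing R] (s : Fin 2) (n : ℕ)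
    (φ : MvPowerSeries (Fin 2) R) (d : Fin 2 →₀ ℕ) (h : d s < n) :
    coeff d (X s ^ n * φ) = 0 := by
  rw [X_pow_eq, coeff_monomial_mul, if_neg]
  intro hle
  have h1 := hle s
  rw [Finsupp.single_eq_same] at h1
  omega

/-- the normal form when `π = 0`, with its coefficients -/
lemma nf_zero (Φ : P) : ∃ (f g : PowerSeries k) (H : P),
    Φ = PowerSeries.toMvPowerSeries 0 f + X 1 * PowerSeries.toMvPowerSeries 1 g
      + (X 0 * X 1 - C 0) * H ∧
    (∀ i, PowerSeries.coeff i f = coeff (idx i 0) Φ) ∧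
    (∀ j, PowerSeries.coeff j g = coeff (idx 0 (j + 1)) Φ) := by
  obtain ⟨f, g, H, hΦ⟩ := exists_nf (fun a : ℕ → k => a 0) 0 (by intro a; simp) Φ
  have e1 : (X 1 : P) * PowerSeries.toMvPowerSeries 1 g =
      PowerSeries.toMvPowerSeries 1 (PowerSeries.X * g) := by
    rw [map_mul, PowerSeries.toMvPowerSeries_X]
  have hrel0 : (X 0 * X 1 - C (0 : k)) * H = X 0 * X 1 * H := by
    rw [map_zero, sub_zero]
  refine ⟨f, g, H, hΦ, fun i => ?_, fun j => ?_⟩
  · have h := congrArg (coeff (idx i 0)) hΦ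
    have hc1 : coeff (idx i 0) (PowerSeries.toMvPowerSeries (σ := Fin 2) 0 f) =
        PowerSeries.coeff i f := by
      rw [coeff_toMv0, if_pos rfl]
    have hc2 : coeff (idx i 0) (PowerSeries.toMvPowerSeries (σ := Fin 2) 1 (PowerSeries.X * g)) =
        0 := by
      rw [coeff_toMv1]
      split_ifs
      · exact PowerSeries.coeff_zero_X_mul g
      · rfl
    have hc3 : coeff (idx i 0) (X 0 * X 1 * H) = 0 := by
      rw [coeff_XX_mul, if_neg]
      simp
    rw [hrel0, e1, map_add, map_add, hc1, hc2, hc3, add_zero, add_zero] at h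
    exact h.symm
  · have h := congrArg (coeff (idx 0 (j + 1))) hΦ
    have hc1 : coeff (idx 0 (j + 1)) (PowerSeries.toMvPowerSeries (σ := Fin 2) 0 f) = 0 := by
      rw [coeff_toMv0, if_neg (Nat.succ_ne_zero j)]
    have hc2 : coeff (idx 0 (j + 1))
        (PowerSeries.toMvPowerSeries (σ := Fin 2) 1 (PowerSeries.X * g)) =
        PowerSeries.coeff j g := by
      rw [coeff_toMv1, if_pos rfl, PowerSeries.coeff_succ_X_mul]
    have hc3 : coeff (idx 0 (j + 1)) (X 0 * X 1 * H) = 0 := by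
      rw [coeff_XX_mul, if_neg]
      simp
    rw [hrel0, e1, map_add, map_add, hc1, hc2, hc3, add_zero, zero_add] at h
    exact h.symm

lemma mk_mem_iff (u v : ℕ) (hu : 1 ≤ u) (hv : 1 ≤ v) (w : k) (hw : w ≠ 0) (Φ : P) :
    (Ideal.Quotient.mk I0 Φ : A) ∈
      Ideal.span {SpinCurv.NodeRing.x k 0 ^ u,
        algebraMap k A w * SpinCurv.NodeRing.y k 0 ^ v} ↔
    (∀ i, i < u → coeff (idx i 0) Φ = 0) ∧ (∀ j, j + 1 < v → coeff (idx 0 (j + 1)) Φ = 0) := by
  constructor
  · intro h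
    rw [Ideal.mem_span_pair] at h
    obtain ⟨a, b, hab⟩ := h
    obtain ⟨a', rfl⟩ := Ideal.Quotient.mk_surjective a
    obtain ⟨b', rfl⟩ := Ideal.Quotient.mk_surjective b
    have h2 : Ideal.Quotient.mk I0 (X 0 ^ u * a' + X 1 ^ v * (C w * b')) =
        Ideal.Quotient.mk I0 Φ := by
      rw [← hab]
      have hw2 : algebraMap k A w = Ideal.Quotient.mk I0 (C w) := rfl
      rw [hw2]
      simp only [map_add, map_mul, map_pow]
      ring
    rw [Ideal.Quotient.eq, Ideal.mem_span_singleton] at h2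
    obtain ⟨H, hH⟩ := h2
    have hrel0 : (X 0 * X 1 - C (0 : k)) * H = X 0 * X 1 * H := by
      rw [map_zero, sub_zero]
    have hΦ : Φ = X 0 ^ u * a' + X 1 ^ v * (C w * b') - X 0 * X 1 * H := by
      rw [← hrel0, ← hH]
      ring
    constructor
    · intro i hi
      have hc3 : coeff (idx i 0) (X 0 * X 1 * H) = 0 := by
        rw [coeff_XX_mul, if_neg]
        simp
      rw [hΦ, map_sub, map_add, coeff_X_pow_mul_of_lt 0 u a' _ (by simpa using hi),
        coeff_X_pow_mul_of_lt 1 v _ _ (by simp; omega), hc3]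
      simp
    · intro j hj
      have hc3 : coeff (idx 0 (j + 1)) (X 0 * X 1 * H) = 0 := by
        rw [coeff_XX_mul, if_neg]
        simp
      rw [hΦ, map_sub, map_add, coeff_X_pow_mul_of_lt 0 u a' _ (by simp; omega),
        coeff_X_pow_mul_of_lt 1 v _ _ (by simpa using hj), hc3]
      simp
  · rintro ⟨h1, h2⟩
    obtain ⟨f, g, H, hΦ, hf, hg⟩ := nf_zero k Φ
    obtain ⟨f', hf'⟩ : PowerSeries.X ^ u ∣ f :=
      PowerSeries.X_pow_dvd_iff.mpr (fun m hm => by rw [hf]; exact h1 m hm)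
    obtain ⟨g', hg'⟩ : PowerSeries.X ^ (v - 1) ∣ g :=
      PowerSeries.X_pow_dvd_iff.mpr (fun m hm => by rw [hg]; exact h2 m (by omega))
    have hrel : Ideal.Quotient.mk I0 ((X 0 * X 1 - C 0) * H) = 0 :=
      Ideal.Quotient.eq_zero_iff_mem.mpr (Ideal.mul_mem_right _ _ (Ideal.subset_span rfl))
    have hw' : algebraMap k A w * algebraMap k A w⁻¹ = 1 := by
      rw [← map_mul, mul_inv_cancel₀ hw, map_one]
    have hy : SpinCurv.NodeRing.y k 0 ^ v =
        SpinCurv.NodeRing.y k 0 * SpinCurv.NodeRing.y k 0 ^ (v - 1) := by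
      rw [← pow_succ']
      congr 1
      omega
    have e : Ideal.Quotient.mk I0 Φ =
        SpinCurv.NodeRing.x k 0 ^ u * Ideal.Quotient.mk I0 (PowerSeries.toMvPowerSeries 0 f') +
        (algebraMap k A w * SpinCurv.NodeRing.y k 0 ^ v) *
          (algebraMap k A w⁻¹ * Ideal.Quotient.mk I0 (PowerSeries.toMvPowerSeries 1 g')) := by
      have e2 : Ideal.Quotient.mk I0 Φ =
          SpinCurv.NodeRing.x k 0 ^ u * Ideal.Quotient.mk I0 (PowerSeries.toMvPowerSeries 0 f') +
          SpinCurv.NodeRing.y k 0 * (SpinCurv.NodeRing.y k 0 ^ (v - 1) *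
            Ideal.Quotient.mk I0 (PowerSeries.toMvPowerSeries 1 g')) := by
        rw [hΦ, map_add, map_add, hrel, add_zero, hf', hg']
        simp only [map_mul, map_pow, PowerSeries.toMvPowerSeries_X]
      rw [e2, hy]
      linear_combination (-(SpinCurv.NodeRing.y k 0 * SpinCurv.NodeRing.y k 0 ^ (v - 1) *
        Ideal.Quotient.mk I0 (PowerSeries.toMvPowerSeries 1 g'))) * hw'
    rw [e]
    apply Ideal.add_mem
    · exact Ideal.mul_mem_right _ _ (Ideal.subset_span (Set.mem_insert _ _))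
    · exact Ideal.mul_mem_right _ _ (Ideal.subset_span (Set.mem_insert_of_mem _ rfl))

theorem finrank_node_quot (u v : ℕ) (hu : 1 ≤ u) (hv : 1 ≤ v) (w : k) (hw : w ≠ 0) :
    Module.finrank k (A ⧸ Ideal.span {SpinCurv.NodeRing.x k 0 ^ u,
      algebraMap k A w * SpinCurv.NodeRing.y k 0 ^ v}) = u + v - 1 := by
  obtain ⟨J, hJ⟩ : ∃ J : Ideal A, J = Ideal.span {SpinCurv.NodeRing.x k 0 ^ u,
      algebraMap k A w * SpinCurv.NodeRing.y k 0 ^ v} := ⟨_, rfl⟩
  rw [← hJ]
  let π₂ : P →ₗ[k] (A ⧸ J) :=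
    (Ideal.Quotient.mkₐ k J).toLinearMap ∘ₗ (Ideal.Quotient.mkₐ k I0).toLinearMap
  let Ψ : P →ₗ[k] ((Fin u → k) × (Fin (v - 1) → k)) :=
    LinearMap.prod (LinearMap.pi fun i : Fin u => coeff (idx i 0))
      (LinearMap.pi fun j : Fin (v - 1) => coeff (idx 0 (j + 1)))
  have hπ₂ : Function.Surjective π₂ :=
    (Ideal.Quotient.mkₐ_surjective k J).comp (Ideal.Quotient.mkₐ_surjective k I0)
  have hΨ : Function.Surjective Ψ := by
    rintro ⟨a, b⟩
    refine ⟨fun d => if d 1 = 0 then (if h : d 0 < u then a ⟨d 0, h⟩ else 0)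
      else (if d 0 = 0 then (if h : d 1 - 1 < v - 1 then b ⟨d 1 - 1, h⟩ else 0) else 0), ?_⟩
    apply Prod.ext
    · funext i
      show (if (idx i 0) 1 = 0 then (if h : (idx i 0) 0 < u then a ⟨(idx i 0) 0, h⟩ else 0)
        else (if (idx i 0) 0 = 0 then
          (if h : (idx i 0) 1 - 1 < v - 1 then b ⟨(idx i 0) 1 - 1, h⟩ else 0) else 0)) = a i
      simp only [idx_zero, idx_one]
      simp
    · funext j
      show (if (idx 0 (j + 1)) 1 = 0 then
          (if h : (idx 0 (j + 1)) 0 < u then a ⟨(idx 0 (j + 1)) 0, h⟩ else 0)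
        else (if (idx 0 (j + 1)) 0 = 0 then
          (if h : (idx 0 (j + 1)) 1 - 1 < v - 1 then b ⟨(idx 0 (j + 1)) 1 - 1, h⟩ else 0)
            else 0)) = b j
      simp only [idx_zero, idx_one]
      simp
  have hker : LinearMap.ker π₂ = LinearMap.ker Ψ := by
    ext Φ
    rw [LinearMap.mem_ker, LinearMap.mem_ker]
    have h1 : π₂ Φ = 0 ↔ (Ideal.Quotient.mk I0 Φ : A) ∈ J := Ideal.Quotient.eq_zero_iff_mem
    rw [h1, hJ, mk_mem_iff k u v hu hv w hw]
    constructor
    · rintro ⟨h1, h2⟩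
      apply Prod.ext
      · funext i
        exact h1 i i.2
      · funext j
        exact h2 j (by have := j.2; omega)
    · intro h
      have h1 := congrArg Prod.fst h
      have h2 := congrArg Prod.snd h
      exact ⟨fun i hi => congrFun h1 ⟨i, hi⟩, fun j hj => congrFun h2 ⟨j, by omega⟩⟩
  have e1 := LinearMap.quotKerEquivOfSurjective π₂ hπ₂
  have e2 := LinearMap.quotKerEquivOfSurjective Ψ hΨ
  have e3 := Submodule.quotEquivOfEq _ _ hker
  rw [(e1.symm.trans (e3.trans e2)).finrank_eq, Module.finrank_prod, Module.finrank_fin_fun,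
    Module.finrank_fin_fun]
  omega

end finrank

end Groth.Agent.Lib.Helper76.NodeNF
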