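import Mathlib
import Groth.Agent.Lib.Helper76.NodeNF2

/-!
# Ideals of finite colength of `k[[x,y]]` containing `xy` (helper76)
-/

set_option autoImplicit false
universe u

namespace Groth.Agent.Lib.Helper76.NodeNF

open MvPowerSeries

section ideals

variable {k : Type u} [Field k]

local notation "P" => MvPowerSeries (Fin 2) k

lemma nf_zero' (Φ : P) : ∃ (f g : PowerSeries k) (H : P),
    Φ = PowerSeries.toMvPowerSeries 0 f + X 1 * PowerSeries.toMvPowerSeries 1 g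
      + X 0 * X 1 * H ∧
    (∀ i, PowerSeries.coeff i f = coeff (idx i 0) Φ) ∧
    (∀ j, PowerSeries.coeff j g = coeff (idx 0 (j + 1)) Φ) := by
  obtain ⟨f, g, H, hΦ, hf, hg⟩ := nf_zero k Φ
  have h0 : (X 0 * X 1 - C (0 : k) : P) = X 0 * X 1 := by rw [map_zero, sub_zero]
  rw [h0] at hΦ
  exact ⟨f, g, H, hΦ, hf, hg⟩

lemma pow_mem_of_toMv_mem (J : Ideal P) (s : Fin 2) (S : PowerSeries k) (r : ℕ)
    (hlow : ∀ m, m < r → PowerSeries.coeff m S = 0) (hr : PowerSeries.coeff r S ≠ 0)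
    (hS : PowerSeries.toMvPowerSeries s S ∈ J) : (X s : P) ^ r ∈ J := by
  obtain ⟨S', rfl⟩ : (PowerSeries.X : PowerSeries k) ^ r ∣ S :=
    PowerSeries.X_pow_dvd_iff.mpr hlow
  have hc : PowerSeries.constantCoeff S' ≠ 0 := by
    have h1 := PowerSeries.coeff_X_pow_mul S' r 0
    rw [zero_add] at h1
    rw [h1, PowerSeries.coeff_zero_eq_constantCoeff_apply] at hr
    exact hr
  have hu : IsUnit (PowerSeries.toMvPowerSeries s S' : P) := by
    apply IsUnit.map
    rw [PowerSeries.isUnit_iff_constantCoeff]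
    exact IsUnit.mk0 _ hc
  obtain ⟨w, hw⟩ := hu
  rw [map_mul, map_pow, PowerSeries.toMvPowerSeries_X, ← hw] at hS
  have h2 := J.mul_mem_right (↑w⁻¹) hS
  rwa [mul_assoc, Units.mul_inv, mul_one] at h2

lemma coeff_eq_zero_of_toMv_mem (J : Ideal P) (s : Fin 2) (S : PowerSeries k) (B : ℕ)
    (hmin : ∀ r, r < B → (X s : P) ^ r ∉ J) (hS : PowerSeries.toMvPowerSeries s S ∈ J) :
    ∀ m, m < B → PowerSeries.coeff m S = 0 := by
  intro m
  induction m using Nat.strong_induction_on with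
  | _ m ih =>
    intro hm
    by_contra hne
    exact hmin m hm
      (pow_mem_of_toMv_mem J s S m (fun m' hm' => ih m' hm' (hm'.trans hm)) hne hS)

lemma coeff_zero_of_mem (J : Ideal P) (hJ : J ≠ ⊤) (Φ : P) (hΦ : Φ ∈ J) :
    coeff (idx 0 0) Φ = 0 := by
  by_contra hne
  apply hJ
  apply Ideal.eq_top_of_isUnit_mem J hΦ
  rw [MvPowerSeries.isUnit_iff_constantCoeff]
  have h0 : idx 0 0 = 0 := by simp [idx]
  rw [h0, coeff_zero_eq_constantCoeff_apply] at hne
  exact IsUnit.mk0 _ hne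

lemma axis_reduce (s : Fin 2) (B : ℕ) (hB : 1 ≤ B) (T : PowerSeries k)
    (hT : ∀ j, j + 2 < B → PowerSeries.coeff j T = 0) :
    ∃ (μ : k) (T₂ : PowerSeries k), (B = 1 → μ = 0) ∧
      (X s : P) * PowerSeries.toMvPowerSeries s T =
        C μ * X s ^ (B - 1) + X s ^ B * PowerSeries.toMvPowerSeries s T₂ := by
  rcases Nat.lt_or_ge B 2 with h | h
  · have hB1 : B = 1 := by omega
    subst hB1
    refine ⟨0, T, fun _ => rfl, ?_⟩
    rw [map_zero, zero_mul, zero_add, pow_one]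
  · obtain ⟨B', rfl⟩ : ∃ B', B = B' + 2 := ⟨B - 2, by omega⟩
    obtain ⟨T₁, rfl⟩ : (PowerSeries.X : PowerSeries k) ^ B' ∣ T :=
      PowerSeries.X_pow_dvd_iff.mpr (fun m hm => hT m (by omega))
    refine ⟨PowerSeries.constantCoeff T₁, PowerSeries.mk fun p => PowerSeries.coeff (p + 1) T₁,
      fun h => by omega, ?_⟩
    have h1 := PowerSeries.eq_shift_mul_X_add_const T₁
    conv_lhs => rw [h1]
    simp only [map_mul, map_add, map_pow, PowerSeries.toMvPowerSeries_X,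
      PowerSeries.toMvPowerSeries_C]
    have h2 : B' + 2 - 1 = B' + 1 := by omega
    rw [h2]
    ring

theorem exists_reduce (J : Ideal P) (hxy : (X 0 * X 1 : P) ∈ J) (hJ : J ≠ ⊤) (a b : ℕ)
    (ha : 1 ≤ a) (hb : 1 ≤ b) (hmina : ∀ r, r < a → (X 0 : P) ^ r ∉ J)
    (hminb : ∀ r, r < b → (X 1 : P) ^ r ∉ J) (Φ : P) (hΦ : Φ ∈ J) :
    ∃ (lam mu : k) (z : P), (a = 1 → lam = 0) ∧ (b = 1 → mu = 0) ∧
      z ∈ Ideal.span {(X 0 * X 1 : P), X 0 ^ a, X 1 ^ b} ∧
      Φ = C lam * X 0 ^ (a - 1) + C mu * X 1 ^ (b - 1) + z := by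
  obtain ⟨f, g, H, hnf, hf, hg⟩ := nf_zero' Φ
  have hf0 : PowerSeries.constantCoeff f = 0 := by
    rw [← PowerSeries.coeff_zero_eq_constantCoeff_apply, hf 0]
    exact coeff_zero_of_mem J hJ Φ hΦ
  obtain ⟨f', rfl⟩ : PowerSeries.X ∣ f := PowerSeries.X_dvd_iff.mpr hf0
  have hX0 : PowerSeries.toMvPowerSeries (σ := Fin 2) 0 (PowerSeries.X * f') =
      X 0 * PowerSeries.toMvPowerSeries 0 f' := by
    rw [map_mul, PowerSeries.toMvPowerSeries_X]
  have k1a : PowerSeries.toMvPowerSeries (σ := Fin 2) 0 (PowerSeries.X * (PowerSeries.X * f'))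
      ∈ J := by
    have e : PowerSeries.toMvPowerSeries (σ := Fin 2) 0 (PowerSeries.X * (PowerSeries.X * f')) =
        X 0 * Φ - X 0 * X 1 * (PowerSeries.toMvPowerSeries 1 g + X 0 * H) := by
      rw [hnf, map_mul, PowerSeries.toMvPowerSeries_X]
      ring
    rw [e]
    exact J.sub_mem (J.mul_mem_left _ hΦ) (J.mul_mem_right _ hxy)
  have k1b : PowerSeries.toMvPowerSeries (σ := Fin 2) 1 (PowerSeries.X * (PowerSeries.X * g))
      ∈ J := by
    have e : PowerSeries.toMvPowerSeries (σ := Fin 2) 1 (PowerSeries.X * (PowerSeries.X * g)) =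
        X 1 * Φ - X 0 * X 1 * (PowerSeries.toMvPowerSeries 0 f' + X 1 * H) := by
      rw [hnf, hX0]
      simp only [map_mul, PowerSeries.toMvPowerSeries_X]
      ring
    rw [e]
    exact J.sub_mem (J.mul_mem_left _ hΦ) (J.mul_mem_right _ hxy)
  have hf' : ∀ i, i + 2 < a → PowerSeries.coeff i f' = 0 := by
    intro i hi
    have h1 := coeff_eq_zero_of_toMv_mem J 0 _ a hmina k1a (i + 1 + 1) hi
    rwa [PowerSeries.coeff_succ_X_mul, PowerSeries.coeff_succ_X_mul] at h1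
  have hg' : ∀ j, j + 2 < b → PowerSeries.coeff j g = 0 := by
    intro j hj
    have h1 := coeff_eq_zero_of_toMv_mem J 1 _ b hminb k1b (j + 1 + 1) hj
    rwa [PowerSeries.coeff_succ_X_mul, PowerSeries.coeff_succ_X_mul] at h1
  obtain ⟨lam, f₂, hl1, hl2⟩ := axis_reduce (k := k) 0 a ha f' hf'
  obtain ⟨mu, g₂, hm1, hm2⟩ := axis_reduce (k := k) 1 b hb g hg'
  refine ⟨lam, mu, X 0 ^ a * PowerSeries.toMvPowerSeries 0 f₂ +
    X 1 ^ b * PowerSeries.toMvPowerSeries 1 g₂ + X 0 * X 1 * H, hl1, hm1, ?_, ?_⟩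
  · apply Ideal.add_mem
    · apply Ideal.add_mem
      · exact Ideal.mul_mem_right _ _ (Ideal.subset_span (by simp))
      · exact Ideal.mul_mem_right _ _ (Ideal.subset_span (by simp))
    · exact Ideal.mul_mem_right _ _ (Ideal.subset_span (by simp))
  · rw [hnf, hX0, hl2, hm2]
    ring

lemma mem_J0_iff (a b : ℕ) (ha : 1 ≤ a) (hb : 1 ≤ b) (Φ : P) :
    Φ ∈ Ideal.span {(X 0 * X 1 : P), X 0 ^ a, X 1 ^ b} ↔
      (∀ i, i < a → coeff (idx i 0) Φ = 0) ∧
        (∀ j, j + 1 < b → coeff (idx 0 (j + 1)) Φ = 0) := by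
  constructor
  · intro h
    rw [Ideal.mem_span_insert] at h
    obtain ⟨A, z, hz, rfl⟩ := h
    rw [Ideal.mem_span_pair] at hz
    obtain ⟨B, C', rfl⟩ := hz
    constructor
    · intro i hi
      have hc3 : coeff (idx i 0) (X 0 * X 1 * A) = 0 := by
        rw [coeff_XX_mul, if_neg]
        simp
      rw [map_add, map_add, mul_comm A, mul_comm B, mul_comm C', hc3,
        coeff_X_pow_mul_of_lt 0 a B _ (by simpa using hi),
        coeff_X_pow_mul_of_lt 1 b C' _ (by simp; omega)]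
      simp
    · intro j hj
      have hc3 : coeff (idx 0 (j + 1)) (X 0 * X 1 * A) = 0 := by
        rw [coeff_XX_mul, if_neg]
        simp
      rw [map_add, map_add, mul_comm A, mul_comm B, mul_comm C', hc3,
        coeff_X_pow_mul_of_lt 0 a B _ (by simp; omega),
        coeff_X_pow_mul_of_lt 1 b C' _ (by simpa using hj)]
      simp
  · rintro ⟨h1, h2⟩
    obtain ⟨f, g, H, hΦ, hf, hg⟩ := nf_zero' Φ
    obtain ⟨f', rfl⟩ : PowerSeries.X ^ a ∣ f :=
      PowerSeries.X_pow_dvd_iff.mpr (fun m hm => by rw [hf]; exact h1 m hm)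
    obtain ⟨g', rfl⟩ : PowerSeries.X ^ (b - 1) ∣ g :=
      PowerSeries.X_pow_dvd_iff.mpr (fun m hm => by rw [hg]; exact h2 m (by omega))
    have e : Φ = X 0 ^ a * PowerSeries.toMvPowerSeries 0 f' +
        X 1 ^ b * PowerSeries.toMvPowerSeries 1 g' + X 0 * X 1 * H := by
      have h3 : (X 1 : P) * (X 1 ^ (b - 1) * PowerSeries.toMvPowerSeries 1 g') =
          X 1 ^ b * PowerSeries.toMvPowerSeries 1 g' := by
        rw [← mul_assoc, ← pow_succ']
        congr 2
        omega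
      conv_lhs => rw [hΦ]
      simp only [map_mul, map_pow, PowerSeries.toMvPowerSeries_X]
      rw [h3]
    rw [e]
    apply Ideal.add_mem
    · apply Ideal.add_mem
      · exact Ideal.mul_mem_right _ _ (Ideal.subset_span (by simp))
      · exact Ideal.mul_mem_right _ _ (Ideal.subset_span (by simp))
    · exact Ideal.mul_mem_right _ _ (Ideal.subset_span (by simp))

variable (k) in
/-- the low coefficients -/
noncomputable def Psi (a b : ℕ) :
    MvPowerSeries (Fin 2) k →ₗ[k] ((Fin a → k) × (Fin (b - 1) → k)) :=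
  LinearMap.prod (LinearMap.pi fun i : Fin a => coeff (idx i 0))
    (LinearMap.pi fun j : Fin (b - 1) => coeff (idx 0 (j + 1)))

lemma Psi_surjective (a b : ℕ) : Function.Surjective (Psi k a b) := by
  rintro ⟨x, y⟩
  refine ⟨fun d => if d 1 = 0 then (if h : d 0 < a then x ⟨d 0, h⟩ else 0)
    else (if d 0 = 0 then (if h : d 1 - 1 < b - 1 then y ⟨d 1 - 1, h⟩ else 0) else 0), ?_⟩
  apply Prod.ext
  · funext i
    show (if (idx i 0) 1 = 0 then (if h : (idx i 0) 0 < a then x ⟨(idx i 0) 0, h⟩ else 0)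
      else (if (idx i 0) 0 = 0 then
        (if h : (idx i 0) 1 - 1 < b - 1 then y ⟨(idx i 0) 1 - 1, h⟩ else 0) else 0)) = x i
    simp only [idx_zero, idx_one]
    simp
  · funext j
    show (if (idx 0 (j + 1)) 1 = 0 then
        (if h : (idx 0 (j + 1)) 0 < a then x ⟨(idx 0 (j + 1)) 0, h⟩ else 0)
      else (if (idx 0 (j + 1)) 0 = 0 then
        (if h : (idx 0 (j + 1)) 1 - 1 < b - 1 then y ⟨(idx 0 (j + 1)) 1 - 1, h⟩ else 0)
          else 0)) = y j
    simp only [idx_zero, idx_one]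
    simp

lemma Psi_eq_zero_iff (a b : ℕ) (Φ : P) : Psi k a b Φ = 0 ↔
    (∀ i, i < a → coeff (idx i 0) Φ = 0) ∧
      (∀ j, j + 1 < b → coeff (idx 0 (j + 1)) Φ = 0) := by
  constructor
  · intro h
    have h1 := congrArg Prod.fst h
    have h2 := congrArg Prod.snd h
    exact ⟨fun i hi => congrFun h1 ⟨i, hi⟩, fun j hj => congrFun h2 ⟨j, by omega⟩⟩
  · rintro ⟨h1, h2⟩
    apply Prod.ext
    · funext i
      exact h1 i i.2
    · funext j
      exact h2 j (by have := j.2; omega)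

theorem finrank_add (J : Ideal P) (a b : ℕ) (ha : 1 ≤ a) (hb : 1 ≤ b)
    (hJ0 : Ideal.span {(X 0 * X 1 : P), X 0 ^ a, X 1 ^ b} ≤ J) :
    Module.finrank k (P ⧸ J) +
      Module.finrank k (Submodule.map (Psi k a b) (J.restrictScalars k)) = a + (b - 1) := by
  obtain ⟨W, hW⟩ : ∃ W, W = Submodule.map (Psi k a b) (J.restrictScalars k) := ⟨_, rfl⟩
  rw [← hW]
  let q' : P →ₗ[k] (P ⧸ J) := (Ideal.Quotient.mkₐ k J).toLinearMap
  let q : P →ₗ[k] (((Fin a → k) × (Fin (b - 1) → k)) ⧸ W) := W.mkQ ∘ₗ Psi k a b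
  have hq' : Function.Surjective q' := Ideal.Quotient.mkₐ_surjective k J
  have hq : Function.Surjective q := (Submodule.mkQ_surjective W).comp (Psi_surjective a b)
  have hker : LinearMap.ker q' = LinearMap.ker q := by
    ext Φ
    rw [LinearMap.mem_ker, LinearMap.mem_ker]
    have h1 : q' Φ = 0 ↔ Φ ∈ J := Ideal.Quotient.eq_zero_iff_mem
    have h2 : q Φ = 0 ↔ Psi k a b Φ ∈ W := Submodule.Quotient.mk_eq_zero W
    rw [h1, h2, hW]
    constructor
    · intro h
      exact ⟨Φ, h, rfl⟩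
    · rintro ⟨Φ', hΦ', he⟩
      have hΦ'' : Φ' ∈ J := hΦ'
      have h3 : Psi k a b (Φ - Φ') = 0 := by rw [map_sub, he, sub_self]
      rw [Psi_eq_zero_iff, ← mem_J0_iff a b ha hb] at h3
      have h4 := J.add_mem (hJ0 h3) hΦ''
      rwa [sub_add_cancel] at h4
  have e := (LinearMap.quotKerEquivOfSurjective q' hq').symm.trans
    ((Submodule.quotEquivOfEq _ _ hker).trans (LinearMap.quotKerEquivOfSurjective q hq))
  rw [e.finrank_eq, Submodule.finrank_quotient_add_finrank, Module.finrank_prod,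
    Module.finrank_fin_fun, Module.finrank_fin_fun]

lemma exists_pow_mem (J : Ideal P) [Module.Finite k (P ⧸ J)] (s : Fin 2) :
    ∃ r, (X s : P) ^ r ∈ J := by
  haveI : IsArtinianRing (P ⧸ J) := IsArtinianRing.of_finite k (P ⧸ J)
  have hjac : Ideal.Quotient.mk J (X s) ∈ Ideal.jacobson (⊥ : Ideal (P ⧸ J)) := by
    rw [Ideal.mem_jacobson_bot]
    intro y
    obtain ⟨y', rfl⟩ := Ideal.Quotient.mk_surjective y
    rw [← map_mul, ← map_one (Ideal.Quotient.mk J), ← map_add]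
    apply IsUnit.map
    rw [MvPowerSeries.isUnit_iff_constantCoeff]
    simp
  obtain ⟨N, hN⟩ := IsArtinianRing.isNilpotent_jacobson_bot (R := P ⧸ J)
  refine ⟨N, ?_⟩
  have h1 : (Ideal.Quotient.mk J (X s)) ^ N ∈ (Ideal.jacobson (⊥ : Ideal (P ⧸ J))) ^ N :=
    Ideal.pow_mem_pow hjac N
  rw [hN, Ideal.zero_eq_bot, Ideal.mem_bot, ← map_pow, Ideal.Quotient.eq_zero_iff_mem] at h1
  exact h1

theorem classify (J : Ideal P) (hxy : (X 0 * X 1 : P) ∈ J) [Module.Finite k (P ⧸ J)] (n : ℕ)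
    (hn : Module.finrank k (P ⧸ J) = n) (h2 : 2 ≤ n) :
    ∃ a b : ℕ, 1 ≤ a ∧ 1 ≤ b ∧
      ((a + b = n + 1 ∧ J = Ideal.span {X 0 * X 1, X 0 ^ a, X 1 ^ b}) ∨
       (a + b = n ∧ ∃ α : k, α ≠ 0 ∧ J = Ideal.span {X 0 * X 1, X 0 ^ a + C α * X 1 ^ b})) := by
  classical
  have hJ : J ≠ ⊤ := by
    rintro rfl
    haveI : Subsingleton (P ⧸ (⊤ : Ideal P)) := Ideal.Quotient.subsingleton_iff.mpr rfl
    rw [Module.finrank_zero_of_subsingleton] at hn
    omega
  have hexa : ∃ r, (X 0 : P) ^ r ∈ J := exists_pow_mem J 0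
  have hexb : ∃ r, (X 1 : P) ^ r ∈ J := exists_pow_mem J 1
  obtain ⟨a, haJ, hmina⟩ : ∃ a, (X 0 : P) ^ a ∈ J ∧ ∀ r, r < a → (X 0 : P) ^ r ∉ J :=
    ⟨Nat.find hexa, Nat.find_spec hexa, fun r hr => Nat.find_min hexa hr⟩
  obtain ⟨b, hbJ, hminb⟩ : ∃ b, (X 1 : P) ^ b ∈ J ∧ ∀ r, r < b → (X 1 : P) ^ r ∉ J :=
    ⟨Nat.find hexb, Nat.find_spec hexb, fun r hr => Nat.find_min hexb hr⟩
  have ha : 1 ≤ a := by
    rcases Nat.eq_zero_or_pos a with h | h
    · subst h
      exfalso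
      apply hJ
      rw [Ideal.eq_top_iff_one]
      simpa using haJ
    · exact h
  have hb : 1 ≤ b := by
    rcases Nat.eq_zero_or_pos b with h | h
    · subst h
      exfalso
      apply hJ
      rw [Ideal.eq_top_iff_one]
      simpa using hbJ
    · exact h
  have hJ0 : Ideal.span {(X 0 * X 1 : P), X 0 ^ a, X 1 ^ b} ≤ J := by
    rw [Ideal.span_le]
    rintro _ (rfl | rfl | rfl)
    · exact hxy
    · exact haJ
    · exact hbJ
  have hcount := finrank_add J a b ha hb hJ0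
  rw [hn] at hcount
  by_cases hJJ : J = Ideal.span {(X 0 * X 1 : P), X 0 ^ a, X 1 ^ b}
  · refine ⟨a, b, ha, hb, Or.inl ⟨?_, hJJ⟩⟩
    have hW : Submodule.map (Psi k a b) (J.restrictScalars k) = ⊥ := by
      rw [Submodule.eq_bot_iff]
      rintro _ ⟨Φ, hΦ, rfl⟩
      have hΦ' : Φ ∈ J := hΦ
      rw [Psi_eq_zero_iff, ← mem_J0_iff a b ha hb, ← hJJ]
      exact hΦ'
    rw [hW, finrank_bot, add_zero] at hcount
    omega
  · have hlt : Ideal.span {(X 0 * X 1 : P), X 0 ^ a, X 1 ^ b} < J :=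
      lt_of_le_of_ne hJ0 (Ne.symm hJJ)
    obtain ⟨Φ₀, hΦ₀J, hΦ₀⟩ := SetLike.exists_of_lt hlt
    obtain ⟨l₀, m₀, z₀, hl₀, hm₀, hz₀, e₀⟩ :=
      exists_reduce J hxy hJ a b ha hb hmina hminb Φ₀ hΦ₀J
    have hunit : ∀ (c : k) (y : P), c ≠ 0 → C c * y ∈ J → y ∈ J := by
      intro c y hc h
      have h1 := J.mul_mem_left (C c⁻¹) h
      rwa [← mul_assoc, ← map_mul, inv_mul_cancel₀ hc, map_one, one_mul] at h1
    have hl₀ne : l₀ ≠ 0 := by
      intro h0
      rw [h0, map_zero, zero_mul, zero_add] at e₀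
      have h1 : C m₀ * X 1 ^ (b - 1) ∈ J := by
        have h3 : C m₀ * X 1 ^ (b - 1) = Φ₀ - z₀ := by
          rw [e₀]
          ring
        rw [h3]
        exact J.sub_mem hΦ₀J (hJ0 hz₀)
      by_cases hm0 : m₀ = 0
      · apply hΦ₀
        rw [e₀, hm0, map_zero, zero_mul, zero_add]
        exact hz₀
      · exact hminb (b - 1) (by omega) (hunit m₀ _ hm0 h1)
    have hm₀ne : m₀ ≠ 0 := by
      intro h0
      rw [h0, map_zero, zero_mul, add_zero] at e₀
      have h1 : C l₀ * X 0 ^ (a - 1) ∈ J := by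
        have h3 : C l₀ * X 0 ^ (a - 1) = Φ₀ - z₀ := by
          rw [e₀]
          ring
        rw [h3]
        exact J.sub_mem hΦ₀J (hJ0 hz₀)
      exact hmina (a - 1) (by omega) (hunit l₀ _ hl₀ne h1)
    have ha2 : 2 ≤ a := by
      by_contra h
      exact hl₀ne (hl₀ (by omega))
    have hb2 : 2 ≤ b := by
      by_contra h
      exact hm₀ne (hm₀ (by omega))
    obtain ⟨a', rfl⟩ : ∃ a', a = a' + 2 := ⟨a - 2, by omega⟩
    obtain ⟨b', rfl⟩ : ∃ b', b = b' + 2 := ⟨b - 2, by omega⟩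
    have ea : a' + 2 - 1 = a' + 1 := by omega
    have eb : b' + 2 - 1 = b' + 1 := by omega
    rw [ea, eb] at e₀
    obtain ⟨α, hα⟩ : ∃ α : k, α = m₀ * l₀⁻¹ := ⟨_, rfl⟩
    have hαne : α ≠ 0 := by
      rw [hα]
      exact mul_ne_zero hm₀ne (inv_ne_zero hl₀ne)
    obtain ⟨h, hh⟩ : ∃ h : P, h = X 0 ^ (a' + 1) + C α * X 1 ^ (b' + 1) := ⟨_, rfl⟩
    have hhJ : h ∈ J := by
      apply hunit l₀ _ hl₀ne
      have h3 : C l₀ * h = Φ₀ - z₀ := by
        have h4 : (C l₀ * C l₀⁻¹ : P) = 1 := by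
          rw [← map_mul, mul_inv_cancel₀ hl₀ne, map_one]
        rw [e₀, hh, hα, map_mul]
        linear_combination (C m₀ * X 1 ^ (b' + 1)) * h4
      rw [h3]
      exact J.sub_mem hΦ₀J (hJ0 hz₀)
    have hred : ∀ Φ ∈ J, ∃ l : k, Φ - C l * h ∈
        Ideal.span {(X 0 * X 1 : P), X 0 ^ (a' + 2), X 1 ^ (b' + 2)} := by
      intro Φ hΦ
      obtain ⟨l, m, z, -, -, hz, e⟩ := exists_reduce J hxy hJ _ _ ha hb hmina hminb Φ hΦ
      rw [ea, eb] at e
      refine ⟨l, ?_⟩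
      have h1 : C (m - l * α) * X 1 ^ (b' + 1) ∈ J := by
        have h3 : C (m - l * α) * X 1 ^ (b' + 1) = Φ - C l * h - z := by
          rw [e, hh, map_sub, map_mul]
          ring
        rw [h3]
        exact J.sub_mem (J.sub_mem hΦ (J.mul_mem_left _ hhJ)) (hJ0 hz)
      have h2 : m - l * α = 0 := by
        by_contra hne
        exact hminb (b' + 1) (by omega) (hunit _ _ hne h1)
      have h3 : Φ - C l * h = z := by
        have h4 : m = l * α := sub_eq_zero.mp h2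
        rw [e, hh, h4, map_mul]
        ring
      rw [h3]
      exact hz
    have hJ0' : Ideal.span {(X 0 * X 1 : P), X 0 ^ (a' + 2), X 1 ^ (b' + 2)} ≤
        Ideal.span {(X 0 * X 1 : P), h} := by
      rw [Ideal.span_le]
      rintro _ (rfl | rfl | rfl)
      · exact Ideal.subset_span (by simp)
      · have h3 : (X 0 : P) ^ (a' + 2) = X 0 * h - C α * X 1 ^ b' * (X 0 * X 1) := by
          rw [hh]
          ring
        rw [SetLike.mem_coe, h3]
        exact Ideal.sub_mem _ (Ideal.mul_mem_left _ _ (Ideal.subset_span (by simp)))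
          (Ideal.mul_mem_left _ _ (Ideal.subset_span (by simp)))
      · have hc : (C α⁻¹ * C α : P) = 1 := by
          rw [← map_mul, inv_mul_cancel₀ hαne, map_one]
        have h3 : (X 1 : P) ^ (b' + 2) =
            C α⁻¹ * X 1 * h - C α⁻¹ * X 0 ^ a' * (X 0 * X 1) := by
          rw [hh]
          linear_combination (-(X 1 : P) ^ (b' + 2)) * hc
        rw [SetLike.mem_coe, h3]
        exact Ideal.sub_mem _ (Ideal.mul_mem_left _ _ (Ideal.subset_span (by simp)))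
          (Ideal.mul_mem_left _ _ (Ideal.subset_span (by simp)))
    have hJeq : J = Ideal.span {(X 0 * X 1 : P), h} := by
      apply le_antisymm
      · intro Φ hΦ
        obtain ⟨l, hl⟩ := hred Φ hΦ
        have h3 : Φ = C l * h + (Φ - C l * h) := by ring
        rw [h3]
        exact Ideal.add_mem _ (Ideal.mul_mem_left _ _ (Ideal.subset_span (by simp))) (hJ0' hl)
      · rw [Ideal.span_le]
        rintro _ (rfl | rfl)
        · exact hxy
        · exact hhJ
    have hW : Submodule.map (Psi k (a' + 2) (b' + 2)) (J.restrictScalars k) =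
        Submodule.span k {Psi k (a' + 2) (b' + 2) h} := by
      apply le_antisymm
      · rintro _ ⟨Φ, hΦ, rfl⟩
        have hΦ' : Φ ∈ J := hΦ
        obtain ⟨l, hl⟩ := hred Φ hΦ'
        rw [mem_J0_iff _ _ ha hb, ← Psi_eq_zero_iff, map_sub, sub_eq_zero] at hl
        rw [hl, ← smul_eq_C_mul, map_smul]
        exact Submodule.smul_mem _ _ (Submodule.mem_span_singleton_self _)
      · rw [Submodule.span_le, Set.singleton_subset_iff]
        exact ⟨h, hhJ, rfl⟩
    have hne : Psi k (a' + 2) (b' + 2) h ≠ 0 := by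
      intro h0
      rw [Psi_eq_zero_iff, ← mem_J0_iff _ _ ha hb] at h0
      apply hΦ₀
      obtain ⟨l, hl⟩ := hred Φ₀ hΦ₀J
      have h3 : Φ₀ = C l * h + (Φ₀ - C l * h) := by ring
      rw [h3]
      exact Ideal.add_mem _ (Ideal.mul_mem_left _ _ h0) hl
    rw [hW, finrank_span_singleton hne] at hcount
    refine ⟨a' + 1, b' + 1, by omega, by omega, Or.inr ⟨by omega, α, hαne, ?_⟩⟩
    rw [hJeq, hh]

end ideals

end Groth.Agent.Lib.Helper76.NodeNF
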