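import Mathlib
import Groth.Prelude.Def_CAlg
import Groth.Prelude.Def_Pi1
import Groth.Agent.Lib.Helper49.Serre4
import Groth.Agent.Lib.Helper49.FibreSk
import Groth.Agent.Lib.Helper83.FlatLocalDim
import Groth.Agent.Lib.Helper69.SmoothNormalSch
import Groth.Agent.Lib.Helper91.GenPrime2
import Groth.Agent.Lib.Helper35.FiberStalk
import Groth.Agent.Lib.Helper76.NodeChar2

/-!
# Normality of the total space of a flat family with reduced fibres and normal generic fibre over a
normal base, via Serre's criterion
-/

set_option autoImplicit false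
set_option backward.isDefEq.respectTransparency.types false

universe u

open AlgebraicGeometry CategoryTheory IsLocalRing

namespace Groth.Agent.Lib.Helper76.NormSerre

/-- a normal Noetherian local domain of dimension at most one is regular -/
theorem isRegularLocalRing_of_normal (D : Type u) [CommRing D] [IsLocalRing D] [IsNoetherianRing D]
    [IsDomain D] [hic : IsIntegrallyClosed D] (hdim : ringKrullDim D ≤ 1) :
    IsRegularLocalRing D := by
  have hk : Ring.KrullDimLE 1 D := Ring.krullDimLE_iff.mpr (by simpa using hdim)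
  have hd1 : Ring.DimensionLEOne D :=
    ⟨fun {q} hq hqp => Ring.krullDimLE_one_iff_of_noZeroDivisors.mp hk q hq hqp⟩
  have hded : IsDedekindDomain D :=
    { toIsDomain := inferInstance
      toIsNoetherian := inferInstance
      toDimensionLEOne := hd1
      toIsIntegralClosure := hic }
  exact IsRegularLocalRing.of_isRegularRing_of_isLocalRing _

/-- the ring-level core: (R1) and (S2) at the closed point of a flat local algebra over a normal
local domain with reduced closed fibre, the case of a field base being given -/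
theorem core_alg {A B F : Type u} [CommRing A] [CommRing B] [CommRing F] [IsLocalRing A]
    [IsLocalRing B] [IsLocalRing F] [IsNoetherianRing A] [IsNoetherianRing B] [Algebra A B]
    [IsLocalHom (algebraMap A B)] [Module.Flat A B] [IsDomain A] [IsIntegrallyClosed A]
    [IsReduced F] (ψ : B →+* F) (hψ : Function.Surjective ψ)
    (hker : RingHom.ker ψ = (maximalIdeal A).map (algebraMap A B))
    (h0 : maximalIdeal A = ⊥ → IsDomain B ∧ IsIntegrallyClosed B) :
    (ringKrullDim B ≤ 1 → IsRegularLocalRing B) ∧
      min (2 : WithBot ℕ∞) (ringKrullDim B) ≤ ((LocCoh.depth B B : ℕ∞) : WithBot ℕ∞) := by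
  classical
  by_cases hm : maximalIdeal A = ⊥
  · obtain ⟨hd, hi⟩ := h0 hm
    exact ⟨fun hdim => isRegularLocalRing_of_normal B hdim,
      Groth.Agent.Lib.Helper49.Serre.min_two_le_depth_of_isIntegrallyClosed (R := B)⟩
  set I : Ideal B := (maximalIdeal A).map (algebraMap A B) with hI
  let e : (B ⧸ I) ≃+* F :=
    (Ideal.quotEquivOfEq hker.symm).trans (RingHom.quotientKerEquivOfSurjective hψ)
  haveI : IsLocalRing (B ⧸ I) := e.symm.isLocalRing
  haveI : IsReduced (B ⧸ I) := isReduced_of_injective e e.injective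
  have hdepth : LocCoh.depth B B = LocCoh.depth A A + LocCoh.depth (B ⧸ I) (B ⧸ I) :=
    Groth.Agent.Lib.Helper49.FibreSk.depth_eq_add_depth_fibre A B I rfl
  have hdim : ringKrullDim B = ringKrullDim A + ringKrullDim (B ⧸ I) :=
    Groth.Agent.Lib.Helper49.FibreSk.ringKrullDim_eq_add_fibre A B I rfl
  have hA2 := Groth.Agent.Lib.Helper49.Serre.min_two_le_depth_of_isIntegrallyClosed (R := A)
  have hda : ringKrullDim A = ((maximalIdeal A).height : WithBot ℕ∞) :=
    IsLocalRing.maximalIdeal_height_eq_ringKrullDim.symm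
  have hdb : ringKrullDim B = ((maximalIdeal B).height : WithBot ℕ∞) :=
    IsLocalRing.maximalIdeal_height_eq_ringKrullDim.symm
  have hdc : ringKrullDim (B ⧸ I) = ((maximalIdeal (B ⧸ I)).height : WithBot ℕ∞) :=
    IsLocalRing.maximalIdeal_height_eq_ringKrullDim.symm
  have hbac : (maximalIdeal B).height = (maximalIdeal A).height + (maximalIdeal (B ⧸ I)).height := by
    rw [hda, hdb, hdc] at hdim
    exact_mod_cast hdim
  have ha1 : 1 ≤ (maximalIdeal A).height := by
    rw [Order.one_le_iff_ne_zero, Ne, Ideal.height_eq_zero_iff_eq_bot]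
    exact hm
  have hA2' : 2 ≤ LocCoh.depth A A ∨ (maximalIdeal A).height ≤ LocCoh.depth A A := by
    rw [hda] at hA2
    rcases min_le_iff.mp hA2 with h | h
    · left; exact WithBot.coe_le_coe.mp h
    · right; exact_mod_cast h
  have hF1 : 1 ≤ LocCoh.depth (B ⧸ I) (B ⧸ I) ∨ (maximalIdeal (B ⧸ I)).height = 0 := by
    by_cases hmF : maximalIdeal (B ⧸ I) = ⊥
    · right
      rw [hmF]
      exact Ideal.height_bot
    · left
      obtain ⟨z, hzm, hz⟩ := Groth.Agent.Lib.Helper76.NodeChar.exists_nzd hmF
      have hreg : IsSMulRegular (B ⧸ I) z := by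
        intro x y hxy
        simp only [smul_eq_mul] at hxy
        have h1 : (x - y) * z = 0 := by rw [sub_mul, mul_comm x, mul_comm y, hxy, sub_self]
        exact sub_eq_zero.mp ((mem_nonZeroDivisors_iff.mp hz).2 _ h1)
      rw [← Groth.Agent.Lib.Helper29.DepthLib.depth_quotSMulTop_add_one (B ⧸ I) (B ⧸ I) hzm hreg]
      exact le_add_self
  constructor
  · intro hdimB
    rw [hdb] at hdimB
    have hb1 : (maximalIdeal B).height ≤ 1 := by exact_mod_cast hdimB
    have hc0 : (maximalIdeal (B ⧸ I)).height = 0 := by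
      by_contra hc0
      have h1 : 1 ≤ (maximalIdeal (B ⧸ I)).height := Order.one_le_iff_ne_zero.mpr hc0
      have h2 : (1 : ℕ∞) + 1 ≤ (maximalIdeal A).height + (maximalIdeal (B ⧸ I)).height :=
        add_le_add ha1 h1
      rw [← hbac] at h2
      have h3 : (1 : ℕ∞) + 1 ≤ 1 := h2.trans hb1
      exact absurd h3 (by norm_num)
    have ha_le : (maximalIdeal A).height ≤ 1 := by
      rw [hbac, hc0, add_zero] at hb1
      exact hb1
    have hk0 : Ring.KrullDimLE 0 (B ⧸ I) := Ring.krullDimLE_iff.mpr (by rw [hdc, hc0]; simp)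
    have hfield : IsField (B ⧸ I) := Ring.KrullDimLE.isField_of_isReduced
    have hImax : I.IsMaximal := Ideal.Quotient.maximal_of_isField I hfield
    have hIm : I = maximalIdeal B := IsLocalRing.eq_maximalIdeal hImax
    have hregA : IsRegularLocalRing A :=
      isRegularLocalRing_of_normal A (by rw [hda]; exact_mod_cast ha_le)
    exact (Groth.Agent.Lib.Helper83.isRegularLocalRing_iff_of_flat_of_map_maximalIdeal hIm).mp hregA
  · rw [hdb, min_le_iff]
    rcases hA2' with h | h
    · left
      have h2 : (2 : ℕ∞) ≤ LocCoh.depth B B := by rw [hdepth]; exact le_add_right h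
      exact WithBot.coe_le_coe.mpr h2
    · rcases hF1 with h1 | h1
      · left
        have h2 : (2 : ℕ∞) ≤ LocCoh.depth B B := by
          rw [hdepth]
          calc (2 : ℕ∞) = 1 + 1 := by norm_num
            _ ≤ _ := add_le_add (ha1.trans h) h1
        exact WithBot.coe_le_coe.mpr h2
      · right
        have h2 : (maximalIdeal B).height ≤ LocCoh.depth B B := by
          rw [hdepth, hbac, h1, add_zero]; exact le_add_right h
        exact_mod_cast h2

section genprime

open Groth.Agent.Lib.Helper91.GenPrime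

variable {X : Scheme.{u}}

/-- a generization is determined by its prime -/
theorem eq_fromSpecStalk_primeOf {ζ x : X} (h : ζ ⤳ x) :
    ζ = (X.fromSpecStalk x) (⟨primeOf h, inferInstance⟩ : PrimeSpectrum (X.presheaf.stalk x)) := by
  have h1 := Scheme.SpecMap_stalkSpecializes_fromSpecStalk h
  have h2 : (X.fromSpecStalk x) (Spec.map (X.presheaf.stalkSpecializes h)
      (IsLocalRing.closedPoint _)) = ζ := by
    rw [← Scheme.Hom.comp_apply, h1, Scheme.fromSpecStalk_closedPoint]
  refine h2.symm.trans ?_
  rfl

theorem eq_of_primeOf_eq {ζ₁ ζ₂ x : X} (h₁ : ζ₁ ⤳ x) (h₂ : ζ₂ ⤳ x)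
    (h : primeOf h₁ = primeOf h₂) : ζ₁ = ζ₂ :=
  (eq_fromSpecStalk_primeOf h₁).trans
    ((congrArg (X.fromSpecStalk x) (PrimeSpectrum.ext h :
      (⟨primeOf h₁, inferInstance⟩ : PrimeSpectrum (X.presheaf.stalk x)) =
        ⟨primeOf h₂, inferInstance⟩)).trans (eq_fromSpecStalk_primeOf h₂).symm)

/-- a point of an integral scheme whose local ring is a field is the generic point -/
theorem eq_genericPoint_of_maximalIdeal_eq_bot (S : Scheme.{u}) [IsIntegral S] (t : S)
    (h : maximalIdeal (S.presheaf.stalk t) = ⊥) : t = genericPoint S := by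
  have hη : genericPoint S ⤳ t := genericPoint_specializes t
  have ht : t ⤳ t := specializes_rfl
  have hle : ∀ {ζ : S} (hζ : ζ ⤳ t), primeOf hζ = ⊥ := by
    intro ζ hζ
    have h1 : primeOf hζ ≤ maximalIdeal (S.presheaf.stalk t) :=
      IsLocalRing.le_maximalIdeal (inferInstance : (primeOf hζ).IsPrime).ne_top
    rw [h] at h1
    exact le_bot_iff.mp h1
  exact (eq_of_primeOf_eq hη ht ((hle hη).trans (hle ht).symm)).symm

end genprime

/-- the spectrum of a normal domain is a normal scheme -/
theorem isNormalScheme_Spec (K : CommRingCat.{u}) [IsDomain K] [IsIntegrallyClosed K] :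
    Pi1.IsNormalScheme (Spec K) := by
  intro p
  letI alg : Algebra K ((Spec K).presheaf.stalk p) := StructureSheaf.stalkAlgebra K p
  haveI hloc : IsLocalization.AtPrime ((Spec K).presheaf.stalk p) p.asIdeal :=
    StructureSheaf.IsLocalization.to_stalk K p
  exact ⟨IsLocalization.isDomain_of_le_nonZeroDivisors (M := p.asIdeal.primeCompl)
      ((Spec K).presheaf.stalk p) (Ideal.primeCompl_le_nonZeroDivisors _),
    isIntegrallyClosed_of_isLocalization ((Spec K).presheaf.stalk p) p.asIdeal.primeCompl
      (Ideal.primeCompl_le_nonZeroDivisors _)⟩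

section scheme

open Groth.Agent.Lib.Helper91.GenPrime

variable {S C : Scheme.{u}} [IsIntegral S] [IsLocallyNoetherian S] [IsLocallyNoetherian C]

theorem core_scheme (hS : Pi1.IsNormalScheme S) (f : C ⟶ S) [Flat f]
    (hred : ∀ s : S, IsReduced (f.fiber s))
    (hsm : Smooth (f.fiberToSpecResidueField (genericPoint S)))
    (s : S) (y' : f.fiber s) :
    (ringKrullDim (C.presheaf.stalk ((f.fiberι s).base y')) ≤ 1 →
        IsRegularLocalRing (C.presheaf.stalk ((f.fiberι s).base y'))) ∧
      min (2 : WithBot ℕ∞) (ringKrullDim (C.presheaf.stalk ((f.fiberι s).base y'))) ≤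
        ((LocCoh.depth (C.presheaf.stalk ((f.fiberι s).base y'))
          (C.presheaf.stalk ((f.fiberι s).base y')) : ℕ∞) : WithBot ℕ∞) := by
  set y := (f.fiberι s).base y' with hy
  have hfy : f.base y = s := by
    have h1 : y ∈ Set.range (f.fiberι s).base := ⟨y', rfl⟩
    rw [f.range_fiberι s] at h1
    exact h1
  obtain ⟨hAdom, hAic⟩ := hS (f.base y)
  haveI := hred s
  letI alg : Algebra (S.presheaf.stalk (f.base y)) (C.presheaf.stalk y) :=
    (f.stalkMap y).hom.toAlgebra
  haveI : Module.Flat (S.presheaf.stalk (f.base y)) (C.presheaf.stalk y) := Flat.stalkMap f y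
  haveI : IsLocalHom (algebraMap (S.presheaf.stalk (f.base y)) (C.presheaf.stalk y)) :=
    inferInstanceAs (IsLocalHom (f.stalkMap y).hom)
  refine core_alg ((f.fiberι s).stalkMap y').hom
    (Groth.Agent.Lib.Helper35.FiberStalk.stalkMap_fiberι_surjective f s y')
    (Groth.Agent.Lib.Helper35.FiberStalk.ker_stalkMap_fiberι f s y') ?_
  intro hm
  have hsη : s = genericPoint S :=
    hfy.symm.trans (eq_genericPoint_of_maximalIdeal_eq_bot S (f.base y) hm)
  subst hsη
  have hfibn : Pi1.IsNormalScheme (f.fiber (genericPoint S)) :=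
    Groth.Agent.Lib.Helper69.SmoothNormalSch.isNormalScheme_of_smooth
      (f.fiberToSpecResidueField (genericPoint S)) (isNormalScheme_Spec _)
  obtain ⟨hFdom, hFic⟩ := hfibn y'
  have hinj : Function.Injective ((f.fiberι (genericPoint S)).stalkMap y').hom := by
    rw [RingHom.injective_iff_ker_eq_bot,
      Groth.Agent.Lib.Helper35.FiberStalk.ker_stalkMap_fiberι f _ y', hm, Ideal.map_bot]
  let e := RingEquiv.ofBijective ((f.fiberι (genericPoint S)).stalkMap y').hom
    ⟨hinj, Groth.Agent.Lib.Helper35.FiberStalk.stalkMap_fiberι_surjective f _ y'⟩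
  exact ⟨MulEquiv.isDomain _ e.toMulEquiv, IsIntegrallyClosed.of_equiv e.symm⟩

/-- `f : C ⟶ S` flat with reduced fibres and smooth generic fibre over an integral normal locally
Noetherian base: `C` is normal -/
theorem isNormalScheme_of_flat (hS : Pi1.IsNormalScheme S) (f : C ⟶ S) [Flat f]
    (hred : ∀ s : S, IsReduced (f.fiber s))
    (hsm : Smooth (f.fiberToSpecResidueField (genericPoint S))) : Pi1.IsNormalScheme C := by
  have core' : ∀ y : C, (ringKrullDim (C.presheaf.stalk y) ≤ 1 →
        IsRegularLocalRing (C.presheaf.stalk y)) ∧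
      min (2 : WithBot ℕ∞) (ringKrullDim (C.presheaf.stalk y)) ≤
        ((LocCoh.depth (C.presheaf.stalk y) (C.presheaf.stalk y) : ℕ∞) : WithBot ℕ∞) := by
    intro y
    have h := core_scheme hS f hred hsm (f.base y) (f.asFiber y)
    have hx : (f.fiberι (f.base y)).base (f.asFiber y) = y := f.fiberι_asFiber y
    rw [hx] at h
    exact h
  intro x
  have hRS : LocCoh.HasRk 1 (C.presheaf.stalk x) ∧
      LocCoh.HasSk 2 (C.presheaf.stalk x) (C.presheaf.stalk x) := by
    constructor
    · intro q hq hht
      obtain ⟨y, hy, rfl⟩ := exists_specializes_primeOf_eq x q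
      letI algy := (C.presheaf.stalkSpecializes hy).hom.toAlgebra
      haveI := isLocalization_stalkSpecializes hy
      let e : C.presheaf.stalk y ≃ₐ[C.presheaf.stalk x] Localization.AtPrime (primeOf hy) :=
        IsLocalization.algEquiv (primeOf hy).primeCompl _ _
      have hdim : ringKrullDim (C.presheaf.stalk y) ≤ 1 := by
        rw [ringKrullDim_stalk_eq_height hy]
        exact_mod_cast hht
      haveI := (core' y).1 hdim
      exact IsRegularLocalRing.of_ringEquiv e.toRingEquiv
    · rw [Groth.Agent.Lib.Helper49.Serre.hasSk_self_iff]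
      intro q hq
      obtain ⟨y, hy, rfl⟩ := exists_specializes_primeOf_eq x q
      letI algy := (C.presheaf.stalkSpecializes hy).hom.toAlgebra
      haveI := isLocalization_stalkSpecializes hy
      let e : C.presheaf.stalk y ≃ₐ[C.presheaf.stalk x] Localization.AtPrime (primeOf hy) :=
        IsLocalization.algEquiv (primeOf hy).primeCompl _ _
      have h2 := (core' y).2
      rw [ringKrullDim_stalk_eq_height hy,
        Groth.Agent.Lib.Helper49.Serre.depth_eq_of_ringEquiv e.toRingEquiv] at h2
      exact_mod_cast h2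
  have hall := (Groth.Agent.Lib.Helper49.Serre.serre_criterion (C.presheaf.stalk x)).mpr hRS
  obtain ⟨hdom, hic⟩ := hall (maximalIdeal (C.presheaf.stalk x))
  let e : C.presheaf.stalk x ≃ₐ[C.presheaf.stalk x]
      Localization.AtPrime (maximalIdeal (C.presheaf.stalk x)) :=
    IsLocalization.atUnits _ (maximalIdeal (C.presheaf.stalk x)).primeCompl (fun z hz => by
      by_contra hu
      exact hz ((IsLocalRing.mem_maximalIdeal z).mpr hu))
  exact ⟨MulEquiv.isDomain _ e.toMulEquiv, IsIntegrallyClosed.of_equiv e.symm.toRingEquiv⟩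

end scheme

end Groth.Agent.Lib.Helper76.NormSerre
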