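import Groth.Prelude.Def_ArtFun5
import Groth.Agent.Lib.Helper76.PSCRing
import Groth.Agent.Lib.Helper76.PSNilp
import Groth.Agent.Lib.Helper63.ArtFun

/-!
# Power series rings over a coefficient ring of functors of Artin rings (helper76)

* `art_isAdicComplete`: an object of `Art Λ k` is complete for its (nilpotent) maximal ideal;
* `psCRing R n`: `R⟦X₁,…,Xₙ⟧` as an object of `CRing Λ k`, for `R : CRing Λ k`;
* `isVersal_of_algEquiv`: `h_{R⟦X⟧} → h_R` is smooth;
* `exists_algEquiv_of_isVersal`: if `h_S → h_R` is smooth then `S ≃ R⟦X₁,…,Xₙ⟧`.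
-/

set_option autoImplicit false
universe u

open CategoryTheory ArtFun MvPowerSeries IsLocalRing

namespace Groth.Agent.Lib.Helper76.PSArt

open Groth.Agent.Lib.Helper76.PSCRing Groth.Agent.Lib.Helper76.PSComplete

variable {Λ k : Type u} [CommRing Λ] [Field k] [Algebra Λ k]

/-- Artinian local: the maximal ideal is nilpotent, so the ring is complete -/
theorem art_isAdicComplete (A : Art Λ k) : IsAdicComplete (maximalIdeal A) A := by
  have h := IsArtinianRing.isNilpotent_jacobson_bot (R := A)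
  rw [IsLocalRing.jacobson_eq_maximalIdeal ⊥ bot_ne_top] at h
  obtain ⟨N, hN⟩ := h
  exact isAdicComplete_of_pow_eq_bot (M := N) hN

/-- constant coefficient as a `Λ`-algebra map -/
noncomputable def ccAlg (R : Type u) [CommRing R] [Algebra Λ R] (n : ℕ) :
    MvPowerSeries (Fin n) R →ₐ[Λ] R :=
  { (constantCoeff : MvPowerSeries (Fin n) R →+* R) with
    commutes' := fun c => by
      show constantCoeff (algebraMap Λ (MvPowerSeries (Fin n) R) c) = algebraMap Λ R c
      rw [MvPowerSeries.algebraMap_apply, constantCoeff_C] }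

/-- constants as a `Λ`-algebra map -/
noncomputable def CAlg (R : Type u) [CommRing R] [Algebra Λ R] (n : ℕ) :
    R →ₐ[Λ] MvPowerSeries (Fin n) R :=
  { (C : R →+* MvPowerSeries (Fin n) R) with
    commutes' := fun c => by
      show C (algebraMap Λ R c) = algebraMap Λ (MvPowerSeries (Fin n) R) c
      rw [MvPowerSeries.algebraMap_apply] }

@[simp] lemma ccAlg_apply (R : Type u) [CommRing R] [Algebra Λ R] (n : ℕ)
    (f : MvPowerSeries (Fin n) R) : (ccAlg (Λ := Λ) R n) f = constantCoeff f := rfl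

@[simp] lemma CAlg_apply (R : Type u) [CommRing R] [Algebra Λ R] (n : ℕ) (r : R) :
    (CAlg (Λ := Λ) R n) r = C r := rfl

/-- `R⟦X₁,…,Xₙ⟧` as a coefficient ring -/
noncomputable def psCRing (R : CRing Λ k) (n : ℕ) : CRing Λ k :=
  haveI := R.isAdicComplete
  { carrier := MvPowerSeries (Fin n) R.carrier
    res := R.res.comp (ccAlg R.carrier n)
    res_surjective := fun c => by
      obtain ⟨r, hr⟩ := R.res_surjective c
      exact ⟨C r, by simp [hr]⟩
    isAdicComplete := inferInstance }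

lemma psCRing_res_apply (R : CRing Λ k) (n : ℕ) (f : MvPowerSeries (Fin n) R.carrier) :
    (psCRing R n).res f = R.res (constantCoeff f) := rfl

lemma psCRing_res_comp_CAlg (R : CRing Λ k) (n : ℕ) :
    (psCRing R n).res.comp (CAlg R.carrier n) = R.res := by
  refine AlgHom.ext fun r => ?_
  show R.res (constantCoeff (C r)) = R.res r
  rw [constantCoeff_C]

section versal_of_equiv

variable (R S : CRing Λ k) [Algebra R.carrier S.carrier] [IsScalarTower Λ R.carrier S.carrier]
  (hRS : S.res.comp (IsScalarTower.toAlgHom Λ R.carrier S.carrier) = R.res)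

include hRS in
/-- the power series ring over `R` is smooth over `R` -/
theorem isVersal_of_algEquiv (n : ℕ)
    (e : S.carrier ≃ₐ[R.carrier] MvPowerSeries (Fin n) R.carrier) :
    IsVersal ((Family.self R.carrier R.res).along
      (IsScalarTower.toAlgHom Λ R.carrier S.carrier) hRS) := by
  intro B A μ hμ φ y0 hy
  obtain ⟨y, rfl⟩ : ∃ y : HomSet R.carrier R.res B, y = y0 := ⟨y0, rfl⟩
  have hy' : ∀ r : R.carrier, μ (y.1 r) = φ.1 (algebraMap R.carrier S.carrier r) := fun r =>
    congrArg (fun t : HomSet R.carrier R.res A => t.1 r) hy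
  -- the images of the variables
  have hXm : ∀ i, S.res (e.symm (X i)) = 0 := by
    intro i
    rw [← CRing.mem_maximalIdeal_iff, mem_maximalIdeal, mem_nonunits_iff]
    intro hu
    have h1 : IsUnit (e (e.symm (X i))) := hu.map e
    rw [AlgEquiv.apply_symm_apply] at h1
    have h2 := (MvPowerSeries.isUnit_iff_constantCoeff.mp h1)
    rw [constantCoeff_X] at h2
    exact not_isUnit_zero h2
  have haI : ∀ i, φ.1 (e.symm (X i)) ∈ maximalIdeal A := by
    intro i
    rw [Art.mem_maximalIdeal_iff]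
    have := AlgHom.congr_fun φ.2 (e.symm (X i))
    rw [AlgHom.comp_apply] at this
    rw [this, hXm]
  choose b hb using fun i => hμ (φ.1 (e.symm (X i)))
  have hbI : ∀ i, b i ∈ maximalIdeal B := by
    intro i
    rw [Art.mem_maximalIdeal_iff, ← Art.res_app μ, hb, ← Art.mem_maximalIdeal_iff]
    exact haI i
  haveI := art_isAdicComplete B
  haveI := art_isAdicComplete A
  obtain ⟨ψ₀, hψX, hψC⟩ := exists_ringHom (maximalIdeal B) (y.1 : R.carrier →+* B) b hbI
  -- `μ ∘ ψ₀ = φ ∘ e⁻¹`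
  have hcomp : ((μ.toAlgHom : B →+* A)).comp ψ₀ =
      ((φ.1 : S.carrier →+* A)).comp ((e.symm : _ ≃ₐ[R.carrier] _) : _ →+* S.carrier) := by
    refine ringHom_ext (maximalIdeal A) _ _ (fun i => ?_) (fun i => ?_) (fun r => ?_)
    · show μ (ψ₀ (X i)) ∈ _
      rw [hψX, hb]
      exact haI i
    · show μ (ψ₀ (X i)) = φ.1 (e.symm (X i))
      rw [hψX, hb]
    · show μ (ψ₀ (C r)) = φ.1 (e.symm (C r))
      rw [hψC]
      refine (hy' r).trans ?_
      congr 1
      have := e.symm.commutes r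
      rw [MvPowerSeries.algebraMap_apply, Algebra.algebraMap_self, RingHom.id_apply] at this
      exact this.symm
  let ψ : S.carrier →ₐ[Λ] B :=
    { toRingHom := ψ₀.comp ((e : _ ≃ₐ[R.carrier] _) : S.carrier →+* _)
      commutes' := fun c => by
        show ψ₀ (e (algebraMap Λ S.carrier c)) = algebraMap Λ B c
        rw [IsScalarTower.algebraMap_apply Λ R.carrier S.carrier, e.commutes,
          MvPowerSeries.algebraMap_apply, Algebra.algebraMap_self, RingHom.id_apply, hψC]
        exact y.1.commutes c }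
  have hψ : ∀ s, ψ s = ψ₀ (e s) := fun s => rfl
  have hμψ : ∀ s, μ (ψ s) = φ.1 s := by
    intro s
    have := RingHom.congr_fun hcomp (e s)
    simp only [RingHom.comp_apply] at this
    rw [hψ]
    refine this.trans ?_
    show φ.1 (e.symm (e s)) = φ.1 s
    rw [AlgEquiv.symm_apply_apply]
  have hres : B.res.comp ψ = S.res := by
    refine AlgHom.ext fun s => ?_
    rw [AlgHom.comp_apply, ← Art.res_app μ, hμψ]
    exact AlgHom.congr_fun φ.2 s
  refine ⟨⟨ψ, hres⟩, Subtype.ext (AlgHom.ext fun s => hμψ s), Subtype.ext (AlgHom.ext fun r => ?_)⟩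
  show ψ₀ (e (algebraMap R.carrier S.carrier r)) = y.1 r
  rw [e.commutes, MvPowerSeries.algebraMap_apply, Algebra.algebraMap_self, RingHom.id_apply, hψC]
  rfl

end versal_of_equiv

section quot

variable {S : Type*} [CommRing S] [IsLocalRing S]

lemma isLocalRing_quot (J : Ideal S) (hJ : J ≠ ⊤) : IsLocalRing (S ⧸ J) :=
  haveI : Nontrivial (S ⧸ J) := Ideal.Quotient.nontrivial_iff.2 hJ
  IsLocalRing.of_surjective' (Ideal.Quotient.mk J) Ideal.Quotient.mk_surjective

lemma isArtinianRing_quot [IsNoetherianRing S] (J : Ideal S) (hJ : J ≠ ⊤) (N : ℕ)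
    (hN : maximalIdeal S ^ N ≤ J) : IsArtinianRing (S ⧸ J) := by
  haveI := isLocalRing_quot J hJ
  rw [isArtinianRing_iff_isNilpotent_maximalIdeal]
  refine ⟨N, ?_⟩
  rw [Ideal.zero_eq_bot, ← le_bot_iff]
  have h1 : maximalIdeal (S ⧸ J) ≤ (maximalIdeal S).map (Ideal.Quotient.mk J) := by
    intro x hx
    obtain ⟨a, rfl⟩ := Ideal.Quotient.mk_surjective x
    have ha : a ∈ maximalIdeal S := by
      rw [mem_maximalIdeal, mem_nonunits_iff] at hx ⊢
      exact fun hu => hx (hu.map (Ideal.Quotient.mk J))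
    exact Ideal.mem_map_of_mem _ ha
  calc maximalIdeal (S ⧸ J) ^ N
      ≤ ((maximalIdeal S).map (Ideal.Quotient.mk J)) ^ N := Ideal.pow_right_mono h1 N
    _ = (maximalIdeal S ^ N).map (Ideal.Quotient.mk J) := (Ideal.map_pow _ _ _).symm
    _ ≤ J.map (Ideal.Quotient.mk J) := Ideal.map_mono hN
    _ = ⊥ := Ideal.map_quotient_self _

end quot

/-- `S/J` as an object of `Art Λ k` when `𝔪^N ≤ J ≠ ⊤` -/
noncomputable def quotArt (S : CRing Λ k) (J : Ideal S.carrier) (hJ : J ≠ ⊤) (N : ℕ)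
    (hN : maximalIdeal S.carrier ^ N ≤ J) : Art Λ k :=
  { carrier := S.carrier ⧸ J
    isLocalRing := isLocalRing_quot J hJ
    isArtinianRing := isArtinianRing_quot J hJ N hN
    res := Ideal.Quotient.liftₐ J S.res (fun a ha =>
      (CRing.mem_maximalIdeal_iff S a).1 (IsLocalRing.le_maximalIdeal hJ ha))
    res_surjective := fun c => by
      obtain ⟨a, ha⟩ := S.res_surjective c
      exact ⟨Ideal.Quotient.mk _ a, ha⟩ }

lemma quotArt_res_mk (S : CRing Λ k) (J : Ideal S.carrier) (hJ : J ≠ ⊤) (N : ℕ)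
    (hN : maximalIdeal S.carrier ^ N ≤ J) (a : S.carrier) :
    (quotArt S J hJ N hN).res (Ideal.Quotient.mk J a) = S.res a := rfl

section lift_of_versal

variable (R S Pc : CRing Λ k) [Algebra R.carrier S.carrier] [IsScalarTower Λ R.carrier S.carrier]
  (hRS : S.res.comp (IsScalarTower.toAlgHom Λ R.carrier S.carrier) = R.res)

include hRS in
/-- if `h_S → h_R` is smooth, an `R`-map from `S` to a quotient `P/J` (`𝔪_P² ≤ J`) of a
coefficient ring `P` over `R` lifts to an `R`-map `S → P` -/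
theorem exists_lift_of_isVersal
    (hV : IsVersal ((Family.self R.carrier R.res).along
      (IsScalarTower.toAlgHom Λ R.carrier S.carrier) hRS))
    (c : R.carrier →ₐ[Λ] Pc.carrier) (hc : Pc.res.comp c = R.res)
    (J : Ideal Pc.carrier) (hJtop : J ≠ ⊤) (hJ2 : maximalIdeal Pc.carrier ^ 2 ≤ J)
    (φ₂ : HomSet S.carrier S.res (quotArt Pc J hJtop 2 hJ2))
    (hφ₂ : ∀ r, φ₂.1 (algebraMap R.carrier S.carrier r) = Ideal.Quotient.mk J (c r)) :
    ∃ g : S.carrier →ₐ[Λ] Pc.carrier, Pc.res.comp g = S.res ∧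
      g.comp (IsScalarTower.toAlgHom Λ R.carrier S.carrier) = c ∧
      ∀ s, Ideal.Quotient.mk J (g s) = φ₂.1 s := by
  classical
  let A₂ : Art Λ k := quotArt Pc J hJtop 2 hJ2
  let μ₂ : Pc.trunc 1 ⟶ A₂ :=
    ⟨Ideal.Quotient.factorₐ Λ (show CRing.mpow Pc 1 ≤ J from hJ2), by
      apply AlgHom.ext
      intro z
      obtain ⟨a, rfl⟩ := Ideal.Quotient.mk_surjective z
      rfl⟩
  have hμ₂mk : ∀ z : Pc.carrier, μ₂ ((Pc.truncHom 1).1 z) = Ideal.Quotient.mk J z := fun z => rfl
  have hμ₂ : Function.Surjective μ₂ := by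
    intro z
    obtain ⟨a, rfl⟩ := Ideal.Quotient.mk_surjective z
    exact ⟨Ideal.Quotient.mk _ a, rfl⟩
  let y : ∀ m, HomSet R.carrier R.res (Pc.trunc m) := fun m =>
    ⟨(Pc.truncHom m).1.comp c, by
      rw [← AlgHom.comp_assoc, (Pc.truncHom m).2]
      exact hc⟩
  have hy_compat : ∀ m, HomSet.map (Pc.truncMap m) (y (m + 1)) = y m := fun m =>
    Subtype.ext (AlgHom.ext fun _ => rfl)
  set ξ := (Family.self R.carrier R.res).along
    (IsScalarTower.toAlgHom Λ R.carrier S.carrier) hRS with hξ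
  -- first lift
  have h1 : (hR R.carrier R.res).map μ₂ (y 1) = ξ.app A₂ φ₂ := by
    refine Subtype.ext (AlgHom.ext fun r => ?_)
    show μ₂ ((Pc.truncHom 1).1 (c r)) = φ₂.1 (algebraMap R.carrier S.carrier r)
    exact (hμ₂mk (c r)).trans (hφ₂ r).symm
  obtain ⟨ψ₁, hψ₁μ, hψ₁y⟩ := hV μ₂ hμ₂ φ₂ (y 1) h1
  -- the inductive system of lifts
  let T : ℕ → Type u := fun m =>
    {χ : HomSet S.carrier S.res (Pc.trunc (m + 1)) // ξ.app _ χ = y (m + 1)}
  have hstep : ∀ (m : ℕ) (χ : T m), ∃ χ' : HomSet S.carrier S.res (Pc.trunc (m + 2)),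
      HomSet.map (Pc.truncMap (m + 1)) χ' = χ.1 ∧ ξ.app _ χ' = y (m + 2) := by
    intro m χ
    have hsurj : Function.Surjective (Pc.truncMap (m + 1)) := by
      intro z
      obtain ⟨a, rfl⟩ := Ideal.Quotient.mk_surjective z
      exact ⟨Ideal.Quotient.mk _ a, rfl⟩
    exact hV (Pc.truncMap (m + 1)) hsurj χ.1 (y (m + 2)) (by
      rw [χ.2]
      exact hy_compat (m + 1))
  let Ψ : ∀ m, T m := fun m => Nat.rec ⟨ψ₁, hψ₁y⟩
    (fun m χ => ⟨Classical.choose (hstep m χ), (Classical.choose_spec (hstep m χ)).2⟩) m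
  have hΨ : ∀ m, HomSet.map (Pc.truncMap (m + 1)) (Ψ (m + 1)).1 = (Ψ m).1 := fun m =>
    (Classical.choose_spec (hstep m (Ψ m))).1
  let φseq : ∀ m, HomSet S.carrier S.res (Pc.trunc m) := fun m =>
    Nat.casesOn (motive := fun m => HomSet S.carrier S.res (Pc.trunc m)) m
      (HomSet.map (Pc.truncMap 0) (Ψ 0).1) (fun m => (Ψ m).1)
  have hφ : ∀ m, HomSet.map (Pc.truncMap m) (φseq (m + 1)) = φseq m := by
    intro m
    cases m with
    | zero => rfl
    | succ m => exact hΨ m
  obtain ⟨g, hg, hgn⟩ :=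
    Groth.Agent.Lib.Helper63.ArtFunLib.exists_lift_of_compatible Pc φseq hφ
  have hξφ : ∀ m, ξ.app _ (φseq m) = y m := by
    intro m
    cases m with
    | zero =>
      show ξ.app _ (HomSet.map (Pc.truncMap 0) (Ψ 0).1) = y 0
      rw [ξ.natural, (Ψ 0).2]
      exact hy_compat 0
    | succ m => exact (Ψ m).2
  refine ⟨g, hg, ?_, fun s => ?_⟩
  · refine Groth.Agent.Lib.Helper63.ArtFunLib.algHom_ext_of_truncHom Pc _ _ fun m => ?_
    rw [← AlgHom.comp_assoc, hgn m]
    exact congrArg Subtype.val (hξφ m)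
  · have e1 := AlgHom.congr_fun (hgn 1) s
    have e2 := congrArg (fun t : HomSet S.carrier S.res A₂ => t.1 s) hψ₁μ
    rw [AlgHom.comp_apply] at e1
    refine (hμ₂mk (g s)).symm.trans ?_
    rw [e1]
    exact e2

end lift_of_versal

section equiv_of_versal

variable (R S : CRing Λ k) [Algebra R.carrier S.carrier] [IsScalarTower Λ R.carrier S.carrier]
  (hRS : S.res.comp (IsScalarTower.toAlgHom Λ R.carrier S.carrier) = R.res)

include hRS in
/-- if `h_S → h_R` is smooth then `S` is a power series ring over `R` -/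
theorem exists_algEquiv_of_isVersal
    (hV : IsVersal ((Family.self R.carrier R.res).along
      (IsScalarTower.toAlgHom Λ R.carrier S.carrier) hRS)) :
    ∃ n : ℕ, Nonempty (S.carrier ≃ₐ[R.carrier] MvPowerSeries (Fin n) R.carrier) := by
  classical
  haveI := R.isAdicComplete
  haveI := S.isAdicComplete
  have hRSr : ∀ r : R.carrier, S.res (algebraMap R.carrier S.carrier r) = R.res r :=
    fun r => AlgHom.congr_fun hRS r
  have hloc : ∀ r : R.carrier, algebraMap R.carrier S.carrier r ∈ maximalIdeal S.carrier →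
      r ∈ maximalIdeal R.carrier := by
    intro r hr
    rw [CRing.mem_maximalIdeal_iff] at hr ⊢
    rwa [hRSr] at hr
  set 𝔞 : Ideal S.carrier := (maximalIdeal R.carrier).map (algebraMap R.carrier S.carrier)
    with h𝔞
  have h𝔞le : 𝔞 ≤ maximalIdeal S.carrier := by
    rw [h𝔞, Ideal.map_le_iff_le_comap]
    intro r hr
    rw [Ideal.mem_comap, CRing.mem_maximalIdeal_iff, hRSr, ← CRing.mem_maximalIdeal_iff]
    exact hr
  obtain ⟨n, x, hgen, hmin⟩ := exists_min_gen 𝔞 h𝔞le
  have hxm : ∀ i, x i ∈ maximalIdeal S.carrier := fun i => by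
    rw [hgen]; exact Ideal.mem_sup_right (Ideal.subset_span ⟨i, rfl⟩)
  -- the evaluation map
  let ψ : MvPowerSeries (Fin n) R.carrier →ₐ[R.carrier] S.carrier :=
    evC (maximalIdeal S.carrier) x hxm
  have hψX : ∀ i, ψ (X i) = x i := evC_X _ x hxm
  have hψC : ∀ r, ψ (C r) = algebraMap R.carrier S.carrier r := fun r => by
    have := ψ.commutes r
    rwa [MvPowerSeries.algebraMap_apply, Algebra.algebraMap_self, RingHom.id_apply] at this
  have hmapψ : (maximalIdeal (MvPowerSeries (Fin n) R.carrier)).map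
      (ψ : MvPowerSeries (Fin n) R.carrier →+* S.carrier) = maximalIdeal S.carrier := by
    rw [map_maximalIdeal_eq x (ψ : MvPowerSeries (Fin n) R.carrier →+* S.carrier) hψC hψX, ← hgen]
  have hψsurj : Function.Surjective ψ := by
    refine surjective_of_map_maximalIdeal
      (ψ : MvPowerSeries (Fin n) R.carrier →+* S.carrier) hmapψ fun s => ?_
    obtain ⟨r, hr⟩ := R.res_surjective (S.res s)
    refine ⟨C r, ?_⟩
    show s - ψ (C r) ∈ _
    rw [hψC, CRing.mem_maximalIdeal_iff, map_sub, hRSr, hr, sub_self]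
  have hresψ : ∀ p, S.res (ψ p) = R.res (constantCoeff p) := by
    intro p
    have h1 : p - C (constantCoeff p) ∈ maximalIdeal (MvPowerSeries (Fin n) R.carrier) := by
      rw [PSCRing.mem_maximalIdeal_iff, map_sub, constantCoeff_C, sub_self]
      exact zero_mem _
    have h2 : ψ (p - C (constantCoeff p)) ∈ maximalIdeal S.carrier := by
      rw [← hmapψ]
      exact Ideal.mem_map_of_mem _ h1
    rw [CRing.mem_maximalIdeal_iff, map_sub, map_sub, hψC, hRSr, sub_eq_zero] at h2
    exact h2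
  -- the kernel
  set J : Ideal (MvPowerSeries (Fin n) R.carrier) :=
    (maximalIdeal R.carrier).map (C : R.carrier →+* MvPowerSeries (Fin n) R.carrier) ⊔
      maximalIdeal (MvPowerSeries (Fin n) R.carrier) ^ 2 with hJ
  have hker : ∀ p, ψ p = 0 → p ∈ J := fun p hp =>
    ker_le_of_min_gen x (ψ : MvPowerSeries (Fin n) R.carrier →+* S.carrier) hψC hψX hloc hgen hmin
      p hp
  have hJle : J ≤ maximalIdeal (MvPowerSeries (Fin n) R.carrier) :=
    sup_le map_C_maximalIdeal_le (Ideal.pow_le_self two_ne_zero)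
  have hJtop : (J : Ideal (psCRing R n).carrier) ≠ ⊤ := fun h =>
    (maximalIdeal.isMaximal (MvPowerSeries (Fin n) R.carrier)).ne_top (top_le_iff.1 (h ▸ hJle))
  have hJ2 : maximalIdeal (psCRing R n).carrier ^ 2 ≤ (J : Ideal (psCRing R n).carrier) :=
    le_sup_right
  let φ₂alg : S.carrier →ₐ[Λ] (MvPowerSeries (Fin n) R.carrier ⧸ J) :=
    AlgHom.liftOfSurjective (ψ.restrictScalars Λ) hψsurj (Ideal.Quotient.mkₐ Λ J) (by
      intro p hp
      rw [RingHom.mem_ker] at hp ⊢
      exact Ideal.Quotient.eq_zero_iff_mem.mpr (hker p hp))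
  have hφ₂ψ : ∀ p, φ₂alg (ψ p) = Ideal.Quotient.mk J p := fun p =>
    AlgHom.liftOfSurjective_apply (ψ.restrictScalars Λ) hψsurj (Ideal.Quotient.mkₐ Λ J) _ p
  let φ₂ : HomSet S.carrier S.res (quotArt (psCRing R n) J hJtop 2 hJ2) := ⟨φ₂alg, by
    refine AlgHom.ext fun s => ?_
    obtain ⟨p, rfl⟩ := hψsurj s
    have e1 : (quotArt (psCRing R n) J hJtop 2 hJ2).res (Ideal.Quotient.mk J p) =
        R.res (constantCoeff p) := rfl
    exact (congrArg (quotArt (psCRing R n) J hJtop 2 hJ2).res (hφ₂ψ p)).trans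
      (e1.trans (hresψ p).symm)⟩
  obtain ⟨g, hg, hgR, hgJ⟩ := exists_lift_of_isVersal R S (psCRing R n) hRS hV (CAlg R.carrier n)
    (psCRing_res_comp_CAlg R n) J hJtop hJ2 φ₂ (fun r => by
      show φ₂alg (algebraMap R.carrier S.carrier r) = Ideal.Quotient.mk J (C r)
      rw [← hψC r, hφ₂ψ])
  -- the endomorphism
  let θ : MvPowerSeries (Fin n) R.carrier →+* MvPowerSeries (Fin n) R.carrier :=
    (g : S.carrier →+* (psCRing R n).carrier).comp
      (ψ : MvPowerSeries (Fin n) R.carrier →+* S.carrier)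
  have hθ : ∀ p, θ p = g (ψ p) := fun p => rfl
  have hθC : ∀ r, θ (C r) = C r := by
    intro r
    rw [hθ, hψC]
    exact AlgHom.congr_fun hgR r
  have hθX : ∀ i, θ (X i) - X i ∈ J := by
    intro i
    rw [hθ, hψX]
    refine Ideal.Quotient.eq.mp ((hgJ (x i)).trans ?_)
    show φ₂alg (x i) = Ideal.Quotient.mk J (X i)
    rw [← hψX i]
    exact hφ₂ψ (X i)
  have hθsurj : Function.Surjective θ := surjective_endo θ hθC hθX
  have hθinj : Function.Injective θ := injective_of_surjective_endo θ hθsurj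
  have hψinj : Function.Injective ψ := fun a b hab => hθinj (by rw [hθ, hθ, hab])
  exact ⟨n, ⟨(AlgEquiv.ofBijective ψ ⟨hψinj, hψsurj⟩).symm⟩⟩

end equiv_of_versal

end Groth.Agent.Lib.Helper76.PSArt
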