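import Groth.Agent.Lib.Helper76.PSComplete
import Mathlib.RingTheory.PowerSeries.Inverse
import Mathlib.RingTheory.DiscreteValuationRing.Basic

/-!
# A complete discrete valuation ring with a coefficient field is a power series ring (helper76)
-/

set_option autoImplicit false

namespace Groth.Agent.Lib.Helper76.PSComplete

open IsLocalRing

variable {K : Type*} {A : Type*} [Field K] [CommRing A] [IsDomain A] [IsDiscreteValuationRing A]
  [Algebra K A] [IsAdicComplete (maximalIdeal A) A]

theorem exists_powerSeries_algEquiv
    (hK : Function.Surjective ((Ideal.Quotient.mk (maximalIdeal A)).comp (algebraMap K A)))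
    (x : A) (hx : maximalIdeal A = Ideal.span {x}) :
    ∃ e : PowerSeries K ≃ₐ[K] A, e PowerSeries.X = x ∧
      ∀ (f : PowerSeries K) (n : ℕ),
        e f - (Finset.range n).sum (fun i => algebraMap K A (PowerSeries.coeff i f) * x ^ i) ∈
          maximalIdeal A ^ n := by
  have hxm : x ∈ maximalIdeal A := by rw [hx]; exact Ideal.mem_span_singleton_self x
  have hb : ∀ _ : Unit, (fun _ : Unit => x) () ∈ maximalIdeal A := fun _ => hxm
  let ψ : PowerSeries K →ₐ[K] A := evC (maximalIdeal A) (fun _ : Unit => x) hb
  have hX : ψ PowerSeries.X = x := evC_X (maximalIdeal A) (fun _ : Unit => x) hb ()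
  have hsurj : Function.Surjective ψ := by
    refine evC_surjective (maximalIdeal A) (fun _ : Unit => x) hb ?_ hK
    rw [hx]
    congr 1
    ext y
    simp
  have hx0 : x ≠ 0 := by
    intro h
    have : maximalIdeal A = ⊥ := by rw [hx, h]; simp
    exact IsDiscreteValuationRing.not_a_field A this
  have hinj : Function.Injective ψ := by
    rw [injective_iff_map_eq_zero]
    intro f hf
    by_contra hne
    have h1 : PowerSeries.X ^ f.order.toNat * PowerSeries.divXPowOrder f = f :=
      PowerSeries.X_pow_order_mul_divXPowOrder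
    have h2 : IsUnit (ψ (PowerSeries.divXPowOrder f)) :=
      (PowerSeries.isUnit_divided_by_X_pow_order hne).map ψ
    rw [← h1, map_mul, map_pow, hX] at hf
    rcases mul_eq_zero.mp hf with h | h
    · exact hx0 (eq_zero_of_pow_eq_zero h)
    · exact h2.ne_zero h
  refine ⟨AlgEquiv.ofBijective ψ ⟨hinj, hsurj⟩, hX, fun f n => ?_⟩
  show ψ f - _ ∈ _
  set p : PowerSeries K := (Finset.range n).sum
    (fun i => PowerSeries.C (PowerSeries.coeff i f) * PowerSeries.X ^ i) with hp
  have hdvd : PowerSeries.X ^ n ∣ f - p := by
    rw [PowerSeries.X_pow_dvd_iff]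
    intro m hm
    rw [map_sub, hp, map_sum]
    simp only [PowerSeries.coeff_C_mul, PowerSeries.coeff_X_pow]
    simp [hm]
  obtain ⟨g, hg⟩ := hdvd
  have hψp : ψ p = (Finset.range n).sum
      (fun i => algebraMap K A (PowerSeries.coeff i f) * x ^ i) := by
    rw [hp, map_sum]
    refine Finset.sum_congr rfl fun i _ => ?_
    rw [map_mul, map_pow, hX]
    congr 1
    have := ψ.commutes (PowerSeries.coeff i f)
    rwa [PowerSeries.algebraMap_apply, Algebra.algebraMap_self, RingHom.id_apply] at this
  rw [← hψp, ← map_sub, hg, map_mul, map_pow, hX]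
  exact Ideal.mul_mem_right _ _ (Ideal.pow_mem_pow hxm n)

end Groth.Agent.Lib.Helper76.PSComplete
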