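import Groth.Agent.Lib.Helper76.PSInv
import Mathlib.RingTheory.AdicCompletion.Basic

/-!
# Evaluation of power series at families with constant terms in `I`, over an `I`-adically
complete ring (helper76)

For `A` an `I`-adically complete ring and `b : σ → A⟦τ⟧` a finite family whose constant
coefficients lie in `I`, we build the `A`-algebra map `ev I b hb : A⟦σ⟧ →ₐ[A] A⟦τ⟧`,
`F ↦ F(b)`, characterised by `red k (ev b F) = subst (red k ∘ b) (red k F)` for all `k`, where
`red k` is coefficientwise reduction mod `I ^ k` (where the constant terms become nilpotent).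
In particular we obtain the translation automorphisms `x ↦ x + c` for `c ∈ I`.
-/

set_option autoImplicit false

namespace Groth.Agent.Lib.Helper76.PSEval

open MvPowerSeries

variable {A : Type*} [CommRing A] (I : Ideal A)
variable {σ τ υ : Type*}

section lim

lemma exists_lim [IsPrecomplete I A] (s : ∀ k, A ⧸ I ^ k)
    (hs : ∀ k, Ideal.Quotient.factor (Ideal.pow_le_pow_right (Nat.le_succ k)) (s (k + 1)) = s k) :
    ∃ x : A, ∀ k, Ideal.Quotient.mk (I ^ k) x = s k := by
  choose f hf using fun k => Ideal.Quotient.mk_surjective (s k)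
  have h1 : ∀ k, f k - f (k + 1) ∈ I ^ k := by
    intro k
    rw [← Ideal.Quotient.eq, hf k, ← hs k, ← hf (k + 1), Ideal.Quotient.factor_mk]
  have h2 : ∀ m d, f m - f (m + d) ∈ I ^ m := by
    intro m d
    induction d with
    | zero => simp
    | succ d ih =>
      have h3 : f (m + d) - f (m + d + 1) ∈ I ^ m :=
        Ideal.pow_le_pow_right (Nat.le_add_right m d) (h1 (m + d))
      have := Ideal.add_mem _ ih h3
      rwa [sub_add_sub_cancel] at this
  obtain ⟨L, hL⟩ := IsPrecomplete.prec ‹IsPrecomplete I A› (f := f) (by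
    intro m n hmn
    obtain ⟨d, rfl⟩ := Nat.exists_eq_add_of_le hmn
    rw [SModEq.sub_mem, smul_eq_mul, Ideal.mul_top]
    exact h2 m d)
  refine ⟨L, fun k => ?_⟩
  have := hL k
  rw [SModEq.sub_mem, smul_eq_mul, Ideal.mul_top] at this
  rw [← hf k]
  exact (Ideal.Quotient.eq.mpr this).symm

lemma eq_of_forall_mk_eq [IsHausdorff I A] {x y : A}
    (h : ∀ k, Ideal.Quotient.mk (I ^ k) x = Ideal.Quotient.mk (I ^ k) y) : x = y := by
  rw [← sub_eq_zero]
  apply IsHausdorff.haus ‹IsHausdorff I A›
  intro n
  rw [SModEq.zero, smul_eq_mul, Ideal.mul_top]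
  exact Ideal.Quotient.eq.mp (h n)

end lim

/-- coefficientwise reduction mod `I ^ k` -/
noncomputable abbrev red (k : ℕ) : MvPowerSeries σ A →+* MvPowerSeries σ (A ⧸ I ^ k) :=
  MvPowerSeries.map (Ideal.Quotient.mk (I ^ k))

lemma exists_lim_ps [IsPrecomplete I A] (G : ∀ k, MvPowerSeries τ (A ⧸ I ^ k))
    (hG : ∀ k, MvPowerSeries.map
      (Ideal.Quotient.factor (Ideal.pow_le_pow_right (Nat.le_succ k))) (G (k + 1)) = G k) :
    ∃ g : MvPowerSeries τ A, ∀ k, red I k g = G k := by
  have key : ∃ g : MvPowerSeries τ A, ∀ e k,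
      Ideal.Quotient.mk (I ^ k) (coeff e g) = coeff e (G k) := by
    choose g hg using fun e => exists_lim I (fun k => coeff e (G k))
      (fun k => by rw [← hG k, coeff_map])
    exact ⟨g, fun e k => hg e k⟩
  obtain ⟨g, hg⟩ := key
  refine ⟨g, fun k => ?_⟩
  ext e
  rw [coeff_map]
  exact hg e k

lemma eq_of_forall_red_eq [IsHausdorff I A] {g g' : MvPowerSeries τ A}
    (h : ∀ k, red I k g = red I k g') : g = g' := by
  ext e
  refine eq_of_forall_mk_eq I fun k => ?_
  have := congrArg (coeff e) (h k)
  rwa [coeff_map, coeff_map] at this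

lemma map_factor_red (k : ℕ) (F : MvPowerSeries σ A) :
    MvPowerSeries.map (Ideal.Quotient.factor (Ideal.pow_le_pow_right (Nat.le_succ k)))
      (red I (k + 1) F) = red I k F := by
  ext e
  simp only [coeff_map, Ideal.Quotient.factor_mk]

lemma isNilpotent_constantCoeff_red {b : MvPowerSeries τ A} (hb : constantCoeff b ∈ I) (k : ℕ) :
    IsNilpotent (constantCoeff (red I k b)) :=
  ⟨k, by
    rw [constantCoeff_map, ← map_pow]
    exact Ideal.Quotient.eq_zero_iff_mem.mpr (Ideal.pow_mem_pow hb k)⟩

lemma hasSubst_red [Finite σ] {b : σ → MvPowerSeries τ A} (hb : ∀ s, constantCoeff (b s) ∈ I)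
    (k : ℕ) : HasSubst (fun s => red I k (b s)) :=
  hasSubst_of_constantCoeff_nilpotent fun s => isNilpotent_constantCoeff_red I (hb s) k

lemma ev_compat [Finite σ] {b : σ → MvPowerSeries τ A} (hb : ∀ s, constantCoeff (b s) ∈ I)
    (F : MvPowerSeries σ A) (k : ℕ) :
    MvPowerSeries.map (Ideal.Quotient.factor (Ideal.pow_le_pow_right (Nat.le_succ k)))
      (subst (fun s => red I (k + 1) (b s)) (red I (k + 1) F)) =
      subst (fun s => red I k (b s)) (red I k F) := by
  rw [map_subst (hasSubst_red I hb (k + 1))]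
  simp only [map_factor_red]

section ev

variable [Finite σ]

/-- the underlying function of `ev` -/
noncomputable def evFun [IsPrecomplete I A] (b : σ → MvPowerSeries τ A)
    (hb : ∀ s, constantCoeff (b s) ∈ I) (F : MvPowerSeries σ A) : MvPowerSeries τ A :=
  Classical.choose (exists_lim_ps I (fun k => subst (fun s => red I k (b s)) (red I k F))
    (ev_compat I hb F))

lemma red_evFun [IsPrecomplete I A] (b : σ → MvPowerSeries τ A)
    (hb : ∀ s, constantCoeff (b s) ∈ I) (F : MvPowerSeries σ A) (k : ℕ) :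
    red I k (evFun I b hb F) = subst (fun s => red I k (b s)) (red I k F) :=
  Classical.choose_spec (exists_lim_ps I (fun k => subst (fun s => red I k (b s)) (red I k F))
    (ev_compat I hb F)) k

variable [IsAdicComplete I A]

/-- **Evaluation** `F ↦ F(b)` of power series at a finite family of power series with constant
terms in `I`, over an `I`-adically complete ring. -/
noncomputable def ev (b : σ → MvPowerSeries τ A) (hb : ∀ s, constantCoeff (b s) ∈ I) :
    MvPowerSeries σ A →ₐ[A] MvPowerSeries τ A where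
  toFun := evFun I b hb
  map_one' := eq_of_forall_red_eq I fun k => by
    rw [red_evFun, map_one, map_one, ← coe_substAlgHom (hasSubst_red I hb k), map_one]
  map_mul' F G := eq_of_forall_red_eq I fun k => by
    simp only [red_evFun, map_mul, subst_mul (hasSubst_red I hb k)]
  map_zero' := eq_of_forall_red_eq I fun k => by
    rw [red_evFun, map_zero, map_zero, ← coe_substAlgHom (hasSubst_red I hb k), map_zero]
  map_add' F G := eq_of_forall_red_eq I fun k => by
    simp only [red_evFun, map_add, subst_add (hasSubst_red I hb k)]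
  commutes' a := eq_of_forall_red_eq I fun k => by
    rw [red_evFun]
    simp only [MvPowerSeries.algebraMap_apply, Algebra.algebraMap_self, RingHom.id_apply, map_C, subst_C]

lemma red_ev (b : σ → MvPowerSeries τ A) (hb : ∀ s, constantCoeff (b s) ∈ I)
    (F : MvPowerSeries σ A) (k : ℕ) :
    red I k (ev I b hb F) = subst (fun s => red I k (b s)) (red I k F) :=
  red_evFun I b hb F k

lemma ev_X (b : σ → MvPowerSeries τ A) (hb : ∀ s, constantCoeff (b s) ∈ I) (s : σ) :
    ev I b hb (X s) = b s :=
  eq_of_forall_red_eq I fun k => by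
    rw [red_ev, map_X, subst_X (hasSubst_red I hb k)]

lemma ev_C (b : σ → MvPowerSeries τ A) (hb : ∀ s, constantCoeff (b s) ∈ I) (a : A) :
    ev I b hb (C a) = C a :=
  (ev I b hb).commutes a

lemma ev_eq_subst {b : σ → MvPowerSeries τ A} (hb0 : HasSubst b)
    (hb : ∀ s, constantCoeff (b s) ∈ I) (F : MvPowerSeries σ A) :
    ev I b hb F = subst b F :=
  eq_of_forall_red_eq I fun k => by
    rw [red_ev, map_subst hb0]

lemma constantCoeff_ev_mem (b : σ → MvPowerSeries τ A) (hb : ∀ s, constantCoeff (b s) ∈ I)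
    {F : MvPowerSeries σ A} (hF : constantCoeff F ∈ I) :
    constantCoeff (ev I b hb F) ∈ I := by
  have h0 : ∀ G : MvPowerSeries τ A, constantCoeff G ∈ I ↔ constantCoeff (red I 1 G) = 0 := by
    intro G
    rw [constantCoeff_map, Ideal.Quotient.eq_zero_iff_mem, pow_one]
  have h0' : ∀ G : MvPowerSeries σ A, constantCoeff G ∈ I ↔ constantCoeff (red I 1 G) = 0 := by
    intro G
    rw [constantCoeff_map, Ideal.Quotient.eq_zero_iff_mem, pow_one]
  rw [h0, red_ev]
  exact constantCoeff_subst_eq_zero (hasSubst_red I hb 1) (fun s => (h0 _).mp (hb s))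
    ((h0' _).mp hF)

lemma ev_comp [Finite τ] (b : τ → MvPowerSeries υ A) (hb : ∀ s, constantCoeff (b s) ∈ I)
    (b' : σ → MvPowerSeries τ A) (hb' : ∀ s, constantCoeff (b' s) ∈ I)
    (F : MvPowerSeries σ A) :
    ev I b hb (ev I b' hb' F) =
      ev I (fun s => ev I b hb (b' s)) (fun s => constantCoeff_ev_mem I b hb (hb' s)) F :=
  eq_of_forall_red_eq I fun k => by
    rw [red_ev, red_ev, red_ev,
      subst_comp_subst_apply (hasSubst_red I hb' k) (hasSubst_red I hb k)]
    simp only [red_ev]

lemma ev_congr {b b' : σ → MvPowerSeries τ A} (h : b = b')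
    (hb : ∀ s, constantCoeff (b s) ∈ I) (F : MvPowerSeries σ A) :
    ev I b hb F = ev I b' (h ▸ hb) F := by
  subst h; rfl

end ev

section trans

variable [Finite σ] [IsAdicComplete I A]

omit [Finite σ] [IsAdicComplete I A] in
lemma constantCoeff_X_add_C_mem {c : σ → A} (hc : ∀ s, c s ∈ I) (s : σ) :
    constantCoeff ((X s : MvPowerSeries σ A) + C (c s)) ∈ I := by
  simpa using hc s

/-- translation `x ↦ x + c` by a point `c ∈ I^σ` -/
noncomputable def trans (c : σ → A) (hc : ∀ s, c s ∈ I) :
    MvPowerSeries σ A →ₐ[A] MvPowerSeries σ A :=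
  ev I (fun s => X s + C (c s)) (constantCoeff_X_add_C_mem I hc)

lemma trans_X (c : σ → A) (hc : ∀ s, c s ∈ I) (s : σ) :
    trans I c hc (X s) = X s + C (c s) :=
  ev_X I _ _ s

lemma trans_C (c : σ → A) (hc : ∀ s, c s ∈ I) (a : A) :
    trans I c hc (C a) = C a :=
  ev_C I _ _ a

lemma trans_trans (c c' : σ → A) (hc : ∀ s, c s ∈ I) (hc' : ∀ s, c' s ∈ I)
    (F : MvPowerSeries σ A) :
    trans I c hc (trans I c' hc' F) =
      trans I (fun s => c s + c' s) (fun s => I.add_mem (hc s) (hc' s)) F := by
  unfold trans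
  rw [ev_comp]
  refine ev_congr I ?_ _ F
  funext s
  rw [map_add, ev_X, ev_C, map_add]
  ring

lemma trans_zero (F : MvPowerSeries σ A) :
    trans I (fun _ => (0 : A)) (fun _ => I.zero_mem) F = F := by
  unfold trans
  have h : (fun s => (X s : MvPowerSeries σ A) + C (0 : A)) = fun s => X s := by
    funext s; simp
  rw [ev_congr I h, ev_eq_subst I HasSubst.X]
  exact congrFun subst_self F

/-- reduction mod `I ^ k` does not see translations by points of `I ^ k` -/
lemma red_trans_of_mem {k : ℕ} (c : σ → A) (hc : ∀ s, c s ∈ I) (hck : ∀ s, c s ∈ I ^ k)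
    (F : MvPowerSeries σ A) :
    red I k (trans I c hc F) = red I k F := by
  unfold trans
  rw [red_ev]
  have h : (fun s => red I k ((X s : MvPowerSeries σ A) + C (c s))) = fun s => X s := by
    funext s
    rw [map_add, map_X, map_C, Ideal.Quotient.eq_zero_iff_mem.mpr (hck s), map_zero, add_zero]
  rw [h]
  exact congrFun subst_self _

lemma trans_eq_self_of_eq_zero (c : σ → A) (hc : ∀ s, c s ∈ I) (h : c = fun _ => 0)
    (F : MvPowerSeries σ A) : trans I c hc F = F := by
  subst h
  exact trans_zero I F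

lemma trans_trans_neg (c : σ → A) (hc : ∀ s, c s ∈ I) (F : MvPowerSeries σ A) :
    trans I c hc (trans I (fun s => - c s) (fun s => I.neg_mem (hc s)) F) = F := by
  rw [trans_trans]
  exact trans_eq_self_of_eq_zero I _ _ (by funext s; ring) F

lemma trans_neg_trans (c : σ → A) (hc : ∀ s, c s ∈ I) (F : MvPowerSeries σ A) :
    trans I (fun s => - c s) (fun s => I.neg_mem (hc s)) (trans I c hc F) = F := by
  rw [trans_trans]
  exact trans_eq_self_of_eq_zero I _ _ (by funext s; ring) F

/-- translation as an algebra automorphism -/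
noncomputable def transEquiv (c : σ → A) (hc : ∀ s, c s ∈ I) :
    MvPowerSeries σ A ≃ₐ[A] MvPowerSeries σ A :=
  AlgEquiv.ofAlgHom (trans I c hc) (trans I (fun s => - c s) (fun s => I.neg_mem (hc s)))
    (AlgHom.ext fun F => by
      rw [AlgHom.comp_apply, trans_trans_neg, AlgHom.id_apply])
    (AlgHom.ext fun F => by
      rw [AlgHom.comp_apply, trans_neg_trans, AlgHom.id_apply])

lemma transEquiv_apply (c : σ → A) (hc : ∀ s, c s ∈ I) (F : MvPowerSeries σ A) :
    transEquiv I c hc F = trans I c hc F := rfl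

end trans

end Groth.Agent.Lib.Helper76.PSEval
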