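import Groth.Agent.Lib.Helper76.PSEval
import Groth.Agent.Lib.Helper76.PSCont
import Mathlib.RingTheory.MvPowerSeries.Derivative

/-!
# Hensel's lemma for systems of power series over an adically complete ring (helper76)

* `derivation_eq_zero`: a derivation of `A⟦x₁,…,xₙ⟧` over `A` killing the variables is zero
  (automatic continuity).
* `pderiv_trans`: partial derivatives commute with translations.
* `hensel`: a square system of power series whose constant terms lie in `I` and whose Jacobian
  at the origin is invertible has a zero in `I^n` (`A` being `I`-adically complete).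
-/

set_option autoImplicit false

namespace Groth.Agent.Lib.Helper76.PSEval

open MvPowerSeries
open Groth.Agent.Lib.Helper76.LT Groth.Agent.Lib.Helper76.PSInv

variable {A : Type*} [CommRing A] {σ : Type*}

/-- a derivation of a power series ring in finitely many variables killing the variables
vanishes -/
theorem derivation_eq_zero [Fintype σ]
    (D : Derivation A (MvPowerSeries σ A) (MvPowerSeries σ A))
    (hD : ∀ s, D (X s) = 0) (F : MvPowerSeries σ A) : D F = 0 := by
  refine eq_zero_of_forall_ord fun N => ?_
  induction N generalizing F with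
  | zero => exact ord_zero_all _
  | succ N ih =>
    have h1 : Ord (0 + 1) (F - C (constantCoeff F)) := ord_one_iff.mpr (by simp)
    obtain ⟨gs, -, hgs⟩ := exists_eq_sum_X_mul h1
    have e : F = C (constantCoeff F) + ∑ s, X s * gs s := by rw [← hgs]; ring
    rw [e, map_add, map_sum]
    have hC : D (C (constantCoeff F)) = 0 := by
      have := D.map_algebraMap (constantCoeff F)
      rwa [MvPowerSeries.algebraMap_apply, Algebra.algebraMap_self, RingHom.id_apply] at this
    rw [hC, zero_add]
    refine Finset.sum_induction _ (Ord (N + 1)) (fun _ _ => Ord.add) (ord_zero _) fun s _ => ?_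
    rw [Derivation.leibniz, hD s, smul_zero, add_zero, smul_eq_mul]
    have := (ord_one_iff.mpr (constantCoeff_X s)).mul (ih (gs s))
    rwa [Nat.add_comm] at this

section complete

variable (I : Ideal A) [IsAdicComplete I A]

/-- partial derivatives commute with translations -/
theorem pderiv_trans [Fintype σ] (c : σ → A) (hc : ∀ s, c s ∈ I) (i : σ)
    (F : MvPowerSeries σ A) :
    pderiv A i (trans I c hc F) = trans I c hc (pderiv A i F) := by
  classical
  let e := transEquiv I c hc
  let D : Derivation A (MvPowerSeries σ A) (MvPowerSeries σ A) :=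
    Derivation.mk'
      ((e.symm.toLinearMap.comp (pderiv A i).toLinearMap).comp e.toLinearMap) (by
      intro a b
      simp only [LinearMap.comp_apply, AlgEquiv.toLinearMap_apply, Derivation.coeFn_coe,
        map_mul, Derivation.leibniz, smul_eq_mul, map_add, AlgEquiv.symm_apply_apply])
  have hD : ∀ s, (D - pderiv A i) (X s) = 0 := by
    intro s
    rw [Derivation.sub_apply, sub_eq_zero]
    show e.symm (pderiv A i (e (X s))) = _
    rw [transEquiv_apply, trans_X, map_add, pderiv_C, add_zero, pderiv_X]
    by_cases h : s = i
    · subst h; simp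
    · simp [h]
  have h := derivation_eq_zero (D - pderiv A i) hD F
  rw [Derivation.sub_apply, sub_eq_zero] at h
  have h' : e.symm (pderiv A i (e F)) = pderiv A i F := h
  rw [AlgEquiv.symm_apply_eq] at h'
  exact h'

/-- the constant term of a translate is the value at the point -/
lemma C_constantCoeff_trans [Finite σ] (c : σ → A) (hc : ∀ s, c s ∈ I)
    (G : MvPowerSeries σ A) :
    (C (constantCoeff (trans I c hc G)) : MvPowerSeries σ A) =
      ev I (fun s => C (c s)) (fun s => by simpa using hc s) G := by
  have h0 : HasSubst (fun _ : σ => (0 : MvPowerSeries σ A)) := HasSubst.zero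
  have h1 : (C (constantCoeff (trans I c hc G)) : MvPowerSeries σ A) =
      subst (fun _ : σ => (0 : MvPowerSeries σ A)) (trans I c hc G) := by
    have := subst_zero_eq_C_constantCoeff (σ := σ) (τ := σ) (R := A) (S := A)
      (f := trans I c hc G)
    rw [Algebra.algebraMap_self, MvPowerSeries.map_id, RingHom.id_apply] at this
    exact this.symm
  have h0I : ∀ _ : σ, constantCoeff (0 : MvPowerSeries σ A) ∈ I := fun _ => by
    rw [map_zero]; exact I.zero_mem
  rw [h1, ← ev_eq_subst I h0 h0I, trans, ev_comp]
  refine ev_congr I ?_ _ G
  funext s
  rw [map_add, ev_X, ev_C, zero_add]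

/-- **Hensel's lemma for power series systems**: if the constant terms of `P` lie in `I` and
the Jacobian of `P` at the origin is invertible, there is a point `c ∈ I^σ` at which all the
`P s` vanish (expressed via the constant term of the translate). -/
theorem hensel [Fintype σ] [DecidableEq σ] (P : σ → MvPowerSeries σ A)
    (hP0 : ∀ s, constantCoeff (P s) ∈ I) (hJ : IsUnit (jac P).det) :
    ∃ (c : σ → A) (hc : ∀ s, c s ∈ I), ∀ s, constantCoeff (trans I c hc (P s)) = 0 := by
  set p : σ → A := fun s => constantCoeff (P s) with hp
  set P0 : σ → MvPowerSeries σ A := fun s => P s - C (p s) with hP0def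
  have hy : ∀ s, constantCoeff (P0 s) = 0 := fun s => by simp [P0, p]
  have hjac : jac P0 = jac P := by
    ext s t
    simp only [jac, P0, map_sub]
    rw [coeff_C, if_neg (by simp), sub_zero]
  have hJ0 : IsUnit (jac P0).det := by rw [hjac]; exact hJ
  have hsP0 : HasSubst P0 := hasSubst_of_constantCoeff_zero hy
  let ψ := substEquiv hy hJ0
  set R : σ → MvPowerSeries σ A := fun s => ψ.symm (X s) with hR
  have hRX : ∀ s, subst P0 (R s) = X s := fun s => by
    rw [← substEquiv_apply hy hJ0]; exact ψ.apply_symm_apply (X s)
  have hR0 : ∀ s, constantCoeff (R s) = 0 := by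
    intro s
    have h1 : constantCoeff (subst P0 (R s)) = constantCoeff (R s) := by
      have e : R s = (R s - C (constantCoeff (R s))) + C (constantCoeff (R s)) := by ring
      conv_lhs => rw [e, subst_add hsP0, subst_C, map_add,
        constantCoeff_subst_zero hy (by simp), zero_add, constantCoeff_C]
    rw [← h1, hRX, constantCoeff_X]
  have hsR : HasSubst R := hasSubst_of_constantCoeff_zero hR0
  have hPR : ∀ s, subst R (P0 s) = X s := by
    intro s
    apply ψ.injective
    rw [substEquiv_apply, substEquiv_apply, subst_comp_subst_apply hsR hsP0]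
    simp only [hRX]
    rw [subst_X hsP0]
    exact congrFun subst_self (P0 s)
  -- the point
  have hnp : ∀ s, - p s ∈ I := fun s => I.neg_mem (hP0 s)
  set c : σ → A := fun s => constantCoeff (trans I (fun t => - p t) hnp (R s)) with hc
  have hcI : ∀ s, c s ∈ I := fun s =>
    constantCoeff_ev_mem I _ _ (by rw [hR0 s]; exact I.zero_mem)
  refine ⟨c, hcI, fun s => ?_⟩
  have hRI : ∀ s, constantCoeff (R s) ∈ I := fun s => by rw [hR0 s]; exact I.zero_mem
  have key : (C (constantCoeff (trans I c hcI (P0 s))) : MvPowerSeries σ A) = C (- p s) := by
    rw [C_constantCoeff_trans]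
    have e1 : (fun t => (C (c t) : MvPowerSeries σ A)) =
        fun t => ev I (fun u => C (- p u)) (fun u => by simpa using hnp u) (R t) := by
      funext t
      exact C_constantCoeff_trans I _ hnp (R t)
    rw [ev_congr I e1, ← ev_comp I _ _ R hRI, ev_eq_subst I hsR hRI, hPR, ev_X]
  have key' : constantCoeff (trans I c hcI (P0 s)) = - p s := by
    have := congrArg constantCoeff key
    rwa [constantCoeff_C, constantCoeff_C] at this
  have e : P s = P0 s + C (p s) := by simp [P0]
  rw [e, map_add, trans_C, map_add, key', constantCoeff_C]
  ring

end complete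

end Groth.Agent.Lib.Helper76.PSEval
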