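import Groth.Agent.Lib.Helper76.PSCont
import Mathlib.RingTheory.MvPowerSeries.Inverse
import Mathlib.RingTheory.LocalRing.RingHom.Basic

/-!
# Criteria for invertibility of the Jacobian of a family of power series
-/

set_option autoImplicit false
universe u v

namespace Groth.Agent.Lib.Helper76.PSInv

open MvPowerSeries
open Groth.Agent.Lib.Helper76.LT

variable {σ : Type*} {R : Type*} [CommRing R]

lemma coeff_single_mul_of_constantCoeff (a : MvPowerSeries σ R) {b : MvPowerSeries σ R}
    (hb : constantCoeff b = 0) (t : σ) :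
    coeff (Finsupp.single t 1) (a * b) = constantCoeff a * coeff (Finsupp.single t 1) b := by
  have e : a * b = C (constantCoeff a) * b + (a - C (constantCoeff a)) * b := by ring
  have h2 : Ord 2 ((a - C (constantCoeff a)) * b) :=
    (ord_one_iff.mpr (by simp)).mul (ord_one_iff.mpr hb)
  rw [e, map_add, coeff_C_mul, h2 _ (by simp), add_zero]

variable [Fintype σ] [DecidableEq σ]

/-- If modulo a local homomorphism `ρ` the variables are combinations of the `y i` (up to terms
of order two), the Jacobian of `y` is invertible. -/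
theorem isUnit_det_jac_of_relation {k : Type*} [CommRing k] (ρ : R →+* k) [IsLocalHom ρ]
    {y : σ → MvPowerSeries σ R} (A₀ : Matrix σ σ R)
    (h : ∀ j t, ρ (∑ i, A₀ j i * jac y i t) = if j = t then 1 else 0) :
    IsUnit (jac y).det := by
  have h1 : (A₀ * jac y).map ρ = 1 := by
    ext j t
    rw [Matrix.map_apply, Matrix.mul_apply, h j t, Matrix.one_apply]
  have h2 : ρ ((A₀ * jac y).det) = 1 := by
    rw [RingHom.map_det, RingHom.mapMatrix_apply, h1, Matrix.det_one]
  rw [Matrix.det_mul, map_mul] at h2
  have h3 : IsUnit (ρ (jac y).det) := .of_mul_eq_one _ (by rw [mul_comm]; exact h2)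
  exact (isUnit_map_iff ρ _).mp h3

/-- Relation between linear coefficients when `X j = e + ∑ a i * y i`. -/
lemma sum_constantCoeff_mul_jac {y : σ → MvPowerSeries σ R} (hy : ∀ i, constantCoeff (y i) = 0)
    (a : σ → MvPowerSeries σ R) (t : σ) :
    coeff (Finsupp.single t 1) (∑ i, a i * y i) = ∑ i, constantCoeff (a i) * jac y i t := by
  rw [map_sum]
  exact Finset.sum_congr rfl fun i _ => coeff_single_mul_of_constantCoeff (a i) (hy i) t

end Groth.Agent.Lib.Helper76.PSInv
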