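import Groth.Agent.Lib.Helper76.PSMorse
import Mathlib.RingTheory.MvPowerSeries.Derivative

/-!
# Quadratic parts and partial derivatives (for the Morse lemma over a field)
-/

set_option autoImplicit false
universe u v

namespace Groth.Agent.Lib.Helper76.PSInv

open MvPowerSeries
open Groth.Agent.Lib.Helper76.LT

variable {σ : Type*} [Fintype σ] [DecidableEq σ] {R : Type*} [CommRing R]

omit [DecidableEq σ] in
/-- Every series of order `≥ 2` agrees with a quadratic form up to order `3`. -/
lemma exists_qev_of_ord_two {g : MvPowerSeries σ R} (hg : Ord 2 g) :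
    ∃ c : Matrix σ σ R, Ord 3 (g - qev c XX) := by
  obtain ⟨g1, hg1, rfl⟩ := exists_eq_sum_X_mul (N := 1) hg
  choose g2 hg2 hg2eq using fun i => exists_eq_sum_X_mul (N := 0) (hg1 i)
  refine ⟨fun i j => constantCoeff (g2 i j), ?_⟩
  have e : ∑ s, X s * g1 s - qev (fun i j => constantCoeff (g2 i j)) XX =
      ∑ i, ∑ j, X i * X j * (g2 i j - C (constantCoeff (g2 i j))) := by
    unfold qev
    rw [← Finset.sum_sub_distrib]
    refine Finset.sum_congr rfl fun i _ => ?_
    rw [hg2eq i, Finset.mul_sum, ← Finset.sum_sub_distrib]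
    refine Finset.sum_congr rfl fun j _ => ?_
    simp only [XX]; ring
  rw [e]
  refine Finset.sum_induction _ (Ord 3) (fun _ _ => Ord.add) (ord_zero _) fun i _ => ?_
  refine Finset.sum_induction _ (Ord 3) (fun _ _ => Ord.add) (ord_zero _) fun j _ => ?_
  exact ((ord_one_iff.mpr (constantCoeff_X i)).mul (ord_one_iff.mpr (constantCoeff_X j))).mul
    (ord_one_iff.mpr (by simp))

omit [Fintype σ] [DecidableEq σ] in
lemma ord_pderiv {m : ℕ} {g : MvPowerSeries σ R} (hg : Ord (m + 1) g) (t : σ) :
    Ord m (pderiv R t g) := by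
  intro e he
  rw [coeff_pderiv, hg _ (by rw [map_add, Finsupp.degree_single]; omega), zero_mul]

lemma pderiv_qev_XX (c : Matrix σ σ R) (t : σ) :
    pderiv R t (qev c XX) = lin (c + c.transpose) t := by
  have h1 : ∀ i j : σ, pderiv R t (C (c i j) * X i * X j) =
      (if j = t then C (c i j) * X i else 0) + (if i = t then C (c i j) * X j else 0) := by
    intro i j
    rw [Derivation.leibniz, Derivation.leibniz, pderiv_C, smul_zero, add_zero, pderiv_X, pderiv_X,
      Pi.single_apply, Pi.single_apply, smul_eq_mul, smul_eq_mul, smul_eq_mul]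
    split_ifs <;> ring
  simp only [qev, XX, map_sum, h1, Finset.sum_add_distrib, Finset.sum_ite_eq',
    Finset.mem_univ, if_true]
  rw [Finset.sum_comm]
  simp only [Finset.sum_ite_eq', Finset.mem_univ, if_true, lin, Matrix.add_apply,
    Matrix.transpose_apply, map_add, add_mul, Finset.sum_add_distrib]
  rw [add_comm]

omit [Fintype σ] [DecidableEq σ] in
lemma coeff_single_eq_constantCoeff_pderiv (g : MvPowerSeries σ R) (t : σ) :
    coeff (Finsupp.single t 1) g = constantCoeff (pderiv R t g) := by
  rw [← coeff_zero_eq_constantCoeff_apply, coeff_pderiv]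
  simp

/-- the Jacobian of the gradient of `g = q + O(3)` is the polar matrix of `q` -/
lemma jac_pderiv {g : MvPowerSeries σ R} {c : Matrix σ σ R} (hg : Ord 3 (g - qev c XX)) :
    jac (fun t => pderiv R t g) = c + c.transpose := by
  ext t s
  have h1 := ord_pderiv (m := 2) hg t (Finsupp.single s 1) (by simp)
  rw [map_sub, map_sub, pderiv_qev_XX, coeff_single_lin, sub_eq_zero] at h1
  exact h1

end Groth.Agent.Lib.Helper76.PSInv
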