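import Groth.Agent.Lib.Helper76.PSMorse2
import Groth.Prelude.Def_QuadSing

/-!
# Coefficient tables of quadratic forms versus `qev` (helper76)
-/

set_option autoImplicit false

namespace Groth.Agent.Lib.Helper76.PSInv

open MvPowerSeries
open Groth.Agent.Lib.Helper76.LT

variable {A : Type*} [CommRing A] {n : ℕ}

/-- the upper triangular matrix of a coefficient table -/
def upperOf (q : Fin n → Fin n → A) : Matrix (Fin n) (Fin n) A :=
  fun i j => if i ≤ j then q i j else 0

lemma quadPoly_eq_qev (q : Fin n → Fin n → A) :
    ((VanCyc.quadPoly q : MvPolynomial (Fin n) A) : MvPowerSeries (Fin n) A) =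
      qev (upperOf q) XX := by
  unfold VanCyc.quadPoly qev
  rw [← MvPolynomial.coeToMvPowerSeries.ringHom_apply, map_sum]
  refine Finset.sum_congr rfl fun i _ => ?_
  rw [map_sum]
  refine Finset.sum_congr rfl fun j _ => ?_
  simp only [upperOf, XX]
  split_ifs
  · simp [MvPolynomial.coeToMvPowerSeries.ringHom_apply]
  · simp

lemma upperOf_add_transpose (q : Fin n → Fin n → A) :
    upperOf q + (upperOf q).transpose = VanCyc.polarMatrix q := by
  ext i j
  rw [Matrix.add_apply, Matrix.transpose_apply]
  simp only [upperOf, VanCyc.polarMatrix]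
  rcases lt_trichotomy i j with h | h | h
  · rw [if_pos h.le, if_neg (not_le.mpr h), if_neg h.ne, if_pos h, add_zero]
  · subst h
    simp [two_mul]
  · rw [if_neg (not_le.mpr h), if_pos h.le, if_neg h.ne', if_neg (not_lt.mpr h.le), zero_add]

/-- the coefficient table attached to a full matrix -/
def tableOf (c : Matrix (Fin n) (Fin n) A) : Fin n → Fin n → A :=
  fun i j => if i < j then c i j + c j i else if i = j then c i i else 0

lemma qev_upperOf_tableOf (c : Matrix (Fin n) (Fin n) A) :
    qev (upperOf (tableOf c)) (XX : Fin n → MvPowerSeries (Fin n) A) = qev c XX := by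
  unfold qev
  symm
  set f : Fin n → Fin n → MvPowerSeries (Fin n) A := fun i j => C (c i j) * XX i * XX j with hf
  have h1 : ∀ i j, f i j = (if i < j then f i j else 0) + (if i = j then f i j else 0) +
      (if j < i then f i j else 0) := by
    intro i j
    rcases lt_trichotomy i j with h | h | h
    · simp [h, h.ne, not_lt.mpr h.le]
    · subst h; simp
    · simp [h, h.ne', not_lt.mpr h.le]
  have h3 : ∑ i, ∑ j, (if j < i then f i j else 0) = ∑ i, ∑ j, (if i < j then f j i else 0) :=
    Finset.sum_comm
  calc ∑ i, ∑ j, C (c i j) * XX i * XX j = ∑ i, ∑ j, f i j := rfl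
    _ = ∑ i, ∑ j, ((if i < j then f i j else 0) + (if i = j then f i j else 0) +
          (if j < i then f i j else 0)) := by
        refine Finset.sum_congr rfl fun i _ => Finset.sum_congr rfl fun j _ => h1 i j
    _ = ∑ i, ∑ j, ((if i < j then f i j else 0) + (if i = j then f i j else 0)) +
          ∑ i, ∑ j, (if i < j then f j i else 0) := by
        simp only [Finset.sum_add_distrib]
        rw [h3]
    _ = ∑ i, ∑ j, C (upperOf (tableOf c) i j) * XX i * XX j := by
        rw [← Finset.sum_add_distrib]
        refine Finset.sum_congr rfl fun i _ => ?_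
        rw [← Finset.sum_add_distrib]
        refine Finset.sum_congr rfl fun j _ => ?_
        simp only [upperOf, tableOf, hf]
        rcases lt_trichotomy i j with h | h | h
        · simp only [h, h.le, h.ne, if_true, if_false, map_add]
          ring
        · subst h; simp
        · simp [h.ne', not_lt.mpr h.le, not_le.mpr h]

lemma polarMatrix_tableOf (c : Matrix (Fin n) (Fin n) A) :
    VanCyc.polarMatrix (tableOf c) = c + c.transpose := by
  ext i j
  rw [Matrix.add_apply, Matrix.transpose_apply]
  simp only [VanCyc.polarMatrix, tableOf]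
  rcases lt_trichotomy i j with h | h | h
  · simp [h, h.ne]
  · subst h; simp [two_mul]
  · simp [h, h.ne', not_lt.mpr h.le, add_comm]

end Groth.Agent.Lib.Helper76.PSInv
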