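import Mathlib

/-!
Matrix lemmas on "quasi-inverses" of a rectangular matrix relative to an idempotent, used for the
finite locally free quotient of an affine groupoid (S1877).
-/

namespace Groth.Agent.Lib.Helper76.QuotMat

open Matrix

section Basic

variable {A : Type*} [CommRing A]

/-- `Ψ : A^r → im E` is invertible up to the multiplier `f`. -/
def QInv {n r : ℕ} (E : Matrix (Fin n) (Fin n) A) (Ψ : Matrix (Fin n) (Fin r) A) (f : A) : Prop :=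
  ∃ X : Matrix (Fin r) (Fin n) A, X * Ψ = f • (1 : Matrix (Fin r) (Fin r) A) ∧ Ψ * X = f • E

/-- The ideal of multipliers. -/
def qIdeal {n r : ℕ} (E : Matrix (Fin n) (Fin n) A) (Ψ : Matrix (Fin n) (Fin r) A) : Ideal A where
  carrier := {f | QInv E Ψ f}
  add_mem' := by
    rintro f g ⟨X, h1, h2⟩ ⟨Y, h3, h4⟩
    exact ⟨X + Y, by rw [Matrix.add_mul, h1, h3, add_smul],
      by rw [Matrix.mul_add, h2, h4, add_smul]⟩
  zero_mem' := ⟨0, by simp, by simp⟩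
  smul_mem' := by
    rintro a f ⟨X, h1, h2⟩
    exact ⟨a • X, by rw [Matrix.smul_mul, h1, smul_smul, smul_eq_mul],
      by rw [Matrix.mul_smul, h2, smul_smul, smul_eq_mul]⟩

theorem mem_qIdeal {n r : ℕ} (E : Matrix (Fin n) (Fin n) A) (Ψ : Matrix (Fin n) (Fin r) A)
    (f : A) : f ∈ qIdeal E Ψ ↔ QInv E Ψ f := Iff.rfl

theorem map_smul_mat {S : Type*} [CommRing S] (ρ : A →+* S) (f : A) {m k : ℕ}
    (M : Matrix (Fin m) (Fin k) A) : (f • M).map ρ = ρ f • M.map ρ := by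
  ext i j
  simp

theorem map_one_mat {S : Type*} [CommRing S] (ρ : A →+* S) {m : ℕ} :
    (1 : Matrix (Fin m) (Fin m) A).map ρ = 1 := by
  ext i j
  by_cases h : i = j
  · subst h; simp
  · simp [h]

end Basic

section Lift

variable {A : Type*} [CommRing A]

theorem lift_matrix {m k : ℕ} (p : Ideal A) {κ : Type*} [Field κ] (ρ : A →+* κ)
    (hker : ∀ a, ρ a = 0 ↔ a ∈ p) (hfrac : ∀ z : κ, ∃ d a : A, d ∉ p ∧ ρ d * z = ρ a)
    (Z : Matrix (Fin m) (Fin k) κ) :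
    ∃ d₀ : A, d₀ ∉ p ∧ ∃ Z₀ : Matrix (Fin m) (Fin k) A, Z₀.map ρ = ρ d₀ • Z := by
  classical
  choose dd aa hdd haa using fun ik : Fin m × Fin k => hfrac (Z ik.1 ik.2)
  refine ⟨∏ ik, dd ik, ?_,
    Matrix.of fun i j => aa (i, j) * ∏ x ∈ Finset.univ.erase (i, j), dd x, ?_⟩
  · intro h
    have h0 : ρ (∏ ik, dd ik) = 0 := (hker _).2 h
    rw [map_prod, Finset.prod_eq_zero_iff] at h0
    obtain ⟨ik, -, hik⟩ := h0
    exact hdd ik ((hker _).1 hik)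
  · ext i j
    simp only [Matrix.map_apply, Matrix.of_apply, Matrix.smul_apply, smul_eq_mul, map_mul]
    have h1 : ρ (dd (i, j)) * Z i j = ρ (aa (i, j)) := haa (i, j)
    rw [← h1, ← Finset.mul_prod_erase Finset.univ dd (Finset.mem_univ (i, j)), map_mul]
    ring

/-- Spreading out a quasi-inverse from the fraction field of `A/p` to a principal open
neighbourhood of `p`. -/
theorem locMat {n r : ℕ} (p : Ideal A) {κ : Type*} [Field κ] (ρ : A →+* κ)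
    (hker : ∀ a, ρ a = 0 ↔ a ∈ p) (hfrac : ∀ z : κ, ∃ d a : A, d ∉ p ∧ ρ d * z = ρ a)
    (E : Matrix (Fin n) (Fin n) A) (hE : E * E = E) (Ψ : Matrix (Fin n) (Fin r) A)
    (hEΨ : E * Ψ = Ψ) (Xκ : Matrix (Fin r) (Fin n) κ) (h1 : Xκ * Ψ.map ρ = 1)
    (h2 : Ψ.map ρ * Xκ = E.map ρ) :
    ∃ f, f ∉ p ∧ QInv E Ψ f := by
  obtain ⟨d₀, hd₀, X₀, hX₀⟩ := lift_matrix p ρ hker hfrac Xκ
  have hd0 : ρ d₀ ≠ 0 := fun h => hd₀ ((hker d₀).1 h)
  obtain ⟨X₁, hX₁⟩ : ∃ X₁, X₁ = X₀ * E := ⟨_, rfl⟩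
  have hX₁E : X₁ * E = X₁ := by rw [hX₁, Matrix.mul_assoc, hE]
  obtain ⟨M, hM⟩ : ∃ M, M = X₁ * Ψ := ⟨_, rfl⟩
  have hMρ : M.map ρ = ρ d₀ • (1 : Matrix (Fin r) (Fin r) κ) := by
    rw [hM, hX₁, Matrix.mul_assoc, hEΨ, Matrix.map_mul, hX₀, Matrix.smul_mul, h1]
  obtain ⟨f₁, hf₁⟩ : ∃ f₁, f₁ = M.det := ⟨_, rfl⟩
  have hf₁ρ : ρ f₁ = ρ d₀ ^ r := by
    rw [hf₁, RingHom.map_det, RingHom.mapMatrix_apply, hMρ, Matrix.det_smul, Matrix.det_one,
      mul_one, Fintype.card_fin]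
  have hf₁0 : ρ f₁ ≠ 0 := by rw [hf₁ρ]; exact pow_ne_zero _ hd0
  obtain ⟨X₂, hX₂⟩ : ∃ X₂, X₂ = M.adjugate * X₁ := ⟨_, rfl⟩
  have hX₂Ψ : X₂ * Ψ = f₁ • (1 : Matrix (Fin r) (Fin r) A) := by
    rw [hX₂, Matrix.mul_assoc, ← hM, Matrix.adjugate_mul, hf₁]
  have hX₂E : X₂ * E = X₂ := by rw [hX₂, Matrix.mul_assoc, hX₁E]
  obtain ⟨F, hF⟩ : ∃ F, F = Ψ * X₂ := ⟨_, rfl⟩
  have hFF : F * F = f₁ • F := by
    rw [hF, Matrix.mul_assoc, ← Matrix.mul_assoc X₂, hX₂Ψ, Matrix.smul_mul, Matrix.one_mul,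
      Matrix.mul_smul]
  have hEF : E * F = F := by rw [hF, ← Matrix.mul_assoc, hEΨ]
  have hFE : F * E = F := by rw [hF, Matrix.mul_assoc, hX₂E]
  have hX₂ρ : X₂.map ρ = ρ f₁ • Xκ := by
    have e1 : X₂.map ρ * E.map ρ = X₂.map ρ := by rw [← Matrix.map_mul, hX₂E]
    have e2 : X₂.map ρ * Ψ.map ρ = ρ f₁ • (1 : Matrix (Fin r) (Fin r) κ) := by
      rw [← Matrix.map_mul, hX₂Ψ, map_smul_mat, map_one_mat]
    calc X₂.map ρ = X₂.map ρ * E.map ρ := e1.symm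
      _ = X₂.map ρ * (Ψ.map ρ * Xκ) := by rw [h2]
      _ = (X₂.map ρ * Ψ.map ρ) * Xκ := by rw [Matrix.mul_assoc]
      _ = ρ f₁ • Xκ := by rw [e2, Matrix.smul_mul, Matrix.one_mul]
  have hFρ : F.map ρ = ρ f₁ • E.map ρ := by
    rw [hF, Matrix.map_mul, hX₂ρ, Matrix.mul_smul, h2]
  obtain ⟨G, hG⟩ : ∃ G, G = F - f₁ • E := ⟨_, rfl⟩
  have hFG : F = G + f₁ • E := by rw [hG]; abel
  have hGρ : ∀ i j, ρ (G i j) = 0 := by
    intro i j
    have h3 := congrFun (congrFun hFρ i) j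
    simp only [Matrix.map_apply, Matrix.smul_apply, smul_eq_mul] at h3
    rw [hG]
    simp only [Matrix.sub_apply, Matrix.smul_apply, smul_eq_mul, map_sub, map_mul]
    rw [h3, sub_self]
  have hGG' : G * G = -(f₁ • G) := by
    rw [hG]
    simp only [Matrix.sub_mul, Matrix.mul_sub, Matrix.mul_smul, Matrix.smul_mul, hFF, hFE, hEF,
      hE, smul_sub]
    abel
  obtain ⟨H, hH⟩ : ∃ H, H = G + f₁ • (1 : Matrix (Fin n) (Fin n) A) := ⟨_, rfl⟩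
  have hGH : G * H = 0 := by
    rw [hH, Matrix.mul_add, hGG', Matrix.mul_smul, Matrix.mul_one, neg_add_cancel]
  have hHρ : H.map ρ = ρ f₁ • (1 : Matrix (Fin n) (Fin n) κ) := by
    ext i j
    rw [hH]
    by_cases hij : i = j
    · subst hij; simp [hGρ]
    · simp [hGρ, hij]
  obtain ⟨f₂, hf₂⟩ : ∃ f₂, f₂ = H.det := ⟨_, rfl⟩
  have hf₂ρ : ρ f₂ = ρ f₁ ^ n := by
    rw [hf₂, RingHom.map_det, RingHom.mapMatrix_apply, hHρ, Matrix.det_smul, Matrix.det_one,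
      mul_one, Fintype.card_fin]
  have hf₂G : f₂ • G = 0 := by
    have h3 : G * (H * H.adjugate) = 0 := by rw [← Matrix.mul_assoc, hGH, Matrix.zero_mul]
    rwa [Matrix.mul_adjugate, Matrix.mul_smul, Matrix.mul_one, ← hf₂] at h3
  refine ⟨f₂ * f₁, ?_, f₂ • X₂, ?_, ?_⟩
  · intro hmem
    have h3 : ρ (f₂ * f₁) = 0 := (hker _).2 hmem
    rw [map_mul, hf₂ρ] at h3
    exact mul_ne_zero (pow_ne_zero _ hf₁0) hf₁0 h3
  · rw [Matrix.smul_mul, hX₂Ψ, smul_smul]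
  · rw [Matrix.mul_smul, ← hF, hFG, smul_add, hf₂G, zero_add, smul_smul]

end Lift

section Field

variable {κ : Type*} [Field κ]

theorem exists_left_inv {n r : ℕ} (Ψκ : Matrix (Fin n) (Fin r) κ)
    (hinj : Function.Injective Ψκ.mulVec) : ∃ Y : Matrix (Fin r) (Fin n) κ, Y * Ψκ = 1 := by
  have hker : LinearMap.ker (Matrix.toLin' Ψκ) = ⊥ := by
    refine LinearMap.ker_eq_bot.2 ?_
    intro v w h
    apply hinj
    simpa [Matrix.toLin'_apply] using h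
  obtain ⟨g, hg⟩ := (Matrix.toLin' Ψκ).exists_leftInverse_of_injective hker
  refine ⟨LinearMap.toMatrix' g, ?_⟩
  have h3 := congrArg LinearMap.toMatrix' hg
  rwa [LinearMap.toMatrix'_comp, LinearMap.toMatrix'_toLin', LinearMap.toMatrix'_id] at h3

theorem la_init {n r : ℕ} (Eκ : Matrix (Fin n) (Fin n) κ) (Ψκ : Matrix (Fin n) (Fin r) κ)
    (hEΨ : Eκ * Ψκ = Ψκ) (hinj : Function.Injective Ψκ.mulVec)
    (hrange : ∀ j, ∃ w, Ψκ.mulVec w = Eκ.mulVec (Pi.single j 1)) :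
    ∃ X : Matrix (Fin r) (Fin n) κ, X * Ψκ = 1 ∧ Ψκ * X = Eκ := by
  obtain ⟨Y, hY⟩ := exists_left_inv Ψκ hinj
  refine ⟨Y * Eκ, by rw [Matrix.mul_assoc, hEΨ, hY], ?_⟩
  have key : ∀ j, (Ψκ * (Y * Eκ)).mulVec (Pi.single j 1) = Eκ.mulVec (Pi.single j 1) := by
    intro j
    obtain ⟨w, hw⟩ := hrange j
    rw [← Matrix.mulVec_mulVec, ← Matrix.mulVec_mulVec, ← hw, Matrix.mulVec_mulVec w Y Ψκ, hY,
      Matrix.one_mulVec]
  ext i j
  have h3 := congrFun (key j) i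
  simpa [Matrix.mulVec_single_one] using h3

theorem la_desc {K : Type*} [Field K] (j : κ →+* K) {n r : ℕ}
    (Eκ : Matrix (Fin n) (Fin n) κ) (Ψκ : Matrix (Fin n) (Fin r) κ) (hEΨ : Eκ * Ψκ = Ψκ)
    (XK : Matrix (Fin r) (Fin n) K) (h1 : XK * Ψκ.map j = 1) (h2 : Ψκ.map j * XK = Eκ.map j) :
    ∃ X : Matrix (Fin r) (Fin n) κ, X * Ψκ = 1 ∧ Ψκ * X = Eκ := by
  have hinj : Function.Injective Ψκ.mulVec := by
    intro v w hvw
    have h3 : (Ψκ.map j).mulVec (j ∘ v) = (Ψκ.map j).mulVec (j ∘ w) := by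
      funext i
      rw [← RingHom.map_mulVec, ← RingHom.map_mulVec, hvw]
    have h4 := congrArg XK.mulVec h3
    rw [Matrix.mulVec_mulVec, Matrix.mulVec_mulVec, h1, Matrix.one_mulVec, Matrix.one_mulVec] at h4
    funext i
    exact j.injective (congrFun h4 i)
  obtain ⟨Y, hY⟩ := exists_left_inv Ψκ hinj
  refine ⟨Y * Eκ, by rw [Matrix.mul_assoc, hEΨ, hY], ?_⟩
  apply Matrix.map_injective j.injective
  show (Ψκ * (Y * Eκ)).map j = Eκ.map j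
  have hYj : Y.map j * Ψκ.map j = 1 := by rw [← Matrix.map_mul, hY, map_one_mat]
  rw [Matrix.map_mul, Matrix.map_mul, ← h2, ← Matrix.mul_assoc (Y.map j), hYj, Matrix.one_mul]

end Field

end Groth.Agent.Lib.Helper76.QuotMat
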