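import Groth.Agent.S1879
import Groth.Agent.S1881
import Groth.Agent.Lib.Helper76.QuotMat

/-!
Algebra behind the finite locally free quotient of an affine groupoid (S1877), part 1:
the covering lemma.
-/

set_option autoImplicit false
universe u
open CategoryTheory CategoryTheory.Limits

namespace Groth.Agent.Lib.Helper76.QuotAlg

open Groth.Agent.Lib.Helper76.QuotMat

theorem bc_lift {A A' B P : Type u} [CommRing A] [CommRing A'] [CommRing B] [CommRing P]
    [Algebra A B] [Algebra A' P] (φ : A →+* A') (q : B →+* P)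
    (h : IsPushout (CommRingCat.ofHom φ) (CommRingCat.ofHom (algebraMap A B))
      (CommRingCat.ofHom (algebraMap A' P)) (CommRingCat.ofHom q))
    {m : ℕ} (g₀ : B →ₗ[A] (Fin m → A)) :
    ∃ Λ : P →ₗ[A'] (Fin m → A'), ∀ x k, Λ (q x) k = φ (g₀ x k) := by
  letI := φ.toAlgebra
  letI := q.toAlgebra
  letI : Algebra A P := ((algebraMap A' P).comp φ).toAlgebra
  have hw : (algebraMap A' P).comp φ = q.comp (algebraMap A B) := by
    have := h.w
    ext a
    exact congrArg (fun f => f.hom a) this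
  haveI : IsScalarTower A A' P := .of_algebraMap_eq' rfl
  haveI : IsScalarTower A B P := .of_algebraMap_eq' hw
  haveI : Algebra.IsPushout A A' B P := CommRingCat.isPushout_iff_isPushout.mp h
  have hbc : IsBaseChange A' (IsScalarTower.toAlgHom A B P).toLinearMap := Algebra.IsPushout.out
  let g : B →ₗ[A] (Fin m → A') := ((Algebra.linearMap A A').compLeft (Fin m)) ∘ₗ g₀
  have hg : ∀ x i, g x i = φ (g₀ x i) := fun x i => rfl
  have hΛ : ∀ x : B, hbc.lift g (q x) = g x := fun x => hbc.lift_eq g x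
  exact ⟨hbc.lift g, fun x k => by rw [hΛ, hg]⟩

theorem bc_pres {A A' B P : Type u} [CommRing A] [CommRing A'] [CommRing B] [CommRing P]
    [Algebra A B] [Algebra A' P] (φ : A →+* A') (q : B →+* P)
    (h : IsPushout (CommRingCat.ofHom φ) (CommRingCat.ofHom (algebraMap A B))
      (CommRingCat.ofHom (algebraMap A' P)) (CommRingCat.ofHom q))
    {n : ℕ} (π : (Fin n → A) →ₗ[A] B) (l : B →ₗ[A] (Fin n → A))
    (hπl : π ∘ₗ l = LinearMap.id) :
    ∃ (π' : (Fin n → A') →ₗ[A'] P) (Λ : P →ₗ[A'] (Fin n → A')), π' ∘ₗ Λ = LinearMap.id ∧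
      (∀ j, π' (Pi.single j 1) = q (π (Pi.single j 1))) ∧ (∀ x k, Λ (q x) k = φ (l x k)) := by
  letI := φ.toAlgebra
  letI := q.toAlgebra
  letI : Algebra A P := ((algebraMap A' P).comp φ).toAlgebra
  have hw : (algebraMap A' P).comp φ = q.comp (algebraMap A B) := by
    have := h.w
    ext a
    exact congrArg (fun f => f.hom a) this
  haveI : IsScalarTower A A' P := .of_algebraMap_eq' rfl
  haveI : IsScalarTower A B P := .of_algebraMap_eq' hw
  haveI : Algebra.IsPushout A A' B P := CommRingCat.isPushout_iff_isPushout.mp h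
  have hbc : IsBaseChange A' (IsScalarTower.toAlgHom A B P).toLinearMap := Algebra.IsPushout.out
  have hqL : ∀ x : B, (IsScalarTower.toAlgHom A B P).toLinearMap x = q x := fun x => rfl
  let g : B →ₗ[A] (Fin n → A') := ((Algebra.linearMap A A').compLeft (Fin n)) ∘ₗ l
  have hg : ∀ x i, g x i = φ (l x i) := fun x i => rfl
  let Λ : P →ₗ[A'] (Fin n → A') := hbc.lift g
  have hΛ : ∀ x : B, Λ (q x) = g x := fun x => hbc.lift_eq g x
  let π' : (Fin n → A') →ₗ[A'] P :=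
    Fintype.linearCombination A' (fun j => q (π (Pi.single j 1)))
  have hπ' : ∀ v, π' v = ∑ j, v j • q (π (Pi.single j 1)) :=
    fun v => Fintype.linearCombination_apply A' _ v
  have hπ'single : ∀ j, π' (Pi.single j 1) = q (π (Pi.single j 1)) := by
    intro j
    rw [hπ', Finset.sum_eq_single j]
    · simp
    · intro j' _ hne; simp [Pi.single_apply, hne]
    · intro hj; exact absurd (Finset.mem_univ j) hj
  have hid : ∀ x : B, π' (g x) = q x := by
    intro x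
    rw [hπ']
    have hx : x = ∑ j, (l x j) • π (Pi.single j 1) := by
      rw [← Groth.Agent.S1879.pi_decomp π (l x)]
      exact (LinearMap.congr_fun hπl x).symm
    conv_rhs => rw [hx]
    rw [map_sum]
    refine Finset.sum_congr rfl fun j _ => ?_
    rw [hg, Algebra.smul_def, Algebra.smul_def, map_mul]
    congr 1
    exact RingHom.congr_fun hw (l x j)
  refine ⟨π', Λ, ?_, hπ'single, fun x k => by rw [hΛ, hg]⟩
  apply hbc.algHom_ext
  intro x
  rw [hqL, LinearMap.comp_apply, hΛ, hid, LinearMap.id_apply]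

/-- The algebraic data of an affine groupoid with finite locally free source map. -/
structure Setting (A B P : Type u) [CommRing A] [CommRing B] [CommRing P] [Algebra A B] where
  τ : A →+* B
  ε : B →+* A
  p1 : B →+* P
  p0 : B →+* P
  c : B →+* P
  hεσ : ∀ a, ε (algebraMap A B a) = a
  hετ : ∀ a, ε (τ a) = a
  sqA : IsPushout (CommRingCat.ofHom τ) (CommRingCat.ofHom (algebraMap A B))
      (CommRingCat.ofHom p1) (CommRingCat.ofHom p0)
  sqB : IsPushout (CommRingCat.ofHom (algebraMap A B)) (CommRingCat.ofHom (algebraMap A B))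
      (CommRingCat.ofHom p1) (CommRingCat.ofHom c)
  hct : ∀ a, c (τ a) = p0 (τ a)
  hsurj : Submodule.span A (Set.range τ) = ⊤

section Pres

variable {A B : Type u} [CommRing A] [CommRing B] [Algebra A B]

noncomputable def Emat {n : ℕ} (π : (Fin n → A) →ₗ[A] B) (l : B →ₗ[A] (Fin n → A)) :
    Matrix (Fin n) (Fin n) A := LinearMap.toMatrix' (l ∘ₗ π)

def colMat (τ : A →+* B) {n r : ℕ} (l : B →ₗ[A] (Fin n → A)) (a : Fin r → A) :
    Matrix (Fin n) (Fin r) A := Matrix.of fun k i => l (τ (a i)) k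

theorem Emat_mulVec {n : ℕ} (π : (Fin n → A) →ₗ[A] B) (l : B →ₗ[A] (Fin n → A))
    (v : Fin n → A) : (Emat π l).mulVec v = l (π v) :=
  LinearMap.toMatrix'_mulVec _ _

theorem Emat_apply {n : ℕ} (π : (Fin n → A) →ₗ[A] B) (l : B →ₗ[A] (Fin n → A))
    (k j : Fin n) : Emat π l k j = l (π (Pi.single j 1)) k := by
  have h := congrFun (Emat_mulVec π l (Pi.single j 1)) k
  rw [Matrix.mulVec_single_one] at h
  exact h

theorem Emat_idem {n : ℕ} (π : (Fin n → A) →ₗ[A] B) (l : B →ₗ[A] (Fin n → A))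
    (hπl : π ∘ₗ l = LinearMap.id) : Emat π l * Emat π l = Emat π l := by
  unfold Emat
  rw [← LinearMap.toMatrix'_comp]
  congr 1
  refine LinearMap.ext fun v => ?_
  simp only [LinearMap.comp_apply]
  rw [show π (l (π v)) = π v from LinearMap.congr_fun hπl (π v)]

theorem colMat_mulVec (τ : A →+* B) {n r : ℕ} (l : B →ₗ[A] (Fin n → A)) (a : Fin r → A)
    (w : Fin r → A) : (colMat τ l a).mulVec w = ∑ i, w i • l (τ (a i)) := by
  funext k
  rw [Finset.sum_apply]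
  show ∑ i, l (τ (a i)) k * w i = ∑ i, (w i • l (τ (a i))) k
  refine Finset.sum_congr rfl fun i _ => ?_
  rw [Pi.smul_apply, smul_eq_mul, mul_comm]

theorem Emat_mul_colMat (τ : A →+* B) {n r : ℕ} (π : (Fin n → A) →ₗ[A] B)
    (l : B →ₗ[A] (Fin n → A)) (hπl : π ∘ₗ l = LinearMap.id) (a : Fin r → A) :
    Emat π l * colMat τ l a = colMat τ l a := by
  ext k i
  have h1 : (Emat π l).mulVec (l (τ (a i))) = l (τ (a i)) := by
    rw [Emat_mulVec, show π (l (τ (a i))) = τ (a i) from LinearMap.congr_fun hπl _]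
  exact congrFun h1 k

/-- The linear form of a quasi-inverse. -/
def LinQ (τ : A →+* B) {r : ℕ} (a : Fin r → A) (f : A) : Prop :=
  ∃ χ : B →ₗ[A] (Fin r → A), (∀ b, ∑ i, χ b i • τ (a i) = f • b) ∧
    (∀ i j, χ (τ (a j)) i = if i = j then f else 0)

theorem linQ_of_qInv (τ : A →+* B) {n r : ℕ} (π : (Fin n → A) →ₗ[A] B)
    (l : B →ₗ[A] (Fin n → A)) (hπl : π ∘ₗ l = LinearMap.id) (a : Fin r → A) (f : A)
    (h : QInv (Emat π l) (colMat τ l a) f) : LinQ τ a f := by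
  obtain ⟨X, h1, h2⟩ := h
  have hπl' : ∀ x, π (l x) = x := fun x => LinearMap.congr_fun hπl x
  refine ⟨Matrix.toLin' X ∘ₗ l, ?_, ?_⟩
  · intro b
    have h3 : π ((colMat τ l a).mulVec (X.mulVec (l b))) =
        ∑ i, (X.mulVec (l b)) i • τ (a i) := by
      rw [colMat_mulVec, map_sum]
      refine Finset.sum_congr rfl fun i _ => ?_
      rw [map_smul, hπl']
    simp only [LinearMap.comp_apply, Matrix.toLin'_apply]
    rw [← h3, Matrix.mulVec_mulVec, h2, Matrix.smul_mulVec, Emat_mulVec, hπl', map_smul, hπl']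
  · intro i j
    simp only [LinearMap.comp_apply, Matrix.toLin'_apply]
    have h4 : X.mulVec (l (τ (a j))) = fun i' => (X * colMat τ l a) i' j := by
      funext i'; rfl
    rw [h4, h1]
    simp [Matrix.one_apply]

end Pres

section Res

variable {R : Type*} [CommRing R]

/-- The map to the fraction field of `R / p`. -/
noncomputable def resMap (p : Ideal R) [p.IsPrime] : R →+* FractionRing (R ⧸ p) :=
  (algebraMap (R ⧸ p) (FractionRing (R ⧸ p))).comp (Ideal.Quotient.mk p)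

theorem resMap_ker (p : Ideal R) [p.IsPrime] (a : R) : resMap p a = 0 ↔ a ∈ p := by
  unfold resMap
  rw [RingHom.comp_apply,
    map_eq_zero_iff _ (IsFractionRing.injective (R ⧸ p) (FractionRing (R ⧸ p))),
    Ideal.Quotient.eq_zero_iff_mem]

theorem resMap_frac (p : Ideal R) [p.IsPrime] (z : FractionRing (R ⧸ p)) :
    ∃ d a : R, d ∉ p ∧ resMap p d * z = resMap p a := by
  obtain ⟨⟨x, s⟩, hx⟩ := IsLocalization.surj (nonZeroDivisors (R ⧸ p)) z
  obtain ⟨a, rfl⟩ := Ideal.Quotient.mk_surjective x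
  obtain ⟨d, hd⟩ := Ideal.Quotient.mk_surjective (s : R ⧸ p)
  refine ⟨d, a, ?_, ?_⟩
  · intro hdp
    have h0 : (s : R ⧸ p) = 0 := by rw [← hd]; exact Ideal.Quotient.eq_zero_iff_mem.2 hdp
    exact nonZeroDivisors.coe_ne_zero s h0
  · show algebraMap _ _ (Ideal.Quotient.mk p d) * z = algebraMap _ _ (Ideal.Quotient.mk p a)
    rw [hd, mul_comm]
    exact hx

end Res

section Main

variable {A B P : Type u} [CommRing A] [CommRing B] [CommRing P] [Algebra A B]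
  [Module.Finite A B] [Module.Projective A B]

theorem exists_norm_inv (𝔖 : Setting A B P) (f : A) :
    ∃ g : A, algebraMap A B g = 𝔖.τ g ∧ (∃ z : B, 𝔖.τ f * z = algebraMap A B g) ∧
      ∀ (p : Ideal A) [p.IsPrime], g ∈ p →
        ∃ q : Ideal B, q.IsPrime ∧ q.comap (algebraMap A B) = p ∧ 𝔖.τ f ∈ q := by
  classical
  obtain ⟨n, π, l, -, -, hπl⟩ := Module.Finite.exists_comp_eq_id_of_projective A B
  have hπl' : ∀ x, π (l x) = x := fun x => LinearMap.congr_fun hπl x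
  obtain ⟨y, hy⟩ : ∃ y, y = 𝔖.τ f := ⟨_, rfl⟩
  rw [← hy]
  let Θ : B → ((Fin n → A) →ₗ[A] (Fin n → A)) := fun b =>
    LinearMap.id - l ∘ₗ π + l ∘ₗ LinearMap.mulLeft A b ∘ₗ π
  have hΘ : ∀ b v, Θ b v = v - l (π v) + l (b * π v) := fun b v => rfl
  have hπΘ : ∀ b v, π (Θ b v) = b * π v := by
    intro b v
    rw [hΘ, map_add, map_sub, hπl', hπl', sub_self, zero_add]
  have hΘmul : ∀ b b', Θ b ∘ₗ Θ b' = Θ (b * b') := by
    intro b b'
    refine LinearMap.ext fun v => ?_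
    rw [LinearMap.comp_apply, hΘ b (Θ b' v), hπΘ, hΘ b' v, hΘ (b * b') v, mul_assoc]
    abel
  refine ⟨LinearMap.det (Θ y), ?_, ?_, ?_⟩
  · have hΘeq : Θ y = LinearMap.id - l ∘ₗ LinearMap.mulLeft A (𝔖.τ (1 - f)) ∘ₗ π := by
      refine LinearMap.ext fun v => ?_
      rw [hΘ]
      simp only [LinearMap.sub_apply, LinearMap.id_apply, LinearMap.comp_apply,
        LinearMap.mulLeft_apply, map_sub, map_one, sub_mul, one_mul, ← hy]
      abel
    have hdet : LinearMap.det (Θ y) =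
        (LinearMap.toMatrix' (l ∘ₗ LinearMap.mulLeft A (𝔖.τ (1 - f)) ∘ₗ π)).charpoly.eval 1 := by
      rw [← LinearMap.det_toMatrix', hΘeq, map_sub, LinearMap.toMatrix'_id, Matrix.eval_charpoly,
        map_one]
    have hinv := Groth.Agent.S1879.charpoly_map_eq 𝔖.τ 𝔖.p1 𝔖.p0 𝔖.c 𝔖.sqA 𝔖.sqB π l hπl
      (𝔖.τ (1 - f)) (𝔖.hct (1 - f))
    rw [hdet, ← Polynomial.eval_one_map, ← Polynomial.eval_one_map, ← Matrix.charpoly_map,
      ← Matrix.charpoly_map]
    exact congrArg (Polynomial.eval 1) hinv.symm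
  · set M := LinearMap.toMatrix' (Θ y) with hM
    have hdet : M.det = LinearMap.det (Θ y) := LinearMap.det_toMatrix' (Θ y)
    have hadj : ∀ v, Θ y (M.adjugate.mulVec v) = M.det • v := by
      intro v
      have h1 : (M * M.adjugate).mulVec v = M.det • v := by
        rw [Matrix.mul_adjugate, Matrix.smul_mulVec, Matrix.one_mulVec]
      rw [← Matrix.mulVec_mulVec] at h1
      rw [← h1, hM, LinearMap.toMatrix'_mulVec]
    refine ⟨π (M.adjugate.mulVec (l 1)), ?_⟩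
    have h2 := congrArg π (hadj (l 1))
    rw [hπΘ, map_smul, hπl', hdet] at h2
    rw [h2, Algebra.smul_def, mul_one]
  · intro p hp hg
    have hI : (Ideal.span {y}).comap (algebraMap A B) ≤ p := by
      intro a ha
      rw [Ideal.mem_comap, Ideal.mem_span_singleton'] at ha
      obtain ⟨b, hb⟩ := ha
      by_contra hap
      have h1 : Θ y ∘ₗ Θ b = Θ (algebraMap A B a) := by rw [hΘmul, mul_comm, hb]
      let Ψ : (Fin n → A) →ₗ[A] (Fin n → A) := a • (LinearMap.id - l ∘ₗ π) + l ∘ₗ π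
      have h2 : Θ (algebraMap A B a) ∘ₗ Ψ = a • LinearMap.id := by
        refine LinearMap.ext fun v => ?_
        have hπΨ : π (Ψ v) = π v := by
          show π (a • (v - l (π v)) + l (π v)) = π v
          rw [map_add, map_smul, map_sub, hπl', sub_self, smul_zero, zero_add]
        rw [LinearMap.comp_apply, hΘ, hπΨ]
        show (a • (v - l (π v)) + l (π v)) - l (π v) + l (algebraMap A B a * π v) = a • v
        rw [← Algebra.smul_def, map_smul, smul_sub]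
        abel
      have h3 : LinearMap.det (Θ y) * LinearMap.det (Θ b) * LinearMap.det Ψ =
          a ^ Module.finrank A (Fin n → A) := by
        rw [← LinearMap.det_comp, h1, ← LinearMap.det_comp, h2, LinearMap.det_smul,
          LinearMap.det_id, mul_one]
      have h4 : a ^ Module.finrank A (Fin n → A) ∈ p := by
        rw [← h3]; exact Ideal.mul_mem_right _ _ (Ideal.mul_mem_right _ _ hg)
      exact hap (hp.mem_of_pow_mem _ h4)
    obtain ⟨q, hq1, hq2, hq3⟩ :=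
      Ideal.exists_ideal_over_prime_of_isIntegral p (Ideal.span {y}) hI
    exact ⟨q, hq2, hq3, hq1 (Ideal.subset_span (Set.mem_singleton y))⟩

theorem inv_step (𝔖 : Setting A B P) {n r : ℕ}
    (π : (Fin n → A) →ₗ[A] B) (l : B →ₗ[A] (Fin n → A)) (hπl : π ∘ₗ l = LinearMap.id)
    (a : Fin r → A) (𝔯 : Ideal B) [𝔯.IsPrime] (f : A)
    (hf : QInv (Emat π l) (colMat 𝔖.τ l a) f) (hf𝔯 : algebraMap A B f ∉ 𝔯) :
    ∃ f' : A, QInv (Emat π l) (colMat 𝔖.τ l a) f' ∧ 𝔖.τ f' ∉ 𝔯 := by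
  classical
  have hE0 : Emat π l * Emat π l = Emat π l := Emat_idem π l hπl
  have hEΨ0 : Emat π l * colMat 𝔖.τ l a = colMat 𝔖.τ l a := Emat_mul_colMat 𝔖.τ π l hπl a
  have hEapp : ∀ k j, Emat π l k j = l (π (Pi.single j 1)) k := Emat_apply π l
  have hΨapp : ∀ k i, colMat 𝔖.τ l a k i = l (𝔖.τ (a i)) k := fun k i => rfl
  obtain ⟨E, hEdef⟩ : ∃ E, E = Emat π l := ⟨_, rfl⟩
  obtain ⟨Ψ, hΨdef⟩ : ∃ Ψ, Ψ = colMat 𝔖.τ l a := ⟨_, rfl⟩
  rw [← hEdef] at hf hE0 hEΨ0 hEapp ⊢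
  rw [← hΨdef] at hf hEΨ0 hΨapp ⊢
  letI : Algebra B P := 𝔖.p1.toAlgebra
  obtain ⟨π1, Λ1, h11, hπ1, hΛ1⟩ := bc_pres (A' := B) 𝔖.τ 𝔖.p0 𝔖.sqA π l hπl
  obtain ⟨π2, Λ2, h22, hπ2, hΛ2⟩ := bc_pres (A' := B) (algebraMap A B) 𝔖.c 𝔖.sqB π l hπl
  have h11' : ∀ z, π1 (Λ1 z) = z := fun z => LinearMap.congr_fun h11 z
  have h22' : ∀ z, π2 (Λ2 z) = z := fun z => LinearMap.congr_fun h22 z
  obtain ⟨T, hT⟩ : ∃ T, T = LinearMap.toMatrix' (Λ2 ∘ₗ π1) := ⟨_, rfl⟩
  obtain ⟨T', hT'⟩ : ∃ T', T' = LinearMap.toMatrix' (Λ1 ∘ₗ π2) := ⟨_, rfl⟩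
  have hT1 : T * Ψ.map 𝔖.τ = Ψ.map (algebraMap A B) := by
    ext k i
    have hcol : (fun j => (Ψ.map 𝔖.τ) j i) = Λ1 (𝔖.p0 (𝔖.τ (a i))) := by
      funext j
      rw [hΛ1, Matrix.map_apply, hΨapp]
    have h3 : T.mulVec (Λ1 (𝔖.p0 (𝔖.τ (a i)))) = Λ2 (𝔖.p0 (𝔖.τ (a i))) := by
      rw [hT, LinearMap.toMatrix'_mulVec, LinearMap.comp_apply, h11']
    have h4 : (T * Ψ.map 𝔖.τ) k i = (T.mulVec (fun j => (Ψ.map 𝔖.τ) j i)) k := rfl
    rw [h4, hcol, h3, ← 𝔖.hct, hΛ2, Matrix.map_apply, hΨapp]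
  have hT2 : T' * Ψ.map (algebraMap A B) = Ψ.map 𝔖.τ := by
    ext k i
    have hcol : (fun j => (Ψ.map (algebraMap A B)) j i) = Λ2 (𝔖.c (𝔖.τ (a i))) := by
      funext j
      rw [hΛ2, Matrix.map_apply, hΨapp]
    have h3 : T'.mulVec (Λ2 (𝔖.c (𝔖.τ (a i)))) = Λ1 (𝔖.c (𝔖.τ (a i))) := by
      rw [hT', LinearMap.toMatrix'_mulVec, LinearMap.comp_apply, h22']
    have h4 : (T' * Ψ.map (algebraMap A B)) k i =
        (T'.mulVec (fun j => (Ψ.map (algebraMap A B)) j i)) k := rfl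
    rw [h4, hcol, h3, 𝔖.hct, hΛ1, Matrix.map_apply, hΨapp]
  have hT3 : T' * T = E.map 𝔖.τ := by
    rw [hT, hT', ← LinearMap.toMatrix'_comp]
    ext k j
    rw [LinearMap.toMatrix'_apply, Matrix.map_apply, hEapp]
    simp only [LinearMap.comp_apply]
    rw [h22', hπ1, hΛ1]
  have hT4 : T * T' = E.map (algebraMap A B) := by
    rw [hT, hT', ← LinearMap.toMatrix'_comp]
    ext k j
    rw [LinearMap.toMatrix'_apply, Matrix.map_apply, hEapp]
    simp only [LinearMap.comp_apply]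
    rw [h11', hπ2, hΛ2]
  obtain ⟨X, hX1, hX2⟩ := hf
  obtain ⟨X', hX'⟩ : ∃ X', X' = X.map (algebraMap A B) * T := ⟨_, rfl⟩
  have hX'1 : X' * Ψ.map 𝔖.τ = algebraMap A B f • (1 : Matrix (Fin r) (Fin r) B) := by
    rw [hX', Matrix.mul_assoc, hT1, ← Matrix.map_mul, hX1, map_smul_mat, map_one_mat]
  have hstepB : T' * (E.map (algebraMap A B) * T) = E.map 𝔖.τ := by
    rw [← hT4, Matrix.mul_assoc T T' T, ← Matrix.mul_assoc T' T, hT3, ← Matrix.map_mul, hE0]
  have hX'2 : Ψ.map 𝔖.τ * X' = algebraMap A B f • E.map 𝔖.τ := by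
    calc Ψ.map 𝔖.τ * X'
        = (T' * Ψ.map (algebraMap A B)) * (X.map (algebraMap A B) * T) := by rw [hT2, hX']
      _ = T' * ((Ψ.map (algebraMap A B) * X.map (algebraMap A B)) * T) := by
          simp only [Matrix.mul_assoc]
      _ = T' * ((algebraMap A B f • E.map (algebraMap A B)) * T) := by
          rw [← Matrix.map_mul, hX2, map_smul_mat]
      _ = algebraMap A B f • (T' * (E.map (algebraMap A B) * T)) := by
          rw [Matrix.smul_mul, Matrix.mul_smul]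
      _ = algebraMap A B f • E.map 𝔖.τ := by rw [hstepB]
  -- pass to the residue field of `𝔯`
  have hy0 : resMap 𝔯 (algebraMap A B f) ≠ 0 := fun h => hf𝔯 ((resMap_ker 𝔯 _).1 h)
  haveI hp'prime : (𝔯.comap 𝔖.τ).IsPrime := Ideal.comap_isPrime _ _
  let g : A ⧸ 𝔯.comap 𝔖.τ →+* FractionRing (B ⧸ 𝔯) :=
    Ideal.Quotient.lift (𝔯.comap 𝔖.τ) ((resMap 𝔯).comp 𝔖.τ)
      (fun x hx => (resMap_ker 𝔯 _).2 hx)
  have hginj : Function.Injective g := by
    rw [injective_iff_map_eq_zero]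
    intro x hx
    obtain ⟨x, rfl⟩ := Ideal.Quotient.mk_surjective x
    rw [Ideal.Quotient.lift_mk] at hx
    exact Ideal.Quotient.eq_zero_iff_mem.2 ((resMap_ker 𝔯 _).1 hx)
  let j : FractionRing (A ⧸ 𝔯.comap 𝔖.τ) →+* FractionRing (B ⧸ 𝔯) := IsFractionRing.lift hginj
  have hjρ : ∀ x, j (resMap (𝔯.comap 𝔖.τ) x) = resMap 𝔯 (𝔖.τ x) := by
    intro x
    show IsFractionRing.lift hginj (algebraMap _ _ (Ideal.Quotient.mk (𝔯.comap 𝔖.τ) x)) = _
    rw [IsFractionRing.lift_algebraMap]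
    rfl
  have hmapτ : ∀ {m k : ℕ} (M : Matrix (Fin m) (Fin k) A),
      (M.map (resMap (𝔯.comap 𝔖.τ))).map j = (M.map 𝔖.τ).map (resMap 𝔯) := by
    intro m k M
    ext i i'
    simp only [Matrix.map_apply]
    exact hjρ _
  obtain ⟨XK, hXK⟩ : ∃ XK, XK = (resMap 𝔯 (algebraMap A B f))⁻¹ • X'.map (resMap 𝔯) := ⟨_, rfl⟩
  have hK1 : XK * (Ψ.map (resMap (𝔯.comap 𝔖.τ))).map j = 1 := by
    rw [hmapτ, hXK, Matrix.smul_mul, ← Matrix.map_mul, hX'1, map_smul_mat, map_one_mat,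
      smul_smul, inv_mul_cancel₀ hy0, one_smul]
  have hK2 : (Ψ.map (resMap (𝔯.comap 𝔖.τ))).map j * XK =
      (E.map (resMap (𝔯.comap 𝔖.τ))).map j := by
    rw [hmapτ, hmapτ, hXK, Matrix.mul_smul, ← Matrix.map_mul, hX'2, map_smul_mat, smul_smul,
      inv_mul_cancel₀ hy0, one_smul]
  have hEΨρ : E.map (resMap (𝔯.comap 𝔖.τ)) * Ψ.map (resMap (𝔯.comap 𝔖.τ)) =
      Ψ.map (resMap (𝔯.comap 𝔖.τ)) := by rw [← Matrix.map_mul, hEΨ0]
  obtain ⟨Xκ, hκ1, hκ2⟩ := la_desc j _ _ hEΨρ XK hK1 hK2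
  obtain ⟨f', hf'p, hf'Q⟩ := locMat (𝔯.comap 𝔖.τ) (resMap (𝔯.comap 𝔖.τ))
    (resMap_ker _) (resMap_frac _) E hE0 Ψ hEΨ0 Xκ hκ1 hκ2
  exact ⟨f', hf'Q, hf'p⟩

theorem cover (𝔖 : Setting A B P)
    (q : Ideal (RingHom.eqLocus (algebraMap A B) 𝔖.τ)) [q.IsPrime] :
    ∃ h : RingHom.eqLocus (algebraMap A B) 𝔖.τ, h ∉ q ∧
      ∃ (r : ℕ) (a : Fin r → A), LinQ 𝔖.τ a (h : A) := by
  classical
  haveI : Algebra.IsIntegral (RingHom.eqLocus (algebraMap A B) 𝔖.τ) A :=
    ⟨fun f => Groth.Agent.S1879.alg_main 𝔖.τ 𝔖.ε 𝔖.hεσ 𝔖.hετ 𝔖.p1 𝔖.p0 𝔖.c 𝔖.sqA 𝔖.sqB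
      𝔖.hct f⟩
  obtain ⟨p, -, hpprime, hpq⟩ := Ideal.exists_ideal_over_prime_of_isIntegral q (⊥ : Ideal A) (by
    intro x hx
    rw [Ideal.mem_comap, Ideal.mem_bot] at hx
    have h0 : x = 0 := Subtype.ext hx
    rw [h0]; exact q.zero_mem)
  haveI := hpprime
  obtain ⟨n, π, l, -, -, hπl⟩ := Module.Finite.exists_comp_eq_id_of_projective A B
  have hπl' : ∀ x, π (l x) = x := fun x => LinearMap.congr_fun hπl x
  let s : Set (Fin n → FractionRing (A ⧸ p)) :=
    Set.range fun x : A => fun k => resMap p (l (𝔖.τ x) k)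
  obtain ⟨r, fv, hfs, hfspan, hfli⟩ : ∃ (r : ℕ) (fv : Fin r → (Fin n → FractionRing (A ⧸ p))),
      (∀ i, fv i ∈ s) ∧ Submodule.span (FractionRing (A ⧸ p)) (Set.range fv) =
        Submodule.span (FractionRing (A ⧸ p)) s ∧
      LinearIndependent (FractionRing (A ⧸ p)) fv :=
    ⟨_, Submodule.exists_fun_fin_finrank_span_eq (FractionRing (A ⧸ p)) s⟩
  choose a ha using hfs
  have hE0 : Emat π l * Emat π l = Emat π l := Emat_idem π l hπl
  have hEΨ0 : Emat π l * colMat 𝔖.τ l a = colMat 𝔖.τ l a := Emat_mul_colMat 𝔖.τ π l hπl a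
  have hΨρ : ∀ w : Fin r → FractionRing (A ⧸ p),
      ((colMat 𝔖.τ l a).map (resMap p)).mulVec w = ∑ i, w i • fv i := by
    intro w
    funext k
    rw [Finset.sum_apply]
    show ∑ i, resMap p (l (𝔖.τ (a i)) k) * w i = ∑ i, (w i • fv i) k
    refine Finset.sum_congr rfl fun i _ => ?_
    rw [Pi.smul_apply, smul_eq_mul, mul_comm, ← ha i]
  have hinj : Function.Injective ((colMat 𝔖.τ l a).map (resMap p)).mulVec := by
    intro w w' hww
    have h0 : ((colMat 𝔖.τ l a).map (resMap p)).mulVec (w - w') = 0 := by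
      rw [Matrix.mulVec_sub, hww, sub_self]
    rw [hΨρ] at h0
    have h1 := (Fintype.linearIndependent_iff.1 hfli) (w - w') h0
    funext i
    exact sub_eq_zero.1 (h1 i)
  have hmem : ∀ b : B, (fun k => resMap p (l b k)) ∈
      Submodule.span (FractionRing (A ⧸ p)) s := by
    intro b
    have hb : b ∈ Submodule.span A (Set.range 𝔖.τ) := by rw [𝔖.hsurj]; trivial
    induction hb using Submodule.span_induction with
    | mem x hx =>
      obtain ⟨x, rfl⟩ := hx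
      exact Submodule.subset_span ⟨x, rfl⟩
    | zero =>
      have h0 : (fun k => resMap p (l (0 : B) k)) = 0 := by funext k; simp
      rw [h0]; exact Submodule.zero_mem _
    | add x y _ _ hx hy =>
      have h0 : (fun k => resMap p (l (x + y) k)) =
          (fun k => resMap p (l x k)) + (fun k => resMap p (l y k)) := by funext k; simp
      rw [h0]; exact Submodule.add_mem _ hx hy
    | smul a' x _ hx =>
      have h0 : (fun k => resMap p (l (a' • x) k)) =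
          resMap p a' • (fun k => resMap p (l x k)) := by funext k; simp
      rw [h0]; exact Submodule.smul_mem _ _ hx
  have hrange : ∀ j, ∃ w, ((colMat 𝔖.τ l a).map (resMap p)).mulVec w =
      ((Emat π l).map (resMap p)).mulVec (Pi.single j 1) := by
    intro j
    have h1 : ((Emat π l).map (resMap p)).mulVec (Pi.single j 1) =
        fun k => resMap p (l (π (Pi.single j 1)) k) := by
      funext k
      rw [Matrix.mulVec_single_one]
      show resMap p (Emat π l k j) = _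
      rw [Emat_apply]
    have h2 := hmem (π (Pi.single j 1))
    rw [← hfspan, Submodule.mem_span_range_iff_exists_fun] at h2
    obtain ⟨w, hw⟩ := h2
    exact ⟨w, by rw [hΨρ, hw, h1]⟩
  have hEΨρ : (Emat π l).map (resMap p) * (colMat 𝔖.τ l a).map (resMap p) =
      (colMat 𝔖.τ l a).map (resMap p) := by rw [← Matrix.map_mul, hEΨ0]
  obtain ⟨Xκ, hκ1, hκ2⟩ := la_init _ _ hEΨρ hinj hrange
  obtain ⟨f₀, hf₀p, hf₀Q⟩ := locMat p (resMap p) (resMap_ker p) (resMap_frac p) (Emat π l) hE0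
    (colMat 𝔖.τ l a) hEΨ0 Xκ hκ1 hκ2
  -- the orbit
  let pp : PrimeSpectrum A := ⟨p, hpprime⟩
  have hfin : (PrimeSpectrum.comap (algebraMap A B) ⁻¹' {pp}).Finite :=
    Algebra.QuasiFinite.finite_comap_preimage_singleton pp
  obtain ⟨T, hT⟩ : ∃ T : Set (PrimeSpectrum A), T = (PrimeSpectrum.comap 𝔖.τ) ''
    (PrimeSpectrum.comap (algebraMap A B) ⁻¹' {pp}) := ⟨_, rfl⟩
  have hTfin : T.Finite := by rw [hT]; exact hfin.image _
  obtain ⟨O, hO⟩ : ∃ O : Set (PrimeSpectrum A), O =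
    (PrimeSpectrum.zeroLocus (qIdeal (Emat π l) (colMat 𝔖.τ l a) : Set A))ᶜ := ⟨_, rfl⟩
  have hOopen : IsOpen O := by
    rw [hO]; exact (PrimeSpectrum.isClosed_zeroLocus _).isOpen_compl
  have hTO : T ⊆ O := by
    rw [hT, hO]
    rintro _ ⟨𝔯, h𝔯, rfl⟩
    intro hmemZ
    rw [PrimeSpectrum.mem_zeroLocus] at hmemZ
    have h𝔯' : PrimeSpectrum.comap (algebraMap A B) 𝔯 = pp := h𝔯
    have hf₀𝔯 : algebraMap A B f₀ ∉ 𝔯.asIdeal := by
      intro h
      apply hf₀p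
      have h3 : f₀ ∈ (PrimeSpectrum.comap (algebraMap A B) 𝔯).asIdeal := h
      rw [h𝔯'] at h3
      exact h3
    obtain ⟨f', hf'Q, hf'⟩ := inv_step 𝔖 π l hπl a 𝔯.asIdeal f₀ hf₀Q hf₀𝔯
    exact hf' (hmemZ hf'Q)
  obtain ⟨f₁, hf₁T, hf₁O⟩ :=
    Groth.Agent.S1881.exists_basicOpen_of_finite T hTfin O hOopen hTO
  have hf₁rad : f₁ ∈ (qIdeal (Emat π l) (colMat 𝔖.τ l a)).radical := by
    rw [← PrimeSpectrum.vanishingIdeal_zeroLocus_eq_radical, PrimeSpectrum.mem_vanishingIdeal]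
    intro x hx
    by_contra hfx
    have h3 := hf₁O x hfx
    rw [hO] at h3
    exact h3 hx
  obtain ⟨N, hN⟩ := Ideal.mem_radical_iff.1 hf₁rad
  have hf₂T : ∀ x ∈ T, f₁ ^ N ∉ x.asIdeal :=
    fun x hx h => hf₁T x hx (x.isPrime.mem_of_pow_mem N h)
  obtain ⟨g, hgC, ⟨z, hz⟩, hgp⟩ := exists_norm_inv 𝔖 (f₁ ^ N)
  have hgnp : g ∉ p := by
    intro hg
    obtain ⟨𝔯, h𝔯prime, h𝔯p, hy𝔯⟩ := hgp p hg
    have h3 : PrimeSpectrum.comap 𝔖.τ ⟨𝔯, h𝔯prime⟩ ∈ T := by
      rw [hT]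
      exact ⟨⟨𝔯, h𝔯prime⟩, PrimeSpectrum.ext h𝔯p, rfl⟩
    exact hf₂T _ h3 hy𝔯
  have hgd : g = f₁ ^ N * 𝔖.ε z := by
    have h3 := congrArg 𝔖.ε hz
    rw [map_mul, 𝔖.hετ, 𝔖.hεσ] at h3
    exact h3.symm
  have hgQ : QInv (Emat π l) (colMat 𝔖.τ l a) g := by
    rw [hgd]
    exact (qIdeal (Emat π l) (colMat 𝔖.τ l a)).mul_mem_right _ hN
  refine ⟨⟨g, hgC⟩, ?_, r, a, linQ_of_qInv 𝔖.τ π l hπl a g hgQ⟩
  intro hgq
  apply hgnp
  rw [← hpq] at hgq
  exact hgq

end Main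

end Groth.Agent.Lib.Helper76.QuotAlg
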