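import Groth.Agent.Lib.Helper76.QuotAlg1

/-!
Algebra behind the finite locally free quotient of an affine groupoid (S1877), part 2:
`A` is finite projective over the invariants `C`, and `A ⊗[C] A ≃ B`.
-/

set_option autoImplicit false
universe u
open CategoryTheory CategoryTheory.Limits TensorProduct

namespace Groth.Agent.Lib.Helper76.QuotAlg

section Main2

variable {A B P : Type u} [CommRing A] [CommRing B] [CommRing P] [Algebra A B]
  [Module.Finite A B] [Module.Projective A B]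

/-- The ring of invariants. -/
abbrev Cring (𝔖 : Setting A B P) : Subring A := RingHom.eqLocus (algebraMap A B) 𝔖.τ

theorem lemK (𝔖 : Setting A B P) {r : ℕ} (a : Fin r → A) (h : A)
    (hh : algebraMap A B h = 𝔖.τ h) (χ : B →ₗ[A] (Fin r → A))
    (hχ1 : ∀ b, ∑ i, χ b i • 𝔖.τ (a i) = h • b)
    (hχ2 : ∀ i j, χ (𝔖.τ (a j)) i = if i = j then h else 0) (x : A) (k : Fin r) :
    algebraMap A B (h * χ (𝔖.τ x) k) = 𝔖.τ (h * χ (𝔖.τ x) k) := by
  letI : Algebra B P := 𝔖.p1.toAlgebra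
  obtain ⟨Λ, hΛ⟩ := bc_lift (A' := B) 𝔖.τ 𝔖.p0 𝔖.sqA χ
  have hp0σ : ∀ a', 𝔖.p0 (algebraMap A B a') = 𝔖.p1 (𝔖.τ a') :=
    fun a' => (congrArg (fun f => f.hom a') 𝔖.sqA.w).symm
  have hcσ : ∀ a', 𝔖.c (algebraMap A B a') = 𝔖.p1 (algebraMap A B a') :=
    fun a' => (congrArg (fun f => f.hom a') 𝔖.sqB.w).symm
  have e0 : ∑ i, algebraMap A B (χ (𝔖.τ x) i) * 𝔖.τ (a i) = algebraMap A B h * 𝔖.τ x := by
    have h1 := hχ1 (𝔖.τ x)
    simpa only [Algebra.smul_def] using h1
  have e1 : ∑ i, 𝔖.p1 (algebraMap A B (χ (𝔖.τ x) i)) * 𝔖.p0 (𝔖.τ (a i)) =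
      𝔖.p1 (algebraMap A B h) * 𝔖.p0 (𝔖.τ x) := by
    have h1 := congrArg 𝔖.c e0
    simpa only [map_sum, map_mul, hcσ, 𝔖.hct] using h1
  have e2 : ∑ i, 𝔖.p1 (𝔖.τ (χ (𝔖.τ x) i)) * 𝔖.p0 (𝔖.τ (a i)) =
      𝔖.p1 (𝔖.τ h) * 𝔖.p0 (𝔖.τ x) := by
    have h1 := congrArg 𝔖.p0 e0
    simpa only [map_sum, map_mul, hp0σ] using h1
  have e3 : ∑ i, (algebraMap A B (χ (𝔖.τ x) i) - 𝔖.τ (χ (𝔖.τ x) i)) • 𝔖.p0 (𝔖.τ (a i)) = 0 := by
    have h1 : ∀ i, (algebraMap A B (χ (𝔖.τ x) i) - 𝔖.τ (χ (𝔖.τ x) i)) • 𝔖.p0 (𝔖.τ (a i)) =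
        𝔖.p1 (algebraMap A B (χ (𝔖.τ x) i)) * 𝔖.p0 (𝔖.τ (a i)) -
          𝔖.p1 (𝔖.τ (χ (𝔖.τ x) i)) * 𝔖.p0 (𝔖.τ (a i)) := by
      intro i
      show 𝔖.p1 (algebraMap A B (χ (𝔖.τ x) i) - 𝔖.τ (χ (𝔖.τ x) i)) * 𝔖.p0 (𝔖.τ (a i)) = _
      rw [map_sub, sub_mul]
    simp_rw [h1]
    rw [Finset.sum_sub_distrib, e1, e2, hh, sub_self]
  have e4 : ∑ i, (algebraMap A B (χ (𝔖.τ x) i) - 𝔖.τ (χ (𝔖.τ x) i)) *
      𝔖.τ (if k = i then h else 0) = 0 := by
    have h5 := congrArg (fun v => Λ v k) e3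
    simp only [map_sum, map_smul, map_zero, Pi.zero_apply, Finset.sum_apply, Pi.smul_apply,
      smul_eq_mul] at h5
    rw [← h5]
    refine Finset.sum_congr rfl fun i _ => ?_
    rw [hΛ, hχ2]
  rw [Finset.sum_eq_single k (fun i _ hik => by rw [if_neg (Ne.symm hik), map_zero, mul_zero])
    (fun hk => absurd (Finset.mem_univ k) hk), if_pos rfl] at e4
  rw [map_mul, map_mul, hh]
  linear_combination e4

theorem lemK2 (𝔖 : Setting A B P) {r : ℕ} (a : Fin r → A) (h : A)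
    (hh : algebraMap A B h = 𝔖.τ h) (χ : B →ₗ[A] (Fin r → A))
    (hχ1 : ∀ b, ∑ i, χ b i • 𝔖.τ (a i) = h • b)
    (hχ2 : ∀ i j, χ (𝔖.τ (a j)) i = if i = j then h else 0) (x : A) :
    ∑ i, (h * χ (𝔖.τ x) i) * a i = h * h * x := by
  have e0 : ∑ i, algebraMap A B (χ (𝔖.τ x) i) * 𝔖.τ (a i) = algebraMap A B h * 𝔖.τ x := by
    have h1 := hχ1 (𝔖.τ x)
    simpa only [Algebra.smul_def] using h1
  have e1 : ∑ i, 𝔖.τ (h * χ (𝔖.τ x) i) * 𝔖.τ (a i) = 𝔖.τ h * 𝔖.τ h * 𝔖.τ x := by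
    have h1 : ∀ i, 𝔖.τ (h * χ (𝔖.τ x) i) * 𝔖.τ (a i) =
        algebraMap A B h * (algebraMap A B (χ (𝔖.τ x) i) * 𝔖.τ (a i)) := by
      intro i
      rw [← lemK 𝔖 a h hh χ hχ1 hχ2 x i, map_mul, mul_assoc]
    simp_rw [h1]
    rw [← Finset.mul_sum, e0, hh, mul_assoc]
  have e2 := congrArg 𝔖.ε e1
  simpa only [map_sum, map_mul, 𝔖.hετ] using e2

theorem finite_projective (𝔖 : Setting A B P) :
    Module.Finite (Cring 𝔖) A ∧ Module.Projective (Cring 𝔖) A := by
  classical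
  let 𝔞 : Ideal (Cring 𝔖) :=
    { carrier := {c | ∃ (F : Type u) (_ : AddCommGroup F) (_ : Module (Cring 𝔖) F)
        (_ : Module.Finite (Cring 𝔖) F) (_ : Module.Projective (Cring 𝔖) F)
        (α : F →ₗ[Cring 𝔖] A) (β : A →ₗ[Cring 𝔖] F), α ∘ₗ β = c • LinearMap.id}
      add_mem' := by
        rintro c c' ⟨F, i1, i2, i3, i4, α, β, h⟩ ⟨F', j1, j2, j3, j4, α', β', h'⟩
        exact ⟨F × F', inferInstance, inferInstance, inferInstance, inferInstance,
          α.coprod α', β.prod β', by rw [LinearMap.coprod_comp_prod, h, h', add_smul]⟩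
      zero_mem' := ⟨Fin 0 → Cring 𝔖, inferInstance, inferInstance, inferInstance, inferInstance,
        0, 0, by simp⟩
      smul_mem' := by
        rintro c' c ⟨F, i1, i2, i3, i4, α, β, h⟩
        exact ⟨F, i1, i2, i3, i4, α, c' • β, by
          rw [LinearMap.comp_smul, h, smul_smul, smul_eq_mul]⟩ }
  have htop : 𝔞 = ⊤ := by
    by_contra hne
    obtain ⟨q, hqmax, hq⟩ := Ideal.exists_le_maximal 𝔞 hne
    haveI := hqmax.isPrime
    obtain ⟨h, hhq, r, a, χ, hχ1, hχ2⟩ := cover 𝔖 q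
    have hh : algebraMap A B (h : A) = 𝔖.τ h := h.2
    have hmem : h * h ∈ 𝔞 := by
      let β : A →ₗ[Cring 𝔖] (Fin r → Cring 𝔖) :=
        { toFun := fun x i => ⟨(h : A) * χ (𝔖.τ x) i, lemK 𝔖 a h hh χ hχ1 hχ2 x i⟩
          map_add' := by
            intro x y
            funext i
            apply Subtype.ext
            show (h : A) * χ (𝔖.τ (x + y)) i = (h : A) * χ (𝔖.τ x) i + (h : A) * χ (𝔖.τ y) i
            rw [map_add, map_add, Pi.add_apply, mul_add]
          map_smul' := by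
            intro c x
            funext i
            apply Subtype.ext
            have hc : algebraMap A B (c : A) = 𝔖.τ c := c.2
            have h1 : 𝔖.τ (c • x) = (c : A) • 𝔖.τ x := by
              rw [Algebra.smul_def (c : A) (𝔖.τ x), hc, ← map_mul]
              rfl
            show (h : A) * χ (𝔖.τ (c • x)) i = (c : A) * ((h : A) * χ (𝔖.τ x) i)
            rw [h1, map_smul, Pi.smul_apply, smul_eq_mul]
            ring }
      refine ⟨Fin r → Cring 𝔖, inferInstance, inferInstance, inferInstance, inferInstance,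
        Fintype.linearCombination (Cring 𝔖) a, β, ?_⟩
      refine LinearMap.ext fun x => ?_
      rw [LinearMap.comp_apply, Fintype.linearCombination_apply]
      show ∑ i, ((h : A) * χ (𝔖.τ x) i) * a i = ((h : A) * h) * x
      exact lemK2 𝔖 a h hh χ hχ1 hχ2 x
    exact hhq ((hqmax.isPrime.mem_or_mem (hq hmem)).elim id id)
  have h1 : (1 : Cring 𝔖) ∈ 𝔞 := by rw [htop]; trivial
  obtain ⟨F, i1, i2, i3, i4, α, β, hαβ⟩ := h1
  rw [one_smul] at hαβ
  have hsurj : Function.Surjective α := fun x => ⟨β x, LinearMap.congr_fun hαβ x⟩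
  exact ⟨Module.Finite.of_surjective α hsurj, Module.Projective.of_split β α hαβ⟩

theorem pushout (𝔖 : Setting A B P) :
    IsPushout (CommRingCat.ofHom (Cring 𝔖).subtype) (CommRingCat.ofHom (Cring 𝔖).subtype)
      (CommRingCat.ofHom 𝔖.τ) (CommRingCat.ofHom (algebraMap A B)) := by
  classical
  haveI : IsScalarTower (Cring 𝔖) A B := IsScalarTower.of_algebraMap_eq' rfl
  let τC : A →ₐ[Cring 𝔖] B := { 𝔖.τ with commutes' := fun c => c.2.symm }
  let σC : A →ₐ[Cring 𝔖] B := IsScalarTower.toAlgHom (Cring 𝔖) A B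
  let θ : A ⊗[Cring 𝔖] A →ₐ[Cring 𝔖] B := Algebra.TensorProduct.productMap τC σC
  have hθ : ∀ x y, θ (x ⊗ₜ y) = 𝔖.τ x * algebraMap A B y :=
    fun x y => Algebra.TensorProduct.productMap_apply_tmul _ _ _ _
  let 𝔟 : Ideal (Cring 𝔖) :=
    { carrier := {c | ∃ θ' : B →ₗ[Cring 𝔖] A ⊗[Cring 𝔖] A,
        θ.toLinearMap ∘ₗ θ' = c • LinearMap.id ∧ θ' ∘ₗ θ.toLinearMap = c • LinearMap.id}
      add_mem' := by
        rintro c c' ⟨θ₁, h1, h2⟩ ⟨θ₂, h3, h4⟩
        exact ⟨θ₁ + θ₂, by rw [LinearMap.comp_add, h1, h3, add_smul],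
          by rw [LinearMap.add_comp, h2, h4, add_smul]⟩
      zero_mem' := ⟨0, LinearMap.ext fun x => by simp, LinearMap.ext fun x => by
        rw [LinearMap.zero_comp, LinearMap.zero_apply, LinearMap.smul_apply, LinearMap.id_apply]
        exact (TensorProduct.zero_smul x).symm⟩
      smul_mem' := by
        rintro c' c ⟨θ₁, h1, h2⟩
        exact ⟨c' • θ₁, by rw [LinearMap.comp_smul, h1, smul_smul, smul_eq_mul],
          by rw [LinearMap.smul_comp, h2, smul_smul, smul_eq_mul]⟩ }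
  have htop : 𝔟 = ⊤ := by
    by_contra hne
    obtain ⟨q, hqmax, hq⟩ := Ideal.exists_le_maximal 𝔟 hne
    haveI := hqmax.isPrime
    obtain ⟨h, hhq, r, a, χ, hχ1, hχ2⟩ := cover 𝔖 q
    have hh : algebraMap A B (h : A) = 𝔖.τ h := h.2
    have hmem : h * h ∈ 𝔟 := by
      let θ'' : B →ₗ[Cring 𝔖] A ⊗[Cring 𝔖] A :=
        { toFun := fun b => ∑ i, a i ⊗ₜ[Cring 𝔖] ((h : A) * χ b i)
          map_add' := by
            intro b b'
            simp only [map_add, Pi.add_apply, mul_add, TensorProduct.tmul_add,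
              Finset.sum_add_distrib]
          map_smul' := by
            intro c b
            have h1 : c • b = (c : A) • b := rfl
            simp only [RingHom.id_apply, h1, map_smul, Pi.smul_apply, smul_eq_mul,
              Finset.smul_sum]
            refine Finset.sum_congr rfl fun i _ => ?_
            rw [← TensorProduct.tmul_smul]
            congr 1
            show (h : A) * ((c : A) * χ b i) = (c : A) * ((h : A) * χ b i)
            ring }
      have hθ'' : ∀ b, θ'' b = ∑ i, a i ⊗ₜ[Cring 𝔖] ((h : A) * χ b i) := fun b => rfl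
      refine ⟨θ'', ?_, ?_⟩
      · refine LinearMap.ext fun b => ?_
        show θ (θ'' b) = (h * h) • b
        rw [hθ'', map_sum]
        simp only [hθ, map_mul]
        have h1 := hχ1 b
        simp only [Algebra.smul_def] at h1
        calc ∑ i, 𝔖.τ (a i) * (algebraMap A B h * algebraMap A B (χ b i))
            = algebraMap A B h * ∑ i, algebraMap A B (χ b i) * 𝔖.τ (a i) := by
              rw [Finset.mul_sum]
              refine Finset.sum_congr rfl fun i _ => ?_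
              ring
          _ = algebraMap A B h * (algebraMap A B h * b) := by rw [h1]
          _ = (h * h) • b := by
              rw [Algebra.smul_def]
              show _ = algebraMap A B ((h : A) * (h : A)) * b
              rw [map_mul, mul_assoc]
      · apply TensorProduct.ext'
        intro x y
        show θ'' (θ (x ⊗ₜ y)) = (h * h) • (x ⊗ₜ[Cring 𝔖] y)
        rw [hθ, hθ'']
        have h1 : ∀ i, χ (𝔖.τ x * algebraMap A B y) i = y * χ (𝔖.τ x) i := by
          intro i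
          rw [mul_comm, ← Algebra.smul_def, map_smul, Pi.smul_apply, smul_eq_mul]
        simp only [h1]
        have h2 : ∀ i, a i ⊗ₜ[Cring 𝔖] ((h : A) * (y * χ (𝔖.τ x) i)) =
            (((h : A) * χ (𝔖.τ x) i) * a i) ⊗ₜ[Cring 𝔖] y := by
          intro i
          let ci : Cring 𝔖 := ⟨(h : A) * χ (𝔖.τ x) i, lemK 𝔖 a h hh χ hχ1 hχ2 x i⟩
          have e1 : (h : A) * (y * χ (𝔖.τ x) i) = ci • y := by
            show _ = ((h : A) * χ (𝔖.τ x) i) * y
            ring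
          have e2 : ((h : A) * χ (𝔖.τ x) i) * a i = ci • a i := rfl
          rw [e1, e2, TensorProduct.smul_tmul]
        simp only [h2]
        rw [← TensorProduct.sum_tmul, lemK2 𝔖 a h hh χ hχ1 hχ2 x, TensorProduct.smul_tmul']
        rfl
    exact hhq ((hqmax.isPrime.mem_or_mem (hq hmem)).elim id id)
  have h1 : (1 : Cring 𝔖) ∈ 𝔟 := by rw [htop]; trivial
  obtain ⟨θ', hθ1, hθ2⟩ := h1
  rw [one_smul] at hθ1 hθ2
  have hbij : Function.Bijective θ := by
    constructor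
    · intro z z' hzz
      have e1 : θ' (θ z) = z := LinearMap.congr_fun hθ2 z
      have e2 : θ' (θ z') = z' := LinearMap.congr_fun hθ2 z'
      rw [← e1, ← e2, hzz]
    · intro b
      exact ⟨θ' b, LinearMap.congr_fun hθ1 b⟩
  let e : (A ⊗[Cring 𝔖] A) ≃+* B := RingEquiv.ofBijective θ.toRingHom hbij
  have hpo := CommRingCat.isPushout_tensorProduct (Cring 𝔖) A A
  refine IsPushout.of_iso hpo (Iso.refl _) (Iso.refl _) (Iso.refl _) e.toCommRingCatIso ?_ ?_ ?_ ?_
  · simp only [Iso.refl_hom, Category.comp_id, Category.id_comp]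
    rfl
  · simp only [Iso.refl_hom, Category.comp_id, Category.id_comp]
    rfl
  · ext x
    show θ (x ⊗ₜ 1) = 𝔖.τ x
    rw [hθ, map_one, mul_one]
  · ext y
    show θ (1 ⊗ₜ y) = algebraMap A B y
    rw [hθ, map_one, one_mul]

end Main2

end Groth.Agent.Lib.Helper76.QuotAlg
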