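import Groth.Agent.Lib.Helper76.QuotPts
import Mathlib

/-!
Base change of the ring of invariants of an affine groupoid with finite locally free source and
target (algebra behind S7487): the rank polynomial of an idempotent matrix, invariance of the
generic determinant, and the three statements on `C' → (A ⊗_C C')^R`.
-/

set_option autoImplicit false
universe u
open CategoryTheory CategoryTheory.Limits TensorProduct

namespace Groth.Agent.Lib.Helper76.QuotBC

open Groth.Agent.Lib.Helper76.QuotPts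

section Idem

variable {R : Type*} [CommRing R] {n : ℕ}

/-- The rank polynomial `det (1 - (1 - X) E)` of a square matrix. -/
noncomputable def rkPoly (E : Matrix (Fin n) (Fin n) R) : Polynomial R :=
  (1 - ((1 : Polynomial R) - Polynomial.X) • E.map Polynomial.C).det

theorem det_rk {R₂ : Type*} [CommRing R₂] (ρ : R →+* R₂) (g : R₂)
    (E : Matrix (Fin n) (Fin n) R) :
    (1 - (1 - g) • E.map ρ).det = Polynomial.eval₂ ρ g (rkPoly E) := by
  unfold rkPoly
  have h := RingHom.map_det (Polynomial.eval₂RingHom ρ g)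
    (1 - ((1 : Polynomial R) - Polynomial.X) • E.map Polynomial.C)
  rw [Polynomial.coe_eval₂RingHom] at h
  rw [h]
  congr 1
  refine Matrix.ext fun i j => ?_
  rw [RingHom.mapMatrix_apply, Matrix.map_apply, Matrix.sub_apply, Matrix.sub_apply,
    Matrix.smul_apply, Matrix.smul_apply, Matrix.map_apply, Matrix.map_apply,
    Polynomial.coe_eval₂RingHom, Polynomial.eval₂_sub, smul_eq_mul, smul_eq_mul,
    Polynomial.eval₂_mul, Polynomial.eval₂_sub, Polynomial.eval₂_one, Polynomial.eval₂_X,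
    Polynomial.eval₂_C]
  congr 1
  by_cases hij : i = j
  · subst hij; simp
  · simp [Matrix.one_apply_ne hij]

theorem idem_mul (E : Matrix (Fin n) (Fin n) R) (hE : E * E = E) (g h : R) :
    (1 - (1 - g) • E) * (1 - (1 - h) • E) = 1 - (1 - g * h) • E := by
  have h1 : ((1 - g) • E) * ((1 - h) • E) = ((1 - g) * (1 - h)) • E := by
    rw [Matrix.smul_mul, Matrix.mul_smul, hE, smul_smul]
  rw [sub_mul, one_mul, mul_sub, mul_one, h1]
  refine Matrix.ext fun i j => ?_
  simp only [Matrix.sub_apply, Matrix.smul_apply, smul_eq_mul]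
  ring

theorem rk_orth (E : Matrix (Fin n) (Fin n) R) (hE : E * E = E) (s : ℕ) :
    rkPoly E * Polynomial.C ((rkPoly E).coeff s) =
      Polynomial.C ((rkPoly E).coeff s) * Polynomial.X ^ s := by
  obtain ⟨Φ, hΦ⟩ : ∃ Φ, Φ = rkPoly E := ⟨_, rfl⟩
  rw [← hΦ]
  obtain ⟨ρ, hρ⟩ : ∃ ρ : R →+* Polynomial (Polynomial R),
    ρ = (Polynomial.C).comp Polynomial.C := ⟨_, rfl⟩
  have hidem : E.map ρ * E.map ρ = E.map ρ := by rw [← Matrix.map_mul, hE]
  have hmul := idem_mul (E.map ρ) hidem (Polynomial.C Polynomial.X) Polynomial.X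
  have hdet := congrArg Matrix.det hmul
  rw [Matrix.det_mul, det_rk ρ, det_rk ρ, det_rk ρ, ← hΦ] at hdet
  have h1 : Polynomial.eval₂ ρ (Polynomial.C Polynomial.X) Φ = Polynomial.C Φ := by
    have h0 := Polynomial.hom_eval₂ Φ Polynomial.C
      (Polynomial.C : Polynomial R →+* Polynomial (Polynomial R)) Polynomial.X
    rw [Polynomial.eval₂_C_X] at h0
    rw [hρ]
    exact h0.symm
  have h2 : Polynomial.eval₂ ρ Polynomial.X Φ = Φ.map Polynomial.C := by
    rw [hρ]; rfl
  have h3 : Polynomial.eval₂ ρ (Polynomial.C Polynomial.X * Polynomial.X) Φ =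
      ∑ i ∈ Finset.range (max Φ.natDegree s + 1),
        Polynomial.C (Polynomial.C (Φ.coeff i) * Polynomial.X ^ i) * Polynomial.X ^ i := by
    rw [Polynomial.eval₂_eq_sum_range' ρ (Nat.lt_succ_of_le (le_max_left _ _))]
    refine Finset.sum_congr rfl fun i _ => ?_
    rw [mul_pow, ← map_pow, ← mul_assoc]
    congr 1
    rw [hρ, map_mul]
    rfl
  rw [h1, h2, h3] at hdet
  have h4 := congrArg (fun p => Polynomial.coeff p s) hdet
  have hL : (Polynomial.C Φ * Φ.map Polynomial.C).coeff s = Φ * Polynomial.C (Φ.coeff s) := by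
    rw [Polynomial.coeff_C_mul, Polynomial.coeff_map]
  have hR : (∑ i ∈ Finset.range (max Φ.natDegree s + 1),
      Polynomial.C (Polynomial.C (Φ.coeff i) * Polynomial.X ^ i) * Polynomial.X ^ i).coeff s =
      Polynomial.C (Φ.coeff s) * Polynomial.X ^ s := by
    rw [Polynomial.finsetSum_coeff]
    simp only [Polynomial.coeff_C_mul_X_pow]
    rw [Finset.sum_ite_eq, if_pos (Finset.mem_range.2 (Nat.lt_succ_of_le (le_max_right _ _)))]
  exact hL.symm.trans (h4.trans hR)

/-- `e_r det(1 - (1-g)E) = e_r g^r` after any ring map. -/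
theorem rk_orth_eval {R₂ : Type*} [CommRing R₂] (ρ : R →+* R₂) (g : R₂)
    (E : Matrix (Fin n) (Fin n) R) (hE : E * E = E) (s : ℕ) :
    (1 - (1 - g) • E.map ρ).det * ρ ((rkPoly E).coeff s) = ρ ((rkPoly E).coeff s) * g ^ s := by
  rw [det_rk]
  have h := congrArg (Polynomial.eval₂ ρ g) (rk_orth E hE s)
  rw [Polynomial.eval₂_mul, Polynomial.eval₂_mul, Polynomial.eval₂_C, Polynomial.eval₂_pow,
    Polynomial.eval₂_X] at h
  exact h

theorem rk_sum {R₂ : Type*} [CommRing R₂] (ρ : R →+* R₂) (E : Matrix (Fin n) (Fin n) R) :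
    ∑ r ∈ Finset.range ((rkPoly E).natDegree + 1), ρ ((rkPoly E).coeff r) = 1 := by
  have h := det_rk ρ (1 : R₂) E
  rw [sub_self, zero_smul, sub_zero, Matrix.det_one,
    Polynomial.eval₂_eq_sum_range] at h
  rw [h]
  refine Finset.sum_congr rfl fun r _ => ?_
  rw [one_pow, mul_one]

end Idem

section Gen

variable {A B P : Type u} [CommRing A] [CommRing B] [CommRing P] [Algebra A B]

/-- The generic matrix `∑ q_t N(y_t)`. -/
noncomputable def genN {n : ℕ} (π : (Fin n → A) →ₗ[A] B) (l : B →ₗ[A] (Fin n → A))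
    {κ σ : Type u} (T : Finset κ) (y : κ → B) (q : κ → MvPolynomial σ A) :
    Matrix (Fin n) (Fin n) (MvPolynomial σ A) :=
  Matrix.of fun j k => ∑ t ∈ T, q t * MvPolynomial.C (Nmat π l (y t) j k)

theorem genD_inv (𝔖 : PS A B P) {n : ℕ} (π : (Fin n → A) →ₗ[A] B) (l : B →ₗ[A] (Fin n → A))
    (hπl : π ∘ₗ l = LinearMap.id) {κ σ : Type u} (T : Finset κ) (y : κ → B)
    (hy : ∀ t, 𝔖.c (y t) = 𝔖.p0 (y t)) (q : κ → MvPolynomial σ A)
    (hq : ∀ t, MvPolynomial.map 𝔖.τ (q t) = MvPolynomial.map (algebraMap A B) (q t)) :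
    MvPolynomial.map 𝔖.τ (1 - genN π l T y q).det =
      MvPolynomial.map (algebraMap A B) (1 - genN π l T y q).det := by
  classical
  obtain ⟨Y, hY⟩ := fac 𝔖 π l hπl
  choose Xf hXf1 hXf2 using fun t => hY (y t) (hy t)
  obtain ⟨𝒵, h𝒵⟩ : ∃ 𝒵 : Matrix (Fin n) (Fin n) (MvPolynomial σ B), 𝒵 =
    Matrix.of fun j k => ∑ t ∈ T, MvPolynomial.map 𝔖.τ (q t) * MvPolynomial.C (Xf t j k) :=
    ⟨_, rfl⟩
  have hτ : (genN π l T y q).map (MvPolynomial.map 𝔖.τ) = 𝒵 * Y.map MvPolynomial.C := by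
    refine Matrix.ext fun j k => ?_
    have h1 : ∀ t, 𝔖.τ (Nmat π l (y t) j k) = ∑ x, Xf t j x * Y x k := by
      intro t
      have h2 := congrFun (congrFun (hXf1 t) j) k
      rw [Matrix.map_apply, Matrix.mul_apply] at h2
      exact h2
    rw [h𝒵]
    simp only [genN, Matrix.map_apply, Matrix.of_apply, Matrix.mul_apply, map_sum, map_mul,
      MvPolynomial.map_C, h1, Finset.mul_sum, Finset.sum_mul]
    rw [Finset.sum_comm]
    refine Finset.sum_congr rfl fun x _ => Finset.sum_congr rfl fun t _ => ?_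
    ring
  have hσ : (genN π l T y q).map (MvPolynomial.map (algebraMap A B)) =
      Y.map MvPolynomial.C * 𝒵 := by
    refine Matrix.ext fun j k => ?_
    have h1 : ∀ t, algebraMap A B (Nmat π l (y t) j k) = ∑ x, Y j x * Xf t x k := by
      intro t
      have h2 := congrFun (congrFun (hXf2 t) j) k
      rw [Matrix.map_apply, Matrix.mul_apply] at h2
      exact h2
    rw [h𝒵]
    simp only [genN, Matrix.map_apply, Matrix.of_apply, Matrix.mul_apply, map_sum, map_mul,
      MvPolynomial.map_C, h1, Finset.mul_sum, Finset.sum_mul, ← hq]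
    rw [Finset.sum_comm]
    refine Finset.sum_congr rfl fun x _ => Finset.sum_congr rfl fun t _ => ?_
    ring
  rw [RingHom.map_det, RingHom.map_det, map_sub, map_sub, map_one, map_one,
    RingHom.mapMatrix_apply, RingHom.mapMatrix_apply, hτ, hσ, Matrix.det_one_sub_mul_comm]

theorem genD_eval {n : ℕ} (π : (Fin n → A) →ₗ[A] B) (l : B →ₗ[A] (Fin n → A))
    {κ σ : Type u} (T : Finset κ) (y : κ → B) (q : κ → MvPolynomial σ A)
    {R₂ : Type*} [CommRing R₂] (φ : A →+* R₂) (v : σ → R₂) :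
    MvPolynomial.eval₂Hom φ v (1 - genN π l T y q).det =
      (1 - Matrix.of fun j k => ∑ t ∈ T, MvPolynomial.eval₂Hom φ v (q t) *
        φ (Nmat π l (y t) j k)).det := by
  rw [RingHom.map_det, map_sub, map_one, RingHom.mapMatrix_apply]
  congr 2
  refine Matrix.ext fun j k => ?_
  simp only [genN, Matrix.map_apply, Matrix.of_apply, map_sum, map_mul, MvPolynomial.eval₂Hom_C]

end Gen

section Main

variable {A B P : Type u} [CommRing A] [CommRing B] [CommRing P] [Algebra A B]
  {C : Type u} [CommRing C] [Algebra C A] [Algebra C B] [IsScalarTower C A B]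

theorem det_one_sub_E (𝔖 : PS A B P) {n : ℕ} (π : (Fin n → A) →ₗ[A] B)
    (l : B →ₗ[A] (Fin n → A)) (hπl : π ∘ₗ l = LinearMap.id) : (1 - Nmat π l 1).det = 0 := by
  classical
  have hπl' : ∀ x, π (l x) = x := fun x => LinearMap.congr_fun hπl x
  have hEu : (Nmat π l 1).mulVec (l 1) = l 1 := by
    show (LinearMap.toMatrix' (l ∘ₗ LinearMap.mulLeft A 1 ∘ₗ π)).mulVec (l 1) = l 1
    rw [LinearMap.toMatrix'_mulVec]
    simp only [LinearMap.comp_apply, LinearMap.mulLeft_apply, hπl', one_mul]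
  have h1 : (1 - Nmat π l 1).mulVec (l 1) = 0 := by
    rw [Matrix.sub_mulVec, Matrix.one_mulVec, hEu, sub_self]
  have h2 : ((1 - Nmat π l 1).adjugate * (1 - Nmat π l 1)).mulVec (l 1) =
      (1 - Nmat π l 1).det • l 1 := by
    rw [Matrix.adjugate_mul, Matrix.smul_mulVec, Matrix.one_mulVec]
  rw [← Matrix.mulVec_mulVec, h1, Matrix.mulVec_zero] at h2
  have h3 : ∑ i, 𝔖.ε (π (Pi.single i 1)) * l (1 : B) i = 1 :=
    (eps_sum 𝔖 π l hπl 1).trans (map_one 𝔖.ε)
  calc (1 - Nmat π l 1).det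
      = (1 - Nmat π l 1).det * ∑ i, 𝔖.ε (π (Pi.single i 1)) * l 1 i := by rw [h3, mul_one]
    _ = ∑ i, 𝔖.ε (π (Pi.single i 1)) * ((1 - Nmat π l 1).det • l 1) i := by
        rw [Finset.mul_sum]
        refine Finset.sum_congr rfl fun i _ => ?_
        rw [Pi.smul_apply, smul_eq_mul]
        ring
    _ = 0 := by rw [← h2]; simp

theorem partA (𝔖 : PS A B P) [Module.Finite A B] [Module.Projective A B]
    (hC : ∀ a : A, algebraMap A B a = 𝔖.τ a → ∃ c : C, algebraMap C A c = a)
    (C' : Type u) [CommRing C'] [Algebra C C']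
    (sT tT : A ⊗[C] C' →ₐ[C] B ⊗[C] C')
    (hsT : ∀ (a : A) (c : C'), sT (a ⊗ₜ c) = algebraMap A B a ⊗ₜ c)
    (htT : ∀ (a : A) (c : C'), tT (a ⊗ₜ c) = 𝔖.τ a ⊗ₜ c)
    (f : A ⊗[C] C') (hf : sT f = tT f) :
    ∃ (m : ℕ) (Pp : Polynomial C'), 0 < m ∧
      Polynomial.map (Algebra.TensorProduct.includeRight : C' →ₐ[C] A ⊗[C] C').toRingHom Pp =
        (Polynomial.X - Polynomial.C f) ^ m := by
  classical
  obtain ⟨n, π, l, -, -, hπl⟩ := Module.Finite.exists_comp_eq_id_of_projective A B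
  obtain ⟨S, hS⟩ := TensorProduct.exists_finset f
  obtain ⟨ιA, hιA⟩ : ∃ ιA : A →+* A ⊗[C] C',
    ιA = (Algebra.TensorProduct.includeLeft : A →ₐ[C] A ⊗[C] C').toRingHom := ⟨_, rfl⟩
  obtain ⟨ιC, hιC⟩ : ∃ ιC : C' →+* A ⊗[C] C',
    ιC = (Algebra.TensorProduct.includeRight : C' →ₐ[C] A ⊗[C] C').toRingHom := ⟨_, rfl⟩
  rw [← hιC]
  have hιA_apply : ∀ a, ιA a = a ⊗ₜ 1 := by intro a; rw [hιA]; rfl
  have hιC_apply : ∀ c, ιC c = 1 ⊗ₜ c := by intro c; rw [hιC]; rfl
  have hcompat : ∀ c : C, ιC (algebraMap C C' c) = ιA (algebraMap C A c) := by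
    intro c
    rw [hιA_apply, hιC_apply, Algebra.algebraMap_eq_smul_one, Algebra.algebraMap_eq_smul_one c,
      TensorProduct.smul_tmul]
  obtain ⟨E, hE⟩ : ∃ E : Matrix (Fin n) (Fin n) A, E = Nmat π l 1 := ⟨_, rfl⟩
  have hsf : sT f = ∑ i ∈ S, algebraMap A B i.1 ⊗ₜ[C] i.2 := by
    rw [hS, map_sum]
    exact Finset.sum_congr rfl fun i _ => hsT _ _
  have htf : tT f = ∑ i ∈ S, 𝔖.τ i.1 ⊗ₜ[C] i.2 := by
    rw [hS, map_sum]
    exact Finset.sum_congr rfl fun i _ => htT _ _
  have hkey : ∀ j k, ∑ i ∈ S, (Nmat π l (𝔖.τ i.1) j k) ⊗ₜ[C] i.2 = f * ιA (E j k) := by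
    intro j k
    let lj : B →ₗ[C] A := ((LinearMap.proj j).comp l).restrictScalars C
    have hlj : ∀ b, lj b = l b j := fun b => rfl
    have e1 : (lj.rTensor C') (tT f * ((π (Pi.single k 1)) ⊗ₜ[C] (1 : C'))) =
        ∑ i ∈ S, (Nmat π l (𝔖.τ i.1) j k) ⊗ₜ[C] i.2 := by
      rw [htf, Finset.sum_mul, map_sum]
      refine Finset.sum_congr rfl fun i _ => ?_
      rw [Algebra.TensorProduct.tmul_mul_tmul, mul_one, LinearMap.rTensor_tmul, hlj, Nmat_apply]
    have e2 : (lj.rTensor C') (sT f * ((π (Pi.single k 1)) ⊗ₜ[C] (1 : C'))) =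
        f * ιA (E j k) := by
      rw [hsf, Finset.sum_mul, map_sum]
      conv_rhs => rw [hS, Finset.sum_mul]
      refine Finset.sum_congr rfl fun i _ => ?_
      rw [Algebra.TensorProduct.tmul_mul_tmul, mul_one, LinearMap.rTensor_tmul, hlj, hιA_apply,
        Algebra.TensorProduct.tmul_mul_tmul, mul_one]
      congr 1
      rw [hE, Nmat_apply, one_mul, ← Algebra.smul_def, map_smul]
      rfl
    rw [← e1, ← e2, hf]
  obtain ⟨y, hy0⟩ : ∃ y : Option (A × C') → B, y = fun o => o.elim 1 (fun i => 𝔖.τ i.1) :=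
    ⟨_, rfl⟩
  obtain ⟨q, hq0⟩ : ∃ q : Option (A × C') → MvPolynomial (Option (A × C')) A,
    q = fun o => o.elim (1 - MvPolynomial.X none) (fun i => MvPolynomial.X (some i)) := ⟨_, rfl⟩
  have hy : ∀ t, 𝔖.c (y t) = 𝔖.p0 (y t) := by
    intro t
    rw [hy0]
    cases t with
    | none => show 𝔖.c 1 = 𝔖.p0 1; rw [map_one, map_one]
    | some i => exact 𝔖.hct i.1
  have hq : ∀ t, MvPolynomial.map 𝔖.τ (q t) = MvPolynomial.map (algebraMap A B) (q t) := by
    intro t
    rw [hq0]
    cases t with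
    | none =>
      show MvPolynomial.map 𝔖.τ (1 - MvPolynomial.X none) =
        MvPolynomial.map (algebraMap A B) (1 - MvPolynomial.X none)
      simp only [map_sub, map_one, MvPolynomial.map_X]
    | some i =>
      show MvPolynomial.map 𝔖.τ (MvPolynomial.X (some i)) =
        MvPolynomial.map (algebraMap A B) (MvPolynomial.X (some i))
      simp only [MvPolynomial.map_X]
  obtain ⟨D, hD⟩ : ∃ D, D = (1 - genN π l (Finset.insertNone S) y q).det := ⟨_, rfl⟩
  have hDinv : MvPolynomial.map 𝔖.τ D = MvPolynomial.map (algebraMap A B) D := by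
    rw [hD]
    exact genD_inv 𝔖 π l hπl _ y hy q hq
  have hspec : ∀ {R₂ : Type u} [CommRing R₂] (φ : A →+* R₂) (x : R₂) (v : A × C' → R₂),
      MvPolynomial.eval₂Hom φ (fun o => o.elim x v) D =
        (1 - Matrix.of fun j k => (1 - x) * φ (E j k) +
          ∑ i ∈ S, v i * φ (Nmat π l (𝔖.τ i.1) j k)).det := by
    intro R₂ _ φ x v
    rw [hD, genD_eval]
    congr 2
    refine Matrix.ext fun j k => ?_
    rw [Matrix.of_apply, Matrix.of_apply, Finset.sum_insertNone]
    congr 1
    · rw [hq0, hy0]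
      show MvPolynomial.eval₂Hom φ _ (1 - MvPolynomial.X none) * φ (Nmat π l 1 j k) = _
      rw [map_sub, map_one, MvPolynomial.eval₂Hom_X', hE]
      rfl
    · refine Finset.sum_congr rfl fun i _ => ?_
      rw [hq0, hy0]
      show MvPolynomial.eval₂Hom φ _ (MvPolynomial.X (some i)) * _ = _
      rw [MvPolynomial.eval₂Hom_X']
      rfl
  obtain ⟨DC, hDC⟩ : ∃ DC : MvPolynomial (Option (A × C')) C,
      MvPolynomial.map (algebraMap C A) DC = D := by
    apply MvPolynomial.mem_range_map_iff_coeffs_subset.2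
    intro z hz
    obtain ⟨m, -, rfl⟩ := MvPolynomial.mem_coeffs_iff.1 (Finset.mem_coe.1 hz)
    have h1 := congrArg (MvPolynomial.coeff m) hDinv
    rw [MvPolynomial.coeff_map, MvPolynomial.coeff_map] at h1
    exact hC _ h1.symm
  obtain ⟨ΦC, hΦC⟩ : ∃ ΦC : Polynomial C, ΦC.map (algebraMap C A) = rkPoly E := by
    refine ⟨MvPolynomial.eval₂Hom (Polynomial.C : C →+* Polynomial C)
      (fun o => o.elim Polynomial.X (fun _ => 0)) DC, ?_⟩
    have h1 := hspec (Polynomial.C : A →+* Polynomial A) Polynomial.X (fun _ => 0)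
    rw [← hDC, MvPolynomial.coe_eval₂Hom, MvPolynomial.eval₂_map] at h1
    have h2 : Polynomial.map (algebraMap C A) (MvPolynomial.eval₂Hom
        (Polynomial.C : C →+* Polynomial C) (fun o => o.elim Polynomial.X (fun _ => 0)) DC) =
        MvPolynomial.eval₂ ((Polynomial.C).comp (algebraMap C A))
          (fun o => o.elim Polynomial.X (fun _ => 0)) DC := by
      rw [MvPolynomial.coe_eval₂Hom]
      have h3 := MvPolynomial.eval₂_comp_left (Polynomial.mapRingHom (algebraMap C A))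
        (Polynomial.C : C →+* Polynomial C)
        (fun o : Option (A × C') => o.elim Polynomial.X (fun _ => 0)) DC
      rw [Polynomial.coe_mapRingHom] at h3
      rw [h3]
      congr 1
      · ext c
        simp
      · funext o
        cases o <;> simp
    rw [h2, h1]
    unfold rkPoly
    congr 2
    refine Matrix.ext fun j k => ?_
    simp [Matrix.smul_apply, Matrix.map_apply]
  obtain ⟨P₀, hP₀⟩ : ∃ P₀ : Polynomial C', P₀.map ιC =
      (1 - ((1 : Polynomial (A ⊗[C] C')) - (Polynomial.X - Polynomial.C f)) •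
        E.map ((Polynomial.C).comp ιA)).det := by
    refine ⟨MvPolynomial.eval₂Hom ((Polynomial.C).comp (algebraMap C C'))
      (fun o => o.elim Polynomial.X (fun i => Polynomial.C i.2)) DC, ?_⟩
    have h1 := hspec ((Polynomial.C).comp ιA) Polynomial.X (fun i => Polynomial.C (ιC i.2))
    rw [← hDC, MvPolynomial.coe_eval₂Hom, MvPolynomial.eval₂_map] at h1
    have h2 : Polynomial.map ιC (MvPolynomial.eval₂Hom ((Polynomial.C).comp (algebraMap C C'))
        (fun o => o.elim Polynomial.X (fun i => Polynomial.C i.2)) DC) =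
        MvPolynomial.eval₂ (((Polynomial.C).comp ιA).comp (algebraMap C A))
          (fun o => o.elim Polynomial.X (fun i => Polynomial.C (ιC i.2))) DC := by
      rw [MvPolynomial.coe_eval₂Hom]
      have h3 := MvPolynomial.eval₂_comp_left (Polynomial.mapRingHom ιC)
        ((Polynomial.C).comp (algebraMap C C'))
        (fun o : Option (A × C') => o.elim Polynomial.X (fun i => Polynomial.C i.2)) DC
      rw [Polynomial.coe_mapRingHom] at h3
      rw [h3]
      congr 1
      · ext c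
        simp [hcompat]
      · funext o
        cases o <;> simp
    rw [h2, h1]
    congr 2
    refine Matrix.ext fun j k => ?_
    rw [Matrix.of_apply, Matrix.smul_apply, Matrix.map_apply, smul_eq_mul]
    have h4 : ∑ i ∈ S, Polynomial.C (ιC i.2) *
        ((Polynomial.C).comp ιA) (Nmat π l (𝔖.τ i.1) j k) = Polynomial.C (f * ιA (E j k)) := by
      rw [← hkey j k, map_sum]
      refine Finset.sum_congr rfl fun i _ => ?_
      rw [RingHom.comp_apply, ← map_mul, hιC_apply, hιA_apply,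
        Algebra.TensorProduct.tmul_mul_tmul, one_mul, mul_one]
    rw [h4, RingHom.comp_apply, map_mul]
    ring
  obtain ⟨Φ, hΦ⟩ : ∃ Φ, Φ = rkPoly E := ⟨_, rfl⟩
  have hEidem : E * E = E := by
    rw [hE]
    unfold Nmat
    rw [← LinearMap.toMatrix'_comp]
    congr 1
    refine LinearMap.ext fun v => ?_
    simp only [LinearMap.comp_apply, LinearMap.mulLeft_apply, one_mul]
    rw [show π (l (π v)) = π v from LinearMap.congr_fun hπl (π v)]
  have he0 : Φ.coeff 0 = 0 := by
    rw [Polynomial.coeff_zero_eq_eval_zero, hΦ]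
    have h1 := det_rk (RingHom.id A) 0 E
    have h2 : E.map (RingHom.id A) = E := by
      refine Matrix.ext fun i j => ?_
      rfl
    rw [sub_zero, one_smul, h2, Polynomial.eval₂_id] at h1
    rw [← h1, hE]
    exact det_one_sub_E 𝔖 π l hπl
  obtain ⟨ρ, hρ⟩ : ∃ ρ : A →+* Polynomial (A ⊗[C] C'), ρ = (Polynomial.C).comp ιA := ⟨_, rfl⟩
  obtain ⟨g, hg⟩ : ∃ g : Polynomial (A ⊗[C] C'), g = Polynomial.X - Polynomial.C f := ⟨_, rfl⟩
  obtain ⟨Ψ, hΨ⟩ : ∃ Ψ, Ψ = (1 - (1 - g) • E.map ρ).det := ⟨_, rfl⟩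
  have horth : ∀ r, Ψ * ρ (Φ.coeff r) = ρ (Φ.coeff r) * g ^ r := by
    intro r
    rw [hΨ, hΦ]
    exact rk_orth_eval ρ g E hEidem r
  have hpow : ∀ r k, ρ (Φ.coeff r) * Ψ ^ (k + 1) = ρ (Φ.coeff r) * g ^ (r * (k + 1)) := by
    intro r k
    induction k with
    | zero => rw [zero_add, pow_one, mul_one, mul_comm, horth]
    | succ k ih =>
      rw [pow_succ, ← mul_assoc, ih, mul_assoc, mul_comm (g ^ _) Ψ, ← mul_assoc,
        mul_comm (ρ _) Ψ, horth, mul_assoc, ← pow_add]
      congr 2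
      ring
  have hsum : ∑ r ∈ Finset.range (Φ.natDegree + 1), ρ (Φ.coeff r) = 1 := by
    rw [hΦ]
    exact rk_sum ρ E
  refine ⟨Φ.natDegree.factorial, ∑ r ∈ Finset.range (Φ.natDegree + 1),
    Polynomial.C (algebraMap C C' (ΦC.coeff r)) * P₀ ^ (Φ.natDegree.factorial / r),
    Nat.factorial_pos _, ?_⟩
  rw [Polynomial.map_sum]
  have hterm : ∀ r ∈ Finset.range (Φ.natDegree + 1),
      Polynomial.map ιC (Polynomial.C (algebraMap C C' (ΦC.coeff r)) *
        P₀ ^ (Φ.natDegree.factorial / r)) = ρ (Φ.coeff r) * g ^ Φ.natDegree.factorial := by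
    intro r hr
    have hcoef : Polynomial.C (ιC (algebraMap C C' (ΦC.coeff r))) = ρ (Φ.coeff r) := by
      rw [hcompat, hρ, RingHom.comp_apply, hΦ, ← hΦC, Polynomial.coeff_map]
    rw [Polynomial.map_mul, Polynomial.map_pow, Polynomial.map_C, hcoef, hP₀, ← hρ, ← hg, ← hΨ]
    rcases Nat.eq_zero_or_pos r with h0 | hpos
    · subst h0
      rw [he0, map_zero, zero_mul, zero_mul]
    · have hle : r ≤ Φ.natDegree := Nat.lt_succ_iff.1 (Finset.mem_range.1 hr)
      have hdvd : r ∣ Φ.natDegree.factorial := Nat.dvd_factorial hpos hle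
      obtain ⟨k, hk⟩ : ∃ k, Φ.natDegree.factorial / r = k + 1 := by
        have h5 : 0 < Φ.natDegree.factorial / r :=
          Nat.div_pos (Nat.le_of_dvd (Nat.factorial_pos _) hdvd) hpos
        exact ⟨Φ.natDegree.factorial / r - 1, by omega⟩
      rw [hk, hpow, ← hk, Nat.mul_div_cancel' hdvd]
  rw [Finset.sum_congr rfl hterm, ← Finset.sum_mul, hsum, one_mul, hg]

theorem partB [Algebra.IsIntegral C A] (hinj : Function.Injective (algebraMap C A))
    (C' : Type u) [CommRing C'] [Algebra C C'] (c : C')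
    (hc : (Algebra.TensorProduct.includeRight : C' →ₐ[C] A ⊗[C] C') c = 0) : IsNilpotent c := by
  rw [nilpotent_iff_mem_prime]
  intro J hJ
  haveI := hJ
  let k := AlgebraicClosure (FractionRing (C' ⧸ J))
  let φ' : C' →+* k := (algebraMap (FractionRing (C' ⧸ J)) k).comp
    ((algebraMap (C' ⧸ J) (FractionRing (C' ⧸ J))).comp (Ideal.Quotient.mk J))
  have hφ' : ∀ x, φ' x = 0 ↔ x ∈ J := by
    intro x
    show algebraMap (FractionRing (C' ⧸ J)) k
      (algebraMap (C' ⧸ J) (FractionRing (C' ⧸ J)) (Ideal.Quotient.mk J x)) = 0 ↔ _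
    rw [map_eq_zero, IsFractionRing.to_map_eq_zero_iff, Ideal.Quotient.eq_zero_iff_mem]
  obtain ⟨φ₁, hφ₁⟩ := lift_geom (C := C) (A := A) hinj (φ'.comp (algebraMap C C'))
  letI : Algebra C k := (φ'.comp (algebraMap C C')).toAlgebra
  let fA : A →ₐ[C] k := { φ₁ with commutes' := fun r => RingHom.congr_fun hφ₁ r }
  let fC : C' →ₐ[C] k := { φ' with commutes' := fun r => rfl }
  have h1 := congrArg (Algebra.TensorProduct.productMap fA fC) hc
  rw [map_zero] at h1
  have h2 : Algebra.TensorProduct.productMap fA fC ((1 : A) ⊗ₜ[C] c) = φ' c := by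
    rw [Algebra.TensorProduct.productMap_apply_tmul, map_one, one_mul]
    rfl
  exact (hφ' c).1 (h2.symm.trans h1)

theorem partC (𝔖 : PS A B P)
    (hC : ∀ a : A, algebraMap A B a = 𝔖.τ a → ∃ c : C, algebraMap C A c = a)
    (hC' : ∀ c : C, algebraMap A B (algebraMap C A c) = 𝔖.τ (algebraMap C A c))
    (hinj : Function.Injective (algebraMap C A))
    (C' : Type u) [CommRing C'] [Algebra C C'] [Module.Flat C C']
    (sT tT : A ⊗[C] C' →ₐ[C] B ⊗[C] C')
    (hsT : ∀ (a : A) (c : C'), sT (a ⊗ₜ c) = algebraMap A B a ⊗ₜ c)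
    (htT : ∀ (a : A) (c : C'), tT (a ⊗ₜ c) = 𝔖.τ a ⊗ₜ c) :
    Function.Injective (Algebra.TensorProduct.includeRight : C' →ₐ[C] A ⊗[C] C') ∧
      ∀ f, sT f = tT f →
        f ∈ Set.range (Algebra.TensorProduct.includeRight : C' →ₐ[C] A ⊗[C] C') := by
  let i : C →ₗ[C] A := Algebra.linearMap C A
  let τl : A →ₗ[C] B :=
    { toFun := 𝔖.τ
      map_add' := map_add _
      map_smul' := fun c a => by
        show 𝔖.τ (c • a) = c • 𝔖.τ a
        rw [Algebra.smul_def, map_mul, ← hC' c, Algebra.smul_def,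
          IsScalarTower.algebraMap_apply C A B] }
  let σl : A →ₗ[C] B := (Algebra.linearMap A B).restrictScalars C
  let d : A →ₗ[C] B := σl - τl
  have hexact : Function.Exact i d := by
    intro a
    constructor
    · intro ha
      have h1 : algebraMap A B a = 𝔖.τ a := sub_eq_zero.1 ha
      exact hC a h1
    · rintro ⟨c, rfl⟩
      show algebraMap A B (algebraMap C A c) - 𝔖.τ (algebraMap C A c) = 0
      rw [hC' c, sub_self]
  have hex' := Module.Flat.rTensor_exact C' hexact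
  have hd : ∀ f, (d.rTensor C') f = sT f - tT f := by
    intro f
    induction f using TensorProduct.induction_on with
    | zero => simp
    | tmul a c =>
      rw [LinearMap.rTensor_tmul, hsT, htT, ← TensorProduct.sub_tmul]
      rfl
    | add x y hx hy =>
      rw [map_add, map_add, map_add, hx, hy]
      abel
  have hi : ∀ z : C ⊗[C] C', (i.rTensor C') z =
      (Algebra.TensorProduct.includeRight : C' →ₐ[C] A ⊗[C] C') (TensorProduct.lid C C' z) := by
    intro z
    induction z using TensorProduct.induction_on with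
    | zero => simp
    | tmul x c =>
      rw [LinearMap.rTensor_tmul, TensorProduct.lid_tmul]
      show (algebraMap C A x) ⊗ₜ[C] c = 1 ⊗ₜ[C] (x • c)
      rw [Algebra.algebraMap_eq_smul_one, TensorProduct.smul_tmul]
    | add x y hx hy => rw [map_add, map_add, map_add, hx, hy]
  constructor
  · have h1 := Module.Flat.rTensor_preserves_injective_linearMap (M := C') i hinj
    intro c₁ c₂ h12
    have h2 : (i.rTensor C') ((TensorProduct.lid C C').symm c₁) =
        (i.rTensor C') ((TensorProduct.lid C C').symm c₂) := by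
      rw [hi, hi, LinearEquiv.apply_symm_apply, LinearEquiv.apply_symm_apply]
      exact h12
    exact (TensorProduct.lid C C').symm.injective (h1 h2)
  · intro f hf
    have h0 : (d.rTensor C') f = 0 := by rw [hd, hf, sub_self]
    obtain ⟨z, hz⟩ := (hex' f).1 h0
    exact ⟨TensorProduct.lid C C' z, by rw [← hi, hz]⟩

end Main

end Groth.Agent.Lib.Helper76.QuotBC
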