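import Mathlib
import Groth.Prelude.Def_Curv2
import Groth.Agent.Lib.Helper62.BCStalk
import Groth.Agent.Lib.Helper83.FlatLocalDim

/-!
# Regularity of local rings and base change to the completion of a Noetherian local base
-/

set_option autoImplicit false

universe u

open AlgebraicGeometry CategoryTheory CategoryTheory.Limits IsLocalRing TensorProduct

namespace Groth.Agent.Lib.Helper76.RegCpl

section alg

variable (A : Type u) [CommRing A] [IsLocalRing A] [IsNoetherianRing A]
  (O : Type u) [CommRing O] [IsLocalRing O] [Algebra A O]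

local notation "Ac" => AdicCompletion (maximalIdeal A) A

theorem tmul_one_mem {o : O} (ho : o ∈ maximalIdeal O) :
    (o ⊗ₜ[A] (1 : Ac)) ∈ (maximalIdeal O).map (algebraMap O (O ⊗[A] Ac)) := by
  have h := Ideal.mem_map_of_mem (algebraMap O (O ⊗[A] Ac)) ho
  rwa [Algebra.TensorProduct.algebraMap_apply, Algebra.algebraMap_self, RingHom.id_apply] at h

theorem tmul_algebraMap (o : O) (a : A) :
    o ⊗ₜ[A] (algebraMap A Ac a) = (algebraMap A O a * o) ⊗ₜ[A] (1 : Ac) := by
  rw [Algebra.algebraMap_eq_smul_one, TensorProduct.tmul_smul, TensorProduct.smul_tmul',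
    Algebra.smul_def]

/-- every element of `O ⊗ Â` is congruent to some `o ⊗ 1` modulo `𝔪_O (O ⊗ Â)` -/
theorem exists_sub_mem (hloc : ∀ a ∈ maximalIdeal A, algebraMap A O a ∈ maximalIdeal O)
    (t : O ⊗[A] Ac) :
    ∃ o : O, t - o ⊗ₜ[A] (1 : Ac) ∈ (maximalIdeal O).map (algebraMap O (O ⊗[A] Ac)) := by
  classical
  set J := (maximalIdeal O).map (algebraMap O (O ⊗[A] Ac)) with hJ
  have fg : (maximalIdeal A).FG := IsNoetherian.noetherian _
  have h1 : ∀ (o : O) (c : Ac), c ∈ (maximalIdeal A).map (algebraMap A Ac) → o ⊗ₜ[A] c ∈ J := by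
    intro o c hc
    refine Submodule.span_induction (p := fun c _ => o ⊗ₜ[A] c ∈ J) ?_ ?_ ?_ ?_ hc
    · rintro _ ⟨m, hm, rfl⟩
      rw [tmul_algebraMap]
      exact tmul_one_mem A O (Ideal.mul_mem_right _ _ (hloc m hm))
    · rw [TensorProduct.tmul_zero]; exact J.zero_mem
    · intro x y _ _ hx hy; rw [TensorProduct.tmul_add]; exact J.add_mem hx hy
    · intro b x _ hx
      have h2 : o ⊗ₜ[A] (b • x) = ((1 : O) ⊗ₜ[A] b) * (o ⊗ₜ[A] x) := by
        rw [Algebra.TensorProduct.tmul_mul_tmul, one_mul, smul_eq_mul]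
      rw [h2]
      exact J.mul_mem_left _ hx
  induction t using TensorProduct.induction_on with
  | zero => exact ⟨0, by simp⟩
  | tmul o c =>
    obtain ⟨a, ha⟩ := Ideal.Quotient.mk_surjective (AdicCompletion.evalOneₐ (maximalIdeal A) c)
    have hker : c - algebraMap A Ac a ∈ (maximalIdeal A).map (algebraMap A Ac) := by
      rw [← AdicCompletion.ker_evalOneₐ_eq_map _ fg, RingHom.mem_ker]
      have h3 : (AdicCompletion.evalOneₐ (maximalIdeal A)) (algebraMap A Ac a) =
          Ideal.Quotient.mk _ a := by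
        rw [AlgHom.commutes]; rfl
      change (AdicCompletion.evalOneₐ (maximalIdeal A)) (c - algebraMap A Ac a) = 0
      rw [map_sub, h3, ha, sub_self]
    refine ⟨algebraMap A O a * o, ?_⟩
    have h4 : o ⊗ₜ[A] c - (algebraMap A O a * o) ⊗ₜ[A] (1 : Ac) =
        o ⊗ₜ[A] (c - algebraMap A Ac a) := by
      rw [TensorProduct.tmul_sub, tmul_algebraMap]
    rw [h4]
    exact h1 o _ hker
  | add x y hx hy =>
    obtain ⟨o₁, h₁⟩ := hx
    obtain ⟨o₂, h₂⟩ := hy
    refine ⟨o₁ + o₂, ?_⟩
    have h5 : x + y - (o₁ + o₂) ⊗ₜ[A] (1 : Ac) =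
        (x - o₁ ⊗ₜ[A] (1 : Ac)) + (y - o₂ ⊗ₜ[A] (1 : Ac)) := by
      rw [TensorProduct.add_tmul]; abel
    rw [h5]
    exact J.add_mem h₁ h₂

theorem prime_eq_map (hloc : ∀ a ∈ maximalIdeal A, algebraMap A O a ∈ maximalIdeal O)
    (M' : Ideal (O ⊗[A] Ac)) [M'.IsPrime]
    (hM' : M'.comap (algebraMap O (O ⊗[A] Ac)) = maximalIdeal O) :
    M' = (maximalIdeal O).map (algebraMap O (O ⊗[A] Ac)) := by
  have hJle : (maximalIdeal O).map (algebraMap O (O ⊗[A] Ac)) ≤ M' := by
    rw [Ideal.map_le_iff_le_comap, hM']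
  apply le_antisymm _ hJle
  intro t ht
  obtain ⟨o, ho⟩ := exists_sub_mem A O hloc t
  have h1 : o ⊗ₜ[A] (1 : Ac) ∈ M' := by
    have h := M'.sub_mem ht (hJle ho)
    rwa [sub_sub_cancel] at h
  have h2 : o ∈ maximalIdeal O := by
    rw [← hM', Ideal.mem_comap, Algebra.TensorProduct.algebraMap_apply, Algebra.algebraMap_self,
      RingHom.id_apply]
    exact h1
  have h3 := Ideal.add_mem _ ho (tmul_one_mem A O h2)
  rwa [sub_add_cancel] at h3

theorem regular_iff [IsNoetherianRing O]
    (hloc : ∀ a ∈ maximalIdeal A, algebraMap A O a ∈ maximalIdeal O)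
    (M' : Ideal (O ⊗[A] Ac)) [M'.IsPrime]
    (hM' : M'.comap (algebraMap O (O ⊗[A] Ac)) = maximalIdeal O)
    [IsNoetherianRing (Localization.AtPrime M')] :
    IsRegularLocalRing O ↔ IsRegularLocalRing (Localization.AtPrime M') := by
  haveI : Module.Flat O (O ⊗[A] Ac) := inferInstance
  haveI : Module.Flat (O ⊗[A] Ac) (Localization.AtPrime M') :=
    IsLocalization.flat _ M'.primeCompl
  haveI : Module.Flat O (Localization.AtPrime M') := Module.Flat.trans O (O ⊗[A] Ac) _
  apply Groth.Agent.Lib.Helper83.isRegularLocalRing_iff_of_flat_of_map_maximalIdeal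
  have h1 : maximalIdeal (Localization.AtPrime M') =
      Ideal.map (algebraMap (O ⊗[A] Ac) (Localization.AtPrime M')) M' :=
    (IsLocalization.AtPrime.map_eq_maximalIdeal M' _).symm
  have h2 : Ideal.map (algebraMap (O ⊗[A] Ac) (Localization.AtPrime M')) M' =
      Ideal.map (algebraMap (O ⊗[A] Ac) (Localization.AtPrime M'))
        ((maximalIdeal O).map (algebraMap O (O ⊗[A] Ac))) :=
    congrArg _ (prime_eq_map A O hloc M' hM')
  rw [h1, h2, Ideal.map_map, ← IsScalarTower.algebraMap_eq]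

end alg

section scheme

open Groth.Agent.Lib.Helper62.BCStalk

variable (A : Type u) [CommRing A] [IsLocalRing A] [IsNoetherianRing A]
  {X : Scheme.{u}} (f : X ⟶ Spec (CommRingCat.of A))

/-- over the closed point the structure map `A → O_{X,x}` is local -/
theorem stalkStr_mem (x : X) (hx : f.base x = closedPoint A) (a : A) (ha : a ∈ maximalIdeal A) :
    stalkStr f x a ∈ maximalIdeal (X.presheaf.stalk x) := by
  rw [IsLocalRing.mem_maximalIdeal, mem_nonunits_iff]
  intro hu
  have h1 : x ∈ X.basicOpen (f.appTop ((Scheme.ΓSpecIso (CommRingCat.of A)).inv a)) :=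
    (X.mem_basicOpen_top _ x).mpr hu
  rw [← Scheme.preimage_basicOpen_top, basicOpen_eq_of_affine] at h1
  have h2 : f.base x ∈ PrimeSpectrum.basicOpen a := h1
  rw [hx] at h2
  exact h2 ha

theorem regular_iff_scheme [LocallyOfFiniteType f]
    (y : Curv2.bcCpl A f)
    (hy : (Curv2.bcCplSnd A f).base y = closedPoint (Curv2.cpl A)) :
    IsRegularLocalRing ((Curv2.bcCpl A f).presheaf.stalk y) ↔
      IsRegularLocalRing (X.presheaf.stalk ((Curv2.bcCplFst A f).base y)) := by
  set x := (Curv2.bcCplFst A f).base y with hx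
  haveI : IsNoetherianRing (Curv2.cpl A) :=
    Groth.Agent.Lib.Helper83.isNoetherianRing_adicCompletion _
  haveI : IsLocallyNoetherian X := LocallyOfFiniteType.isLocallyNoetherian f
  haveI : IsLocallyNoetherian (Curv2.bcCpl A f) :=
    LocallyOfFiniteType.isLocallyNoetherian (Curv2.bcCplSnd A f)
  letI algO : Algebra A (X.presheaf.stalk x) := (stalkStr f x).toAlgebra
  have hfx : f.base x = closedPoint A := by
    have hc := congrArg (fun φ => φ.base y) (pullback.condition (f := f)
      (g := Spec.map (CommRingCat.ofHom (algebraMap A (Curv2.cpl A)))))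
    simp only [Scheme.Hom.comp_base, TopCat.hom_comp, ContinuousMap.comp_apply] at hc
    have hc' : f.base x = (Spec.map (CommRingCat.ofHom (algebraMap A (Curv2.cpl A)))).base
        ((Curv2.bcCplSnd A f).base y) := hc
    rw [hc', hy]
    exact IsLocalRing.comap_closedPoint (algebraMap A (Curv2.cpl A))
  have hloc : ∀ a ∈ maximalIdeal A,
      algebraMap A (X.presheaf.stalk x) a ∈ maximalIdeal (X.presheaf.stalk x) :=
    fun a ha => stalkStr_mem A f x hfx a ha
  obtain ⟨M, hMprime, hMc, ⟨e⟩⟩ := exists_prime_of_point f (Curv2.cpl A) y x hx.symm rfl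
  let c : (X.presheaf.stalk x) ⊗[A] (Curv2.cpl A) ≃+* (Curv2.cpl A) ⊗[A] (X.presheaf.stalk x) :=
    (Algebra.TensorProduct.comm A (X.presheaf.stalk x) (Curv2.cpl A)).toRingEquiv
  have hc1 : ∀ o : X.presheaf.stalk x, c (o ⊗ₜ[A] (1 : Curv2.cpl A)) = (1 : Curv2.cpl A) ⊗ₜ[A] o :=
    fun o => Algebra.TensorProduct.comm_tmul A o 1
  let M' : Ideal ((X.presheaf.stalk x) ⊗[A] (Curv2.cpl A)) := M.comap c.toRingHom
  haveI : M'.IsPrime := Ideal.comap_isPrime _ _
  have hM' : M'.comap (algebraMap (X.presheaf.stalk x) ((X.presheaf.stalk x) ⊗[A] (Curv2.cpl A))) =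
      maximalIdeal (X.presheaf.stalk x) := by
    rw [← hMc]
    ext o
    simp only [Ideal.mem_comap, M']
    rw [Algebra.TensorProduct.algebraMap_apply, Algebra.algebraMap_self, RingHom.id_apply]
    change c (o ⊗ₜ[A] (1 : Curv2.cpl A)) ∈ M ↔ _
    rw [hc1]
    rfl
  let e' : Localization.AtPrime M' ≃+* Localization.AtPrime M :=
    IsLocalization.ringEquivOfRingEquiv (M := M'.primeCompl) (T := M.primeCompl)
      (Localization.AtPrime M') (Localization.AtPrime M) c (by
        ext b
        simp only [Submonoid.mem_map, M']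
        constructor
        · rintro ⟨a, ha, rfl⟩
          exact ha
        · intro hb
          exact ⟨c.symm b, by simpa [Ideal.primeCompl, Ideal.mem_comap] using hb, by simp⟩)
  haveI : IsNoetherianRing (Localization.AtPrime M') :=
    isNoetherianRing_of_ringEquiv _ (e.trans e'.symm)
  rw [regular_iff A (X.presheaf.stalk x) hloc M' hM']
  constructor
  · intro h
    exact IsRegularLocalRing.of_ringEquiv (e.trans e'.symm)
  · intro h
    exact IsRegularLocalRing.of_ringEquiv (R := Localization.AtPrime M') (e.trans e'.symm).symm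

end scheme

end Groth.Agent.Lib.Helper76.RegCpl
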