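import Mathlib
import Groth.Prelude.Def_Curv2
import Groth.Agent.Lib.Helper76.RegCpl
import Groth.Agent.Lib.Helper91.GenPrime
import Groth.Agent.S0564

/-!
# Regularity of a proper scheme over a Noetherian local ring and of its base change to the completion
-/

set_option autoImplicit false

universe u

open AlgebraicGeometry CategoryTheory CategoryTheory.Limits IsLocalRing

namespace Groth.Agent.Lib.Helper76.RegProper

open Groth.Agent.Lib.Helper91.GenPrime

/-- regularity of local rings passes to generizations -/
theorem regular_of_specializes {X : Scheme.{u}} {ζ x : X} (h : ζ ⤳ x)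
    (hx : IsRegularLocalRing (X.presheaf.stalk x)) : IsRegularLocalRing (X.presheaf.stalk ζ) := by
  letI := (X.presheaf.stalkSpecializes h).hom.toAlgebra
  haveI := isLocalization_stalkSpecializes h
  haveI : IsRegularLocalRing (Localization.AtPrime (primeOf h)) :=
    Groth.Agent.S0564.result _ (primeOf h)
  exact IsRegularLocalRing.of_ringEquiv (R := Localization.AtPrime (primeOf h))
    (IsLocalization.algEquiv (primeOf h).primeCompl (Localization.AtPrime (primeOf h))
      (X.presheaf.stalk ζ)).toRingEquiv

/-- every point of a quasi-compact scheme specializes to a closed point -/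
theorem exists_closed_specialization {X : Scheme.{u}} [CompactSpace X] (x : X) :
    ∃ x₀ : X, x ⤳ x₀ ∧ IsClosed ({x₀} : Set X) := by
  obtain ⟨x₀, hx₀, hcl⟩ := (isClosed_closure (s := ({x} : Set X))).exists_closed_singleton
    ⟨x, subset_closure (Set.mem_singleton x)⟩
  exact ⟨x₀, specializes_iff_mem_closure.mpr hx₀, hcl⟩

theorem eq_closedPoint_of_isClosed (R : Type u) [CommRing R] [IsLocalRing R] (p : PrimeSpectrum R)
    (hp : IsClosed ({p} : Set (PrimeSpectrum R))) : p = closedPoint R := by
  have h1 := (PrimeSpectrum.isClosed_singleton_iff_isMaximal p).mp hp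
  exact PrimeSpectrum.ext (IsLocalRing.eq_maximalIdeal h1)

theorem regular_iff_proper (A : Type u) [CommRing A] [IsLocalRing A] [IsNoetherianRing A]
    (X : Scheme.{u}) (f : X ⟶ Spec (CommRingCat.of A)) [IsProper f] :
    (∀ x : X, IsRegularLocalRing (X.presheaf.stalk x)) ↔
      ∀ y : Curv2.bcCpl A f, IsRegularLocalRing ((Curv2.bcCpl A f).presheaf.stalk y) := by
  haveI : CompactSpace X := QuasiCompact.compactSpace_of_compactSpace f
  haveI : IsProper (Curv2.bcCplSnd A f) := by
    unfold Curv2.bcCplSnd
    infer_instance
  haveI : CompactSpace (Curv2.bcCpl A f) :=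
    QuasiCompact.compactSpace_of_compactSpace (Curv2.bcCplSnd A f)
  constructor
  · intro hX y
    obtain ⟨y₀, hy, hcl⟩ := exists_closed_specialization y
    have h1 : IsClosed ({(Curv2.bcCplSnd A f).base y₀} : Set _) := by
      rw [← Set.image_singleton]
      exact (Curv2.bcCplSnd A f).isClosedMap _ hcl
    have h2 : (Curv2.bcCplSnd A f).base y₀ = closedPoint (Curv2.cpl A) :=
      eq_closedPoint_of_isClosed _ _ h1
    exact regular_of_specializes hy ((RegCpl.regular_iff_scheme A f y₀ h2).mpr (hX _))
  · intro hY x
    obtain ⟨x₀, hx, hcl⟩ := exists_closed_specialization x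
    have h1 : IsClosed ({f.base x₀} : Set _) := by
      rw [← Set.image_singleton]
      exact f.isClosedMap _ hcl
    have h2 : f.base x₀ = closedPoint A := eq_closedPoint_of_isClosed _ _ h1
    have h3 : f.base x₀ = (Spec.map (CommRingCat.ofHom (algebraMap A (Curv2.cpl A)))).base
        (closedPoint (Curv2.cpl A)) := by
      rw [h2]
      exact (IsLocalRing.comap_closedPoint (algebraMap A (Curv2.cpl A))).symm
    obtain ⟨y₀, hy1, hy2⟩ := Scheme.Pullback.exists_preimage_pullback
      (f := f) (g := Spec.map (CommRingCat.ofHom (algebraMap A (Curv2.cpl A))))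
      x₀ (closedPoint (Curv2.cpl A)) h3
    have h4 := (RegCpl.regular_iff_scheme A f y₀ hy2).mp (hY y₀)
    have h5 : IsRegularLocalRing (X.presheaf.stalk x₀) := by
      have h6 : (Curv2.bcCplFst A f).base y₀ = x₀ := hy1
      rw [h6] at h4
      exact h4
    exact regular_of_specializes hx h5

end Groth.Agent.Lib.Helper76.RegProper
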