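import Mathlib.LinearAlgebra.Matrix.Transvection
import Mathlib.LinearAlgebra.Matrix.SpecialLinearGroup
import Mathlib.Algebra.Polynomial.AlgebraMap
import Mathlib.Tactic

set_option autoImplicit false
universe u
open Matrix Polynomial

namespace Groth.Agent.Lib.Helper76

variable {n : Type} [DecidableEq n] {K : Type u} [Field K]

/-- the diagonal vector with `a` at `i`, `a⁻¹` at `j`, and `1` elsewhere -/
def hv (i j : n) (a : K) : n → K := Function.update (Function.update (fun _ => (1 : K)) i a) j a⁻¹

theorem hv_apply_i (i j : n) (hij : i ≠ j) (a : K) : hv i j a i = a := by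
  simp [hv, hij]

theorem hv_apply_j (i j : n) (a : K) : hv i j a j = a⁻¹ := by
  simp [hv]

theorem hv_apply_of_ne (i j k : n) (a : K) (hki : k ≠ i) (hkj : k ≠ j) : hv i j a k = 1 := by
  simp [hv, hki, hkj]

/-- Whitehead-type identity: a diagonal matrix `diag(a, a⁻¹)` in positions `i, j` is a product of
four transvections. -/
theorem whitehead [Fintype n] (i j : n) (hij : i ≠ j) (a : K) (ha : a ≠ 0) :
    transvection j i (a⁻¹ - 1) * (transvection i j 1 * (transvection j i (a - 1) *
      transvection i j (-a⁻¹))) = diagonal (hv i j a) := by
  have hji : j ≠ i := hij.symm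
  ext k l
  by_cases hki : k = i
  · subst hki
    rw [transvection_mul_apply_of_ne _ _ _ _ hij, transvection_mul_apply_same,
      transvection_mul_apply_of_ne _ _ _ _ hij, transvection_mul_apply_same]
    simp only [transvection, Matrix.add_apply, Matrix.one_apply, Matrix.single_apply, Matrix.diagonal_apply]
    by_cases hkl : k = l
    · subst hkl
      simp [hv_apply_i _ _ hij, hij, hji]
      all_goals (try field_simp)
      all_goals (try ring)
    · by_cases hjl : j = l
      · subst hjl
        simp [hij, hji]
        all_goals (try field_simp)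
        all_goals (try ring)
      · simp [hkl, hjl]
  · by_cases hkj : k = j
    · subst hkj
      rw [transvection_mul_apply_same, transvection_mul_apply_of_ne _ _ _ _ hki,
        transvection_mul_apply_same, transvection_mul_apply_same,
        transvection_mul_apply_of_ne _ _ _ _ hij, transvection_mul_apply_same]
      simp only [transvection, Matrix.add_apply, Matrix.one_apply, Matrix.single_apply, Matrix.diagonal_apply]
      by_cases hkl : k = l
      · subst hkl
        simp [hv_apply_j, hij, hji]
        all_goals (try field_simp)
        all_goals (try ring)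
      · by_cases hil : i = l
        · subst hil
          simp [hij, hji]
          all_goals (try field_simp)
          all_goals (try ring)
        · simp [hkl, hil]
    · rw [transvection_mul_apply_of_ne _ _ _ _ hkj, transvection_mul_apply_of_ne _ _ _ _ hki,
        transvection_mul_apply_of_ne _ _ _ _ hkj]
      simp only [transvection, Matrix.add_apply, Matrix.one_apply, Matrix.single_apply, Matrix.diagonal_apply]
      by_cases hkl : k = l
      · subst hkl
        simp [hv_apply_of_ne _ _ _ _ hki hkj, Ne.symm hki]
      · simp [hkl, Ne.symm hki]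


section Path
variable [Fintype n]

/-- the subgroup of `SL_n(K)` of elements joined to `1` by a polynomial path -/
noncomputable def pathSubgroup : Subgroup (SpecialLinearGroup n K) :=
  (MonoidHom.ker (SpecialLinearGroup.map (n := n) (Polynomial.evalRingHom (0 : K)))).map
    (SpecialLinearGroup.map (n := n) (Polynomial.evalRingHom (1 : K)))

theorem mem_pathSubgroup_iff (A : SpecialLinearGroup n K) :
    A ∈ pathSubgroup (n := n) (K := K) ↔ ∃ M : SpecialLinearGroup n (Polynomial K),
      SpecialLinearGroup.map (Polynomial.evalRingHom (0 : K)) M = 1 ∧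
      SpecialLinearGroup.map (Polynomial.evalRingHom (1 : K)) M = A := by
  unfold pathSubgroup
  rw [Subgroup.mem_map]
  simp only [MonoidHom.mem_ker]

theorem map_transvection {R S : Type*} [CommRing R] [CommRing S] (f : R →+* S) (i j : n) (c : R) :
    f.mapMatrix (transvection i j c) = transvection i j (f c) := by
  ext k l
  simp only [transvection, RingHom.mapMatrix_apply, Matrix.map_apply, Matrix.add_apply,
    Matrix.one_apply, Matrix.single_apply, map_add]
  split_ifs <;> simp

/-- build an element of `SL` -/
def mkSL {R : Type*} [CommRing R] (M : Matrix n n R) (h : M.det = 1) : SpecialLinearGroup n R :=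
  ⟨M, h⟩

theorem mkSL_coe {R : Type*} [CommRing R] (M : Matrix n n R) (h : M.det = 1) :
    (mkSL M h : Matrix n n R) = M := rfl

/-- a transvection as an element of `SL` -/
def tSL {R : Type*} [CommRing R] (i j : n) (hij : i ≠ j) (c : R) : SpecialLinearGroup n R :=
  mkSL (transvection i j c) (det_transvection_of_ne i j hij c)

theorem tSL_coe {R : Type*} [CommRing R] (i j : n) (hij : i ≠ j) (c : R) :
    (tSL i j hij c : Matrix n n R) = transvection i j c := rfl

theorem tSL_mem (i j : n) (hij : i ≠ j) (c : K) : tSL i j hij c ∈ pathSubgroup (n := n) (K := K) := by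
  rw [mem_pathSubgroup_iff]
  refine ⟨tSL i j hij (Polynomial.C c * Polynomial.X), ?_, ?_⟩
  · apply Subtype.ext
    rw [SpecialLinearGroup.map_apply_coe, tSL_coe, map_transvection, SpecialLinearGroup.coe_one]
    simp
  · apply Subtype.ext
    rw [SpecialLinearGroup.map_apply_coe, tSL_coe, map_transvection, tSL_coe]
    simp

theorem list_prod_mem (L : List (TransvectionStruct n K)) :
    ∃ B : SpecialLinearGroup n K, B ∈ pathSubgroup (n := n) (K := K) ∧
      (B : Matrix n n K) = (L.map TransvectionStruct.toMatrix).prod := by
  induction L with
  | nil => exact ⟨1, Subgroup.one_mem _, by simp⟩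
  | cons t L ih =>
    obtain ⟨B, hB, hBe⟩ := ih
    refine ⟨tSL t.i t.j t.hij t.c * B, Subgroup.mul_mem _ (tSL_mem _ _ _ _) hB, ?_⟩
    rw [SpecialLinearGroup.coe_mul, tSL_coe, hBe]
    simp [TransvectionStruct.toMatrix]

theorem hv_ne_zero (i j : n) (a : K) (ha : a ≠ 0) (k : n) : hv i j a k ≠ 0 := by
  unfold hv
  by_cases hkj : k = j
  · subst hkj; simp [ha]
  · by_cases hki : k = i
    · subst hki; simp [hkj, ha]
    · simp [hkj, hki]

theorem det_diagonal_hv (i j : n) (hij : i ≠ j) (a : K) (ha : a ≠ 0) :
    (diagonal (hv i j a)).det = 1 := by
  rw [← whitehead i j hij a ha]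
  simp [det_transvection_of_ne, hij, hij.symm]

theorem diag_hv_mem (i j : n) (hij : i ≠ j) (a : K) (ha : a ≠ 0) :
    mkSL (diagonal (hv i j a)) (det_diagonal_hv i j hij a ha) ∈
      pathSubgroup (n := n) (K := K) := by
  have : mkSL (diagonal (hv i j a)) (det_diagonal_hv i j hij a ha) =
      tSL j i hij.symm (a⁻¹ - 1) * (tSL i j hij 1 * (tSL j i hij.symm (a - 1) * tSL i j hij (-a⁻¹))) := by
    apply Subtype.ext
    simp only [SpecialLinearGroup.coe_mul, tSL_coe, mkSL_coe]
    exact (whitehead i j hij a ha).symm
  rw [this]
  exact Subgroup.mul_mem _ (tSL_mem _ _ _ _) (Subgroup.mul_mem _ (tSL_mem _ _ _ _)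
    (Subgroup.mul_mem _ (tSL_mem _ _ _ _) (tSL_mem _ _ _ _)))

theorem diag_mem (S : Finset n) : ∀ (d : n → K), (∀ k ∉ S, d k = 1) →
    ∀ h : (diagonal d).det = 1, mkSL (diagonal d) h ∈
      pathSubgroup (n := n) (K := K) := by
  induction S using Finset.induction_on with
  | empty =>
    intro d hd h
    have : d = fun _ => 1 := funext fun k => hd k (Finset.notMem_empty k)
    subst this
    have h1 : mkSL (diagonal (fun _ => (1 : K))) h = 1 := by
      apply Subtype.ext
      rw [mkSL_coe, SpecialLinearGroup.coe_one]
      simp
    rw [h1]
    exact Subgroup.one_mem _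
  | insert i S' hi ih =>
    intro d hd h
    have hdne : ∀ k, d k ≠ 0 := by
      intro k hk
      rw [det_diagonal] at h
      have : ∏ k, d k = 0 := Finset.prod_eq_zero (Finset.mem_univ k) hk
      rw [this] at h
      exact zero_ne_one h
    rcases S'.eq_empty_or_nonempty with hS' | ⟨j, hj⟩
    · subst hS'
      -- then d i = 1 too
      have hdi : d i = 1 := by
        rw [det_diagonal] at h
        rw [← h]
        symm
        apply Finset.prod_eq_single i
        · intro k _ hki
          apply hd
          simpa using hki
        · intro hni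
          exact absurd (Finset.mem_univ i) hni
      have : d = fun _ => 1 := by
        funext k
        by_cases hki : k = i
        · rw [hki, hdi]
        · apply hd
          simpa using hki
      subst this
      have h1 : mkSL (diagonal (fun _ => (1 : K))) h = 1 := by
        apply Subtype.ext
        rw [mkSL_coe, SpecialLinearGroup.coe_one]
        simp
      rw [h1]
      exact Subgroup.one_mem _
    · have hij : i ≠ j := by
        rintro rfl
        exact hi hj
      set a := d i with ha
      have ha0 : a ≠ 0 := hdne i
      set d' : n → K := fun k => hv i j a⁻¹ k * d k with hd'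
      have hdd' : diagonal d = diagonal (hv i j a) * diagonal d' := by
        rw [diagonal_mul_diagonal]
        congr 1
        funext k
        rw [hd']
        simp only
        rw [← mul_assoc]
        have : hv i j a k * hv i j a⁻¹ k = 1 := by
          by_cases hkj : k = j
          · subst hkj
            rw [hv_apply_j, hv_apply_j, inv_inv, inv_mul_cancel₀ ha0]
          · by_cases hki : k = i
            · subst hki
              rw [hv_apply_i _ _ hij, hv_apply_i _ _ hij, mul_inv_cancel₀ ha0]
            · rw [hv_apply_of_ne _ _ _ _ hki hkj, hv_apply_of_ne _ _ _ _ hki hkj, one_mul]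
        rw [this, one_mul]
      have hdet' : (diagonal d').det = 1 := by
        have := congrArg Matrix.det hdd'
        rw [det_mul, h, det_diagonal_hv i j hij a ha0, one_mul] at this
        exact this.symm
      have hd'S : ∀ k ∉ S', d' k = 1 := by
        intro k hk
        rw [hd']
        simp only
        by_cases hki : k = i
        · subst hki
          rw [hv_apply_i _ _ hij, ← ha, inv_mul_cancel₀ ha0]
        · have hkj : k ≠ j := by
            rintro rfl
            exact hk hj
          rw [hv_apply_of_ne _ _ _ _ hki hkj, one_mul]
          apply hd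
          simp [hki, hk]
      have hmem' := ih d' hd'S hdet'
      have hmemh := diag_hv_mem i j hij a ha0
      have : mkSL (diagonal d) h =
          mkSL (diagonal (hv i j a)) (det_diagonal_hv i j hij a ha0) * mkSL (diagonal d') hdet' := by
        apply Subtype.ext
        simp only [SpecialLinearGroup.coe_mul, mkSL_coe]
        exact hdd'
      rw [this]
      exact Subgroup.mul_mem _ hmemh hmem'

theorem pathSubgroup_eq_top : pathSubgroup (n := n) (K := K) = ⊤ := by
  rw [eq_top_iff]
  intro A _
  obtain ⟨L, L', D, hA⟩ := Pivot.exists_list_transvec_mul_diagonal_mul_list_transvec (A : Matrix n n K)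
  obtain ⟨B, hB, hBe⟩ := list_prod_mem (K := K) L
  obtain ⟨B', hB', hBe'⟩ := list_prod_mem (K := K) L'
  have hdet : (diagonal D).det = 1 := by
    have := congrArg Matrix.det hA
    rw [det_mul, det_mul, TransvectionStruct.det_toMatrix_prod, TransvectionStruct.det_toMatrix_prod,
      one_mul, mul_one, A.2] at this
    exact this.symm
  have hAeq : A = B * mkSL (diagonal D) hdet * B' := by
    apply Subtype.ext
    simp only [SpecialLinearGroup.coe_mul, hBe, hBe', mkSL_coe]
    exact hA
  rw [hAeq]
  exact Subgroup.mul_mem _ (Subgroup.mul_mem _ hB (diag_mem Finset.univ D (fun k hk => absurd (Finset.mem_univ k) hk) hdet)) hB'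

end Path

end Groth.Agent.Lib.Helper76
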