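import Mathlib.RingTheory.PowerSeries.WeierstrassPreparation
import Mathlib.RingTheory.PowerSeries.Substitution
import Mathlib.RingTheory.PowerSeries.NoZeroDivisors
import Mathlib.LinearAlgebra.FiniteDimensional.Basic
import Mathlib.Tactic

/-!
# Freeness of `O⟦X⟧` over `O⟦f⟧` for a Weierstrass divisor `f` (helper76)

For a complete local ring `O` and `f ∈ O⟦X⟧` with `f(0) = 0` and `f ≢ 0` modulo the maximal
ideal, of Weierstrass degree `d`, every power series is uniquely `∑_{i<d} c_i(f) X^i`
(`existsUnique_T`).  Conversely if `f ≡ 0` modulo the maximal ideal no finite family generates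
(`not_generated`).
-/

set_option autoImplicit false

namespace Groth.Agent.Lib.Helper76.WeierFree

open PowerSeries

section basic

variable {O : Type*} [CommRing O]

/-- `∑ a_i X^i` -/
noncomputable def S {d : ℕ} (a : Fin d → O) : PowerSeries O := ∑ i : Fin d, C (a i) * X ^ (i : ℕ)

lemma coeff_S {d : ℕ} (a : Fin d → O) (n : ℕ) :
    coeff n (S a) = if h : n < d then a ⟨n, h⟩ else 0 := by
  unfold S
  rw [map_sum]
  simp only [coeff_C_mul_X_pow]
  split_ifs with h
  · rw [Finset.sum_eq_single (⟨n, h⟩ : Fin d)]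
    · simp
    · intro b _ hb
      rw [if_neg]
      intro hn
      apply hb
      ext
      exact hn.symm
    · intro h'
      exact absurd (Finset.mem_univ _) h'
  · apply Finset.sum_eq_zero
    intro i _
    rw [if_neg]
    intro hn
    apply h
    rw [hn]
    exact i.2

lemma exists_poly_S {d : ℕ} (a : Fin d → O) :
    ∃ P : Polynomial O, P.degree < d ∧ (P : PowerSeries O) = S a := by
  refine ⟨∑ i : Fin d, Polynomial.C (a i) * Polynomial.X ^ (i : ℕ),
    Polynomial.degree_sum_fin_lt a, ?_⟩
  unfold S
  rw [← Polynomial.coeToPowerSeries.ringHom_apply, map_sum]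
  simp [Polynomial.coeToPowerSeries.ringHom_apply]

lemma coe_eq_S_of_degree_lt (P : Polynomial O) (d : ℕ) (h : P.degree < d) :
    (P : PowerSeries O) = S (fun i : Fin d => P.coeff i) := by
  ext n
  rw [Polynomial.coeff_coe, coeff_S]
  split_ifs with hn
  · rfl
  · exact Polynomial.coeff_eq_zero_of_degree_lt
      (lt_of_lt_of_le h (by exact_mod_cast not_lt.mp hn))

/-- `∑ c_i(f) X^i` -/
noncomputable def T (f : PowerSeries O) {d : ℕ} (c : Fin d → PowerSeries O) : PowerSeries O :=
  ∑ i : Fin d, PowerSeries.subst f (c i) * X ^ (i : ℕ)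

/-- the shift of a power series -/
noncomputable def sh (c : PowerSeries O) : PowerSeries O := mk fun j => coeff (j + 1) c

lemma coeff_sh (c : PowerSeries O) (j : ℕ) : coeff j (sh c) = coeff (j + 1) c := coeff_mk _ _

lemma eq_sh (c : PowerSeries O) : c = sh c * X + C (coeff 0 c) := by
  have := eq_shift_mul_X_add_const c
  rw [← coeff_zero_eq_constantCoeff_apply] at this
  exact this

lemma subst_eq_sh {f : PowerSeries O} (hf : HasSubst f) (c : PowerSeries O) :
    PowerSeries.subst f c = PowerSeries.subst f (sh c) * f + C (coeff 0 c) := by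
  conv_lhs => rw [eq_sh c, subst_add hf, subst_mul hf, subst_X hf, subst_C]
  rfl

lemma T_step {f : PowerSeries O} (hf : HasSubst f) {d : ℕ} (c : Fin d → PowerSeries O) :
    T f c = f * T f (fun i => sh (c i)) + S (fun i => coeff 0 (c i)) := by
  unfold T S
  rw [Finset.mul_sum, ← Finset.sum_add_distrib]
  refine Finset.sum_congr rfl fun i _ => ?_
  rw [subst_eq_sh hf (c i)]
  ring

lemma T_sub {f : PowerSeries O} (hf : HasSubst f) {d : ℕ} (c c' : Fin d → PowerSeries O) :
    T f (fun i => c i - c' i) = T f c - T f c' := by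
  unfold T
  rw [← Finset.sum_sub_distrib]
  refine Finset.sum_congr rfl fun i _ => ?_
  rw [subst_sub hf]
  ring

end basic

section complete

variable {O : Type*} [CommRing O] [IsLocalRing O]
  [IsAdicComplete (IsLocalRing.maximalIdeal O) O]

/-- iterated Weierstrass quotients -/
noncomputable def Q (f g : PowerSeries O) (j : ℕ) : PowerSeries O :=
  (fun h => weierstrassDiv h f)^[j] g

lemma Q_zero (f g : PowerSeries O) : Q f g 0 = g := rfl

lemma Q_succ (f g : PowerSeries O) (j : ℕ) : Q f g (j + 1) = Q f (weierstrassDiv g f) j :=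
  Function.iterate_succ_apply _ _ _

/-- the coefficient series -/
noncomputable def cc (f g : PowerSeries O) (d : ℕ) (i : Fin d) : PowerSeries O :=
  mk fun j => (weierstrassMod (Q f g j) f).coeff i

lemma sh_cc (f g : PowerSeries O) (d : ℕ) (i : Fin d) :
    sh (cc f g d i) = cc f (weierstrassDiv g f) d i := by
  ext j
  rw [coeff_sh, cc, cc, coeff_mk, coeff_mk, Q_succ]

lemma coeff_zero_cc (f g : PowerSeries O) (d : ℕ) (i : Fin d) :
    coeff 0 (cc f g d i) = (weierstrassMod g f).coeff i := by
  rw [cc, coeff_mk, Q_zero]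

theorem dvd_sub_T {f : PowerSeries O} (hf0 : constantCoeff f = 0)
    (hf : f.map (IsLocalRing.residue O) ≠ 0) {d : ℕ}
    (hd : d = (f.map (IsLocalRing.residue O)).order.toNat) :
    ∀ (N : ℕ) (g : PowerSeries O), f ^ N ∣ g - T f (cc f g d) := by
  intro N
  induction N with
  | zero =>
    intro g
    rw [pow_zero]
    exact one_dvd _
  | succ N ih =>
    intro g
    have h1 := eq_mul_weierstrassDiv_add_weierstrassMod g hf
    have h2 := T_step (HasSubst.of_constantCoeff_zero' hf0) (cc f g d)
    have h3 : S (fun i : Fin d => coeff 0 (cc f g d i)) =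
        ((weierstrassMod g f : Polynomial O) : PowerSeries O) := by
      rw [coe_eq_S_of_degree_lt _ d (by rw [hd]; exact degree_weierstrassMod_lt g f)]
      congr 1
      funext i
      exact coeff_zero_cc f g d i
    have h4 : (fun i => sh (cc f g d i)) = cc f (weierstrassDiv g f) d :=
      funext fun i => sh_cc f g d i
    obtain ⟨w, hw⟩ := ih (weierstrassDiv g f)
    refine ⟨w, ?_⟩
    rw [h4, h3] at h2
    rw [pow_succ]
    linear_combination h1 - h2 + f * hw

theorem eq_T {f : PowerSeries O} (hf0 : constantCoeff f = 0)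
    (hf : f.map (IsLocalRing.residue O) ≠ 0) {d : ℕ}
    (hd : d = (f.map (IsLocalRing.residue O)).order.toNat) (g : PowerSeries O) :
    g = T f (cc f g d) := by
  obtain ⟨f', hf'⟩ : X ∣ f := X_dvd_iff.mpr hf0
  rw [← sub_eq_zero]
  ext n
  rw [map_zero]
  have h1 : X ^ (n + 1) ∣ g - T f (cc f g d) := by
    refine dvd_trans ?_ (dvd_sub_T hf0 hf hd (n + 1) g)
    rw [hf', mul_pow]
    exact dvd_mul_right _ _
  exact X_pow_dvd_iff.mp h1 n (Nat.lt_succ_self n)

theorem T_eq_zero {f : PowerSeries O} (hf0 : constantCoeff f = 0)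
    (hf : f.map (IsLocalRing.residue O) ≠ 0) {d : ℕ}
    (hd : d = (f.map (IsLocalRing.residue O)).order.toNat) :
    ∀ (j : ℕ) (c : Fin d → PowerSeries O), T f c = 0 → ∀ i, coeff j (c i) = 0 := by
  have key : ∀ c : Fin d → PowerSeries O, T f c = 0 →
      T f (fun i => sh (c i)) = 0 ∧ ∀ i, coeff 0 (c i) = 0 := by
    intro c hc
    have h2 := T_step (HasSubst.of_constantCoeff_zero' hf0) c
    obtain ⟨P, hPd, hP⟩ := exists_poly_S (fun i => coeff 0 (c i))
    have hdiv : IsWeierstrassDivision 0 f (T f (fun i => sh (c i))) P :=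
      ⟨by have h5 := hPd; rw [hd] at h5; exact h5, by rw [hP, ← h2, hc]⟩
    obtain ⟨hT', hP0⟩ := hdiv.eq_zero hf
    refine ⟨hT', fun i => ?_⟩
    have h3 : S (fun i => coeff 0 (c i)) = 0 := by rw [← hP, hP0, Polynomial.coe_zero]
    have h4 := congrArg (coeff (i : ℕ)) h3
    rw [coeff_S, dif_pos i.2, map_zero] at h4
    exact h4
  intro j
  induction j with
  | zero =>
    intro c hc i
    exact (key c hc).2 i
  | succ j ih =>
    intro c hc i
    have := ih (fun i => sh (c i)) (key c hc).1 i
    rwa [coeff_sh] at this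

theorem existsUnique_T {f : PowerSeries O} (hf0 : constantCoeff f = 0)
    (hf : f.map (IsLocalRing.residue O) ≠ 0) {d : ℕ}
    (hd : d = (f.map (IsLocalRing.residue O)).order.toNat) (g : PowerSeries O) :
    ∃! c : Fin d → PowerSeries O, g = ∑ i, PowerSeries.subst f (c i) * X ^ (i : ℕ) := by
  refine ⟨cc f g d, eq_T hf0 hf hd g, fun c' hc' => ?_⟩
  have h1 : T f (fun i => c' i - cc f g d i) = 0 := by
    rw [T_sub (HasSubst.of_constantCoeff_zero' hf0)]
    have h2 : g = T f c' := hc'
    rw [← h2, ← eq_T hf0 hf hd g, sub_self]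
  funext i
  ext j
  have := T_eq_zero hf0 hf hd j _ h1 i
  rw [map_sub, sub_eq_zero] at this
  exact this

end complete

section converse

variable {O : Type*} [CommRing O] [IsLocalRing O]

theorem not_generated {f : PowerSeries O} (hsub : HasSubst f)
    (hf : f.map (IsLocalRing.residue O) = 0) (n : ℕ) (b : Fin n → PowerSeries O)
    (h : ∀ g : PowerSeries O, ∃ c : Fin n → PowerSeries O,
      g = ∑ i, PowerSeries.subst f (c i) * b i) : False := by
  classical
  obtain ⟨π, hπ⟩ : ∃ π : PowerSeries O →+* PowerSeries (IsLocalRing.ResidueField O),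
      π = PowerSeries.map (IsLocalRing.residue O) := ⟨_, rfl⟩
  have hπf : π f = 0 := by rw [hπ]; exact hf
  have hsubst : ∀ c : PowerSeries O,
      π (PowerSeries.subst f c) = C (IsLocalRing.residue O (coeff 0 c)) := by
    intro c
    rw [subst_eq_sh hsub c, map_add, map_mul, hπf, mul_zero, zero_add, hπ, map_C]
  have hsurj : Function.Surjective π := by
    rw [hπ]
    exact map_surjective _ IsLocalRing.residue_surjective
  have htop : Submodule.span (IsLocalRing.ResidueField O) (Set.range fun i => π (b i)) = ⊤ := by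
    rw [eq_top_iff]
    rintro x -
    obtain ⟨g, rfl⟩ := hsurj x
    obtain ⟨c, hc⟩ := h g
    rw [hc, map_sum]
    refine Submodule.sum_mem _ fun i _ => ?_
    rw [map_mul, hsubst, ← smul_eq_C_mul]
    exact Submodule.smul_mem _ _ (Submodule.subset_span ⟨i, rfl⟩)
  haveI : Module.Finite (IsLocalRing.ResidueField O) (PowerSeries (IsLocalRing.ResidueField O)) :=
    ⟨⟨Finset.univ.image fun i => π (b i), by
      rw [Finset.coe_image, Finset.coe_univ, Set.image_univ]
      exact htop⟩⟩
  let μ : PowerSeries (IsLocalRing.ResidueField O) →ₗ[IsLocalRing.ResidueField O]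
      PowerSeries (IsLocalRing.ResidueField O) := LinearMap.mulLeft _ X
  have hinj : Function.Injective μ := by
    intro u v huv
    exact mul_left_cancel₀ X_ne_zero huv
  obtain ⟨w, hw⟩ := (LinearMap.injective_iff_surjective.mp hinj) 1
  have h1 := congrArg constantCoeff hw
  change constantCoeff (X * w) = constantCoeff 1 at h1
  rw [map_mul, constantCoeff_X, zero_mul, map_one] at h1
  exact zero_ne_one h1

end converse

end Groth.Agent.Lib.Helper76.WeierFree
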